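import Cfsg.Agent.Lib.AbelianSylow.Targets
import Cfsg.Agent.Lib.OrderJanko.Setup
import Cfsg.Agent.Lib.Involution.Basic

/-!
# Elem8: elementary facts (owner: helper4; see `CORE.md`)

* `Elem8.normalizer_transitive` : `N(S)` is transitive on `S#`
* `Elem8.one_class` : all involutions are conjugate
* `exists_sylow_pair` : commuting involutions lie in one Sylow 2-subgroup
-/

set_option autoImplicit false
set_option linter.style.haveILetI false

namespace Cfsg.Agent.AbelianSylow.Core

open Subgroup

universe u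

variable {G : Type u} [Group G]

/-- A subgroup generated by two commuting involutions is a 2-group. -/
theorem isPGroup_closure_pair {a b : G} (ha : a * a = 1) (hb : b * b = 1) (hab : Commute a b) :
    IsPGroup 2 ↥(closure ({a, b} : Set G)) := by
  have hcomm : ∀ x ∈ closure ({a, b} : Set G), Commute x a ∧ Commute x b ∧ x * x = 1 := by
    intro x hx
    induction hx using closure_induction with
    | mem y hy =>
      rcases hy with rfl | rfl
      · exact ⟨Commute.refl _, hab, ha⟩
      · exact ⟨hab.symm, Commute.refl _, hb⟩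
    | one => exact ⟨Commute.one_left _, Commute.one_left _, one_mul 1⟩
    | mul y z _ hz hy hz' =>
      have hyz : Commute y z := by
        clear hz'
        induction hz using closure_induction with
        | mem w hw =>
          rcases hw with rfl | rfl
          · exact hy.1
          · exact hy.2.1
        | one => exact Commute.one_right _
        | mul v w _ _ h1 h2 => exact h1.mul_right h2
        | inv v _ h1 => exact h1.inv_right
      refine ⟨hy.1.mul_left hz'.1, hy.2.1.mul_left hz'.2.1, ?_⟩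
      rw [mul_assoc, ← mul_assoc z, ← hyz.eq, mul_assoc y z, hz'.2.2, mul_one, hy.2.2]
    | inv y _ hy => exact ⟨hy.1.inv_left, hy.2.1.inv_left, by rw [← mul_inv_rev, hy.2.2, inv_one]⟩
  refine fun x => ⟨1, Subtype.ext ?_⟩
  simpa [pow_two] using (hcomm x x.2).2.2

theorem exists_sylow_pair [Finite G] {a b : G} (ha : a * a = 1) (hb : b * b = 1) (hab : Commute a b) :
    ∃ S : Sylow 2 G, a ∈ (S : Subgroup G) ∧ b ∈ (S : Subgroup G) := by
  obtain ⟨S, hS⟩ := (isPGroup_closure_pair ha hb hab).exists_le_sylow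
  exact ⟨S, hS (subset_closure (Or.inl rfl)), hS (subset_closure (Or.inr rfl))⟩

theorem exists_sylow_mem [Finite G] {a : G} (ha : a * a = 1) : ∃ S : Sylow 2 G, a ∈ (S : Subgroup G) := by
  obtain ⟨S, h, -⟩ := exists_sylow_pair ha ha (Commute.refl a)
  exact ⟨S, h⟩

end Cfsg.Agent.AbelianSylow.Core

namespace Cfsg.Agent.AbelianSylow

open Subgroup

universe u

variable {G : Type u} [Group G] [Finite G]

theorem Elem8.abelian (h : Elem8 G) (S : Sylow 2 G) : IsMulCommutative ↥(S : Subgroup G) := (h.sylow S).1.1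

theorem Elem8.sq (h : Elem8 G) (S : Sylow 2 G) {x : G} (hx : x ∈ (S : Subgroup G)) : x * x = 1 := by
  rw [← pow_two]; exact (h.sylow S).1.2 x hx

theorem Elem8.orderOf_mem (h : Elem8 G) (S : Sylow 2 G) {x : G} (hx : x ∈ (S : Subgroup G)) (hx1 : x ≠ 1) :
    orderOf x = 2 := by
  haveI : Fact (Nat.Prime 2) := ⟨Nat.prime_two⟩
  exact orderOf_eq_prime ((h.sylow S).1.2 x hx) hx1

theorem Elem8.commute_mem (h : Elem8 G) (S : Sylow 2 G) {x y : G} (hx : x ∈ (S : Subgroup G))
    (hy : y ∈ (S : Subgroup G)) : Commute x y :=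
  haveI := h.abelian S
  congrArg Subtype.val (mul_comm' (⟨x, hx⟩ : (S : Subgroup G)) ⟨y, hy⟩)

/-- `N(S)` is transitive on `S#`. -/
theorem Elem8.normalizer_transitive (h : Elem8 G) (S : Sylow 2 G) {u w : G} (hu : u ∈ (S : Subgroup G))
    (hu1 : u ≠ 1) (hw : w ∈ (S : Subgroup G)) (hw1 : w ≠ 1) :
    ∃ n ∈ normalizer ((S : Subgroup G) : Set G), n * u * n⁻¹ = w := by
  classical
  haveI := h.simple
  haveI : Fact (Nat.Prime 2) := ⟨Nat.prime_two⟩
  haveI : Fact (Nat.Prime 3) := ⟨Nat.prime_three⟩
  haveI : Fact (Nat.Prime 7) := ⟨by norm_num⟩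
  haveI hab := h.abelian S
  have h8 : Nat.card (S : Subgroup G) = 8 := (h.sylow S).2
  set N := normalizer ((S : Subgroup G) : Set G) with hN
  let θ : N →* MulAut (S : Subgroup G) := (S : Subgroup G).normalizerMonoidHom
  have hker : ∀ x : N, θ x = 1 ↔ (x : G) ∈ centralizer ((S : Subgroup G) : Set G) := fun x => by
    rw [← MonoidHom.mem_ker, (S : Subgroup G).normalizerMonoidHom_ker]; rfl
  have hodd : ¬ 2 ∣ Nat.card θ.range := by
    have hSk : (S : Subgroup G).subgroupOf N ≤ θ.ker := fun x hx =>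
      (hker x).mpr (mem_centralizer_iff.mpr fun y hy => h.commute_mem S hy (mem_subgroupOf.1 hx))
    rw [← index_ker]
    intro h'
    have h2 : 2 ∣ ((S : Subgroup G).subgroupOf N).index := h'.trans (index_dvd_of_le hSk)
    exact S.not_dvd_index (h2.trans (relIndex_dvd_index_of_le (le_normalizer (H := (S : Subgroup G)))))
  have h7 : 7 ∣ Nat.card θ.range := by
    by_contra h7
    have h3 : IsPGroup 3 θ.range := by
      refine IsPGroup.of_card (Nat.eq_prime_pow_of_unique_prime_dvd Nat.card_pos.ne' fun {q} hq hqd => ?_)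
      haveI := Fact.mk hq
      obtain ⟨⟨r, x, rfl⟩, hr⟩ := exists_prime_orderOf_dvd_card' q hqd
      replace hr : orderOf (θ x) = q :=
        (Subgroup.orderOf_mk (G := MulAut (S : Subgroup G)) (θ x) _).symm.trans hr
      obtain ⟨i, hi1, hi2, hi3⟩ := SmallOrders.exists_dvd_pow_sub_one_of_action (p := 2) (q := q) (e := 3)
        (fun e => hodd (e ▸ hqd)) (h8.trans (by norm_num)) (θ x)
        (fun e => hq.ne_one (by rw [← hr, e, orderOf_one])) (hr ▸ pow_orderOf_eq_one (θ x))
      interval_cases i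
      · norm_num at hi3; exact absurd hi3 hq.ne_one
      · exact (Nat.prime_dvd_prime_iff_eq hq Nat.prime_three).mp (by simpa using hi3)
      · exact absurd ((Nat.prime_dvd_prime_iff_eq hq (by norm_num : Nat.Prime 7)).mp (by simpa using hi3))
          fun e => h7 (e ▸ hqd)
    have hmod := h3.card_modEq_card_fixedPoints (S : Subgroup G)
    rw [h8] at hmod
    have h1 : 1 < Nat.card (MulAction.fixedPoints θ.range (S : Subgroup G)) := by
      unfold Nat.ModEq at hmod
      omega
    haveI := Finite.one_lt_card_iff_nontrivial.mp h1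
    obtain ⟨v, hv⟩ := exists_ne
      (⟨1, fun r => map_one (r : MulAut (S : Subgroup G))⟩ : MulAction.fixedPoints θ.range (S : Subgroup G))
    refine hv (Subtype.ext (Subtype.ext (OrderJanko.eq_one_of_fixed h.nonab S v.1.2 fun n hn' => ?_)))
    exact congrArg Subtype.val (v.2 ⟨θ ⟨n, hn'⟩, ⟨n, hn'⟩, rfl⟩)
  obtain ⟨r, hr⟩ := exists_prime_orderOf_dvd_card' 7 h7
  set R : Subgroup (MulAut (S : Subgroup G)) := zpowers (r : MulAut (S : Subgroup G)) with hR
  have hRc : Nat.card R = 7 := by rw [hR, Nat.card_zpowers, orderOf_coe, hr]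
  have hR7 : IsPGroup 7 R := IsPGroup.of_card (n := 1) (by rw [hRc, pow_one])
  have hfix : ∀ v : (S : Subgroup G), (∀ g : R, g • v = v) → v = 1 := by
    have hmod := hR7.card_modEq_card_fixedPoints (S : Subgroup G)
    rw [h8] at hmod
    have hlt : Nat.card (MulAction.fixedPoints R (S : Subgroup G)) < 8 := by
      by_contra hge
      have hall : ∀ v : (S : Subgroup G), (r : MulAut (S : Subgroup G)) v = v := fun v => by
        obtain ⟨⟨v', hv'⟩, e⟩ := ((Subtype.val_injective
          (p := fun v => v ∈ MulAction.fixedPoints R (S : Subgroup G))).bijective_of_nat_card_le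
            (by rw [h8]; exact not_lt.1 hge)).2 v
        exact e ▸ hv' ⟨r, mem_zpowers _⟩
      have : (r : MulAut (S : Subgroup G)) = 1 := MulEquiv.ext hall
      rw [← orderOf_coe, this, orderOf_one] at hr
      omega
    intro v hv
    have hone : Nat.card (MulAction.fixedPoints R (S : Subgroup G)) = 1 := by
      unfold Nat.ModEq at hmod
      omega
    obtain ⟨hsub, -⟩ := Nat.card_eq_one_iff_unique.mp hone
    exact congrArg Subtype.val (hsub.elim (⟨v, hv⟩ : MulAction.fixedPoints R (S : Subgroup G))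
      ⟨1, fun g => map_one (g : MulAut (S : Subgroup G))⟩)
  set u' : (S : Subgroup G) := ⟨u, hu⟩
  obtain ⟨k, hk⟩ := hR7.card_orbit u'
  have hsub : MulAction.orbit R u' ⊆ {v | v ≠ 1} := by
    rintro v ⟨g, rfl⟩ e
    have e' : (g : MulAut (S : Subgroup G)) u' = 1 := e
    exact hu1 (congrArg Subtype.val ((MulEquiv.map_eq_one_iff (g : MulAut (S : Subgroup G))).1 e'))
  have hcompl : Nat.card {v : (S : Subgroup G) // v ≠ 1} = 7 := by
    let := Fintype.ofFinite (S : Subgroup G)
    rw [Nat.card_eq_fintype_card, Fintype.card_subtype_compl, Fintype.card_subtype_eq,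
      ← Nat.card_eq_fintype_card, h8]
  have hle : Nat.card (MulAction.orbit R u') ≤ 7 :=
    hcompl ▸ Nat.card_mono (Set.toFinite _) hsub
  have hk1 : k = 1 := by
    rcases k with _ | _ | k
    · exfalso
      rw [pow_zero] at hk
      obtain ⟨hs, -⟩ := Nat.card_eq_one_iff_unique.mp hk
      exact hu1 (congrArg Subtype.val (hfix u' fun g => congrArg Subtype.val
        (hs.elim ⟨g • u', MulAction.mem_orbit u' g⟩ ⟨u', MulAction.mem_orbit_self u'⟩)))
    · rfl
    · have h49 : 7 ^ 2 ≤ 7 ^ (k + 2) := Nat.pow_le_pow_right (by norm_num) (by omega)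
      exfalso
      have h50 : 7 ^ (k + 2) ≤ 7 := hk ▸ hle
      omega
  have heq : MulAction.orbit R u' = {v | v ≠ 1} :=
    Set.eq_of_subset_of_ncard_le hsub (by
      rw [← Nat.card_coe_set_eq, ← Nat.card_coe_set_eq, hk, hk1]; exact hcompl.le) (Set.toFinite _)
  obtain ⟨g, hg⟩ : (⟨w, hw⟩ : (S : Subgroup G)) ∈ MulAction.orbit R u' := by
    rw [heq]; exact fun e => hw1 (congrArg Subtype.val e)
  obtain ⟨n, hn⟩ : (g : MulAut (S : Subgroup G)) ∈ θ.range := (zpowers_le.2 r.2) g.2
  refine ⟨n, n.2, ?_⟩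
  have h' : θ n u' = (⟨w, hw⟩ : (S : Subgroup G)) := by rw [hn]; exact hg
  exact congrArg Subtype.val h'

/-- All involutions are conjugate. -/
theorem Elem8.one_class (h : Elem8 G) {u w : G} (hu : orderOf u = 2) (hw : orderOf w = 2) :
    ∃ g : G, g * u * g⁻¹ = w := by
  haveI : Fact (Nat.Prime 2) := ⟨Nat.prime_two⟩
  obtain ⟨S, hS⟩ := Core.exists_sylow_mem (Involution.mul_self hu)
  obtain ⟨T, hT⟩ := Core.exists_sylow_mem (Involution.mul_self hw)
  obtain ⟨x, hx⟩ := MulAction.exists_smul_eq G T S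
  have hxw : x * w * x⁻¹ ∈ (S : Subgroup G) := hx ▸ ⟨w, hT, rfl⟩
  obtain ⟨n, -, hn⟩ := h.normalizer_transitive S hS (Involution.ne_one hu) hxw
    (fun e => Involution.ne_one hw (conj_eq_one_iff.mp e))
  refine ⟨x⁻¹ * n, ?_⟩
  calc x⁻¹ * n * u * (x⁻¹ * n)⁻¹ = x⁻¹ * (n * u * n⁻¹) * x := by group
    _ = w := by rw [hn]; group

/-- Non-solvability of one centraliser passes to all. -/
theorem Elem8.not_solvable_centralizer (h : Elem8 G) {u w : G} (hu : orderOf u = 2) (hw : orderOf w = 2)
    (hns : ¬ Group.IsSolvable ↥(centralizer ({u} : Set G))) :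
    ¬ Group.IsSolvable ↥(centralizer ({w} : Set G)) := fun hs => by
  obtain ⟨g, hg⟩ := h.one_class hw hu
  haveI := hs
  refine hns (Group.isSolvable_of_surjective
    (f := ((MulAut.conj g).toMonoidHom.comp (centralizer ({w} : Set G)).subtype).codRestrict
      (centralizer ({u} : Set G)) fun c => ?_) fun y => ?_)
  · rw [← hg]
    exact mem_centralizer_singleton_iff.2 (by
      have := (show Commute (c : G) w from mem_centralizer_singleton_iff.1 c.2).map (MulAut.conj g).toMonoidHom
      simpa using this.eq)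
  · refine ⟨⟨g⁻¹ * y * g, mem_centralizer_singleton_iff.2 ?_⟩, Subtype.ext ?_⟩
    · have h1 := (show Commute (y : G) u from mem_centralizer_singleton_iff.1 y.2).map
        (MulAut.conj g⁻¹).toMonoidHom
      have e : g⁻¹ * u * g = w := by rw [← hg]; group
      simpa [e] using h1.eq
    · simp [mul_assoc]

end Cfsg.Agent.AbelianSylow
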