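import Cfsg.Agent.Lib.AbelianSylow.Cent.CoreBasic
import Cfsg.Agent.Lib.Constrained.Basic
import Cfsg.Agent.Lib.Signalizer.PAction
import Cfsg.Agent.Lib.Signalizer.Ambient
import Cfsg.Agent.Lib.Signalizer.Core
import Cfsg.Agent.Lib.Solvable.Fitting
import Cfsg.Agent.Lib.HallOrders.Basic
import Cfsg.Agent.Lib.Transfer.Centric

/-!
# Abelian Sylow 2, part (a): constraint from moved Sylow subgroups (owner: helper82; `CORE.md` step (II))

* `centralizes_odd` : with `O_{p'}(Y) = 1`, an involution centralising `O_p(Y)` centralises every odd normal subgroup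
* `constrained_of_moved` : if only `1`, `a` among the involutions of `C(a)` centralise Sylow `p`-subgroups
  of `O(C a)`, subgroups containing `a` and one of these Sylow subgroups are `p`-constrained
-/

set_option autoImplicit false
set_option linter.style.haveILetI false

namespace Cfsg.Agent.AbelianSylow.Core

open Subgroup

universe u

variable {p : ℕ} [Fact p.Prime]

theorem centralizes_odd {Y : Type*} [Group Y] [Finite Y] (hO : Cfsg.pPrimeCore p Y = ⊥) (X : Subgroup Y)
    [X.Normal] (hX : Odd (Nat.card X)) {x : Y} (hx2 : x * x = 1)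
    (hx : x ∈ centralizer (Cfsg.pCore p Y : Set Y)) {g : Y} (hg : g ∈ X) : x * g * x⁻¹ * g⁻¹ = 1 := by
  haveI : Group.IsSolvable X := OddOrderTheorem.solvable hX
  have hXp : Cfsg.pPrimeCore p X = ⊥ := by
    rw [← (map_eq_bot_iff_of_injective _ X.subtype_injective), Cores.pPrimeCore_map_subtype, hO, bot_inf_eq]
  have hF : (Cfsg.pCore p X).map X.subtype = Cfsg.pCore p Y ⊓ X := Cores.pCore_map_subtype X p
  set z := x * g * x⁻¹ * g⁻¹ with hz
  have hzX : z ∈ X := X.mul_mem ((inferInstance : X.Normal).conj_mem g hg x) (X.inv_mem hg)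
  -- `z` centralises `O_p(X)`, so lies in it
  have hzc : ∀ u ∈ Cfsg.pCore p Y, Commute z u := by
    intro u hu
    have hxu : ∀ v ∈ Cfsg.pCore p Y, Commute x v := fun v hv => (mem_centralizer_iff.1 hx v hv).symm
    have hv : g⁻¹ * u * g ∈ Cfsg.pCore p Y := by
      have := (Cores.pCore_normal p Y).conj_mem u hu g⁻¹
      rwa [inv_inv] at this
    have h2 := hxu u hu
    have h3 : x * (g⁻¹ * u * g) * x⁻¹ = g⁻¹ * u * g := by rw [(hxu _ hv).eq, mul_inv_cancel_right]
    have h4 : x⁻¹ * u * x = u := by rw [mul_assoc, ← h2.eq, inv_mul_cancel_left]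
    show z * u = u * z
    rw [hz]
    calc x * g * x⁻¹ * g⁻¹ * u = x * g * x⁻¹ * (g⁻¹ * u * g) * g⁻¹ := by group
      _ = x * g * x⁻¹ * (x * (g⁻¹ * u * g) * x⁻¹) * g⁻¹ := by rw [h3]
      _ = x * u * g * x⁻¹ * g⁻¹ := by group
      _ = u * (x * g * x⁻¹ * g⁻¹) := by rw [h2.eq]; group
  have hzF : z ∈ Cfsg.pCore p Y := by
    have h1 : (⟨z, hzX⟩ : X) ∈ Cfsg.pCore p X :=
      Solvable.centralizer_pCore_le_of_isSolvable hXp (mem_centralizer_iff.2 fun v hv => Subtype.ext
        (hzc v (hF ▸ mem_map_of_mem X.subtype hv : (v : Y) ∈ Cfsg.pCore p Y ⊓ X).1).symm.eq)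
    exact (hF ▸ mem_map_of_mem X.subtype h1 : z ∈ Cfsg.pCore p Y ⊓ X).1
  -- so its square is trivial
  have hxz : x * z = z * x := (mem_centralizer_iff.1 hx z hzF).symm
  have hsq : z * z = 1 := by
    have hxi : x⁻¹ = x := inv_eq_of_mul_eq_one_right hx2
    have h1 : x * z = g * x * g⁻¹ := by
      rw [hz, hxi]
      calc x * (x * g * x * g⁻¹) = x * x * (g * x * g⁻¹) := by group
        _ = g * x * g⁻¹ := by rw [hx2, one_mul]
    calc z * z = (x * x) * (z * z) := by rw [hx2, one_mul]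
      _ = (x * z) * (x * z) := Commute.mul_mul_mul_comm hxz x z
      _ = g * (x * x) * g⁻¹ := by rw [h1]; group
      _ = 1 := by rw [hx2, mul_one, mul_inv_cancel]
  refine orderOf_eq_one_iff.1 (Nat.eq_one_of_dvd_coprimes (Nat.coprime_two_left.2 hX)
    (orderOf_dvd_of_pow_eq_one (by rw [pow_two, hsq])) ?_)
  rw [← Subgroup.orderOf_mk z hzX]
  exact orderOf_dvd_natCard _

variable {G : Type u} [Group G] [Finite G]

/-- An involution set of size at most two in a normal subgroup bounds its 2-part. -/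
theorem not_four_dvd (h : Elem8 G) {a : G} (ha : orderOf a = 2) {H : Subgroup G} (haH : a ∈ H)
    (N : Subgroup H) [N.Normal]
    (hN : ∀ x ∈ N, x * x = 1 → Commute (x : G) a → (x : G) = 1 ∨ (x : G) = a) :
    ¬ 4 ∣ Nat.card N := by
  haveI : Fact (Nat.Prime 2) := ⟨Nat.prime_two⟩
  have ha2 : IsPGroup 2 (zpowers (⟨a, haH⟩ : H)) :=
    IsPGroup.of_card (n := 1) (by rw [Nat.card_zpowers, Subgroup.orderOf_mk, ha, pow_one])
  obtain ⟨P, hP⟩ := ha2.exists_le_sylow
  obtain ⟨S, hS⟩ := (P.2.map H.subtype).exists_le_sylow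
  have hidx : ¬ 2 ∣ (P : Subgroup H).relIndex N := Transfer.not_dvd_relIndex_inf P.not_dvd_index
  have hle : Nat.card ↥((P : Subgroup H) ⊓ N) ≤ 2 := by
    have hsub : ∀ x : ↥((P : Subgroup H) ⊓ N), ((x : H) : G) = 1 ∨ ((x : H) : G) = a := by
      rintro ⟨x, hxP, hxN⟩
      have hxS : (x : G) ∈ (S : Subgroup G) := hS ⟨x, hxP, rfl⟩
      exact hN x hxN (Subtype.ext (h.sq S hxS))
        (h.commute_mem S hxS (hS ⟨_, hP (mem_zpowers _), rfl⟩))
    classical
    have hinj : Function.Injective fun x : ↥((P : Subgroup H) ⊓ N) =>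
        if ((x : H) : G) = 1 then true else false := by
      intro x y hxy
      refine Subtype.ext (Subtype.ext ?_)
      have ha1 : a ≠ 1 := fun e => by rw [e, orderOf_one] at ha; omega
      rcases hsub x with h1 | h1 <;> rcases hsub y with h2 | h2 <;> simp_all
    simpa using Nat.card_le_card_of_injective _ hinj
  intro h4
  have hdiv : Nat.card ↥((P : Subgroup H) ⊓ N) * (P : Subgroup H).relIndex N = Nat.card N := by
    rw [← inf_relIndex_right, ← Cores.card_subgroupOf inf_le_right]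
    exact card_mul_index _
  rw [← hdiv] at h4
  have h2 : Nat.Coprime 4 ((P : Subgroup H).relIndex N) :=
    Nat.Coprime.pow_left 2 (Nat.prime_two.coprime_iff_not_dvd.2 hidx)
  have := Nat.le_of_dvd Nat.card_pos (h2.dvd_of_dvd_mul_right h4)
  omega

/-- **Constraint.** -/
theorem constrained_of_moved (h : Elem8 G) (_hp : p ≠ 2) {a : G} (ha : orderOf a = 2) {H : Subgroup G}
    (haH : a ∈ H)
    (hmoved : ∀ Q : Subgroup G, Signalizer.IsSylowIn p (Cfsg.centralizerPPrimeCore 2 a) Q →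
      ∀ x ∈ centralizer ({a} : Set G), x * x = 1 → x ∈ centralizer (Q : Set G) → x = 1 ∨ x = a)
    (hQH : ∃ Q, Signalizer.IsSylowIn p (Cfsg.centralizerPPrimeCore 2 a) Q ∧ Q ≤ H)
    (hO : Cfsg.centralizerPPrimeCore 2 a ⊓ H ≤ (Cfsg.oddCore H).map H.subtype) :
    Cfsg.IsPConstrained p H ∧ ¬ 4 ∣ Nat.card (Cfsg.pPrimeCore p H) := by
  haveI : Fact (Nat.Prime 2) := ⟨Nat.prime_two⟩
  set OC := Cfsg.centralizerPPrimeCore 2 a
  set M := Cfsg.pPrimeCore p H
  haveI : M.Normal := Cores.pPrimeCore_normal p H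
  set q := QuotientGroup.mk' M
  have hq : Function.Surjective q := QuotientGroup.mk'_surjective M
  have hO0 : Cfsg.pPrimeCore p (H ⧸ M) = ⊥ := Cores.pPrimeCore_quotient_self p
  have hOC : ¬ 2 ∣ Nat.card OC := by
    rw [show Nat.card OC = _ from Cores.card_map_subtype _ _]
    exact Cores.not_dvd_card_pPrimeCore
  -- an involution of `C(a) ⊓ H` whose commutators with `O(H)` lie in `M` is `1` or `a`
  have key : ∀ x : H, x * x = 1 → Commute (x : G) a →
      (x ∈ M ∨ q x ∈ centralizer (Cfsg.pCore p (H ⧸ M) : Set (H ⧸ M))) →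
      (x : G) = 1 ∨ (x : G) = a := by
    intro x hx2 hxa hcase
    have hxC : (x : G) ∈ centralizer ({a} : Set G) := mem_centralizer_singleton_iff.2 hxa.eq
    have hxp : IsPGroup 2 (zpowers (x : G)) := by
      rintro ⟨y, i, rfl⟩
      refine ⟨1, Subtype.ext ?_⟩
      show ((x : G) ^ i) ^ (2 ^ 1) = 1
      rw [pow_one, ← zpow_natCast, ← zpow_mul, mul_comm, zpow_mul, zpow_natCast, pow_two,
        show (x : G) * x = 1 from congrArg Subtype.val hx2, one_zpow]
    have hxN : zpowers (x : G) ≤ normalizer ((OC ⊓ H : Subgroup G) : Set G) := zpowers_le.2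
      (Signalizer.le_normalizer_inf (A := zpowers (x : G))
        (zpowers_le.2 (Signalizer.centralizer_le_normalizer_core a hxC))
        (zpowers_le.2 (le_normalizer x.2)) (mem_zpowers _))
    obtain ⟨Q, hQ, hQH⟩ := hQH
    obtain ⟨T, hT, hxT⟩ := Signalizer.exists_invariant_sylow (q := p) hxp (OC ⊓ H)
      (fun hd => hOC (hd.trans (card_dvd_of_le inf_le_left))) hxN
    -- `T` is a Sylow subgroup of `O(C a)`
    have hcard : Nat.card T = Nat.card Q := by
      refine le_antisymm ?_ ?_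
      · obtain ⟨s, hs⟩ := hQ.exists_sylow
        rw [← hs, Cores.card_map_subtype, s.card_eq_multiplicity]
        exact Coprime.card_le_of_isPGroup hT.2.1 (hT.1.trans inf_le_left)
      · obtain ⟨s, hs⟩ := hT.exists_sylow
        rw [← hs, Cores.card_map_subtype, s.card_eq_multiplicity]
        exact Coprime.card_le_of_isPGroup hQ.2.1 (le_inf hQ.1 hQH)
    have hTO : Signalizer.IsSylowIn p OC T := by
      refine ⟨hT.1.trans inf_le_left, hT.2.1, ?_⟩
      have h1 := (T.subgroupOf OC).card_mul_index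
      have h2 := (Q.subgroupOf OC).card_mul_index
      rw [Cores.card_subgroupOf hQ.1] at h2
      rw [Cores.card_subgroupOf (hT.1.trans inf_le_left), hcard, ← h2] at h1
      rw [relIndex, Nat.eq_of_mul_eq_mul_left Nat.card_pos h1]
      exact hQ.2.2
    refine hmoved T hTO x hxC (congrArg Subtype.val hx2) (mem_centralizer_iff.2 fun s hs => ?_)
    have hsH : s ∈ H := (hT.1 hs).2
    set w : H := x * ⟨s, hsH⟩ * x⁻¹ * ⟨s, hsH⟩⁻¹ with hw
    have hwM : w ∈ M := by
      rcases hcase with hc | hc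
      · rw [hw, show x * ⟨s, hsH⟩ * x⁻¹ * (⟨s, hsH⟩ : H)⁻¹ = x * (⟨s, hsH⟩ * x⁻¹ * ⟨s, hsH⟩⁻¹) by group]
        exact M.mul_mem hc ((inferInstance : M.Normal).conj_mem _ (M.inv_mem hc) _)
      · haveI : (Cfsg.oddCore H).Normal := Cores.pPrimeCore_normal 2 H
        haveI : ((Cfsg.oddCore H).map q).Normal := Normal.map inferInstance q hq
        have hodd : Odd (Nat.card ((Cfsg.oddCore H).map q)) := by
          rw [← Nat.not_even_iff_odd, even_iff_two_dvd]
          exact fun hd => Cores.not_dvd_card_pPrimeCore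
            (hd.trans ((Cfsg.oddCore H).card_map_dvd q))
        obtain ⟨s', hs', hse⟩ := hO (hT.1 hs)
        have h1 := centralizes_odd hO0 ((Cfsg.oddCore H).map q) hodd
          (x := q x) (g := q ⟨s, hsH⟩) (by rw [← map_mul, hx2, map_one]) hc
          ⟨s', hs', congrArg q (Subtype.ext hse)⟩
        rw [← map_inv, ← map_inv, ← map_mul, ← map_mul, ← map_mul, QuotientGroup.mk'_apply,
          QuotientGroup.eq_one_iff] at h1
        exact h1
    have hwT : (w : G) ∈ T := T.mul_mem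
      ((mem_normalizer_iff.1 (hxT (mem_zpowers _)) s).1 hs) (T.inv_mem hs)
    obtain ⟨n, hn⟩ := IsPGroup.iff_card.1 hT.2.1
    have hw1 : (w : G) = 1 := Coprime.eq_one_of_mem_of_mem
      (A := M.map H.subtype) (K := T) (by
        rw [Cores.card_map_subtype, hn]; exact (Cores.coprime_card_pPrimeCore p).pow_right n)
      ⟨w, hwM, rfl⟩ hwT
    have h1 : (x : G) * s * (x : G)⁻¹ * s⁻¹ = 1 := hw1
    exact ((mul_inv_eq_iff_eq_mul).1 (mul_inv_eq_one.1 h1)).symm
  have h4 : ¬ 4 ∣ Nat.card M :=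
    not_four_dvd h ha haH M fun x hxM hx2 hxa => key x hx2 hxa (Or.inl hxM)
  refine ⟨?_, h4⟩
  -- the centraliser of `O_p` modulo `M` is solvable
  set C := centralizer (Cfsg.pCore p (H ⧸ M) : Set (H ⧸ M))
  haveI : (Cfsg.pCore p (H ⧸ M)).Normal := Cores.pCore_normal p _
  haveI : C.Normal := inferInstance
  have h4C : ¬ 4 ∣ Nat.card C := by
    intro hd
    refine not_four_dvd h ha haH (C.comap q) (fun x hxC hx2 hxa => key x hx2 hxa (Or.inr hxC)) ?_
    refine hd.trans ?_
    have h1 := (C.comap q).card_map_dvd q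
    rwa [map_comap_eq_self_of_surjective hq] at h1
  haveI : Group.IsSolvable C := HallOrders.solvable_of_not_four_dvd h4C
  refine Constrained.isPConstrained_iff.2 fun y hy => ?_
  have hC0 : Cfsg.pPrimeCore p C = ⊥ := by
    rw [← (map_eq_bot_iff_of_injective _ C.subtype_injective), Cores.pPrimeCore_map_subtype, hO0, bot_inf_eq]
  have hFC : (Cfsg.pCore p C).map C.subtype = Cfsg.pCore p (H ⧸ M) ⊓ C := Cores.pCore_map_subtype C p
  have h1 : (⟨y, hy⟩ : C) ∈ Cfsg.pCore p C :=
    Solvable.centralizer_pCore_le_of_isSolvable hC0 (mem_centralizer_iff.2 fun v hv =>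
      Subtype.ext (mem_centralizer_iff.1 hy (v : H ⧸ M)
        (hFC ▸ mem_map_of_mem C.subtype hv : (v : H ⧸ M) ∈ Cfsg.pCore p (H ⧸ M) ⊓ C).1))
  exact (hFC ▸ mem_map_of_mem C.subtype h1 : y ∈ Cfsg.pCore p (H ⧸ M) ⊓ C).1

end Cfsg.Agent.AbelianSylow.Core
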