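import Cfsg.Agent.Lib.GWKlein.Functor
import Cfsg.Agent.Lib.PLocal.QdFreeControl
import Cfsg.Agent.Lib.PLocal.ActionStable
import Cfsg.Agent.Lib.Constrained.Basic
import Cfsg.Agent.Lib.ZStar.KleinOrder
import Cfsg.Agent.Lib.Coprime.Factorization
import Cfsg.Agent.Lib.Signalizer.Ambient
import Cfsg.Agent.Lib.OddOrderTheorem.Basic

/-!
# Abelian Sylow 2, part (a): fusion through `N(Z(J))` (owner: helper82; `CORE.md` step (B))

* `zj_realized` : `N(Z(J(P)))` controls fusion when the Sylow 2-subgroups are abelian, `p` odd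
* `Pair a A H` : a proper subgroup containing `a` and `A` and covering `C(a)` modulo its odd core
* `mem_core_of_fused` : a `p`-element of `C(a)` fused into a Sylow subgroup of `O(C(a))` lies in `O(C(a))`
-/

set_option autoImplicit false
set_option linter.unusedSectionVars false
set_option linter.style.haveILetI false

namespace Cfsg.Agent.AbelianSylow.Cent

open Subgroup
open scoped Pointwise

universe u

variable {G : Type u} [Group G] [Finite G] {p : ℕ} [Fact p.Prime]

/-- `N(Z(J(P)))` controls fusion in `P`: Sylow 2-subgroups abelian, `p` odd. -/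
theorem zj_realized (hp : p ≠ 2) (h2 : ∀ T : Sylow 2 G, IsMulCommutative T) (P : Sylow p G)
    (Q : Subgroup G) (hQ : Q ≤ (P : Subgroup G)) (g : G)
    (hg : Q.map (MulAut.conj g).toMonoidHom ≤ (P : Subgroup G)) :
    PLocal.Realized (normalizer (Cfsg.centerThompsonAOf (P : Subgroup G) : Set G)) Q g := by
  have h := PLocal.sec_control (PLocal.goodFunctor_induced PLocal.isCharPFunctor_zjFunctor)
    (fun K R _ hc T => ?_) (FunctorControl.IsSec.refl G) P Q hQ g hg
  · rwa [PLocal.inducedFunctor_zjFunctor] at h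
  rw [PLocal.inducedFunctor_zjFunctor, Cfsg.centerThompsonAOf, PLocal.thompsonSubgroupAOf_eq,
    ← PLocal.sInf_maxIn_abelian]
  exact PLocal.zj_normal hp PLocal.goodClass_abelian hc (fun P' _ hP' =>
    PLocal.pStableOn_of_abelian_sylow_two hp
      (PLocal.sylow_two_surjective (PLocal.sylow_two_subgroup h2 K) _ (QuotientGroup.mk'_surjective _))
      P' hP') T

/-- A proper subgroup containing `a` and `A` and covering `C(a)` modulo its odd core. -/
structure Pair (a : G) (A H : Subgroup G) : Prop where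
  ne_top : H ≠ ⊤
  mem : a ∈ H
  le : A ≤ H
  cov : centralizer ({a} : Set G) ≤
    Cfsg.centralizerPPrimeCore 2 a ⊔ (H ⊓ centralizer ({a} : Set G))

omit [Fact p.Prime] in
/-- An odd subgroup of `C(a)` normalised by `H ⊓ C(a)` lies in `O(C(a))`. -/
theorem le_core_of_cov {a : G} {H X : Subgroup G}
    (hcov : centralizer ({a} : Set G) ≤
      Cfsg.centralizerPPrimeCore 2 a ⊔ (H ⊓ centralizer ({a} : Set G)))
    (hX : X ≤ centralizer ({a} : Set G)) (hodd : ¬ 2 ∣ Nat.card X)
    (hn : H ⊓ centralizer ({a} : Set G) ≤ normalizer (X : Set G)) :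
    X ≤ Cfsg.centralizerPPrimeCore 2 a := by
  haveI : Fact (Nat.Prime 2) := ⟨Nat.prime_two⟩
  set C := centralizer ({a} : Set G) with hC
  set O := Cfsg.pPrimeCore 2 C with hO
  haveI : O.Normal := Cores.pPrimeCore_normal 2 C
  set f := QuotientGroup.mk' O
  haveI hnorm : ((X.subgroupOf C).map f).Normal := by
    refine ⟨fun y hy z => ?_⟩
    obtain ⟨c, rfl⟩ := QuotientGroup.mk'_surjective O z
    obtain ⟨x, hx, rfl⟩ := hy
    have hle : H ⊓ C ≤ normalizer (Cfsg.centralizerPPrimeCore 2 a : Set G) :=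
      inf_le_right.trans (Signalizer.centralizer_le_normalizer_core a)
    obtain ⟨o, ho, k, hk, hok⟩ := (Coprime.mem_sup_iff hle).1 (hcov c.2)
    obtain ⟨o', ho', ho'e⟩ := ho
    have hkC : k ∈ C := hk.2
    refine ⟨⟨k, hkC⟩ * x * ⟨k, hkC⟩⁻¹, mem_subgroupOf.2 ?_, ?_⟩
    · exact (mem_normalizer_iff.1 (hn hk) _).1 (mem_subgroupOf.1 hx)
    · have hc : c = o' * ⟨k, hkC⟩ := Subtype.ext (by
        show (c : G) = (o' : G) * k
        rw [show ((o' : C) : G) = o from ho'e]; exact hok.symm)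
      have ho1 : f o' = 1 := (QuotientGroup.eq_one_iff _).2 ho'
      rw [hc, map_mul, map_mul, map_mul, map_inv, ho1, one_mul]
  have hle : (X.subgroupOf C).map f ≤ Cfsg.pPrimeCore 2 (C ⧸ O) := by
    refine Cores.le_pPrimeCore hnorm ((Nat.prime_two.coprime_iff_not_dvd).2 fun h => hodd ?_).symm
    exact (h.trans ((X.subgroupOf C).card_map_dvd f)).trans (by rw [Cores.card_subgroupOf hX])
  rw [Cores.pPrimeCore_quotient_self] at hle
  intro x hx
  exact ⟨⟨x, hX hx⟩, (QuotientGroup.eq_one_iff _).1 (mem_bot.1 (hle ⟨⟨x, hX hx⟩, hx, rfl⟩)), rfl⟩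

section Step

variable (hp : p ≠ 2) (h2 : ∀ T : Sylow 2 G, IsMulCommutative T) (hG : IsSimpleGroup G)
  (hns : ¬ Group.IsSolvable G) {a : G} (ha : orderOf a = 2) {A : Subgroup G} (hA : IsPGroup p A)
  (hA1 : A ≠ ⊥) (haA : A ≤ centralizer ({a} : Set G))
  (hloc : ∀ H : Subgroup G, Pair a A H →
    Cfsg.IsPConstrained p H ∧ ¬ 4 ∣ Nat.card (Cfsg.pPrimeCore p H))

include hp h2 hG hns ha hA hA1 haA hloc

/-- From a pair to the normaliser of a conjugate of `Z(J(T))`, `T` a Sylow `p`-subgroup of it over `A`. -/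
theorem exists_pair_normalizer {H : Subgroup G} (hH : Pair a A H) {T : Subgroup G}
    (hT : Signalizer.IsSylowIn p H T) (hAT : A ≤ T) :
    ∃ o : G, MulAut.conj o • T ≤ normalizer (Cfsg.centerThompsonAOf (MulAut.conj o • T) : Set G) ∧
      Pair a A (normalizer (Cfsg.centerThompsonAOf (MulAut.conj o • T) : Set G)) := by
  haveI : Fact (Nat.Prime 2) := ⟨Nat.prime_two⟩
  obtain ⟨hcons, h4⟩ := hloc H hH
  set Z := Cfsg.centerThompsonAOf T
  have hTne : T ≠ ⊥ := fun e => hA1 (le_bot_iff.1 (e ▸ hAT))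
  have hTH : T ≤ H := hT.1
  have hZT : Z ≤ T := GWKlein.centerThompsonAOf_le T
  have hZp : IsPGroup p Z := hT.2.1.to_le hZT
  -- the odd part `O1` of `O_{p'}(H)`
  set O' := Cfsg.pPrimeCore p H
  haveI : O'.Normal := Cores.pPrimeCore_normal p H
  set O2 := (Cfsg.pPrimeCore 2 O').map O'.subtype with hO2
  haveI : (Cfsg.pPrimeCore 2 O').Characteristic := Cores.pPrimeCore_characteristic 2 O'
  haveI : O2.Normal := inferInstance
  set O1 := O2.map H.subtype with hO1
  have hO1H : H ≤ normalizer (O1 : Set G) := by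
    refine le_trans ?_ (le_normalizer_map H.subtype)
    rw [normalizer_eq_top, ← MonoidHom.range_eq_map, range_subtype]
  have hO1odd : ¬ 2 ∣ Nat.card O1 := by
    rw [hO1, Cores.card_map_subtype, hO2, Cores.card_map_subtype]
    exact Cores.not_dvd_card_pPrimeCore
  have hO1p : (Nat.card O1).Coprime p := by
    refine Nat.Coprime.coprime_dvd_left ?_ (Cores.coprime_card_pPrimeCore (G := H) p)
    rw [hO1, Cores.card_map_subtype]
    exact card_dvd_of_le (map_subtype_le _)
  -- the factorisation `H = O' N(Z)`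
  obtain ⟨U, hU⟩ : ∃ U : Sylow p H, (U : Subgroup H).map H.subtype = T := hT.exists_sylow
  have hZU : (Cfsg.centerThompsonAOf (U : Subgroup H)).map H.subtype = Z := by
    rw [PLocal.map_centerThompsonAOf _ H.subtype_injective.injOn, hU]
  set f := QuotientGroup.mk' O'
  have hker : (Nat.card f.ker).Coprime p := by
    rw [QuotientGroup.ker_mk']; exact Cores.coprime_card_pPrimeCore p
  have hn := PLocal.zj_normal hp PLocal.goodClass_abelian (Constrained.isPConstrained_iff.1 hcons)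
    (fun Q _ hQ => GWKlein.pStableSections_of_abelian hp h2 H O' Q hQ)
    (U.mapSurjective (f := f) (QuotientGroup.mk'_surjective O'))
  rw [PLocal.sInf_maxIn_abelian, ← PLocal.thompsonSubgroupAOf_eq, Sylow.coe_mapSurjective] at hn
  change (Cfsg.centerThompsonAOf ((U : Subgroup H).map f)).Normal at hn
  rw [← PLocal.map_centerThompsonAOf f (PLocal.injOn_of_pGroup f hker U.2)] at hn
  -- every conjugate of `Z` in `H` is one under `O1`
  have hidx : (Cfsg.pPrimeCore 2 O').index ≤ 2 := by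
    obtain ⟨S0⟩ : Nonempty (Sylow 2 O') := inferInstance
    rcases Nat.even_or_odd (Nat.card O') with he | ho
    · have hS0 : Nat.card (S0 : Subgroup O') ≤ 2 := by
        rw [S0.card_eq_multiplicity]
        have : ¬ 2 ≤ (Nat.card O').factorization 2 := fun e =>
          h4 ((Nat.prime_two.pow_dvd_iff_le_factorization Nat.card_pos.ne').2 e)
        calc 2 ^ (Nat.card O').factorization 2 ≤ 2 ^ 1 := Nat.pow_le_pow_right two_pos (by omega)
          _ = 2 := pow_one 2
      have hS2 : Nat.card (S0 : Subgroup O') = 2 :=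
        le_antisymm hS0 (Nat.le_of_dvd Nat.card_pos (S0.dvd_card_of_dvd_card (even_iff_two_dvd.1 he)))
      have hidx := KleinOrder.card_pPrimeCore_of_cyclic S0 (isCyclic_of_prime_card hS2) (even_iff_two_dvd.1 he)
      have h1 := (Cfsg.pPrimeCore 2 O').card_mul_index
      have h3 := (S0 : Subgroup O').card_mul_index
      rw [hidx] at h1
      rw [hS2, ← h1, mul_comm 2] at h3
      exact (Nat.eq_of_mul_eq_mul_left (Nat.pos_of_ne_zero index_ne_zero_of_finite) h3).ge
    · have htop : Cfsg.pPrimeCore 2 O' = ⊤ := top_unique (Cores.le_pPrimeCore inferInstance (by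
        rw [card_top]; exact Nat.coprime_two_right.2 ho))
      rw [htop, index_top]; omega
  have hconj : ∀ h ∈ H, ∃ k ∈ O1, MulAut.conj h • Z = MulAut.conj k • Z := by
    intro h hh
    set ZU := Cfsg.centerThompsonAOf (U : Subgroup H)
    have hZUp : IsPGroup p ZU := U.2.to_le (GWKlein.centerThompsonAOf_le _)
    have hNf : (normalizer (ZU : Set H)).map f = ⊤ := by
      rw [← PLocal.normalizer_map_eq f (QuotientGroup.mk'_surjective O') hker hZUp,
        normalizer_eq_top_iff.2 hn]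
    obtain ⟨n, hn', hne⟩ : f ⟨h, hh⟩ ∈ (normalizer (ZU : Set H)).map f := hNf ▸ mem_top _
    have hoO : (⟨h, hh⟩ : H) * n⁻¹ ∈ O' := by
      rw [← QuotientGroup.eq_one_iff, ← QuotientGroup.mk'_apply, map_mul, map_inv]
      exact mul_inv_eq_one.2 hne.symm
    set x : H := (⟨h, hh⟩ : H) * n⁻¹
    -- some element of `O1 x` centralises `Z`
    have hcomm : ∀ v ∈ ZU, x * v * x⁻¹ * v⁻¹ ∈ O2 := by
      intro v _
      have hy : v * x⁻¹ * v⁻¹ ∈ O' := (inferInstance : O'.Normal).conj_mem _ (inv_mem hoO) v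
      have hiff : ((⟨x, hoO⟩ : O') ∈ Cfsg.pPrimeCore 2 O') ↔
          ((⟨v * x⁻¹ * v⁻¹, hy⟩ : O') ∈ Cfsg.pPrimeCore 2 O') := by
        constructor
        · intro h1
          have h2' : x ∈ O2 := ⟨⟨x, hoO⟩, h1, rfl⟩
          obtain ⟨w, hw, hwe⟩ := (inferInstance : O2.Normal).conj_mem _ (inv_mem h2') v
          exact (Subtype.ext hwe : w = ⟨v * x⁻¹ * v⁻¹, hy⟩) ▸ hw
        · intro h1
          have h2' : v * x⁻¹ * v⁻¹ ∈ O2 := ⟨⟨_, hy⟩, h1, rfl⟩
          have h3 := inv_mem ((inferInstance : O2.Normal).conj_mem _ h2' v⁻¹)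
          rw [show (v⁻¹ * (v * x⁻¹ * v⁻¹) * v⁻¹⁻¹)⁻¹ = x by group] at h3
          obtain ⟨w, hw, hwe⟩ := h3
          exact (Subtype.ext hwe : w = ⟨x, hoO⟩) ▸ hw
      have hmem : (⟨x, hoO⟩ : O') * ⟨v * x⁻¹ * v⁻¹, hy⟩ ∈ Cfsg.pPrimeCore 2 O' := by
        rcases Nat.lt_or_eq_of_le hidx with h1 | h1
        · have : (Cfsg.pPrimeCore 2 O').index = 1 := by
            have := (Cfsg.pPrimeCore 2 O').index_ne_zero_of_finite; omega
          rw [index_eq_one.1 this]; exact mem_top _
        · exact (mul_mem_iff_of_index_two h1).2 hiff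
      exact ⟨_, hmem, by show x * (v * x⁻¹ * v⁻¹) = x * v * x⁻¹ * v⁻¹; group⟩
    obtain ⟨e, he, hec⟩ := Constrained.exists_mul_mem_centralizer (p := p) (O := O2) (T := ZU)
      (fun hd => (Fact.out : p.Prime).coprime_iff_not_dvd.1
        (Cores.coprime_card_pPrimeCore (G := H) p).symm (hd.trans (card_dvd_of_le (map_subtype_le _))))
      hZUp (x := x) hcomm
    refine ⟨(e : G)⁻¹, inv_mem ⟨e, he, rfl⟩, ?_⟩
    have hmem : e * (⟨h, hh⟩ : H) ∈ normalizer (ZU : Set H) := by
      have h1 : e * x * n ∈ normalizer (ZU : Set H) :=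
        mul_mem (centralizer_le_normalizer _ hec) hn'
      rwa [show e * x * n = e * ⟨h, hh⟩ by simp [x, mul_assoc]] at h1
    have hG' : (e : G) * h ∈ normalizer (Z : Set G) := by
      rw [← hZU]; exact le_normalizer_map H.subtype ⟨_, hmem, rfl⟩
    conv_rhs => rw [← Coprime.conj_eq_of_mem_normalizer hG', ← mul_smul, ← map_mul, inv_mul_cancel_left]
  -- a conjugate of `Z` normalised by `A` and `a`
  set A1 := A ⊔ zpowers a with hA1d
  have haNA : zpowers a ≤ normalizer (A : Set G) := zpowers_le.2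
    (centralizer_le_normalizer _ (mem_centralizer_iff.2 fun y hy => mem_centralizer_singleton_iff.1 (haA hy)))
  have hcardA : Nat.card A1 = Nat.card A * 2 := by
    obtain ⟨m, hm⟩ := IsPGroup.iff_card.1 hA
    rw [hA1d, Coprime.card_sup_of_coprime haNA ?_, Nat.card_zpowers, ha]
    rw [Nat.card_zpowers, ha, hm]
    exact Nat.Coprime.pow_left m ((Nat.coprime_primes Fact.out Nat.prime_two).2 hp)
  have hA1H : A1 ≤ H := sup_le hH.le (zpowers_le.2 hH.mem)
  have hO1sol : Group.IsSolvable O1 :=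
    OddOrderTheorem.solvable (Nat.not_even_iff_odd.1 fun e => hO1odd (even_iff_two_dvd.1 e))
  have hcop : (Nat.card A1).Coprime (Nat.card O1) := by
    obtain ⟨m, hm⟩ := IsPGroup.iff_card.1 hA
    rw [hcardA, hm]
    exact Nat.Coprime.mul_left (Nat.Coprime.pow_left m hO1p.symm) (Nat.prime_two.coprime_iff_not_dvd.2 hO1odd)
  obtain ⟨k, hk, hkA⟩ := Coprime.exists_invariant_conj (hA1H.trans hO1H) hcop (Or.inr hO1sol)
    (P := Z) fun b hb => hconj b (hA1H hb)
  have hkH : k ∈ H := map_subtype_le _ hk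
  refine ⟨k, ?_⟩
  have hmap : Cfsg.centerThompsonAOf (MulAut.conj k • T) = MulAut.conj k • Z :=
    (PLocal.map_centerThompsonAOf (MulAut.conj k).toMonoidHom (MulAut.conj k).injective.injOn).symm
  refine ⟨le_normalizer.trans (GWKlein.normalizer_le_normalizer_zj _), ?_⟩
  rw [hmap]
  set N := normalizer ((MulAut.conj k • Z : Subgroup G) : Set G) with hN
  refine ⟨?_, hkA (mem_sup_right (mem_zpowers a)), le_sup_left.trans hkA, fun c hc => ?_⟩
  · intro htop
    haveI := hG
    have hZne : MulAut.conj k • Z ≠ ⊥ := fun e => GWKlein.centerThompsonAOf_ne_bot hT.2.1 hTne (by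
      rw [← card_eq_one] at e ⊢; rw [Coprime.card_conj] at e; exact e)
    rcases (normalizer_eq_top_iff.1 htop).eq_bot_or_eq_top with h1 | h1
    · exact hZne h1
    · have hp' : IsPGroup p (MulAut.conj k • Z : Subgroup G) := hZp.map _
      haveI := hp'.isNilpotent
      haveI : Group.IsSolvable (⊤ : Subgroup G) :=
        h1 ▸ (inferInstance : Group.IsSolvable (MulAut.conj k • Z : Subgroup G))
      exact hns (Group.isSolvable_of_surjective (f := (topEquiv : (⊤ : Subgroup G) ≃* G).toMonoidHom)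
        topEquiv.surjective)
  -- coverage
  have hle : H ⊓ centralizer ({a} : Set G) ≤ normalizer (Cfsg.centralizerPPrimeCore 2 a : Set G) :=
    inf_le_right.trans (Signalizer.centralizer_le_normalizer_core a)
  obtain ⟨o, ho, x, hx, rfl⟩ := (Coprime.mem_sup_iff hle).1 (hH.cov hc)
  refine mul_mem (mem_sup_left ho) ?_
  obtain ⟨j, hj, hje⟩ := hconj (k⁻¹ * x * k) (mul_mem (mul_mem (inv_mem hkH) hx.1) hkH)
  set o1 := k * j * k⁻¹
  have ho1 : o1 ∈ O1 := O1.mul_mem (O1.mul_mem hk hj) (O1.inv_mem hk)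
  have hxN : o1⁻¹ * x ∈ N := by
    refine Coprime.mem_normalizer_of_conj_eq ?_
    rw [← mul_smul, ← map_mul, show o1⁻¹ * x * k = k * (j⁻¹ * (k⁻¹ * x * k)) by
      simp only [o1]; group, map_mul, mul_smul, map_mul, mul_smul, hje,
      ← mul_smul (MulAut.conj j⁻¹), ← map_mul, inv_mul_cancel, map_one, one_smul]
  have haN : zpowers a ≤ N := zpowers_le.2 (hkA (mem_sup_right (mem_zpowers a)))
  have hcop' : (Nat.card (zpowers a)).Coprime (Nat.card O1) := by
    rw [Nat.card_zpowers, ha]; exact Nat.prime_two.coprime_iff_not_dvd.2 hO1odd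
  obtain ⟨m, hm, hom⟩ := Coprime.exists_mem_centralizer_mul ((zpowers_le.2 hH.mem).trans hO1H) hcop'
    (Or.inr hO1sol) N haN ho1 (by
      rintro _ ⟨b, hb, rfl⟩
      have hxb : Commute x b := by
        obtain ⟨i, rfl⟩ := hb
        exact (show Commute x a from mem_centralizer_singleton_iff.1 hx.2).zpow_right i
      show o1⁻¹ * b * o1⁻¹⁻¹ ∈ N
      rw [show o1⁻¹ * b * o1⁻¹⁻¹ = o1⁻¹ * x * b * (o1⁻¹ * x)⁻¹ by
        rw [mul_assoc o1⁻¹ x b, hxb.eq]; group]
      exact N.mul_mem (N.mul_mem hxN (haN hb)) (N.inv_mem hxN))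
  rw [show x = (o1 * m) * (m⁻¹ * (o1⁻¹ * x)) by group]
  have homC : o1 * m ∈ centralizer ({a} : Set G) :=
    mem_centralizer_singleton_iff.2 (mem_centralizer_iff.1 hom.2 a (mem_zpowers a)).symm
  refine mul_mem (mem_sup_left ?_) (mem_sup_right ⟨N.mul_mem (N.inv_mem hm.2) hxN, ?_⟩)
  · refine le_core_of_cov (H := H) (X := O1 ⊓ centralizer ({a} : Set G)) hH.cov inf_le_right
      (fun hd => hO1odd (hd.trans (card_dvd_of_le inf_le_left))) ?_ ⟨hom.1, homC⟩
    refine le_trans ?_ inf_normalizer_le_normalizer_inf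
    exact le_inf (inf_le_left.trans hO1H) (inf_le_right.trans le_normalizer)
  · rw [show m⁻¹ * (o1⁻¹ * x) = (o1 * m)⁻¹ * x by group]
    exact (centralizer ({a} : Set G)).mul_mem ((centralizer ({a} : Set G)).inv_mem homC) hx.2

/-- A `p`-element of `C(a)` fused into `A ⊓ O(C a)` lies in `O(C(a))`. -/
theorem mem_core_of_fused {H0 : Subgroup G} (hH0 : Pair a A H0)
    (hO : ∀ H : Subgroup G, Pair a A H →
      Cfsg.centralizerPPrimeCore 2 a ⊓ H ≤ (Cfsg.oddCore H).map H.subtype)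
    {u g : G} (hu : u ∈ A) (hgu : g * u * g⁻¹ ∈ A)
    (hguO : g * u * g⁻¹ ∈ Cfsg.centralizerPPrimeCore 2 a) :
    u ∈ Cfsg.centralizerPPrimeCore 2 a := by
  haveI : Fact (Nat.Prime 2) := ⟨Nat.prime_two⟩
  -- a pair with the largest `p`-part
  obtain ⟨H, hH, hmax⟩ := (Set.toFinite {H : Subgroup G | Pair a A H}).exists_maximalFor
    (fun H : Subgroup G => (Nat.card H).factorization p) _ ⟨H0, hH0⟩
  have hsub : ∀ K : Subgroup G, A ≤ K → ∃ T : Subgroup G, Signalizer.IsSylowIn p K T ∧ A ≤ T := by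
    intro K hAK
    obtain ⟨R, hR⟩ := (hA.comap_subtype (K := K)).exists_le_sylow
    exact ⟨_, Signalizer.isSylowIn_of_sylow R, fun x hx => ⟨⟨x, hAK hx⟩, hR (mem_subgroupOf.2 hx), rfl⟩⟩
  obtain ⟨T, hT, hAT⟩ := hsub H hH.le
  obtain ⟨o, hoT, hN⟩ := exists_pair_normalizer hp h2 hG hns ha hA hA1 haA hloc hH hT hAT
  set T' := MulAut.conj o • T
  set N := normalizer (Cfsg.centerThompsonAOf T' : Set G)
  -- `T'` is a Sylow subgroup of `G`
  have hT'p : IsPGroup p T' := hT.2.1.map _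
  obtain ⟨P, hP⟩ := hT'p.exists_le_sylow
  have hTP : (P : Subgroup G) = T' := by
    by_contra hne
    have hlt := PLocal.normalizer_inf_of_lt P.2 (lt_of_le_of_ne hP (Ne.symm hne))
    set R := normalizer (T' : Set G) ⊓ (P : Subgroup G)
    have hRN : R ≤ N := inf_le_left.trans (GWKlein.normalizer_le_normalizer_zj _)
    have h1 : Nat.card T < Nat.card R := by
      rw [← Coprime.card_conj o T]
      exact lt_of_not_ge fun h => hlt.ne (eq_of_le_of_card_ge hlt.le h)
    have h2' : Nat.card R ≤ p ^ (Nat.card N).factorization p :=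
      Coprime.card_le_of_isPGroup (P.2.to_le inf_le_right) hRN
    have h3 : (Nat.card N).factorization p ≤ (Nat.card H).factorization p := by
      rcases le_or_gt ((Nat.card N).factorization p) ((Nat.card H).factorization p) with h | h
      · exact h
      · exact (hmax hN h.le)
    obtain ⟨R0, hR0⟩ := hT.exists_sylow
    rw [← hR0, Cores.card_map_subtype, R0.card_eq_multiplicity] at h1
    have h4 := Nat.pow_le_pow_right (Fact.out : p.Prime).pos h3
    omega
  -- conjugate inside `N` into `P`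
  have hPN : (P : Subgroup G) ≤ N := hTP ▸ hoT
  have hmove : ∀ y ∈ A, ∃ n ∈ N, n * y * n⁻¹ ∈ (P : Subgroup G) := by
    intro y hy
    obtain ⟨R, hR⟩ := ((hA.to_le (zpowers_le.2 hy)).comap_subtype (K := N)).exists_le_sylow
    obtain ⟨n, hn⟩ := MulAction.exists_smul_eq N R (P.subtype hPN)
    refine ⟨n, n.2, ?_⟩
    have h1 : n * ⟨y, hN.le hy⟩ * n⁻¹ ∈ (P.subtype hPN : Subgroup N) := by
      rw [← hn, Sylow.coe_subgroup_smul]
      exact ⟨⟨y, hN.le hy⟩, hR (mem_subgroupOf.2 (mem_zpowers y)), rfl⟩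
    exact h1
  obtain ⟨n1, hn1, hu1⟩ := hmove u hu
  obtain ⟨n2, hn2, hu2⟩ := hmove _ hgu
  obtain ⟨m, hm, hme⟩ := zj_realized hp h2 P (zpowers (n1 * u * n1⁻¹)) (zpowers_le.2 hu1)
    (n2 * g * n1⁻¹) (by
      rw [MonoidHom.map_zpowers]
      refine zpowers_le.2 ?_
      show n2 * g * n1⁻¹ * (n1 * u * n1⁻¹) * (n2 * g * n1⁻¹)⁻¹ ∈ (P : Subgroup G)
      rw [show n2 * g * n1⁻¹ * (n1 * u * n1⁻¹) * (n2 * g * n1⁻¹)⁻¹ = n2 * (g * u * g⁻¹) * n2⁻¹ by group]
      exact hu2)
  rw [hTP] at hm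
  -- the fused element lies in the odd core of `N`
  set u' := g * u * g⁻¹
  have hu'O := hO N hN ⟨hguO, hN.le hgu⟩
  have hn : n2⁻¹ * m * n1 ∈ N := N.mul_mem (N.mul_mem (N.inv_mem hn2) hm) hn1
  have heq : (n2⁻¹ * m * n1) * u * (n2⁻¹ * m * n1)⁻¹ = u' := by
    have h1 := hme _ (mem_zpowers _)
    calc (n2⁻¹ * m * n1) * u * (n2⁻¹ * m * n1)⁻¹
        = n2⁻¹ * (m * (n1 * u * n1⁻¹) * m⁻¹) * n2 := by group
      _ = n2⁻¹ * (n2 * g * n1⁻¹ * (n1 * u * n1⁻¹) * (n2 * g * n1⁻¹)⁻¹) * n2 := by rw [h1]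
      _ = u' := by simp only [u']; group
  set OK := (Cfsg.oddCore N).map N.subtype with hOK
  have hOKn : N ≤ normalizer (OK : Set G) := by
    refine le_trans ?_ (le_normalizer_map N.subtype)
    haveI : (Cfsg.oddCore N).Normal := Cores.pPrimeCore_normal 2 N
    rw [normalizer_eq_top, ← MonoidHom.range_eq_map, range_subtype]
  have huO : u ∈ OK := (mem_normalizer_iff.1 (hOKn hn) u).2 (heq ▸ hu'O)
  refine le_core_of_cov (H := N) (X := OK ⊓ centralizer ({a} : Set G)) hN.cov inf_le_right ?_ ?_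
    ⟨huO, haA hu⟩
  · intro hd
    have h1 := hd.trans (card_dvd_of_le inf_le_left)
    rw [hOK, Cores.card_map_subtype] at h1
    exact Cores.not_dvd_card_pPrimeCore h1
  · refine le_trans ?_ inf_normalizer_le_normalizer_inf
    exact le_inf (inf_le_left.trans hOKn) (inf_le_right.trans le_normalizer)

end Step

end Cfsg.Agent.AbelianSylow.Cent
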