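import Cfsg.Agent.Lib.AbelianSylow.Cent.CoreLocal
import Cfsg.Agent.Lib.AbelianSylow.Cent.CoreConstrained
import Cfsg.Agent.Lib.AbelianSylow.Cent.Growth
import Cfsg.Agent.Lib.Signalizer.PAction

/-!
# Balance (owner: helper4; see `CORE.md`, (B))

* `Moved r a` : only `1` and `a` among the involutions of `C(a)` centralise a Sylow `r`-subgroup of `O(C a)`
* `le_core_of_moved` : then the `r`-elements of `O(C b) ⊓ C(a)` lie in `O(C a)`
* `le_centralizer_of_not_moved` : else a Sylow 2-subgroup through `a` centralises the Sylow `r`-subgroups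
  of `O(C a)` it normalises
* `balance` : `O(C b) ⊓ C(a) ≤ O(C a)`
-/

set_option autoImplicit false
set_option linter.style.haveILetI false

namespace Cfsg.Agent.AbelianSylow.Core

open Subgroup
open scoped Pointwise

universe u

variable {G : Type u} [Group G] [Finite G]

/-- Only `1` and `a` among the involutions of `C(a)` centralise a Sylow `r`-subgroup of `O(C a)`. -/
def Moved (r : ℕ) (a : G) : Prop :=
  ∀ Q, Signalizer.IsSylowIn r (Cfsg.centralizerPPrimeCore 2 a) Q →
    ∀ x ∈ centralizer ({a} : Set G), x * x = 1 → x ∈ centralizer (Q : Set G) → x = 1 ∨ x = a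

theorem Moved.ne_two (h : Elem8 G) {a : G} (ha : orderOf a = 2) {r : ℕ} [Fact r.Prime]
    (hm : Moved r a) : r ≠ 2 := by
  rintro rfl
  haveI : Fact (Nat.Prime 2) := ⟨Nat.prime_two⟩
  obtain ⟨s⟩ : Nonempty (Sylow 2 ↥(Cfsg.centralizerPPrimeCore 2 a)) := inferInstance
  set Q := (s : Subgroup ↥(Cfsg.centralizerPPrimeCore 2 a)).map (Cfsg.centralizerPPrimeCore 2 a).subtype
  have hQ : Q = ⊥ := by
    obtain ⟨k, hk⟩ := IsPGroup.iff_card.1 (s.2.map _ : IsPGroup 2 Q)
    rcases k with _ | k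
    · exact card_eq_one.1 (by rw [hk, pow_zero])
    · exact absurd ((hk ▸ dvd_pow_self 2 k.succ_ne_zero : 2 ∣ Nat.card Q).trans
        (card_dvd_of_le (map_subtype_le _))) (Signalizer.not_dvd_card_core a)
  obtain ⟨S, hS⟩ := exists_sylow_mem (Involution.mul_self ha)
  obtain ⟨x, hx, hxne⟩ : ∃ x ∈ (S : Subgroup G), x ∉ zpowers a := by
    by_contra hall
    push Not at hall
    have := card_le_of_le (show (S : Subgroup G) ≤ zpowers a from hall)
    rw [(h.sylow S).2, Nat.card_zpowers, ha] at this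
    omega
  rcases hm Q (Signalizer.isSylowIn_of_sylow s) x
    (mem_centralizer_singleton_iff.2 (h.commute_mem S hx hS).eq) (h.sq S hx)
    (by rw [hQ]; exact mem_centralizer_iff.2 fun y hy => by
          rw [(mem_bot (G := G)).1 hy, one_mul, mul_one]) with e | e
  · exact hxne (e ▸ one_mem _)
  · exact hxne (e ▸ mem_zpowers a)

/-- (II): in the moved case the `r`-elements of `O(C b) ⊓ C(a)` lie in `O(C a)`. -/
theorem le_core_of_moved (h : Elem8 G) (IH : CoresTrivialBelow.{u} (Nat.card G)) {a b : G}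
    (ha : orderOf a = 2) (hb : orderOf b = 2) (hns : ¬ Group.IsSolvable ↥(centralizer ({a} : Set G)))
    {r : ℕ} [Fact r.Prime] (hm : Moved r a) {R : Subgroup G} (hR : IsPGroup r R)
    (hRb : R ≤ Cfsg.centralizerPPrimeCore 2 b ⊓ centralizer ({a} : Set G)) :
    R ≤ Cfsg.centralizerPPrimeCore 2 a := by
  haveI : Fact (Nat.Prime 2) := ⟨Nat.prime_two⟩
  haveI := h.simple
  intro u hu
  rcases eq_or_ne u 1 with rfl | hu1
  · exact one_mem _
  set C := centralizer ({a} : Set G)
  set O := Cfsg.centralizerPPrimeCore 2 a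
  have hOC : O ≤ C := Signalizer.core_le_centralizer a
  have huC : u ∈ C := (hRb hu).2
  obtain ⟨U₀, hU₀⟩ := ((hR.to_le (zpowers_le.2 hu)).comap_subtype (K := C)).exists_le_sylow
  set U := (U₀ : Subgroup C).map C.subtype
  have huU : u ∈ U := ⟨⟨u, huC⟩, hU₀ (mem_subgroupOf.2 (mem_zpowers u)), rfl⟩
  have hUC : U ≤ C := map_subtype_le _
  have hUp : IsPGroup r U := U₀.2.map _
  -- `U ⊓ O` is a Sylow subgroup of `O`
  have hQ : Signalizer.IsSylowIn r O (U ⊓ O) := by
    refine ⟨inf_le_right, hUp.to_le inf_le_left, ?_⟩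
    set N := Cfsg.pPrimeCore 2 C
    haveI : N.Normal := Cores.pPrimeCore_normal 2 C
    obtain ⟨R₀⟩ : Nonempty (Sylow r N) := inferInstance
    obtain ⟨T, hT⟩ := (R₀.2.map N.subtype).exists_le_sylow
    obtain ⟨c, hc⟩ := MulAction.exists_smul_eq C T U₀
    have hle : ((R₀ : Subgroup N).map N.subtype).map (MulAut.conj c).toMonoidHom ≤ (U₀ : Subgroup C) ⊓ N := by
      rintro _ ⟨_, ⟨y, hy, rfl⟩, rfl⟩
      exact ⟨hc ▸ ⟨(y : C), hT ⟨y, hy, rfl⟩, rfl⟩, (inferInstance : N.Normal).conj_mem _ y.2 c⟩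
    have hcard := card_le_of_le hle
    rw [card_map_of_injective (MulAut.conj c).injective, card_map_of_injective N.subtype_injective] at hcard
    have hUO : U ⊓ O = ((U₀ : Subgroup C) ⊓ N).map C.subtype := by
      rw [map_inf _ _ _ C.subtype_injective]
      rfl
    intro hd
    have h1 := ((U ⊓ O).subgroupOf O).card_mul_index
    rw [Cores.card_subgroupOf inf_le_right, hUO, Cores.card_map_subtype,
      show Nat.card O = Nat.card N from Cores.card_map_subtype _ _] at h1
    have h2 := (R₀ : Subgroup N).card_mul_index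
    have h3 : (U ⊓ O).relIndex O ∣ (R₀ : Subgroup N).index := by
      obtain ⟨j, hj⟩ := IsPGroup.iff_card.1 (U₀.2.to_le (inf_le_left : (U₀ : Subgroup C) ⊓ N ≤ U₀))
      obtain ⟨i, hi⟩ := IsPGroup.iff_card.1 R₀.2
      rw [hi, hj] at hcard
      rw [hi] at h2
      rw [hj] at h1
      have hij : i ≤ j := (Nat.pow_le_pow_iff_right (Fact.out : r.Prime).one_lt).1 hcard
      refine ⟨r ^ (j - i), Nat.eq_of_mul_eq_mul_left (pow_pos (Fact.out : r.Prime).pos i) ?_⟩
      rw [h2, ← h1, relIndex, hUO]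
      rw [show r ^ j = r ^ i * r ^ (j - i) by rw [← pow_add]; congr 1; omega]
      ring
    exact R₀.not_dvd_index (hd.trans h3)
  have hns' : ¬ Group.IsSolvable G := GWKlein.not_isSolvable_of_simple (by
    by_contra hcon
    push Not at hcon
    exact h.nonab ⟨⟨hcon⟩⟩)
  have hCne : C ≠ ⊤ := fun e => by
    have haZ : a ∈ center G := mem_center_iff.2 fun x => mem_centralizer_singleton_iff.1 (e.ge (mem_top x))
    rcases (inferInstance : (center G).Normal).eq_bot_or_eq_top with h1 | h1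
    · exact Involution.ne_one ha (mem_bot.1 (h1 ▸ haZ))
    · exact h.nonab ⟨⟨fun x y => mem_center_iff.1 (h1 ▸ mem_top y : y ∈ center G) x⟩⟩
  have hU1 : U ≠ ⊥ := fun e => hu1 (mem_bot.1 (e ▸ huU))
  -- `u` is fused into `U ⊓ O`
  obtain ⟨g, hg⟩ := h.one_class hb ha
  have hgu : g * u * g⁻¹ ∈ O := by
    have := mem_map_of_mem (MulAut.conj g).toMonoidHom (hRb hu).1
    rw [Signalizer.map_conj_centralizerPPrimeCore, hg] at this
    exact this
  obtain ⟨T₀, hT₀⟩ := (((hR.to_le (zpowers_le.2 hu)).map (MulAut.conj g).toMonoidHom).comap_subtype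
    (K := O)).exists_le_sylow
  obtain ⟨Q₀, hQ₀⟩ := hQ.exists_sylow
  obtain ⟨o, ho⟩ := MulAction.exists_smul_eq O T₀ Q₀
  have hmem : (o : G) * (g * u * g⁻¹) * (o : G)⁻¹ ∈ U ⊓ O := by
    rw [← hQ₀, ← ho]
    exact ⟨o * ⟨_, hgu⟩ * o⁻¹, ⟨⟨_, hgu⟩, hT₀ (mem_subgroupOf.2 ⟨u, mem_zpowers u, rfl⟩), rfl⟩, rfl⟩
  rw [show (o : G) * (g * u * g⁻¹) * (o : G)⁻¹ = (o : G) * g * u * ((o : G) * g)⁻¹ by group] at hmem
  have hcov : ∀ {H : Subgroup G}, Cent.Pair a U H →
      Cfsg.centralizerPPrimeCore 2 a ⊓ H ≤ (Cfsg.oddCore H).map H.subtype :=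
    fun {H} hH => core_inf_le h IH ha hns hH.ne_top hH.mem hH.cov
  exact Cent.mem_core_of_fused (hm.ne_two h ha) h.abelian h.simple hns' ha hUp hU1 hUC
    (fun H hH => constrained_of_moved h (hm.ne_two h ha) ha hH.mem hm
      ⟨U ⊓ O, hQ, inf_le_left.trans hH.le⟩ (hcov hH))
    (H0 := C) ⟨hCne, mem_centralizer_singleton_iff.2 rfl, hUC, le_sup_right.trans' (le_inf le_rfl le_rfl)⟩
    (fun H hH => hcov hH) huU hmem.1 hmem.2

/-- (I): otherwise a Sylow 2-subgroup through `a` centralises its invariant Sylow `r`-subgroups of `O(C a)`. -/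
theorem le_centralizer_of_not_moved (h : Elem8 G) {a : G} (ha : orderOf a = 2)
    (hns : ¬ Group.IsSolvable ↥(centralizer ({a} : Set G))) {r : ℕ} [Fact r.Prime] (hm : ¬ Moved r a)
    {T : Sylow 2 G} (haT : a ∈ (T : Subgroup G)) {Q : Subgroup G}
    (hQ : Signalizer.IsSylowIn r (Cfsg.centralizerPPrimeCore 2 a) Q)
    (hTQ : (T : Subgroup G) ≤ normalizer (Q : Set G)) :
    (T : Subgroup G) ≤ centralizer (Q : Set G) := by
  haveI : Fact (Nat.Prime 2) := ⟨Nat.prime_two⟩
  rw [Moved] at hm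
  push Not at hm
  obtain ⟨Q₁, hQ₁, x, hxC, hx2, hxQ, hx1, hxa⟩ := hm
  set C := centralizer ({a} : Set G)
  set O := Cfsg.centralizerPPrimeCore 2 a
  have hOC : O ≤ C := Signalizer.core_le_centralizer a
  have hCO : C ≤ normalizer (O : Set G) := Signalizer.centralizer_le_normalizer_core a
  have hOodd : ¬ 2 ∣ Nat.card O := Signalizer.not_dvd_card_core a
  have haQ : a ∈ centralizer (Q₁ : Set G) := mem_centralizer_iff.2 fun y hy =>
    mem_centralizer_singleton_iff.1 (hOC (hQ₁.1 hy))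
  set D := centralizer (Q₁ : Set G) ⊓ C
  set O₀ := Cfsg.oddCore C
  haveI : O₀.Normal := Cores.pPrimeCore_normal 2 C
  set f := QuotientGroup.mk' O₀
  have hfs : Function.Surjective f := QuotientGroup.mk'_surjective O₀
  set D₀ := D.subgroupOf C
  set Db := D₀.map f
  -- `Db` is normal, by the Frattini argument
  haveI hDb : Db.Normal := by
    refine ⟨fun y hy w => ?_⟩
    obtain ⟨c, rfl⟩ := hfs w
    obtain ⟨d, hd, rfl⟩ := hy
    set s₁ := (c : G)
    obtain ⟨Q₀, hQ₀⟩ := hQ₁.exists_sylow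
    have hcO : s₁ ∈ normalizer (O : Set G) := hCO c.2
    obtain ⟨Q₂, hQ₂⟩ := Coprime.exists_sylow_conj_eq (K := O) hcO Q₀
    obtain ⟨o, ho⟩ := MulAction.exists_smul_eq O Q₂ Q₀
    have hn : (o : G) * s₁ ∈ normalizer (Q₁ : Set G) := by
      refine Coprime.mem_normalizer_of_conj_eq ?_
      have h1 := congrArg (fun R : Sylow r O => (R : Subgroup O).map O.subtype) ho
      rw [Coprime.map_subtype_smul, hQ₂, hQ₀, ← mul_smul, ← map_mul] at h1
      exact h1
    set k : C := ⟨(o : G), hOC o.2⟩ * c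
    have hfk : f k = f c := by
      rw [map_mul, show f ⟨(o : G), hOC o.2⟩ = 1 from (QuotientGroup.eq_one_iff _).2 ?_, one_mul]
      obtain ⟨o', ho', e⟩ := o.2
      exact (Subtype.ext e : o' = ⟨(o : G), hOC o.2⟩) ▸ ho'
    refine ⟨k * d * k⁻¹, mem_subgroupOf.2 ⟨?_, (k * d * k⁻¹ : C).2⟩, by rw [map_mul, map_mul, map_inv, hfk]⟩
    refine mem_centralizer_iff.2 fun q hq => ?_
    have hd' : (d : G) ∈ centralizer (Q₁ : Set G) := (mem_subgroupOf.1 hd).1
    set n := (o : G) * s₁ with hn'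
    have h2 : n⁻¹ * q * n ∈ Q₁ := by
      simpa using (mem_normalizer_iff.1 (inv_mem hn) q).1 hq
    show q * (n * d * n⁻¹) = n * d * n⁻¹ * q
    calc q * (n * (d : G) * n⁻¹) = n * (n⁻¹ * q * n * d) * n⁻¹ := by group
      _ = n * (d * (n⁻¹ * q * n)) * n⁻¹ := by rw [mem_centralizer_iff.1 hd' _ h2]
      _ = n * d * n⁻¹ * q := by group
  -- the structure of `C/O`
  obtain ⟨S, hS⟩ := exists_sylow_mem (Involution.mul_self ha)
  have hSC : (S : Subgroup G) ≤ C := fun s hs =>
    mem_centralizer_singleton_iff.2 (h.commute_mem S hs hS).eq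
  set a' : C := ⟨a, mem_centralizer_singleton_iff.2 rfl⟩
  set x' : C := ⟨x, hxC⟩
  have hinv : ∀ y : C, y * y = 1 → f y = 1 → y = 1 := fun y hy hfy => by
    by_contra hy1
    have h0 : y ∈ Cfsg.pPrimeCore 2 C := (QuotientGroup.eq_one_iff y).1 hfy
    have h2 := Subgroup.orderOf_dvd_natCard _ h0
    rw [Involution.orderOf_of_sq hy hy1] at h2
    exact Cores.not_dvd_card_pPrimeCore (p := 2) (G := C) h2
  have hza : f a' ∈ center (C ⧸ O₀) := mem_center_iff.2 fun w => by
    obtain ⟨c, rfl⟩ := hfs w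
    rw [← map_mul, ← map_mul, show c * a' = a' * c from Subtype.ext (mem_centralizer_singleton_iff.1 c.2)]
  have haa : a' * a' = 1 := Subtype.ext (Involution.mul_self ha)
  have hz2 : orderOf (f a') = 2 := Involution.orderOf_of_sq (by rw [← map_mul, haa, map_one])
    fun e => Involution.ne_one ha (congrArg Subtype.val (hinv a' haa e))
  have hTC : (T : Subgroup G) ≤ C := fun s hs =>
    mem_centralizer_singleton_iff.2 (h.commute_mem T hs haT).eq
  have hSb : ∀ R : Sylow 2 C, Cfsg.IsElementaryAbelian 2 (R : Subgroup C) ∧ Nat.card (R : Subgroup C) = 8 := by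
    intro R
    obtain ⟨T', hT'⟩ := (R.2.map C.subtype).exists_le_sylow
    refine ⟨⟨⟨⟨fun y w => Subtype.ext (Subtype.ext ?_)⟩⟩, fun y hy => Subtype.ext ?_⟩, ?_⟩
    · exact (h.commute_mem T' (hT' ⟨y, y.2, rfl⟩) (hT' ⟨w, w.2, rfl⟩)).eq
    · simpa [pow_two] using h.sq T' (hT' ⟨y, hy, rfl⟩)
    · rw [R.card_eq_multiplicity, ← (T.subtype hTC).card_eq_multiplicity, Sylow.coe_subtype,
        Cores.card_subgroupOf hTC, (h.sylow T).2]
  obtain ⟨L, hL⟩ : ∃ L : Subgroup (C ⧸ O₀), Shape (f a') L := by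
    refine exists_shape (Cores.pPrimeCore_quotient_self 2) (fun R => ?_) hza hz2 ?_
    · obtain ⟨R', hR'⟩ := Sylow.mapSurjective_surjective hfs 2 R
      rw [← hR', Sylow.coe_mapSurjective]
      refine ⟨⟨⟨⟨?_⟩⟩, ?_⟩, ?_⟩
      · rintro ⟨_, y, hy, rfl⟩ ⟨_, w, hw, rfl⟩
        haveI := (hSb R').1.1
        exact Subtype.ext (by
          show f y * f w = f w * f y
          rw [← map_mul, ← map_mul, show y * w = w * y from
            congrArg Subtype.val (mul_comm' (⟨y, hy⟩ : (R' : Subgroup C)) ⟨w, hw⟩)])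
      · rintro _ ⟨y, hy, rfl⟩
        rw [← map_pow, (hSb R').1.2 y hy, map_one]
      · rw [← (hSb R').2]
        have hinj : Function.Injective (f.comp (R' : Subgroup C).subtype) :=
          (MonoidHom.ker_eq_bot_iff _).1 (eq_bot_iff.2 fun y hy => mem_bot.2 (Subtype.ext
            (hinv y (by rw [← pow_two]; exact (hSb R').1.2 y y.2) hy)))
        rw [Nat.card_congr (MonoidHom.ofInjective hinj).toEquiv, MonoidHom.range_comp, range_subtype]
    · intro hs
      haveI := hs
      haveI : Group.IsSolvable O₀ := OddOrderTheorem.solvable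
        (Nat.not_even_iff_odd.1 fun e => Cores.not_dvd_card_pPrimeCore (p := 2) (G := C) (even_iff_two_dvd.1 e))
      exact hns (Group.isSolvable_of_ker_le_range O₀.subtype f (by rw [QuotientGroup.ker_mk', range_subtype]))
  haveI := hL.normal
  haveI := hL.simple
  have hxD : x' ∈ D₀ := mem_subgroupOf.2 ⟨hxQ, hxC⟩
  have haD : a' ∈ D₀ := mem_subgroupOf.2 ⟨haQ, a'.2⟩
  -- `L` lies in `Db`
  have hLD : L ≤ Db := by
    rcases (inferInstance : (Db.subgroupOf L).Normal).eq_bot_or_eq_top with h1 | h1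
    · exfalso
      have hmemz : f x' ∈ zpowers (f a') := hL.cent ▸ mem_centralizer_iff.2 fun y hy =>
        (commute_of_normal_of_disjoint _ _ hL.normal hDb
          (disjoint_iff.2 (by rw [inf_comm]; exact disjoint_iff.1 (subgroupOf_eq_bot.1 h1)))
          y (f x') hy ⟨x', hxD, rfl⟩).eq
      have hxx : x' * x' = 1 := Subtype.ext hx2
      obtain ⟨i, hi⟩ := mem_zpowers_iff.1 hmemz
      rw [← zpow_mod_orderOf, hz2, Nat.cast_ofNat] at hi
      rcases Int.emod_two_eq_zero_or_one i with e | e <;> rw [e] at hi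
      · rw [zpow_zero] at hi
        exact hx1 (congrArg Subtype.val (hinv x' hxx hi.symm))
      · rw [zpow_one] at hi
        have hc : x' * a' = a' * x' := Subtype.ext (mem_centralizer_singleton_iff.1 hxC)
        have h2 : x' * a' = 1 := hinv _ (by
          rw [mul_assoc, ← mul_assoc a', ← hc, mul_assoc x' a' a', haa, mul_one, hxx])
          (by rw [map_mul, hi, ← map_mul, hxx, map_one])
        exact hxa (by
          have h3 := congrArg Subtype.val h2
          simp only [Subgroup.coe_mul, Subgroup.coe_one] at h3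
          have h4 : x * a = 1 := h3
          rw [eq_inv_of_mul_eq_one_left h4, Involution.inv_eq ha])
    · exact subgroupOf_eq_top.1 h1
  -- so `D` contains a Sylow 2-subgroup of `G`
  have h8 : 2 ^ 3 ∣ Nat.card D₀ := by
    have hle : ((S.subtype hSC : Sylow 2 C) : Subgroup C).map f ≤ Db := by
      rintro _ ⟨s, hs, rfl⟩
      rcases hL.decomp (f s) (by
        rw [← map_mul, show s * s = 1 from Subtype.ext (h.sq S hs), map_one]) with e | e
      · exact hLD e
      · have h2 := Db.mul_mem (hLD e) ⟨a', haD, rfl⟩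
        rwa [mul_assoc, ← map_mul, haa, map_one, mul_one] at h2
    have hinj : Function.Injective (f.comp ((S.subtype hSC : Sylow 2 C) : Subgroup C).subtype) :=
      (MonoidHom.ker_eq_bot_iff _).1 (eq_bot_iff.2 fun y hy => mem_bot.2 (Subtype.ext
        (hinv y (Subtype.ext (h.sq S y.2)) hy)))
    refine dvd_trans ?_ ((card_dvd_of_le hle).trans (D₀.card_map_dvd f))
    rw [← range_subtype ((S.subtype hSC : Sylow 2 C) : Subgroup C), ← MonoidHom.range_comp,
      ← Nat.card_congr (MonoidHom.ofInjective hinj).toEquiv, Sylow.coe_subtype,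
      Cores.card_subgroupOf hSC, (h.sylow S).2]
    norm_num
  rw [Cores.card_subgroupOf (inf_le_right : D ≤ C)] at h8
  obtain ⟨P⟩ : Nonempty (Sylow 2 D) := inferInstance
  obtain ⟨T₀, hT₀⟩ := (P.2.map D.subtype).exists_le_sylow
  have hPT : (P : Subgroup D).map D.subtype = (T₀ : Subgroup G) := by
    refine eq_of_le_of_card_ge hT₀ ?_
    rw [(h.sylow T₀).2, card_map_of_injective D.subtype_injective]
    exact Nat.le_of_dvd Nat.card_pos (P.pow_dvd_card_of_pow_dvd_card h8)
  have hT₀D : (T₀ : Subgroup G) ≤ D := hPT ▸ map_subtype_le _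
  obtain ⟨c, hc⟩ := MulAction.exists_smul_eq C (T₀.subtype (hT₀D.trans inf_le_right)) (T.subtype hTC)
  -- `T` centralises the conjugate of `Q₁`
  set Q₂ := Q₁.map (MulAut.conj (c : G)).toMonoidHom
  have hQ₂ : Signalizer.IsSylowIn r O Q₂ := by
    obtain ⟨Q₀, hQ₀⟩ := hQ₁.exists_sylow
    obtain ⟨Q₃, hQ₃⟩ := Coprime.exists_sylow_conj_eq (K := O) (hCO c.2) Q₀
    have : Q₂ = (Q₃ : Subgroup O).map O.subtype := by rw [hQ₃, hQ₀]; rfl
    rw [this]
    exact Signalizer.isSylowIn_of_sylow Q₃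
  have hTQ₂ : (T : Subgroup G) ≤ centralizer (Q₂ : Set G) := by
    intro s hs
    have h1 : (⟨s, hTC hs⟩ : C) ∈ ((T.subtype hTC : Sylow 2 C) : Subgroup C) := hs
    rw [← hc] at h1
    obtain ⟨s₀, hs₀, hse⟩ := h1
    refine mem_centralizer_iff.2 ?_
    rintro _ ⟨q, hq, rfl⟩
    have h2 : (c : G) * (s₀ : G) * (c : G)⁻¹ = s := congrArg Subtype.val hse
    show (c : G) * q * (c : G)⁻¹ * s = s * ((c : G) * q * (c : G)⁻¹)
    rw [← h2]
    calc (c : G) * q * (c : G)⁻¹ * ((c : G) * s₀ * (c : G)⁻¹) = (c : G) * (q * s₀) * (c : G)⁻¹ := by group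
      _ = (c : G) * (s₀ * q) * (c : G)⁻¹ := by
          rw [show q * (s₀ : G) = s₀ * q from mem_centralizer_iff.1 (hT₀D hs₀).1 q hq]
      _ = _ := by group
  obtain ⟨d, hdO, hdT, hd⟩ := Signalizer.exists_conj_invariant_sylow T.2 hOodd (hTC.trans hCO) hQ₂ hQ
    (hTQ₂.trans (centralizer_le_normalizer _)) hTQ
  intro s hs
  refine mem_centralizer_iff.2 ?_
  rw [← hd]
  rintro _ ⟨q, hq, rfl⟩
  have h1 : q * s = s * q := mem_centralizer_iff.1 (hTQ₂ hs) q hq
  have h2 : s * d = d * s := mem_centralizer_iff.1 hdT s hs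
  show d * q * d⁻¹ * s = s * (d * q * d⁻¹)
  calc d * q * d⁻¹ * s = d * q * (d⁻¹ * (s * d) * d⁻¹) := by group
    _ = d * q * (d⁻¹ * (d * s) * d⁻¹) := by rw [h2]
    _ = d * (q * s) * d⁻¹ := by group
    _ = d * (s * q) * d⁻¹ := by rw [h1]
    _ = (d * s) * q * d⁻¹ := by group
    _ = (s * d) * q * d⁻¹ := by rw [h2]
    _ = s * (d * q * d⁻¹) := by group

/-- **(B)**: balance. -/
theorem balance (h : Elem8 G) (IH : CoresTrivialBelow.{u} (Nat.card G))
    (hns : ∀ x : G, orderOf x = 2 → ¬ Group.IsSolvable ↥(centralizer ({x} : Set G))) {a b : G}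
    (ha : orderOf a = 2) (hb : orderOf b = 2) (hab : Commute a b) :
    Cfsg.centralizerPPrimeCore 2 b ⊓ centralizer ({a} : Set G) ≤ Cfsg.centralizerPPrimeCore 2 a := by
  haveI : Fact (Nat.Prime 2) := ⟨Nat.prime_two⟩
  rcases eq_or_ne a b with rfl | hne
  · exact inf_le_left
  obtain ⟨S, haS, hbS⟩ := exists_sylow_pair (Involution.mul_self ha) (Involution.mul_self hb) hab
  set C := centralizer ({a} : Set G)
  set O := Cfsg.centralizerPPrimeCore 2 a
  set Ob := Cfsg.centralizerPPrimeCore 2 b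
  set X := Ob ⊓ C
  have hSC : (S : Subgroup G) ≤ C := fun s hs =>
    mem_centralizer_singleton_iff.2 (h.commute_mem S hs haS).eq
  have hSb : (S : Subgroup G) ≤ centralizer ({b} : Set G) := fun s hs =>
    mem_centralizer_singleton_iff.2 (h.commute_mem S hs hbS).eq
  have hSOb : (S : Subgroup G) ≤ normalizer (Ob : Set G) :=
    hSb.trans (Signalizer.centralizer_le_normalizer_core b)
  have hObodd : ¬ 2 ∣ Nat.card Ob := Signalizer.not_dvd_card_core b
  have hXodd : ¬ 2 ∣ Nat.card X := Signalizer.not_dvd_card_of_le inf_le_left hObodd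
  have hSX : (S : Subgroup G) ≤ normalizer (X : Set G) :=
    Signalizer.le_normalizer_inf hSOb (hSC.trans le_normalizer)
  set O₀ := Cfsg.oddCore C
  haveI : O₀.Normal := Cores.pPrimeCore_normal 2 C
  set f := QuotientGroup.mk' O₀
  have hfs : Function.Surjective f := QuotientGroup.mk'_surjective O₀
  set Xb := (X.subgroupOf C).map f
  -- every Sylow subgroup of `X` is in `O` or centralised by `S`
  have hsyl : ∀ r : ℕ, r.Prime → ∃ R, Signalizer.IsSylowIn r X R ∧
      (R ≤ O ∨ (S : Subgroup G) ≤ centralizer (R : Set G)) := by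
    intro r hr
    haveI := Fact.mk hr
    obtain ⟨R, hR, hSR⟩ := Signalizer.exists_invariant_sylow (q := r) S.2 X hXodd hSX
    refine ⟨R, hR, ?_⟩
    by_cases hm : Moved r a
    · exact Or.inl (le_core_of_moved h IH ha hb (hns a ha) hm hR.2.1 hR.1)
    right
    obtain ⟨Qb, hQb, hSQb, hRQb⟩ := Signalizer.exists_invariant_sylow_ge (q := r) S.2 hObodd hSOb
      (hR.1.trans inf_le_left) hR.2.1 hSR
    obtain ⟨g, hg⟩ := h.one_class hb ha
    have hga : a ∈ ((g • S : Sylow 2 G) : Subgroup G) := ⟨b, hbS, hg⟩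
    set Q := Qb.map (MulAut.conj g).toMonoidHom
    have hmapO : Ob.map (MulAut.conj g).toMonoidHom = O := by
      rw [Signalizer.map_conj_centralizerPPrimeCore, hg]
    have hQ : Signalizer.IsSylowIn r O Q := by
      refine ⟨hmapO ▸ map_mono hQb.1, hQb.2.1.map _, ?_⟩
      rw [← hmapO, relIndex_map_map_of_injective _ _ (MulAut.conj g).injective]
      exact hQb.2.2
    have hgQ : ((g • S : Sylow 2 G) : Subgroup G) ≤ normalizer (Q : Set G) := by
      rintro _ ⟨s, hs, rfl⟩
      exact le_normalizer_map _ ⟨s, hSQb hs, rfl⟩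
    have hcent := le_centralizer_of_not_moved h ha (hns a ha) hm hga hQ hgQ
    intro s hs
    refine mem_centralizer_iff.2 fun q hq => ?_
    exact (MulAut.conj g).injective (by
      rw [map_mul, map_mul]
      exact mem_centralizer_iff.1 (hcent ⟨s, hs, rfl⟩) _ ⟨q, hRQb hq, rfl⟩)
  -- the image of `X` is centralised by that of `S`
  have hXS : ∀ x : C, (x : G) ∈ X → ∀ s : C, (s : G) ∈ (S : Subgroup G) → Commute (f x) (f s) := by
    set P := (((S : Subgroup G).subgroupOf C).map f)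
    set Z : Subgroup C := X.subgroupOf C ⊓ (centralizer (P : Set (C ⧸ O₀))).comap f
    have hXC : X ≤ C := inf_le_right
    have hle : Nat.card (X.subgroupOf C) ∣ Nat.card Z := by
      rw [Nat.dvd_iff_prime_pow_dvd_dvd]
      intro r k hr hk
      haveI := Fact.mk hr
      obtain ⟨R, hR, hcase⟩ := hsyl r hr
      obtain ⟨R₀, hR₀⟩ := hR.exists_sylow
      rw [Cores.card_subgroupOf hXC] at hk
      have h1 : r ^ k ∣ Nat.card R := by
        rw [← hR₀, Cores.card_map_subtype]
        exact R₀.pow_dvd_card_of_pow_dvd_card hk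
      refine h1.trans ?_
      rw [← Cores.card_subgroupOf (hR.1.trans hXC)]
      refine card_dvd_of_le fun y hy => ⟨hR.1 (mem_subgroupOf.1 hy), ?_⟩
      show f y ∈ centralizer (P : Set (C ⧸ O₀))
      refine mem_centralizer_iff.2 ?_
      rintro _ ⟨s, hs, rfl⟩
      rcases hcase with hc | hc
      · have hy1 : f y = 1 := by
          refine (QuotientGroup.eq_one_iff y).2 ?_
          obtain ⟨y', hy', e⟩ := hc (mem_subgroupOf.1 hy)
          exact (Subtype.ext e : y' = y) ▸ hy'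
        rw [hy1, one_mul, mul_one]
      · rw [← map_mul, ← map_mul, show s * y = y * s from
          Subtype.ext (mem_centralizer_iff.1 (hc hs) _ (mem_subgroupOf.1 hy)).symm]
    intro x hx s hs
    have heq : Z = X.subgroupOf C := eq_of_le_of_card_ge inf_le_left (Nat.le_of_dvd Nat.card_pos hle)
    have hxZ : x ∈ Z := heq ▸ mem_subgroupOf.2 hx
    exact (mem_centralizer_iff.1 hxZ.2 (f s) ⟨s, hs, rfl⟩).symm
  set a' : C := ⟨a, hSC haS⟩
  set b' : C := ⟨b, hSC hbS⟩
  have hinv : ∀ y : C, y * y = 1 → f y = 1 → y = 1 := fun y hy hfy => by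
    by_contra hy1
    have h0 : y ∈ Cfsg.pPrimeCore 2 C := (QuotientGroup.eq_one_iff y).1 hfy
    have h2 := Subgroup.orderOf_dvd_natCard _ h0
    rw [Involution.orderOf_of_sq hy hy1] at h2
    exact Cores.not_dvd_card_pPrimeCore (p := 2) (G := C) h2
  have haa : a' * a' = 1 := Subtype.ext (Involution.mul_self ha)
  have hbb : b' * b' = 1 := Subtype.ext (Involution.mul_self hb)
  have hz2 : orderOf (f a') = 2 := Involution.orderOf_of_sq (by rw [← map_mul, haa, map_one])
    fun e => Involution.ne_one ha (congrArg Subtype.val (hinv a' haa e))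
  have hza : f a' ∈ center (C ⧸ O₀) := mem_center_iff.2 fun w => by
    obtain ⟨c, rfl⟩ := hfs w
    rw [← map_mul, ← map_mul, show c * a' = a' * c from Subtype.ext (mem_centralizer_singleton_iff.1 c.2)]
  have hSX' : ∀ R : Sylow 2 (C ⧸ O₀),
      Cfsg.IsElementaryAbelian 2 (R : Subgroup (C ⧸ O₀)) ∧ Nat.card (R : Subgroup (C ⧸ O₀)) = 8 := by
    intro R
    obtain ⟨R', hR'⟩ := Sylow.mapSurjective_surjective hfs 2 R
    obtain ⟨T', hT'⟩ := (R'.2.map C.subtype).exists_le_sylow
    rw [← hR', Sylow.coe_mapSurjective]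
    refine ⟨⟨⟨⟨?_⟩⟩, ?_⟩, ?_⟩
    · rintro ⟨_, y, hy, rfl⟩ ⟨_, w, hw, rfl⟩
      exact Subtype.ext (by
        show f y * f w = f w * f y
        rw [← map_mul, ← map_mul, show y * w = w * y from
          Subtype.ext (h.commute_mem T' (hT' ⟨y, hy, rfl⟩) (hT' ⟨w, hw, rfl⟩)).eq])
    · rintro _ ⟨y, hy, rfl⟩
      rw [← map_pow, pow_two, show y * y = 1 from Subtype.ext (h.sq T' (hT' ⟨y, hy, rfl⟩)), map_one]
    · have hinj : Function.Injective (f.comp (R' : Subgroup C).subtype) :=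
        (MonoidHom.ker_eq_bot_iff _).1 (eq_bot_iff.2 fun y hy => mem_bot.2 (Subtype.ext
          (hinv y (Subtype.ext (h.sq T' (hT' ⟨_, y.2, rfl⟩))) hy)))
      rw [← range_subtype (R' : Subgroup C), ← MonoidHom.range_comp,
        ← Nat.card_congr (MonoidHom.ofInjective hinj).toEquiv, R'.card_eq_multiplicity,
        ← (S.subtype hSC).card_eq_multiplicity, Sylow.coe_subtype, Cores.card_subgroupOf hSC, (h.sylow S).2]
  have hnsq : ¬ Group.IsSolvable (C ⧸ O₀) := fun hs => by
    haveI := hs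
    haveI : Group.IsSolvable O₀ := OddOrderTheorem.solvable
      (Nat.not_even_iff_odd.1 fun e => Cores.not_dvd_card_pPrimeCore (p := 2) (G := C) (even_iff_two_dvd.1 e))
    exact hns a ha (Group.isSolvable_of_ker_le_range O₀.subtype f (by rw [QuotientGroup.ker_mk', range_subtype]))
  obtain ⟨L, hL⟩ := exists_shape (Cores.pPrimeCore_quotient_self 2) hSX' hza hz2 hnsq
  haveI := hL.normal
  set Sb : Sylow 2 (C ⧸ O₀) := (S.subtype hSC).mapSurjective hfs
  have hmemSb : ∀ s : C, (s : G) ∈ (S : Subgroup G) → f s ∈ (Sb : Subgroup (C ⧸ O₀)) := fun s hs => by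
    rw [Sylow.coe_mapSurjective]; exact ⟨s, hs, rfl⟩
  have hXbodd : ∀ y : C ⧸ O₀, y ∈ Xb → Odd (orderOf y) := fun y hy => by
    refine Nat.not_even_iff_odd.1 fun e => hXodd ((even_iff_two_dvd.1 e).trans ?_)
    refine (Subgroup.orderOf_dvd_natCard Xb hy).trans (((X.subgroupOf C).card_map_dvd f).trans ?_)
    rw [Cores.card_subgroupOf (inf_le_right : X ≤ C)]
  intro x hx
  set x' : C := ⟨x, hx.2⟩
  have hx1 : f x' = 1 := by
    refine hL.eq_one hz2 hza (hXbodd _ ⟨x', mem_subgroupOf.2 hx, rfl⟩) (S := Sb) (b := f b')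
      (hmemSb b' hbS) (hmemSb a' haS) (by rw [← map_mul, hbb, map_one])
      (fun e => Involution.ne_one hb (congrArg Subtype.val (hinv b' hbb e))) (fun e => hne ?_) ?_
    · have hc : a' * b' = b' * a' := Subtype.ext hab.eq
      have h2 : b' * a' = 1 := hinv _ (by
        rw [mul_assoc, ← mul_assoc a', hc, mul_assoc b' a' a', haa, mul_one, hbb])
        (by rw [map_mul, e, ← map_mul, haa, map_one])
      have h3 := congrArg Subtype.val h2
      simp only [Subgroup.coe_mul, Subgroup.coe_one] at h3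
      have h4 : b * a = 1 := h3
      rw [eq_inv_of_mul_eq_one_left h4, Involution.inv_eq ha]
    intro l hl hlb
    -- lift `l` to `C(a) ⊓ C(b)`, which normalises `X`
    obtain ⟨k, rfl⟩ := hfs l
    obtain ⟨o, ho, hox⟩ := Constrained.exists_mul_mem_centralizer (p := 2)
      (O := O₀) (T := zpowers b') Cores.not_dvd_card_pPrimeCore
      (IsPGroup.of_card (n := 1) (by rw [Nat.card_zpowers, pow_one, orderOf_mk, hb])) (x := k) (fun v hv => by
        obtain ⟨i, rfl⟩ := mem_zpowers_iff.1 hv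
        rw [← QuotientGroup.eq_one_iff, ← QuotientGroup.mk'_apply, map_mul, map_mul, map_mul,
          map_inv, map_inv, map_zpow, (hlb.zpow_right i).eq, mul_inv_cancel_right, mul_inv_cancel])
    set c := o * k
    have hfc : f c = f k := by rw [map_mul, show f o = 1 from (QuotientGroup.eq_one_iff o).2 ho, one_mul]
    have hcX : (c : G) ∈ normalizer (X : Set G) := by
      refine Signalizer.le_normalizer_inf (A := zpowers (c : G)) (zpowers_le.2 ?_)
        (zpowers_le.2 (le_normalizer c.2)) (mem_zpowers _)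
      exact Signalizer.centralizer_le_normalizer_core b (mem_centralizer_singleton_iff.2
        (congrArg Subtype.val (mem_centralizer_iff.1 hox b' (mem_zpowers b')).symm))
    set w := f x' * f c * (f x')⁻¹ * (f c)⁻¹
    have hwL : w ∈ L := L.mul_mem (hfc.symm ▸ hL.normal.conj_mem _ hl (f x')) (L.inv_mem (hfc.symm ▸ hl))
    set w' : C := x' * c * x'⁻¹ * c⁻¹
    have hw' : f w' = w := by simp only [w', w, map_mul, map_inv]
    have hw'X : (w' : G) ∈ X := by
      have h1 : (c : G) * (x : G)⁻¹ * (c : G)⁻¹ ∈ X :=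
        (mem_normalizer_iff.1 hcX _).1 (X.inv_mem hx)
      show x * (c : G) * x⁻¹ * (c : G)⁻¹ ∈ X
      rw [show x * (c : G) * x⁻¹ * (c : G)⁻¹ = x * ((c : G) * x⁻¹ * (c : G)⁻¹) by group]
      exact X.mul_mem hx h1
    have hwS : w ∈ (Sb : Subgroup (C ⧸ O₀)) := hL.self_cent Sb hwL fun s hs _ => by
      rw [Sylow.coe_mapSurjective] at hs
      obtain ⟨s', hs', rfl⟩ := hs
      rw [← hw']
      exact hXS w' hw'X s' hs'
    have hw1 : w = 1 := by
      obtain ⟨j, hj⟩ := IsPGroup.iff_orderOf.1 Sb.2 ⟨w, hwS⟩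
      rw [orderOf_mk] at hj
      refine orderOf_eq_one_iff.1 (Nat.eq_one_of_dvd_coprimes ?_ dvd_rfl (hj ▸ dvd_rfl : orderOf w ∣ 2 ^ j))
      exact (Nat.coprime_two_right.2 (hXbodd w ⟨w', mem_subgroupOf.2 hw'X, hw'⟩)).pow_right j
    rw [← hfc]
    exact mul_inv_eq_iff_eq_mul.1 (mul_inv_eq_one.1 hw1)
  exact ⟨x', (QuotientGroup.eq_one_iff x').1 hx1, rfl⟩

end Cfsg.Agent.AbelianSylow.Core
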