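import Cfsg.Agent.Lib.Bender.RankOneHalf
import Cfsg.Agent.Lib.Bender.Consumers
import Cfsg.Agent.Lib.ZStar.KleinSimple
import Cfsg.Agent.Lib.Transfer.DihedralFusion
import Cfsg.Agent.Lib.GWKlein.General.Main
import Cfsg.Agent.Lib.PSL2.Klein

/-!
# Automorphisms fixing a centraliser of an involution (owner: helper4; see `CORE.md`, (F))

* `isStronglyEmbedded_of` : criterion for an abelian Sylow 2-subgroup
* `eq_one_of_fixed_stronglyEmbedded` : an odd automorphism fixing a strongly embedded subgroup is trivial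
* `klein_self_centralizing` : `C(V) = V` in a simple group with Klein four Sylow 2-subgroup `V`
* `klein_aut_eq_one` : an odd automorphism fixing the centraliser of an involution is trivial
-/

set_option autoImplicit false
set_option linter.style.haveILetI false

namespace Cfsg.Agent.AbelianSylow.Core

open Subgroup
open scoped Pointwise

universe u

variable {G : Type u} [Group G] [Finite G]

/-- A proper subgroup with `N(P)` and the centralisers of the involutions of the abelian Sylow
2-subgroup `P` is strongly embedded. -/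
theorem isStronglyEmbedded_of (P : Sylow 2 G) [IsMulCommutative (P : Subgroup G)]
    (hP : (P : Subgroup G) ≠ ⊥) {M : Subgroup G} (hne : M ≠ ⊤)
    (hN : normalizer ((P : Subgroup G) : Set G) ≤ M)
    (hC : ∀ x ∈ (P : Subgroup G), orderOf x = 2 → centralizer ({x} : Set G) ≤ M) :
    Cfsg.IsStronglyEmbedded M := by
  haveI : Fact (Nat.Prime 2) := ⟨Nat.prime_two⟩
  have hPM : (P : Subgroup G) ≤ M := le_normalizer.trans hN
  have heven : Even (Nat.card M) := by
    refine even_iff_two_dvd.2 (dvd_trans ?_ (card_dvd_of_le hPM))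
    obtain ⟨k, hk⟩ := IsPGroup.iff_card.1 P.isPGroup'
    rw [hk]
    refine dvd_pow_self 2 ?_
    rintro rfl
    exact hP (card_eq_one.1 (by simpa using hk))
  refine Involution.isStronglyEmbedded_of_normalizers hne heven fun X hXM hX hX1 => ?_
  obtain ⟨R, hR⟩ := (hX.comap_of_injective M.subtype M.subtype_injective).exists_le_sylow
  obtain ⟨m, hm⟩ := MulAction.exists_smul_eq M R (P.subtype hPM)
  have hXP : ∀ x ∈ X, (m : G) * x * (m : G)⁻¹ ∈ (P : Subgroup G) := fun x hx => by
    have h1 : m * ⟨x, hXM hx⟩ * m⁻¹ ∈ (P.subtype hPM : Sylow 2 M) := by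
      rw [← hm]
      exact ⟨⟨x, hXM hx⟩, hR (show (⟨x, hXM hx⟩ : M) ∈ X.comap M.subtype from hx), rfl⟩
    exact h1
  haveI : Nontrivial X := (nontrivial_iff_ne_bot X).2 hX1
  obtain ⟨⟨x₀, hx₀⟩, hx₀2⟩ := exists_prime_orderOf_dvd_card' 2
    ((hX.nontrivial_iff_card.1 inferInstance).elim fun n hn => by
      rw [hn.2]; exact dvd_pow_self 2 (by omega) : 2 ∣ Nat.card X)
  rw [orderOf_mk] at hx₀2
  intro y hy
  -- `y' = m y m⁻¹` normalises `m X m⁻¹ ≤ P`
  set y' := (m : G) * y * (m : G)⁻¹ with hy'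
  set x := (m : G) * x₀ * (m : G)⁻¹ with hx
  have hx2 : orderOf x = 2 := by rw [hx, Involution.orderOf_conj, hx₀2]
  have hxP : x ∈ (P : Subgroup G) := hXP x₀ hx₀
  have hyx : y'⁻¹ * x * y' ∈ (P : Subgroup G) := by
    have h1 : y⁻¹ * x₀ * y ∈ X := by
      simpa using (mem_normalizer_iff.1 (inv_mem hy) x₀).1 hx₀
    have h2 := hXP _ h1
    rw [hy', hx]
    convert h2 using 1
    group
  have hyP : ∀ p ∈ (P : Subgroup G), y' * p * y'⁻¹ ∈ M := fun p hp => by
    refine hC x hxP hx2 (mem_centralizer_singleton_iff.2 ?_)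
    have hc : p * (y'⁻¹ * x * y') = (y'⁻¹ * x * y') * p :=
      congrArg Subtype.val (mul_comm' (⟨p, hp⟩ : (P : Subgroup G)) ⟨_, hyx⟩)
    calc y' * p * y'⁻¹ * x = y' * (p * (y'⁻¹ * x * y')) * y'⁻¹ := by group
      _ = y' * (y'⁻¹ * x * y' * p) * y'⁻¹ := by rw [hc]
      _ = x * (y' * p * y'⁻¹) := by group
  have hyPM : ((y' • P : Sylow 2 G) : Subgroup G) ≤ M := by
    rintro _ ⟨p, hp, rfl⟩
    exact hyP p hp
  obtain ⟨m', hm'⟩ := MulAction.exists_smul_eq M (P.subtype hPM) ((y' • P).subtype hyPM)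
  have hnorm : (m' : G)⁻¹ * y' ∈ normalizer ((P : Subgroup G) : Set G) := by
    refine Coprime.mem_normalizer_of_forall fun p hp => ?_
    have h1 : (⟨y' * p * y'⁻¹, hyP p hp⟩ : M) ∈ ((y' • P).subtype hyPM : Sylow 2 M) :=
      (⟨p, hp, rfl⟩ : y' * p * y'⁻¹ ∈ ((y' • P : Sylow 2 G) : Subgroup G))
    rw [← hm'] at h1
    obtain ⟨q, hq, hqe⟩ := h1
    have h2 : (m' : G) * (q : G) * (m' : G)⁻¹ = y' * p * y'⁻¹ := congrArg Subtype.val hqe
    have h3 : (m' : G)⁻¹ * y' * p * ((m' : G)⁻¹ * y')⁻¹ = q := by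
      rw [show (m' : G)⁻¹ * y' * p * ((m' : G)⁻¹ * y')⁻¹ = (m' : G)⁻¹ * (y' * p * y'⁻¹) * m' by group,
        ← h2]
      group
    rw [h3]; exact hq
  have hy'M : y' ∈ M := by simpa using M.mul_mem m'.2 (hN hnorm)
  have := M.mul_mem (M.mul_mem (M.inv_mem m.2) hy'M) m.2
  simpa [hy', mul_assoc] using this

/-- An automorphism of odd order fixing a strongly embedded subgroup pointwise is trivial. -/
theorem eq_one_of_fixed_stronglyEmbedded [IsSimpleGroup G] {M : Subgroup G}
    (hM : Cfsg.IsStronglyEmbedded M) (α : MulAut G) (hα : Odd (orderOf α))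
    (hfix : ∀ x ∈ M, α x = x) : α = 1 := by
  haveI : Fact (Nat.Prime 2) := ⟨Nat.prime_two⟩
  have hcore := Bender.normalCore_of_simple hM
  have h2 := SuzukiRankOne.two_involutions_of_simple hM
  obtain ⟨t, Q, h⟩ := Bender.rankOneHalf G M hM hcore h2
  haveI := Bender.faithful_of_normalCore hcore
  obtain ⟨hQ2, -, -⟩ := Bender.sylow_normal h h2
  have hst : MulAction.stabilizer G ((1 : G) : G ⧸ M) = M := MulAction.stabilizer_quotient M
  have hQM : Q ≤ M := hst ▸ h.le
  have hinv : ∀ g : G, α g ∈ M → g ∈ M := fun g hg => by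
    have := hfix _ hg
    rwa [← α.injective this]
  have key : ∀ g : G, g⁻¹ * α g ∈ M := by
    intro g
    by_cases hgM : g ∈ M
    · rw [hfix g hgM, inv_mul_cancel]; exact M.one_mem
    set a : G ⧸ M := ((1 : G) : G ⧸ M) with ha
    have hne : ∀ g' : G, g' ∉ M → (g' : G ⧸ M) ≠ a := fun g' hg' e => hg' (by
      rw [ha, QuotientGroup.eq, mul_one] at e
      simpa using M.inv_mem e)
    obtain ⟨⟨x, hxQ⟩, hx, -⟩ := RankOne.Setup.regular h (hne g hgM) (hne (α g) fun e => hgM (hinv g e))
    change x • (g : G ⧸ M) = (α g : G ⧸ M) at hx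
    rw [MulAction.Quotient.smul_mk, smul_eq_mul, QuotientGroup.eq] at hx
    have hpow : ∀ k : ℕ, ((α ^ k) g)⁻¹ * (x ^ k * g) ∈ M := by
      intro k
      induction k with
      | zero => simp
      | succ k ih =>
        have h1 : ((α ^ (k + 1)) g)⁻¹ * (x ^ k * α g) ∈ M := by
          have e : α (((α ^ k) g)⁻¹ * (x ^ k * g)) = ((α ^ (k + 1)) g)⁻¹ * (x ^ k * α g) := by
            rw [map_mul, map_mul, map_inv, map_pow, hfix x (hQM hxQ), pow_succ', MulAut.mul_apply]
          rw [← e, hfix _ ih]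
          exact ih
        have h2 : (α g)⁻¹ * (x * g) ∈ M := by simpa [mul_assoc] using M.inv_mem hx
        have := M.mul_mem h1 h2
        rw [pow_succ x]
        convert this using 1
        group
    have hk := hpow (orderOf α)
    rw [pow_orderOf_eq_one, MulAut.one_apply] at hk
    have hxfix : x ^ orderOf α = 1 :=
      RankOne.Setup.eq_one_of_fix h (Q.pow_mem hxQ _) (hne g hgM) (by
        rw [MulAction.Quotient.smul_mk, smul_eq_mul, QuotientGroup.eq]
        simpa [mul_assoc] using M.inv_mem hk)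
    have hx1 : x = 1 := by
      obtain ⟨j, hj⟩ := hQ2 ⟨x, hxQ⟩
      have h1 : orderOf x ∣ 2 ^ j := orderOf_dvd_of_pow_eq_one (congrArg Subtype.val hj)
      exact orderOf_eq_one_iff.1 (Nat.eq_one_of_dvd_coprimes
        ((Nat.coprime_two_left.2 hα).pow_left j) h1 (orderOf_dvd_of_pow_eq_one hxfix))
    rw [hx1, one_mul] at hx
    exact hx
  refine MulEquiv.ext fun y => ?_
  have hmem : y⁻¹ * α y ∈ M.normalCore := fun g => by
    have h1 := key (y * g⁻¹)
    have h2 := key g⁻¹
    rw [inv_inv] at h2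
    rw [map_mul, mul_inv_rev, inv_inv] at h1
    have := M.mul_mem h1 (M.inv_mem h2)
    convert this using 1
    simp [mul_assoc]
  rw [hcore, mem_bot, inv_mul_eq_one] at hmem
  exact hmem.symm

/-- In a simple group with a Klein four Sylow 2-subgroup, that subgroup is self-centralising. -/
theorem klein_self_centralizing [IsSimpleGroup G] (hna : ¬ IsMulCommutative G) (P : Sylow 2 G)
    (hP : IsKleinFour ↥(P : Subgroup G)) :
    centralizer ((P : Subgroup G) : Set G) ≤ (P : Subgroup G) := by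
  haveI := hP
  haveI : IsMulCommutative (P : Subgroup G) := IsKleinFour.isMulCommutative
  obtain ⟨F, _, _, hodd, ⟨e⟩⟩ := GWKlein.kleinGW G inferInstance hna P hP
  rw [← Nat.card_eq_fintype_card] at hodd
  set V := (P : Subgroup G).map e.toMonoidHom
  have hV : IsKleinFour V := Transfer.isKleinFour_map e.injective hP
  obtain ⟨a, b, ha1, hb1, hne⟩ : ∃ a b : V, a ≠ 1 ∧ b ≠ 1 ∧ a ≠ b := by
    classical
    let := Fintype.ofFinite V
    have hc : Fintype.card {v : V // v ≠ 1} = 3 := by
      rw [Fintype.card_subtype_compl, Fintype.card_subtype_eq, ← Nat.card_eq_fintype_card,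
        hV.card_four]
    obtain ⟨a, b, hab⟩ := Fintype.exists_pair_of_one_lt_card (α := {v : V // v ≠ 1}) (by omega)
    exact ⟨a, b, a.2, b.2, fun h => hab (Subtype.ext h)⟩
  have h2 : (2 : F) ≠ 0 := PSL2.two_ne_zero_iff_odd.2 hodd
  have hc := PSL2.card_centralizer_klein h2 hV a.2 b.2 (fun h => ha1 (Subtype.ext h))
    (fun h => hb1 (Subtype.ext h)) (fun h => hne (Subtype.ext h))
  set ψ := (Matrix.ProjectiveSpecialLinearGroup.toPGL :
    PSL2.PSL2 F →* PSL2.PGL2 F).comp e.toMonoidHom with hψ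
  have hψi : Function.Injective ψ :=
    Matrix.ProjectiveSpecialLinearGroup.toPGL_injective.comp e.injective
  set C := centralizer ((P : Subgroup G) : Set G)
  have hCV : C.map ψ ≤ centralizer ({Matrix.ProjectiveSpecialLinearGroup.toPGL (a : PSL2.PSL2 F),
      Matrix.ProjectiveSpecialLinearGroup.toPGL (b : PSL2.PSL2 F)} : Set (PSL2.PGL2 F)) := by
    rintro _ ⟨c, hc', rfl⟩
    refine mem_centralizer_iff.2 ?_
    obtain ⟨a', ha', hae⟩ := a.2
    obtain ⟨b', hb', hbe⟩ := b.2
    rintro z (rfl | rfl)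
    · rw [← hae]
      show ψ a' * ψ c = ψ c * ψ a'
      rw [← map_mul, ← map_mul, mem_centralizer_iff.1 hc' a' ha']
    · rw [← hbe]
      show ψ b' * ψ c = ψ c * ψ b'
      rw [← map_mul, ← map_mul, mem_centralizer_iff.1 hc' b' hb']
  haveI : Finite (PSL2.PGL2 F) := Finite.of_surjective _ Matrix.ProjGenLinGroup.mk_surjective
  have hle : (P : Subgroup G) ≤ C := fun x hx => mem_centralizer_iff.2 fun y hy =>
    congrArg Subtype.val (mul_comm' (⟨y, hy⟩ : (P : Subgroup G)) ⟨x, hx⟩)
  have h4 : Nat.card C ≤ Nat.card (P : Subgroup G) := by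
    rw [hP.card_four, ← hc, ← card_map_of_injective (K := C) hψi]
    exact card_le_of_le hCV
  exact (eq_of_le_of_card_ge hle h4).ge

/-- **(F)**: an automorphism of odd order fixing the centraliser of an involution pointwise is trivial. -/
theorem klein_aut_eq_one [IsSimpleGroup G] (hna : ¬ IsMulCommutative G) (P : Sylow 2 G)
    (hP : IsKleinFour ↥(P : Subgroup G)) (α : MulAut G) (hα : Odd (orderOf α)) {v : G}
    (hv : v ∈ (P : Subgroup G)) (hv1 : v ≠ 1)
    (hfix : ∀ c : G, Commute c v → α c = c) : α = 1 := by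
  haveI : Fact (Nat.Prime 2) := ⟨Nat.prime_two⟩
  haveI := hP
  haveI : IsMulCommutative (P : Subgroup G) := IsKleinFour.isMulCommutative
  let M : Subgroup G := α.toMonoidHom.eqLocus (MonoidHom.id G)
  have hsq : ∀ {x : G}, x ∈ (P : Subgroup G) → x * x = 1 := fun {x} hx => by
    have h := Monoid.pow_exponent_eq_one (⟨x, hx⟩ : (P : Subgroup G))
    rw [hP.exponent_two, pow_two] at h
    exact congrArg Subtype.val h
  have hcomm : ∀ {x y : G}, x ∈ (P : Subgroup G) → y ∈ (P : Subgroup G) → Commute x y :=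
    fun {x y} hx hy => congrArg Subtype.val (mul_comm' (⟨x, hx⟩ : (P : Subgroup G)) ⟨y, hy⟩)
  have hPfix : ∀ x ∈ (P : Subgroup G), α x = x := fun x hx => hfix x (hcomm hx hv)
  have hN : normalizer ((P : Subgroup G) : Set G) ≤ M := by
    intro g hg
    set c := g⁻¹ * α g
    have hcP : c ∈ (P : Subgroup G) := klein_self_centralizing hna P hP (mem_centralizer_iff.2 fun x hx => by
      have h1 : α (g * x * g⁻¹) = g * x * g⁻¹ := hPfix _ ((mem_normalizer_iff.1 hg x).1 hx)
      rw [map_mul, map_mul, map_inv, hPfix x hx] at h1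
      calc x * (g⁻¹ * α g) = g⁻¹ * (g * x * g⁻¹) * α g := by group
        _ = g⁻¹ * (α g * x * (α g)⁻¹) * α g := by rw [h1]
        _ = g⁻¹ * α g * x := by group)
    have hpow : ∀ k : ℕ, (α ^ k) g = g * c ^ k := by
      intro k
      induction k with
      | zero => simp
      | succ k ih =>
        rw [pow_succ', MulAut.mul_apply, ih, map_mul, map_pow, hPfix c hcP, pow_succ',
          ← mul_assoc g c, show g * c = α g by simp [c]]
    have h1 := hpow (orderOf α)
    rw [pow_orderOf_eq_one, MulAut.one_apply, left_eq_mul] at h1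
    obtain ⟨j, hj⟩ := hα
    rw [hj, pow_succ, pow_mul, pow_two, hsq hcP, one_pow, one_mul] at h1
    show α g = g
    rw [inv_mul_eq_one] at h1
    exact h1.symm
  have hC : ∀ x ∈ (P : Subgroup G), orderOf x = 2 → centralizer ({x} : Set G) ≤ M := by
    intro x hx hx2 c hc
    have hv2 : orderOf v = 2 := orderOf_eq_prime (by rw [pow_two]; exact hsq hv) hv1
    obtain ⟨g, hg⟩ := isConj_iff.1 (KleinSimple.isConj_involutions P hv2 hx2)
    obtain ⟨n, hn, hnv⟩ := Transfer.normalizer_control_of_comm P v hv g (hg ▸ hx)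
    rw [hg] at hnv
    have h1 : Commute (n⁻¹ * c * n) v := by
      have := (show Commute c x from mem_centralizer_singleton_iff.1 hc).map
        (MulAut.conj n⁻¹).toMonoidHom
      have e : n⁻¹ * x * n = v := by rw [← hnv]; group
      simpa [e] using this
    have h2 : n⁻¹ * c * n ∈ M := hfix _ h1
    have h3 := M.mul_mem (M.mul_mem (hN hn) h2) (M.inv_mem (hN hn))
    simpa [mul_assoc] using h3
  by_cases hM : M = ⊤
  · exact MulEquiv.ext fun g => (hM.ge (mem_top g) : g ∈ M)
  have hne : (P : Subgroup G) ≠ ⊥ := fun e => by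
    have := hP.card_four
    rw [e, Subgroup.card_bot] at this
    omega
  exact eq_one_of_fixed_stronglyEmbedded (isStronglyEmbedded_of P hne hM hN hC) α hα fun x hx => hx

end Cfsg.Agent.AbelianSylow.Core
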