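import Cfsg.Agent.Lib.AbelianSylow.Cent.CoreShape
import Cfsg.Agent.Lib.AbelianSylow.Cent.CoreBasic
import Cfsg.Agent.Lib.Constrained.Basic
import Cfsg.Agent.Lib.Coprime.Invariant
import Cfsg.Agent.Lib.Signalizer.Basic
import Cfsg.Agent.Lib.Signalizer.Core
import Cfsg.Agent.Lib.ZStar.Unique

/-!
# Proper subgroups covering `C(t)/O(C(t))` (owner: helper4; see `CORE.md`, (L))

* `CoresTrivialBelow n` : the induction hypothesis
* `eq_bot_of_normal_in_centralizer` : in a core-free group with Sylow 2-subgroups elementary of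
  order 8, an odd normal subgroup of a non-solvable involution centraliser is trivial
* `core_inf_le` : `O(C t) ⊓ H ≤ O(H)` for proper `H` covering `C(t)/O(C t)`
-/

set_option autoImplicit false
set_option linter.style.haveILetI false

namespace Cfsg.Agent.AbelianSylow.Core

open Subgroup
open scoped Pointwise

universe u

/-- The induction hypothesis: cores vanish in groups of order less than `n`. -/
def CoresTrivialBelow (n : ℕ) : Prop :=
  ∀ (K : Type u) [Group K] [Finite K], Elem8 K → Nat.card K < n → ∀ x : K, orderOf x = 2 →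
    ¬ Group.IsSolvable ↥(centralizer ({x} : Set K)) → Cfsg.centralizerPPrimeCore 2 x = ⊥

section Ambient

variable {X : Type u} [Group X] [Finite X]

/-- A centraliser conjugate into a solvable subgroup is solvable. -/
theorem solvable_centralizer_of_conj_le {E : Subgroup X} (hE : Group.IsSolvable E) {z g : X}
    (h : centralizer ({g⁻¹ * z * g} : Set X) ≤ E) :
    Group.IsSolvable ↥(centralizer ({z} : Set X)) := by
  haveI := hE
  haveI : Group.IsSolvable ↥(centralizer ({g⁻¹ * z * g} : Set X)) :=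
    Group.isSolvable_of_isSolvable_injective (inclusion_injective h)
  refine Group.isSolvable_of_surjective
    (f := ((MulAut.conj g).toMonoidHom.comp (centralizer ({g⁻¹ * z * g} : Set X)).subtype).codRestrict
      (centralizer ({z} : Set X)) fun c => mem_centralizer_singleton_iff.2 ?_) fun y => ?_
  · have := (show Commute (c : X) (g⁻¹ * z * g) from mem_centralizer_singleton_iff.1 c.2).map
      (MulAut.conj g).toMonoidHom
    simpa [mul_assoc] using this.eq
  · refine ⟨⟨g⁻¹ * y * g, mem_centralizer_singleton_iff.2 ?_⟩, Subtype.ext ?_⟩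
    · have h1 := (show Commute (y : X) z from mem_centralizer_singleton_iff.1 y.2).map
        (MulAut.conj g⁻¹).toMonoidHom
      simpa using h1.eq
    · simp [mul_assoc]

/-- A minimal normal subgroup is simple, contains the Sylow 2-subgroups and has trivial centraliser. -/
theorem exists_simple_normal_eight (hO : Cfsg.oddCore X = ⊥) (hO2 : Cfsg.pCore 2 X = ⊥)
    (hS : ∀ S : Sylow 2 X, Cfsg.IsElementaryAbelian 2 (S : Subgroup X) ∧ Nat.card (S : Subgroup X) = 8) :
    ∃ (M : Subgroup X) (_ : M.Normal), IsSimpleGroup M ∧ ¬ IsMulCommutative M ∧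
      centralizer (M : Set X) = ⊥ ∧ ∀ S : Sylow 2 X, (S : Subgroup X) ≤ M := by
  haveI : Fact (Nat.Prime 2) := ⟨Nat.prime_two⟩
  obtain ⟨S⟩ : Nonempty (Sylow 2 X) := inferInstance
  haveI : Nontrivial X := by
    refine Finite.one_lt_card_iff_nontrivial.1 ?_
    have := Nat.le_of_dvd Nat.card_pos ((hS S).2 ▸ card_subgroup_dvd_card (S : Subgroup X))
    omega
  have h16 : ¬ 16 ∣ Nat.card X := fun h => by
    have h1 := S.pow_dvd_card_of_pow_dvd_card (n := 4) h
    rw [(hS S).2] at h1
    norm_num at h1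
  obtain ⟨M, hMn, hM0, -, hmin⟩ := Solvable.exists_minimal_normal (N := (⊤ : Subgroup X)) top_ne_bot
  haveI := hMn
  obtain ⟨hOM, hO2M⟩ := AbelianSylowTwo.cores_of_normal hO hO2 M
  have hM2 : 2 ∣ Nat.card M := AbelianSylowTwo.even_of_normal_ne_bot hO hMn hM0
  have hna : ¬ IsMulCommutative M := fun hc => by
    obtain ⟨P⟩ : Nonempty (Sylow 2 M) := inferInstance
    haveI := hc
    have hP : (P : Subgroup M) = ⊥ := le_bot_iff.1 (hO2M ▸ Cores.le_pCore inferInstance P.isPGroup')
    have := P.dvd_card_of_dvd_card hM2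
    rw [hP, Subgroup.card_bot] at this
    norm_num at this
  have hfour : ∀ {K : Subgroup M}, K.Normal → K ≠ ⊥ → 4 ∣ Nat.card K := fun {K} hK hK0 => by
    haveI := hK
    obtain ⟨h1, h2⟩ := AbelianSylowTwo.cores_of_normal hOM hO2M K
    exact AbelianSylowTwo.four_dvd_card h1 h2 (AbelianSylowTwo.even_of_normal_ne_bot hOM hK hK0)
  haveI : Nontrivial M := (nontrivial_iff_ne_bot M).2 hM0
  have hsimp : IsSimpleGroup M := by
    refine ⟨fun K hK => or_iff_not_imp_left.2 fun hK0 => ?_⟩
    haveI := hK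
    obtain ⟨K₀, hK₀n, hK₀0, hK₀K, hK₀min⟩ := Solvable.exists_minimal_normal hK0
    haveI := hK₀n
    by_cases hinv : (K₀.map M.subtype).Normal
    · rcases hmin _ hinv (map_subtype_le K₀) with h | h
      · exact absurd ((map_eq_bot_iff_of_injective _ M.subtype_injective).1 h) hK₀0
      · refine eq_top_iff.2 fun x _ => hK₀K ?_
        obtain ⟨y, hy, e⟩ := h.ge x.2
        exact M.subtype_injective e ▸ hy
    exfalso
    obtain ⟨g, hg⟩ : ∃ g : X, ¬ ∀ x ∈ K₀, MulAut.conjNormal g x ∈ K₀ := by
      by_contra hcon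
      push Not at hcon
      refine hinv ⟨?_⟩
      rintro _ ⟨y, hy, rfl⟩ g
      exact ⟨_, hcon g y hy, MulAut.conjNormal_apply g y⟩
    set K₁ := K₀.map (MulAut.conjNormal g : M ≃* M).toMonoidHom
    haveI hK₁n : K₁.Normal := hK₀n.map _ (MulAut.conjNormal g : M ≃* M).surjective
    have hK₁0 : K₁ ≠ ⊥ := fun h =>
      hK₀0 ((map_eq_bot_iff_of_injective _ (MulAut.conjNormal g : M ≃* M).injective).1 h)
    have hdisj : K₁ ⊓ K₀ = ⊥ := by
      refine (hK₀min _ (inferInstance) inf_le_right).resolve_right fun h => ?_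
      have hle : K₀ ≤ K₁ := inf_eq_right.1 h
      have hcard : Nat.card K₁ = Nat.card K₀ :=
        card_map_of_injective (MulAut.conjNormal g : M ≃* M).injective
      have heq := eq_of_le_of_card_ge hle hcard.le
      exact hg fun x hx => heq ▸ mem_map_of_mem _ hx
    have hdvd : Nat.card K₀ * Nat.card K₁ ∣ Nat.card M := by
      rw [← K₀.card_mul_index]
      refine mul_dvd_mul_left _ ?_
      rw [index_eq_card]
      have hinj : Function.Injective ((QuotientGroup.mk' K₀).comp K₁.subtype) := by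
        refine (MonoidHom.ker_eq_bot_iff _).1 (eq_bot_iff.2 fun x hx => ?_)
        have : (x : M) ∈ K₁ ⊓ K₀ := ⟨x.2, (QuotientGroup.eq_one_iff _).1 hx⟩
        rw [hdisj] at this
        exact Subtype.ext (mem_bot.1 this)
      exact card_dvd_of_injective _ hinj
    exact h16 ((mul_dvd_mul (hfour hK₀n hK₀0) (hfour hK₁n hK₁0)).trans
      (hdvd.trans (card_subgroup_dvd_card M)))
  haveI := hsimp
  have hcM : center M = ⊥ := by
    rcases (inferInstance : (center M).Normal).eq_bot_or_eq_top with h | h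
    · exact h
    · exact absurd ⟨⟨fun a b => mem_center_iff.1 (h ▸ mem_top b : b ∈ center M) a⟩⟩ hna
  -- the centraliser
  have hC : centralizer (M : Set X) = ⊥ := by
    by_contra hC
    set D := centralizer (M : Set X)
    haveI : D.Normal := inferInstance
    obtain ⟨h1, h2⟩ := AbelianSylowTwo.cores_of_normal hO hO2 D
    have h4D : 4 ∣ Nat.card D :=
      AbelianSylowTwo.four_dvd_card h1 h2 (AbelianSylowTwo.even_of_normal_ne_bot hO inferInstance hC)
    have hinf : D ⊓ M = ⊥ := eq_bot_iff.2 fun x hx => by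
      have : (⟨x, hx.2⟩ : M) ∈ center M := mem_center_iff.2 fun y => Subtype.ext (hx.1 y y.2)
      rw [hcM, mem_bot] at this
      exact mem_bot.2 (congrArg Subtype.val this)
    have hinj : Function.Injective ((QuotientGroup.mk' M).comp D.subtype) := by
      refine (MonoidHom.ker_eq_bot_iff _).1 (eq_bot_iff.2 fun x hx => ?_)
      have : (x : X) ∈ D ⊓ M := ⟨x.2, (QuotientGroup.eq_one_iff _).1 hx⟩
      rw [hinf] at this
      exact Subtype.ext (mem_bot.1 this)
    refine h16 ((mul_dvd_mul (AbelianSylowTwo.four_dvd_card hOM hO2M hM2) h4D).trans ?_)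
    rw [← M.card_mul_index]
    exact mul_dvd_mul_left _ (index_eq_card M ▸ card_dvd_of_injective _ hinj)
  refine ⟨M, hMn, hsimp, hna, hC, fun T => ?_⟩
  -- every element of `T` acts as an inner automorphism of `M`
  obtain ⟨P₀, hP₀⟩ : ∃ P₀ : Sylow 2 M, (P₀ : Subgroup M) = (T : Subgroup X).subgroupOf M := by
    obtain ⟨P₀, hP₀⟩ := (T.2.comap_subtype (K := M)).exists_le_sylow
    refine ⟨P₀, (eq_of_le_of_card_ge hP₀ ?_).symm⟩
    obtain ⟨T', hT'⟩ := (P₀.2.map M.subtype).exists_le_sylow
    obtain ⟨g, hg⟩ := MulAction.exists_smul_eq X T' T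
    have h1 : ((P₀ : Subgroup M).map M.subtype).map (MulAut.conj g).toMonoidHom ≤
        (T : Subgroup X) ⊓ M := by
      rintro _ ⟨_, ⟨m, hm, rfl⟩, rfl⟩
      exact ⟨hg ▸ ⟨(m : X), hT' ⟨m, hm, rfl⟩, rfl⟩, hMn.conj_mem _ m.2 g⟩
    have h2 := card_le_of_le h1
    rw [card_map_of_injective (MulAut.conj g).injective, card_map_of_injective M.subtype_injective] at h2
    exact h2.trans (Nat.card_congr (subgroupOfEquivOfLe (inf_le_right : (T : Subgroup X) ⊓ M ≤ M)).toEquiv ▸
      (inf_subgroupOf_right (T : Subgroup X) M).symm ▸ le_rfl)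
  haveI : IsMulCommutative (P₀ : Subgroup M) := ⟨⟨fun a b => Subtype.ext (Subtype.ext (by
    haveI := (hS T).1.1
    simpa using congrArg Subtype.val (mul_comm' (⟨_, mem_subgroupOf.1 (hP₀.le a.2)⟩ : (T : Subgroup X))
      ⟨_, mem_subgroupOf.1 (hP₀.le b.2)⟩)))⟩⟩
  intro s hs
  have hss : s ^ 2 = 1 := (hS T).1.2 s hs
  obtain ⟨g, hg⟩ := ZStar.aut_inner_of_abelian_sylow ZStar.uniqueInvolution hcM hOM P₀ (MulAut.conjNormal s) (by
    obtain ⟨j, -, hj⟩ := (Nat.dvd_prime_pow Nat.prime_two).1 (show orderOf (MulAut.conjNormal s : MulAut M) ∣ 2 ^ 1 from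
      orderOf_dvd_of_pow_eq_one (by rw [← map_pow, pow_one, hss, map_one]))
    exact ⟨j, hj⟩) fun x hx => Subtype.ext (by
      rw [MulAut.conjNormal_apply]
      haveI := (hS T).1.1
      have h1 : s * (x : X) = x * s :=
        congrArg Subtype.val (mul_comm' (⟨s, hs⟩ : (T : Subgroup X)) ⟨_, mem_subgroupOf.1 (hP₀.le hx)⟩)
      rw [h1, mul_inv_cancel_right])
  have h1 : (g : X)⁻¹ * s ∈ centralizer (M : Set X) := mem_centralizer_iff.2 fun m hm => by
    have := congrArg (fun a : MulAut M => ((a ⟨m, hm⟩ : M) : X)) hg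
    simp only [MulAut.conj_apply, MulAut.conjNormal_apply, Subgroup.coe_mul, Subgroup.coe_inv] at this
    calc m * ((g : X)⁻¹ * s) = (g : X)⁻¹ * ((g : X) * m * (g : X)⁻¹) * s := by group
      _ = (g : X)⁻¹ * (s * m * s⁻¹) * s := by rw [this]
      _ = (g : X)⁻¹ * s * m := by group
  rw [hC, mem_bot, inv_mul_eq_one] at h1
  exact h1 ▸ g.2

/-- An odd normal subgroup of a non-solvable centraliser of an involution is trivial. -/
theorem eq_bot_of_normal_in_centralizer {n : ℕ} (IH : CoresTrivialBelow.{u} n) (hn : Nat.card X < n)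
    (hO : Cfsg.oddCore X = ⊥)
    (hS : ∀ S : Sylow 2 X, Cfsg.IsElementaryAbelian 2 (S : Subgroup X) ∧ Nat.card (S : Subgroup X) = 8)
    {z : X} (hz2 : orderOf z = 2) (hns : ¬ Group.IsSolvable ↥(centralizer ({z} : Set X)))
    {W : Subgroup X} (hWC : W ≤ centralizer ({z} : Set X)) (hodd : ¬ 2 ∣ Nat.card W)
    (hWn : centralizer ({z} : Set X) ≤ normalizer (W : Set X)) : W = ⊥ := by
  haveI : Fact (Nat.Prime 2) := ⟨Nat.prime_two⟩
  set C := centralizer ({z} : Set X) with hC
  by_cases hR : Cfsg.pCore 2 X = ⊥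
  swap
  · -- `z` is central
    set R := Cfsg.pCore 2 X
    haveI : R.Normal := Cores.pCore_normal 2 X
    have hR2 : IsPGroup 2 R := Cores.isPGroup_pCore 2 X
    obtain ⟨T, hT⟩ := exists_sylow_mem (Involution.mul_self hz2)
    haveI := (hS T).1.1
    have hRC : R ≤ C := fun r hr => mem_centralizer_singleton_iff.2
      (congrArg Subtype.val (mul_comm' (⟨r, hR2.le_sylow_of_normal T hr⟩ : (T : Subgroup X)) ⟨z, hT⟩))
    have hTC : (T : Subgroup X) ≤ C := fun r hr => mem_centralizer_singleton_iff.2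
      (congrArg Subtype.val (mul_comm' (⟨r, hr⟩ : (T : Subgroup X)) ⟨z, hT⟩))
    have hRz : R ≤ zpowers z := by
      intro r hr
      by_contra hrz
      set R' := (R ⊔ zpowers z).subgroupOf C
      have hle : R ⊔ zpowers z ≤ C :=
        sup_le hRC (zpowers_le.2 (mem_centralizer_singleton_iff.2 rfl))
      have hRzT : R ⊔ zpowers z ≤ (T : Subgroup X) :=
        sup_le (hR2.le_sylow_of_normal T) (zpowers_le.2 hT)
      haveI : R'.Normal := normal_subgroupOf_of_le_normalizer (by
        refine le_trans (le_inf (le_normalizer_of_normal (H := R)) ?_)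
          (normalizer_inf_normalizer_le_normalizer_sup R (zpowers z))
        intro c hc
        refine Coprime.mem_normalizer_of_forall fun y hy => ?_
        obtain ⟨i, rfl⟩ := mem_zpowers_iff.1 hy
        rw [((show Commute c z from mem_centralizer_singleton_iff.1 hc).zpow_right i).eq, mul_inv_cancel_right]
        exact hy)
      refine hns (solvable_of_normal_two (fun S => ?_) (R := R') ?_ ?_)
      · obtain ⟨S', hS'⟩ := (S.2.map C.subtype).exists_le_sylow
        have h8 : Nat.card (S : Subgroup C) = 8 := by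
          refine le_antisymm ?_ ?_
          · rw [← card_map_of_injective (K := (S : Subgroup C)) C.subtype_injective, ← (hS S').2]
            exact card_le_of_le hS'
          · have h1 := (T.subtype hTC : Sylow 2 C).card_eq_multiplicity
            rw [← S.card_eq_multiplicity, Sylow.coe_subtype, Cores.card_subgroupOf hTC, (hS T).2] at h1
            exact h1.le
        refine ⟨⟨⟨⟨fun a b => Subtype.ext (Subtype.ext ?_)⟩⟩, fun a ha => Subtype.ext ?_⟩, h8⟩
        · haveI := (hS S').1.1
          simpa using congrArg Subtype.val (mul_comm' (⟨_, hS' ⟨a, a.2, rfl⟩⟩ : (S' : Subgroup X))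
            ⟨_, hS' ⟨b, b.2, rfl⟩⟩)
        · simpa using (hS S').1.2 _ (hS' ⟨a, ha, rfl⟩)
      · exact ((T.2.to_le hRzT).comap_subtype (K := C))
      · rw [Cores.card_subgroupOf hle]
        have hne : ¬ Nat.card ↥(R ⊔ zpowers z) ≤ 2 := fun h => by
          have heq := eq_of_le_of_card_ge (le_sup_right : zpowers z ≤ R ⊔ zpowers z)
            (by rw [Nat.card_zpowers, hz2]; exact h)
          exact hrz (heq ▸ mem_sup_left hr)
        obtain ⟨k, hk⟩ := IsPGroup.iff_card.1 (T.2.to_le hRzT)
        rw [hk] at hne ⊢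
        rcases k with _ | _ | k
        · simp at hne
        · simp at hne
        · exact ⟨2 ^ k, by ring⟩
    have hzR : z ∈ R := by
      obtain ⟨r, hr, hr1⟩ := (bot_or_exists_ne_one R).resolve_left hR
      obtain ⟨i, hi⟩ := mem_zpowers_iff.1 (hRz hr)
      rw [← zpow_mod_orderOf, hz2, Nat.cast_ofNat] at hi
      rcases Int.emod_two_eq_zero_or_one i with h | h <;> rw [h] at hi
      · exact absurd (by rw [← hi, zpow_zero]) hr1
      · rw [zpow_one] at hi; exact hi ▸ hr
    have htop : C = ⊤ := top_unique fun x _ => mem_centralizer_singleton_iff.2 (by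
      have h1 : x * z * x⁻¹ ∈ zpowers z := hRz ((inferInstance : R.Normal).conj_mem z hzR x)
      obtain ⟨i, hi⟩ := mem_zpowers_iff.1 h1
      rw [← zpow_mod_orderOf, hz2, Nat.cast_ofNat] at hi
      rcases Int.emod_two_eq_zero_or_one i with h | h <;> rw [h] at hi
      · rw [zpow_zero] at hi
        have h2 : z = 1 := conj_eq_one_iff.1 hi.symm
        rw [h2, orderOf_one] at hz2; omega
      · rw [zpow_one] at hi; exact (mul_inv_eq_iff_eq_mul.1 hi.symm))
    refine le_bot_iff.1 (hO ▸ Cores.le_pPrimeCore (normalizer_eq_top_iff.1 (top_unique (htop ▸ hWn)))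
      ((Nat.prime_two.coprime_iff_not_dvd).2 hodd).symm)
  obtain ⟨M, hMn, hMs, hMna, hMC, hSM⟩ := exists_simple_normal_eight hO hR hS
  haveI := hMn
  haveI := hMs
  obtain ⟨T, hT⟩ := exists_sylow_mem (Involution.mul_self hz2)
  have hzM : z ∈ M := hSM T hT
  set z' : M := ⟨z, hzM⟩
  have hz'2 : orderOf z' = 2 := by rw [orderOf_mk, hz2]
  set TM : Sylow 2 M := T.subtype (hSM T)
  -- `C_M(z)` is not solvable
  have hCns : ¬ Group.IsSolvable ↥(centralizer ({z'} : Set M)) := fun hs => by
    haveI := hs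
    haveI hq : Group.IsSolvable (X ⧸ M) := OddOrderTheorem.solvable (by
      rw [← index_eq_card, ← Nat.not_even_iff_odd, even_iff_two_dvd]
      exact fun h => T.not_dvd_index (h.trans (index_dvd_of_le (hSM T))))
    let ι : ↥(centralizer ({z'} : Set M)) →* C := (M.subtype.comp (centralizer ({z'} : Set M)).subtype).codRestrict C
      fun c => mem_centralizer_singleton_iff.2 (congrArg Subtype.val (mem_centralizer_singleton_iff.1 c.2))
    refine hns (Group.isSolvable_of_ker_le_range ι ((QuotientGroup.mk' M).comp C.subtype) fun x hx => ?_)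
    have hxM : (x : X) ∈ M := (QuotientGroup.eq_one_iff _).1 hx
    exact ⟨⟨⟨x, hxM⟩, mem_centralizer_singleton_iff.2 (Subtype.ext (mem_centralizer_singleton_iff.1 x.2))⟩,
      Subtype.ext rfl⟩
  have hnotSE : ¬ ∃ E : Subgroup M, Cfsg.IsStronglyEmbedded E := by
    rintro ⟨E, hE⟩
    haveI hEs := Bender.solvable_of_stronglyEmbedded Bender.rankOneHalf hE
      (SuzukiRankOne.two_involutions_of_simple hE)
    obtain ⟨g, hg⟩ := Involution.exists_conj_mem hE hz'2
    refine hCns (solvable_centralizer_of_conj_le hEs (g := g) (Involution.centralizer_le hE ?_ hg))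
    have := Involution.orderOf_conj g⁻¹ z'
    rwa [inv_inv, hz'2] at this
  have hM8 : Elem8 M := by
    refine ⟨hMs, hMna, fun P => ?_, hnotSE⟩
    obtain ⟨T', hT'⟩ := (P.2.map M.subtype).exists_le_sylow
    refine ⟨⟨⟨⟨fun a b => Subtype.ext (Subtype.ext ?_)⟩⟩, fun a ha => Subtype.ext ?_⟩, ?_⟩
    · haveI := (hS T').1.1
      simpa using congrArg Subtype.val (mul_comm' (⟨_, hT' ⟨a, a.2, rfl⟩⟩ : (T' : Subgroup X))
        ⟨_, hT' ⟨b, b.2, rfl⟩⟩)
    · simpa using (hS T').1.2 _ (hT' ⟨a, ha, rfl⟩)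
    · rw [P.card_eq_multiplicity, ← TM.card_eq_multiplicity, Sylow.coe_subtype, Cores.card_subgroupOf (hSM T), (hS T).2]
  have hnsM : ∀ x : M, orderOf x = 2 → ¬ Group.IsSolvable ↥(centralizer ({x} : Set M)) :=
    fun x hx => hM8.not_solvable_centralizer hz'2 hx hCns
  have hIH : ∀ x : M, orderOf x = 2 → Cfsg.centralizerPPrimeCore 2 x = ⊥ := fun x hx =>
    IH M hM8 (lt_of_le_of_lt (card_le_card_group M) hn) x hx (hnsM x hx)
  refine le_bot_iff.1 fun w hw => mem_bot.2 ?_
  -- `W ⊓ M` is trivial, so `W` centralises `C_M(z)`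
  have hWM : ∀ x : M, (x : X) ∈ W → x = 1 := fun x hx => by
    set Cz := centralizer ({z'} : Set M)
    set WM := (W.subgroupOf M).subgroupOf Cz
    have hxC : x ∈ Cz := mem_centralizer_singleton_iff.2 (Subtype.ext (mem_centralizer_singleton_iff.1 (hWC hx)))
    haveI : WM.Normal := ⟨fun y hy c => mem_subgroupOf.2 (mem_subgroupOf.2 (by
      have hc : ((c : M) : X) ∈ C :=
        mem_centralizer_singleton_iff.2 (congrArg Subtype.val (mem_centralizer_singleton_iff.1 c.2))
      have := (mem_normalizer_iff.1 (hWn hc) _).1 (mem_subgroupOf.1 (mem_subgroupOf.1 hy))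
      simpa using this))⟩
    have hle : WM ≤ Cfsg.pPrimeCore 2 Cz := by
      refine Cores.le_pPrimeCore inferInstance ((Nat.prime_two.coprime_iff_not_dvd).2 fun h => hodd ?_).symm
      have hinj : Function.Injective
          (((M.subtype.comp Cz.subtype).comp WM.subtype).codRestrict W
            fun y => mem_subgroupOf.1 (mem_subgroupOf.1 y.2)) := fun a b hab =>
        Subtype.ext (Subtype.ext (M.subtype_injective (congrArg (fun y : W => (y : X)) hab)))
      exact h.trans (card_dvd_of_injective _ hinj)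
    have h1 : x ∈ Cfsg.centralizerPPrimeCore 2 z' :=
      ⟨⟨x, hxC⟩, hle (mem_subgroupOf.2 (mem_subgroupOf.2 hx)), rfl⟩
    rwa [hIH z' hz'2, mem_bot] at h1
  set α : MulAut M := MulAut.conjNormal w with hα
  have hαodd : Odd (orderOf α) := Odd.of_dvd_nat (Nat.not_even_iff_odd.1 fun h => hodd
    ((even_iff_two_dvd.1 h).trans (Subgroup.orderOf_dvd_natCard W hw))) (orderOf_map_dvd _ w)
  have hfixz : ∀ c : M, Commute c z' → α c = c := fun c hc => by
    have hcC : (c : X) ∈ C := mem_centralizer_singleton_iff.2 (congrArg Subtype.val hc.eq)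
    have h1 : (α c * c⁻¹ : M) = 1 := hWM _ (by
      rw [Subgroup.coe_mul, hα, MulAut.conjNormal_apply, Subgroup.coe_inv,
        show w * (c : X) * w⁻¹ * (c : X)⁻¹ = w * ((c : X) * w⁻¹ * (c : X)⁻¹) by group]
      exact W.mul_mem hw ((mem_normalizer_iff.1 (hWn hcC) _).1 (W.inv_mem hw)))
    exact mul_inv_eq_one.1 h1
  haveI : Fintype M := Fintype.ofFinite M
  haveI habT := hM8.abelian TM
  have hzT : z' ∈ (TM : Subgroup M) := hT
  -- `α` fixes all centralisers of involutions of `TM`
  have hfix : ∀ b ∈ (TM : Subgroup M), b ≠ 1 → ∀ c : M, Commute c b → α c = c := by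
    intro b hb hb1
    rcases eq_or_ne b z' with rfl | hbz
    · exact hfixz
    have hb2 : orderOf b = 2 := hM8.orderOf_mem TM hb hb1
    set Cb := centralizer ({b} : Set M) with hCb
    have hbCb : b ∈ Cb := mem_centralizer_singleton_iff.2 rfl
    have hTCb : (TM : Subgroup M) ≤ Cb := fun s hs =>
      mem_centralizer_singleton_iff.2 (hM8.commute_mem TM hs hb).eq
    have hOb : Cfsg.oddCore Cb = ⊥ := (map_eq_bot_iff_of_injective _ Cb.subtype_injective).1 (hIH b hb2)
    have hSb : ∀ S : Sylow 2 Cb, Cfsg.IsElementaryAbelian 2 (S : Subgroup Cb) ∧ Nat.card (S : Subgroup Cb) = 8 := by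
      intro S
      obtain ⟨T', hT'⟩ := (S.2.map Cb.subtype).exists_le_sylow
      refine ⟨⟨⟨⟨fun a c => Subtype.ext (Subtype.ext ?_)⟩⟩, fun a ha => Subtype.ext ?_⟩, ?_⟩
      · exact (hM8.commute_mem T' (hT' ⟨a, a.2, rfl⟩) (hT' ⟨c, c.2, rfl⟩)).eq
      · have := hM8.sq T' (hT' ⟨a, ha, rfl⟩)
        simpa [pow_two] using this
      · rw [S.card_eq_multiplicity, ← (TM.subtype hTCb).card_eq_multiplicity, Sylow.coe_subtype,
          Cores.card_subgroupOf hTCb, (hM8.sylow TM).2]
    set b' : Cb := ⟨b, hbCb⟩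
    have hbc : b' ∈ center Cb :=
      mem_center_iff.2 fun y => Subtype.ext (mem_centralizer_singleton_iff.1 y.2)
    have hb'2 : orderOf b' = 2 := by rw [orderOf_mk, hb2]
    obtain ⟨L, hL⟩ := exists_shape hOb hSb hbc hb'2 (hnsM b hb2)
    have hαb : α b = b := hfixz b (hM8.commute_mem TM hb hzT)
    have hmap : Cb.map α.toMonoidHom = Cb := by
      refine eq_of_le_of_card_ge ?_ (card_map_of_injective α.injective).ge
      rintro _ ⟨c, hc, rfl⟩
      refine mem_centralizer_singleton_iff.2 ?_
      have := (show Commute c b from mem_centralizer_singleton_iff.1 hc).map α.toMonoidHom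
      simpa [hαb] using this.eq
    set β : MulAut Cb := (α.subgroupMap Cb).trans (MulEquiv.subgroupCongr hmap)
    have hβval : ∀ x : Cb, ((β x : Cb) : M) = α x := fun x => rfl
    have hβodd : Odd (orderOf β) := by
      have hβpow : ∀ (k : ℕ) (x : Cb), ((β ^ k) x : M) = (α ^ k) x := by
        intro k
        induction k with
        | zero => simp
        | succ k ih => intro x; rw [pow_succ', pow_succ', MulAut.mul_apply, MulAut.mul_apply, hβval, ih]
      exact Odd.of_dvd_nat hαodd (orderOf_dvd_of_pow_eq_one (MulEquiv.ext fun x =>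
        Subtype.ext (by rw [hβpow, pow_orderOf_eq_one]; rfl)))
    have hzb : z' ∈ Cb := hTCb hzT
    have hβ1 := hL.aut_eq_one hb'2 hbc β hβodd (Subtype.ext hαb) (S := TM.subtype hTCb) (b := ⟨z', hzb⟩)
      (mem_subgroupOf.2 hzT) (mem_subgroupOf.2 hb) (Subtype.ext (Involution.mul_self hz'2))
      (fun e => Involution.ne_one hz'2 (congrArg Subtype.val e))
      (fun e => hbz (congrArg Subtype.val e).symm)
      fun c _ hc => Subtype.ext ((hβval c).trans (hfixz c (hc.map Cb.subtype)))
    intro c hc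
    have := congrArg (fun a : MulAut Cb => ((a ⟨c, mem_centralizer_singleton_iff.2 hc.eq⟩ : Cb) : M)) hβ1
    exact this
  -- the subgroup generated by these centralisers is everything
  set J : Subgroup M := ⨆ b : {b : M // b ∈ (TM : Subgroup M) ∧ b ≠ 1}, centralizer ({(b : M)} : Set M)
  have hJ : J ≤ α.toMonoidHom.eqLocus (MonoidHom.id M) := iSup_le fun b c hc =>
    hfix b b.2.1 b.2.2 c (mem_centralizer_singleton_iff.1 hc)
  have hCJ : ∀ b ∈ (TM : Subgroup M), b ≠ 1 → centralizer ({b} : Set M) ≤ J := fun b hb hb1 =>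
    le_iSup (fun b : {b : M // b ∈ (TM : Subgroup M) ∧ b ≠ 1} => centralizer ({(b : M)} : Set M)) ⟨b, hb, hb1⟩
  have hNJ : normalizer ((TM : Subgroup M) : Set M) ≤ normalizer (J : Set M) := fun g hg => by
    have hle : J ≤ J.comap (MulAut.conj g).toMonoidHom := iSup_le fun b c hc => by
      refine hCJ (g * b * g⁻¹) ((mem_normalizer_iff.1 hg _).1 b.2.1)
        (fun e => b.2.2 (conj_eq_one_iff.1 e)) (mem_centralizer_singleton_iff.2 ?_)
      exact ((show Commute c (b : M) from mem_centralizer_singleton_iff.1 hc).map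
        (MulAut.conj g).toMonoidHom).eq
    refine Coprime.mem_normalizer_of_forall fun x hx => hle hx
  have hTne : (TM : Subgroup M) ≠ ⊥ := fun e => by
    have := (hM8.sylow TM).2
    rw [e, Subgroup.card_bot] at this
    omega
  have hJtop : normalizer (J : Set M) = ⊤ := by
    by_contra hne
    exact hnotSE ⟨_, isStronglyEmbedded_of TM hTne hne hNJ fun x hx hx2 =>
      (hCJ x hx (Involution.ne_one hx2)).trans le_normalizer⟩
  have hJ1 : J = ⊤ := (normalizer_eq_top_iff.1 hJtop).eq_bot_or_eq_top.resolve_left fun e =>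
    Involution.ne_one hz'2 (mem_bot.1 (e ▸ hCJ z' hzT (Involution.ne_one hz'2)
      (mem_centralizer_singleton_iff.2 rfl)))
  have hwC : w ∈ centralizer (M : Set X) := mem_centralizer_iff.2 fun m hm => by
    have h1 : α ⟨m, hm⟩ = ⟨m, hm⟩ := hJ (hJ1 ▸ mem_top _)
    have h2 := congrArg Subtype.val h1
    rw [hα, MulAut.conjNormal_apply] at h2
    exact (mul_inv_eq_iff_eq_mul.1 h2).symm
  rwa [hMC, mem_bot] at hwC

end Ambient

/-- **(L)**: a proper subgroup covering `C(t)/O(C t)` meets `O(C t)` inside its odd core. -/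
theorem core_inf_le {G : Type u} [Group G] [Finite G] (h : Elem8 G)
    (IH : CoresTrivialBelow.{u} (Nat.card G)) {t : G} (ht : orderOf t = 2)
    (hns : ¬ Group.IsSolvable ↥(centralizer ({t} : Set G))) {H : Subgroup G} (hne : H ≠ ⊤) (htH : t ∈ H)
    (hcov : centralizer ({t} : Set G) ≤
      Cfsg.centralizerPPrimeCore 2 t ⊔ (H ⊓ centralizer ({t} : Set G))) :
    Cfsg.centralizerPPrimeCore 2 t ⊓ H ≤ (Cfsg.oddCore H).map H.subtype := by
  haveI : Fact (Nat.Prime 2) := ⟨Nat.prime_two⟩
  set C := centralizer ({t} : Set G)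
  set O := Cfsg.centralizerPPrimeCore 2 t with hO
  set D := H ⊓ C
  have hOodd : ¬ 2 ∣ Nat.card O := Signalizer.not_dvd_card_core t
  have hOC : O ≤ C := Signalizer.core_le_centralizer t
  have hDO : D ≤ normalizer (O : Set G) :=
    inf_le_right.trans (Signalizer.centralizer_le_normalizer_core t)
  have hOs : Group.IsSolvable O :=
    OddOrderTheorem.solvable (Nat.not_even_iff_odd.1 fun e => hOodd (even_iff_two_dvd.1 e))
  have hDns : ¬ Group.IsSolvable D := fun hD => by
    haveI := Signalizer.isSolvable_sup hOs hD hDO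
    exact hns (Group.isSolvable_of_isSolvable_injective (inclusion_injective hcov))
  -- a Sylow 2-subgroup of `G` inside `H`
  have h8D : 2 ^ 3 ∣ Nat.card D := by
    obtain ⟨S, hS⟩ := exists_sylow_mem (Involution.mul_self ht)
    have hSC : (S : Subgroup G) ≤ C := fun s hs =>
      mem_centralizer_singleton_iff.2 (h.commute_mem S hs hS).eq
    have h1 : 8 ∣ Nat.card ↥(O ⊔ D) := by
      rw [← (h.sylow S).2]; exact card_dvd_of_le (hSC.trans hcov)
    have h2 : Nat.card ↥(O ⊔ D) ∣ Nat.card O * Nat.card D := by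
      let K := O ⊔ D
      haveI hOn : (O.subgroupOf K).Normal :=
        normal_subgroupOf_of_le_normalizer (sup_le le_normalizer hDO)
      have h3 := Cores.card_sup_dvd (D.subgroupOf K) (O.subgroupOf K)
      rw [← subgroupOf_sup le_sup_right le_sup_left, sup_comm D O, subgroupOf_self,
        card_top, Cores.card_subgroupOf (le_sup_right : D ≤ K),
        Cores.card_subgroupOf (le_sup_left : O ≤ K)] at h3
      rwa [mul_comm] at h3
    exact (Nat.Coprime.pow_left 3 (Nat.prime_two.coprime_iff_not_dvd.2 hOodd)).dvd_of_dvd_mul_left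
      (h1.trans h2)
  set N := Cfsg.oddCore H
  haveI hNn : N.Normal := Cores.pPrimeCore_normal 2 H
  have hNodd : ¬ 2 ∣ Nat.card N := Cores.not_dvd_card_pPrimeCore
  set f := QuotientGroup.mk' N
  have hfs : Function.Surjective f := QuotientGroup.mk'_surjective N
  set X := H ⧸ N
  set t' : H := ⟨t, htH⟩
  have ht'2 : orderOf t' = 2 := by rw [orderOf_mk, ht]
  have hzf : orderOf (f t') = 2 := by
    refine Involution.orderOf_of_sq (by rw [← map_mul, Involution.mul_self ht'2, map_one]) fun e => ?_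
    have h1 : t' ∈ N := (QuotientGroup.eq_one_iff t').1 e
    exact hNodd (ht'2 ▸ Subgroup.orderOf_dvd_natCard N h1)
  -- elements centralising the image of `t` lift
  have hlift : centralizer ({f t'} : Set X) ≤ (centralizer ({t'} : Set H)).map f := by
    intro y hy
    obtain ⟨x, rfl⟩ := hfs y
    have hy' : Commute (f x) (f t') := mem_centralizer_singleton_iff.1 hy
    obtain ⟨o, ho, hox⟩ := Constrained.exists_mul_mem_centralizer (p := 2)
      (O := N) (T := zpowers t') hNodd
      (IsPGroup.of_card (n := 1) (by rw [Nat.card_zpowers, ht'2, pow_one])) (x := x) (fun v hv => by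
        obtain ⟨k, rfl⟩ := mem_zpowers_iff.1 hv
        rw [← QuotientGroup.eq_one_iff, ← QuotientGroup.mk'_apply, map_mul, map_mul, map_mul,
          map_inv, map_inv, map_zpow, (hy'.zpow_right k).eq, mul_inv_cancel_right, mul_inv_cancel])
    exact ⟨o * x, mem_centralizer_singleton_iff.2 (mem_centralizer_iff.1 hox t' (mem_zpowers t')).symm,
      by rw [map_mul, show f o = 1 from (QuotientGroup.eq_one_iff o).2 ho, one_mul]⟩
  have hSX : ∀ S : Sylow 2 X,
      Cfsg.IsElementaryAbelian 2 (S : Subgroup X) ∧ Nat.card (S : Subgroup X) = 8 := by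
    intro S
    obtain ⟨T, hT⟩ := Sylow.mapSurjective_surjective hfs 2 S
    obtain ⟨T', hT'⟩ := (T.2.map H.subtype).exists_le_sylow
    have h8T : Nat.card (T : Subgroup H) = 8 := by
      refine le_antisymm ?_ (Nat.le_of_dvd Nat.card_pos (T.pow_dvd_card_of_pow_dvd_card (n := 3)
        (h8D.trans (card_dvd_of_le inf_le_left))))
      rw [← card_map_of_injective (K := (T : Subgroup H)) H.subtype_injective, ← (h.sylow T').2]
      exact card_le_of_le hT'
    rw [← hT, Sylow.coe_mapSurjective]
    refine ⟨⟨⟨⟨?_⟩⟩, ?_⟩, ?_⟩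
    · rintro ⟨_, a, ha, rfl⟩ ⟨_, b, hb, rfl⟩
      refine Subtype.ext ?_
      show f a * f b = f b * f a
      rw [← map_mul, ← map_mul, show a * b = b * a from Subtype.ext
        (h.commute_mem T' (hT' ⟨a, ha, rfl⟩) (hT' ⟨b, hb, rfl⟩)).eq]
    · rintro _ ⟨a, ha, rfl⟩
      rw [← map_pow, show a ^ 2 = 1 from Subtype.ext (by
        rw [SubmonoidClass.coe_pow, pow_two]; exact h.sq T' (hT' ⟨a, ha, rfl⟩)), map_one]
    · rw [← h8T]
      have hinj : Function.Injective (f.comp (T : Subgroup H).subtype) :=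
        (MonoidHom.ker_eq_bot_iff _).1 (eq_bot_iff.2 fun x hx => mem_bot.2 (Subtype.ext
          (Coprime.eq_one_of_mem_of_mem (A := N) (K := (T : Subgroup H))
            (by rw [h8T]; exact (Nat.Coprime.pow_right 3 (Nat.prime_two.coprime_iff_not_dvd.2 hNodd).symm :
              (Nat.card N).Coprime (2 ^ 3)))
            ((QuotientGroup.eq_one_iff _).1 hx) x.2)))
      rw [Nat.card_congr (MonoidHom.ofInjective hinj).toEquiv, MonoidHom.range_comp, range_subtype]
  have hOX : Cfsg.oddCore X = ⊥ := Cores.pPrimeCore_quotient_self 2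
  set Ct := centralizer ({f t'} : Set X)
  have hnsX : ¬ Group.IsSolvable Ct := fun hs => by
    haveI := hs
    let ψ : D →* Ct := (f.comp (inclusion (inf_le_left : D ≤ H))).codRestrict Ct fun d =>
      mem_centralizer_singleton_iff.2 (by
        show f (inclusion inf_le_left d) * f t' = f t' * f (inclusion inf_le_left d)
        rw [← map_mul, ← map_mul, show inclusion inf_le_left d * t' = t' * inclusion inf_le_left d from
          Subtype.ext (mem_centralizer_singleton_iff.1 d.2.2)])
    have hker : Group.IsSolvable ψ.ker := by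
      haveI : Group.IsSolvable N :=
        OddOrderTheorem.solvable (Nat.not_even_iff_odd.1 fun e => hNodd (even_iff_two_dvd.1 e))
      refine Group.isSolvable_of_isSolvable_injective
        (f := ((inclusion (inf_le_left : D ≤ H)).comp ψ.ker.subtype).codRestrict N fun d =>
          (QuotientGroup.eq_one_iff _).1 (congrArg Subtype.val d.2)) fun a b hab => ?_
      exact Subtype.ext (inclusion_injective inf_le_left (congrArg Subtype.val hab))
    haveI := hker
    exact hDns (Group.isSolvable_of_ker_le_range ψ.ker.subtype ψ (by rw [range_subtype]))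
  set W := (O.subgroupOf H).map f
  have hWC : W ≤ Ct := by
    rintro _ ⟨x, hx, rfl⟩
    refine mem_centralizer_singleton_iff.2 ?_
    rw [← map_mul, ← map_mul, show x * t' = t' * x from
      Subtype.ext (mem_centralizer_singleton_iff.1 (hOC (mem_subgroupOf.1 hx)))]
  have hWodd : ¬ 2 ∣ Nat.card W := fun hd => hOodd (by
    refine (hd.trans ((O.subgroupOf H).card_map_dvd f)).trans ?_
    exact card_dvd_of_injective ((H.subtype.comp (O.subgroupOf H).subtype).codRestrict O
      fun x => mem_subgroupOf.1 x.2) fun a b hab =>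
        Subtype.ext (H.subtype_injective (congrArg (fun y : O => (y : G)) hab)))
  have hWn : Ct ≤ normalizer (W : Set X) := by
    intro y hy
    obtain ⟨x, hx, rfl⟩ := hlift hy
    refine Coprime.mem_normalizer_of_forall fun v hv => ?_
    obtain ⟨o, ho, rfl⟩ := hv
    refine ⟨x * o * x⁻¹, mem_subgroupOf.2 ?_, by simp⟩
    exact (mem_normalizer_iff.1 (Signalizer.centralizer_le_normalizer_core t
      (mem_centralizer_singleton_iff.2 (congrArg Subtype.val (mem_centralizer_singleton_iff.1 hx)))) _).1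
      (mem_subgroupOf.1 ho)
  have hlt : Nat.card X < Nat.card G := by
    refine lt_of_le_of_lt (Nat.card_le_card_of_surjective f hfs) ?_
    exact lt_of_le_of_ne (card_le_card_group H) fun e => hne ((card_eq_iff_eq_top H).1 e)
  have hW1 : W = ⊥ := eq_bot_of_normal_in_centralizer IH hlt hOX hSX hzf hnsX hWC hWodd hWn
  intro x hx
  have h1 : f ⟨x, hx.2⟩ ∈ W := ⟨⟨x, hx.2⟩, mem_subgroupOf.2 hx.1, rfl⟩
  rw [hW1, mem_bot] at h1
  exact ⟨⟨x, hx.2⟩, (QuotientGroup.eq_one_iff _).1 h1, rfl⟩

end Cfsg.Agent.AbelianSylow.Core
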