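import Cfsg.Agent.Lib.AbelianSylow.Cent.CoreBalance
import Cfsg.Agent.Lib.CoreKilling.CoreWrap

/-!
# `O(C(t)) = 1` (owner: helper4; see `CORE.md`, (K))

* `coreTarget` : in an `Elem8` group non-solvable involution centralisers are core-free
-/

set_option autoImplicit false
set_option linter.style.haveILetI false

namespace Cfsg.Agent.AbelianSylow.Core

open Subgroup

universe u

/-- The step of the induction on the order. -/
theorem core_eq_bot_of_below {G : Type u} [Group G] [Finite G] (h : Elem8 G)
    (IH : CoresTrivialBelow.{u} (Nat.card G)) {t : G} (ht : orderOf t = 2)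
    (hns : ¬ Group.IsSolvable ↥(centralizer ({t} : Set G))) :
    Cfsg.centralizerPPrimeCore 2 t = ⊥ := by
  haveI : Fact (Nat.Prime 2) := ⟨Nat.prime_two⟩
  haveI := h.simple
  have hall : ∀ x : G, orderOf x = 2 → ¬ Group.IsSolvable ↥(centralizer ({x} : Set G)) :=
    fun x hx => h.not_solvable_centralizer ht hx hns
  have hbal : Cfsg.IsBalanced G := fun x y hx hy hxy => by
    refine le_antisymm (le_inf ?_ (inf_le_left.trans (Signalizer.core_le_centralizer x)))
      (le_inf ?_ (inf_le_left.trans (Signalizer.core_le_centralizer y)))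
    · exact balance h IH hall hy hx (show Commute y x from hxy.symm)
    · exact balance h IH hall hx hy hxy
  obtain ⟨S, hS⟩ := exists_sylow_mem (Involution.mul_self ht)
  have hSe : Cfsg.IsElementaryAbelian 2 (S : Subgroup G) := (h.sylow S).1
  have hS3 : 2 ^ 3 ≤ Nat.card (S : Subgroup G) := le_of_eq ((h.sylow S).2.trans (by norm_num)).symm
  have hfun := CoreKilling.core_functor_of_balanced hbal hSe
  obtain ⟨-, hodd, hfix⟩ := Signalizer.solvable_signalizer_functor hSe hS3 hfun
  have hset : CoreKilling.Setting S
      (⨆ b : {a : G // a ∈ (S : Subgroup G) ∧ a ≠ 1}, Cfsg.centralizerPPrimeCore 2 (b : G)) :=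
    ⟨hodd, fun x hx hx2 => hfix x hx (Involution.ne_one hx2),
      Signalizer.le_normalizer_iSup fun b => Signalizer.invariant_core hSe.1 b.2.1⟩
  have hO : Cfsg.oddCore G = ⊥ := by
    refine (Cores.pPrimeCore_normal 2 G).eq_bot_or_eq_top.resolve_right fun htop => ?_
    have hd := Cores.coprime_card_pPrimeCore (G := G) 2
    rw [htop, card_top] at hd
    exact Nat.prime_two.coprime_iff_not_dvd.1 hd.symm (ht ▸ orderOf_dvd_natCard t)
  exact CoreKilling.core_bot_of_setting hset
    (fun x hx _ => ⟨S, le_rfl, hSe, hS3, hx⟩) hO ht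

theorem coresTrivialBelow (n : ℕ) : CoresTrivialBelow.{u} n := by
  induction n using Nat.strong_induction_on with
  | _ n ih =>
    intro K _ _ hK hlt x hx hns
    exact core_eq_bot_of_below hK (ih _ hlt) hx hns

/-- In an `Elem8` group a non-solvable centraliser of an involution has trivial core. -/
theorem coreTarget {G : Type u} [Group G] [Finite G] (h : Elem8 G) {t : G} (ht : orderOf t = 2)
    (hns : ¬ Group.IsSolvable ↥(centralizer ({t} : Set G))) :
    Cfsg.centralizerPPrimeCore 2 t = ⊥ :=
  core_eq_bot_of_below h (coresTrivialBelow _) ht hns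

end Cfsg.Agent.AbelianSylow.Core

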