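import Cfsg.Agent.Lib.AbelianSylow.Cent.CoreFix
import Cfsg.Agent.Lib.AbelianSylowTwo.Simple
import Cfsg.Agent.Lib.HallOrders.Basic
import Cfsg.Agent.Lib.ZStar.Apply

/-!
# `C(t)/O(C(t))` (owner: helper4; see `CORE.md`)

`X` core-free, non-solvable, Sylow 2-subgroups elementary of order 8, `z` a central involution.

* `Shape z L` : `L` normal simple, `centralizer L = ⟨z⟩`, `X`-involutions in `L ⟨z⟩`, Klein Sylow
* `solvable_of_normal_two`, `exists_shape` : it exists
* `Shape.exists_sylow`, `Shape.self_cent` : `S ⊓ L` in `L`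
* `Shape.aut_eq_one`, `Shape.eq_one` : an odd automorphism fixing `z` and `C_L(b)` is trivial
-/

set_option autoImplicit false
set_option linter.style.haveILetI false

namespace Cfsg.Agent.AbelianSylow.Core

open Subgroup
open scoped commutatorElement

universe u

variable {X : Type u} [Group X]

/-- The structure of `C(t)/O(C(t))`. -/
structure Shape (z : X) (L : Subgroup X) : Prop where
  normal : L.Normal
  simple : IsSimpleGroup L
  nonab : ¬ IsMulCommutative L
  cent : centralizer (L : Set X) = zpowers z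
  decomp : ∀ x : X, x * x = 1 → x ∈ L ∨ x * z ∈ L
  klein : ∀ S : Sylow 2 X, IsKleinFour ↥((S : Subgroup X) ⊓ L)

variable [Finite X]

/-- With elementary Sylow 2-subgroups of order 8, a normal 2-subgroup of order at least 4 makes the
group solvable. -/
theorem solvable_of_normal_two
    (hS : ∀ S : Sylow 2 X, Cfsg.IsElementaryAbelian 2 (S : Subgroup X) ∧ Nat.card (S : Subgroup X) = 8)
    {R : Subgroup X} [R.Normal] (hR2 : IsPGroup 2 R) (hR4 : 4 ∣ Nat.card R) : Group.IsSolvable X := by
  haveI : Fact (Nat.Prime 2) := ⟨Nat.prime_two⟩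
  obtain ⟨S⟩ : Nonempty (Sylow 2 X) := inferInstance
  set C := centralizer (R : Set X)
  haveI : C.Normal := inferInstance
  have hSC : ∀ T : Sylow 2 X, (T : Subgroup X) ≤ C := fun T x hx => mem_centralizer_iff.2 fun r hr => by
    haveI := (hS T).1.1
    exact congrArg Subtype.val
      (mul_comm' (⟨r, hR2.le_sylow_of_normal T hr⟩ : (T : Subgroup X)) ⟨x, hx⟩)
  have hRC : R ≤ C := (hR2.le_sylow_of_normal S).trans (hSC S)
  haveI : (R.subgroupOf C).Normal := inferInstance
  haveI hRs : Group.IsSolvable R := haveI := hR2.isNilpotent; inferInstance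
  haveI hCR : Group.IsSolvable (C ⧸ R.subgroupOf C) := HallOrders.solvable_of_not_four_dvd fun h4 => by
    have h1 := (R.subgroupOf C).card_mul_index
    rw [Cores.card_subgroupOf hRC, index_eq_card] at h1
    have h16 : 2 ^ 4 ∣ Nat.card X :=
      (mul_dvd_mul hR4 h4).trans (h1 ▸ card_subgroup_dvd_card C)
    have := S.pow_dvd_card_of_pow_dvd_card h16
    rw [(hS S).2] at this
    norm_num at this
  haveI hRCs : Group.IsSolvable (R.subgroupOf C) :=
    Group.isSolvable_of_surjective (f := (subgroupOfEquivOfLe hRC).symm.toMonoidHom)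
      (subgroupOfEquivOfLe hRC).symm.surjective
  haveI hCs : Group.IsSolvable C :=
    Group.isSolvable_of_ker_le_range (R.subgroupOf C).subtype (QuotientGroup.mk' (R.subgroupOf C))
      (by rw [QuotientGroup.ker_mk', range_subtype])
  haveI hXC : Group.IsSolvable (X ⧸ C) := OddOrderTheorem.solvable (by
    rw [← index_eq_card, ← Nat.not_even_iff_odd, even_iff_two_dvd]
    exact fun h => S.not_dvd_index (h.trans (index_dvd_of_le (hSC S))))
  exact Group.isSolvable_of_ker_le_range C.subtype (QuotientGroup.mk' C)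
    (by rw [QuotientGroup.ker_mk', range_subtype])

theorem exists_shape (hO : Cfsg.oddCore X = ⊥)
    (hS : ∀ S : Sylow 2 X, Cfsg.IsElementaryAbelian 2 (S : Subgroup X) ∧ Nat.card (S : Subgroup X) = 8)
    {z : X} (hz : z ∈ center X) (hz2 : orderOf z = 2) (hns : ¬ Group.IsSolvable X) :
    ∃ L : Subgroup X, Shape z L := by
  haveI : Fact (Nat.Prime 2) := ⟨Nat.prime_two⟩
  obtain ⟨S⟩ : Nonempty (Sylow 2 X) := inferInstance
  haveI hZn : (zpowers z).Normal := ⟨fun m hm g => by
    rwa [mem_center_iff.1 ((zpowers_le.2 hz) hm) g, mul_inv_cancel_right]⟩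
  have hZc : Nat.card (zpowers z) = 2 := by rw [Nat.card_zpowers, hz2]
  have hzz : z * z = 1 := Involution.mul_self hz2
  have hzS : ∀ T : Sylow 2 X, z ∈ (T : Subgroup X) := fun T => by
    have hp : IsPGroup 2 (zpowers z) := IsPGroup.of_card (n := 1) (by rw [hZc, pow_one])
    have := hp.le_sylow_of_normal T
    exact this (mem_zpowers z)
  set f := QuotientGroup.mk' (zpowers z) with hf
  have hfs : Function.Surjective f := QuotientGroup.mk'_surjective _
  have hkerZ : f.ker = zpowers z := QuotientGroup.ker_mk' _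
  have hfz : f z = 1 := (QuotientGroup.eq_one_iff z).2 (mem_zpowers z)
  have hmemZ : ∀ x ∈ zpowers z, x = 1 ∨ x = z := by
    intro x hx
    obtain ⟨i, rfl⟩ := mem_zpowers_iff.1 hx
    rw [← zpow_mod_orderOf, hz2, Nat.cast_ofNat]
    rcases Int.emod_two_eq_zero_or_one i with h | h <;> rw [h]
    · exact Or.inl (zpow_zero z)
    · exact Or.inr (zpow_one z)
  have hOq : Cfsg.oddCore (X ⧸ zpowers z) = ⊥ := ZStar.core_quotient_central hO hz hz2
  have hcard : ∀ T : Sylow 2 X, Nat.card ((T : Subgroup X).map f) = 4 := by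
    intro T
    have h1 := Cores.card_map_mul_ker f (T : Subgroup X)
      (by rw [hkerZ]; exact zpowers_le.2 (hzS T))
    rw [hkerZ, hZc, (hS T).2] at h1
    omega
  have hK : IsKleinFour ((S.mapSurjective hfs : Sylow 2 (X ⧸ zpowers z)) : Subgroup (X ⧸ zpowers z)) := by
    rw [Sylow.coe_mapSurjective]
    haveI : Nontrivial ((S : Subgroup X).map f) :=
      Finite.one_lt_card_iff_nontrivial.1 (by rw [hcard S]; norm_num)
    refine ⟨hcard S, Monoid.exponent_eq_prime_iff Nat.prime_two |>.2 ?_⟩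
    rintro ⟨_, s, hs, rfl⟩ hne
    refine orderOf_eq_prime (Subtype.ext ?_) hne
    show f s ^ 2 = 1
    rw [← map_pow, (hS S).1.2 s hs, map_one]
  have hO2 : Cfsg.pCore 2 (X ⧸ zpowers z) = ⊥ := by
    by_contra hne
    set R := (Cfsg.pCore 2 (X ⧸ zpowers z)).comap f
    haveI : (Cfsg.pCore 2 (X ⧸ zpowers z)).Normal := Cores.pCore_normal 2 _
    haveI : R.Normal := Normal.comap inferInstance f
    have hR2 : IsPGroup 2 R := by
      refine (Cores.isPGroup_pCore 2 _).comap_of_ker_isPGroup f ?_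
      rw [hkerZ]
      exact IsPGroup.of_card (n := 1) (by rw [hZc, pow_one])
    have hR4 : 4 ∣ Nat.card R := by
      have h1 := Cores.card_map_mul_ker f R (ker_le_comap f _)
      rw [map_comap_eq_self_of_surjective hfs, hkerZ, hZc] at h1
      obtain ⟨k, hk⟩ := IsPGroup.iff_card.1 (Cores.isPGroup_pCore 2 (X ⧸ zpowers z))
      rcases k with _ | k
      · exact absurd (card_eq_one.1 (by simpa using hk)) hne
      · rw [← h1, hk]; exact ⟨2 ^ k, by ring⟩
    exact hns (solvable_of_normal_two hS hR2 hR4)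
  obtain ⟨Mb, hMbn, hMbs, hMbna, hSMb, hcentMb⟩ :=
    AbelianSylowTwo.exists_simple_normal hOq hO2 (S.mapSurjective hfs) hK
  haveI := hMbs
  set M := Mb.comap f with hM
  haveI hMn : M.Normal := Normal.comap inferInstance f
  have hSM : ∀ T : Sylow 2 X, (T : Subgroup X) ≤ M := by
    intro T x hx
    obtain ⟨g, hg⟩ := MulAction.exists_smul_eq X S T
    rw [← hg, Sylow.coe_subgroup_smul] at hx
    obtain ⟨s, hs, rfl⟩ := hx
    exact hMn.conj_mem s (hSMb (by rw [Sylow.coe_mapSurjective]; exact ⟨s, hs, rfl⟩)) g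
  have hzM : z ∈ M := hSM S (hzS S)
  set L := ⁅M, M⁆ with hL
  haveI hLn : L.Normal := commutator_normal M M
  have hLM : L ≤ M := commutator_le_self M
  -- transfer: `z ∉ L`
  have hzL : z ∉ L := by
    set T : Sylow 2 M := S.subtype (hSM S)
    haveI : IsMulCommutative (T : Subgroup M) := ⟨⟨fun a b => Subtype.ext (Subtype.ext (by
      haveI := (hS S).1.1
      simpa using congrArg Subtype.val
        (mul_comm' (⟨_, mem_subgroupOf.1 a.2⟩ : (S : Subgroup X)) ⟨_, mem_subgroupOf.1 b.2⟩)))⟩⟩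
    open scoped IsMulCommutative in
    let τ : M →* ↥(T : Subgroup M) := MonoidHom.transfer (MonoidHom.id _)
    intro hzL
    set z' : M := ⟨z, hzM⟩
    have hzT : z' ∈ (T : Subgroup M) := hzS S
    have hcomm : commutator M ≤ τ.ker := by
      open scoped IsMulCommutative in
      exact Abelianization.commutator_subset_ker τ
    have hz'L : z' ∈ commutator M := by
      rw [hL, ← map_subtype_commutator] at hzL
      obtain ⟨w, hw, e⟩ := hzL
      exact (Subtype.ext e : w = z') ▸ hw
    have key : ∀ (k : ℕ) (g₀ : M), g₀⁻¹ * z' ^ k * g₀ ∈ (T : Subgroup M) →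
        g₀⁻¹ * z' ^ k * g₀ = z' ^ k := fun k g₀ _ => by
      have hc : Commute (z' ^ k) g₀ :=
        Commute.pow_left (Subtype.ext (mem_center_iff.1 hz g₀).symm : Commute z' g₀) k
      rw [mul_assoc, hc.eq, inv_mul_cancel_left]
    have h1 : τ z' = 1 := hcomm hz'L
    open scoped IsMulCommutative in
    have h2 := (MonoidHom.transfer_eq_pow (MonoidHom.id ↥(T : Subgroup M)) z' key).symm.trans h1
    have h3 : z ^ (T : Subgroup M).index = 1 :=
      congrArg (fun w : (T : Subgroup M) => ((w : M) : X)) h2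
    have h4 : 2 ∣ (T : Subgroup M).index := by
      have h5 := orderOf_dvd_of_pow_eq_one h3
      rwa [hz2] at h5
    exact T.not_dvd_index h4
  have hLZ : ∀ x ∈ L, f x = 1 → x = 1 := fun x hx h1 => by
    rcases hmemZ x ((QuotientGroup.eq_one_iff x).1 h1) with h | h
    · exact h
    · exact absurd hx (by rw [h]; exact hzL)
  -- `f` maps `L` isomorphically onto `Mb`
  have hLf : L.map f = Mb := by
    rw [hL, map_commutator, map_comap_eq_self_of_surjective hfs]
    refine le_antisymm (commutator_le_self Mb) ?_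
    rcases (inferInstance : (commutator Mb).Normal).eq_bot_or_eq_top with h | h
    · refine absurd ⟨⟨fun a b => ?_⟩⟩ hMbna
      have h' : ⁅a, b⁆ = (1 : Mb) := by
        rw [← Subgroup.mem_bot, ← h]; exact commutator_mem_commutator (mem_top a) (mem_top b)
      exact commutatorElement_eq_one_iff_mul_comm.1 h'
    · conv_lhs => rw [← range_subtype Mb, MonoidHom.range_eq_map, ← h, map_subtype_commutator]
  set e : L →* Mb := (f.comp L.subtype).codRestrict Mb fun x => hLf ▸ ⟨x, x.2, rfl⟩
  have hei : Function.Injective e := (MonoidHom.ker_eq_bot_iff e).1 (eq_bot_iff.2 fun x hx =>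
    mem_bot.2 (Subtype.ext (hLZ x x.2 (congrArg Subtype.val hx))))
  have hes : Function.Surjective e := by
    rintro ⟨y, hy⟩
    rw [← hLf] at hy
    obtain ⟨x, hx, rfl⟩ := hy
    exact ⟨⟨x, hx⟩, Subtype.ext rfl⟩
  set eq := MulEquiv.ofBijective e ⟨hei, hes⟩
  have hsL : ∀ x : X, x ∈ M → x ∈ L ∨ x * z ∈ L := by
    intro x hx
    obtain ⟨l, hl, hle⟩ : f x ∈ L.map f := hLf ▸ hx
    have hlx : l⁻¹ * x ∈ zpowers z := by
      rw [← QuotientGroup.eq_one_iff, ← QuotientGroup.mk'_apply, ← hf, map_mul, map_inv, hle,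
        inv_mul_cancel]
    rcases hmemZ _ hlx with h | h
    · exact Or.inl (by rwa [← inv_mul_eq_one.1 h])
    · exact Or.inr (by
        rw [show x = l * z by rw [← h]; group, mul_assoc, hzz, mul_one]; exact hl)
  refine ⟨L, hLn, ?_, ?_, ?_, fun x hx => hsL x ?_, fun T => ?_⟩
  · haveI : Nontrivial L := eq.toEquiv.nontrivial
    exact IsSimpleGroup.isSimpleGroup_of_surjective eq.symm.toMonoidHom eq.symm.surjective
  · intro hc
    exact hMbna ⟨⟨fun a b => by
      obtain ⟨a, rfl⟩ := hes a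
      obtain ⟨b, rfl⟩ := hes b
      rw [← map_mul, ← map_mul, mul_comm' a b]⟩⟩
  · refine le_antisymm (fun c hc => ?_) (zpowers_le.2 (mem_centralizer_iff.2 fun x _ =>
      mem_center_iff.1 hz x))
    refine (QuotientGroup.eq_one_iff c).1 (mem_bot.1 (hcentMb.le ?_))
    refine mem_centralizer_iff.2 fun y hy => ?_
    rw [← hLf] at hy
    obtain ⟨l, hl, rfl⟩ := hy
    show f l * f c = f c * f l
    rw [← map_mul, ← map_mul, mem_centralizer_iff.1 hc l hl]
  · rcases eq_or_ne x 1 with rfl | h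
    · exact M.one_mem
    obtain ⟨T, hT⟩ := (IsPGroup.of_card (G := zpowers x) (p := 2) (n := 1) (by
      rw [Nat.card_zpowers, pow_one]; exact Involution.orderOf_of_sq hx h)).exists_le_sylow
    exact hSM T (hT (mem_zpowers x))
  · have hinj : Set.InjOn f ((T : Subgroup X) ⊓ L : Subgroup X) := fun a ha b hb hab => by
      have := hLZ (a * b⁻¹) (L.mul_mem ha.2 (L.inv_mem hb.2)) (by rw [map_mul, map_inv, hab, mul_inv_cancel])
      rwa [mul_inv_eq_one] at this
    have himg : ((T : Subgroup X) ⊓ L).map f = (T : Subgroup X).map f := by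
      refine le_antisymm (map_mono inf_le_left) ?_
      rintro _ ⟨s, hs, rfl⟩
      rcases hsL s (hSM T hs) with h | h
      · exact ⟨s, ⟨hs, h⟩, rfl⟩
      · exact ⟨s * z, ⟨mul_mem hs (hzS T), h⟩, by rw [map_mul, hfz, mul_one]⟩
    have h4 : Nat.card ↥((T : Subgroup X) ⊓ L) = 4 := by
      rw [← hcard T, ← himg]
      exact Nat.card_congr (Equiv.Set.imageOfInjOn f _ hinj)
    haveI : Nontrivial ↥((T : Subgroup X) ⊓ L) :=
      Finite.one_lt_card_iff_nontrivial.1 (by rw [h4]; norm_num)
    refine ⟨h4, Monoid.exponent_eq_prime_iff Nat.prime_two |>.2 ?_⟩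
    rintro ⟨s, hs⟩ hne
    exact orderOf_eq_prime (Subtype.ext ((hS T).1.2 s hs.1)) hne

variable {z : X} {L : Subgroup X}

theorem Shape.z_not_mem (h : Shape z L) (hz2 : orderOf z = 2) : z ∉ L := fun hzL => by
  haveI := h.simple
  have hzc : (⟨z, hzL⟩ : L) ∈ center L := mem_center_iff.2 fun y => Subtype.ext
    (mem_centralizer_iff.1 (h.cent.ge (mem_zpowers z)) y y.2)
  rcases (inferInstance : (center L).Normal).eq_bot_or_eq_top with h1 | h1
  · rw [h1, mem_bot] at hzc
    have : z = 1 := congrArg Subtype.val hzc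
    rw [this, orderOf_one] at hz2
    omega
  · exact h.nonab ⟨⟨fun a b => mem_center_iff.1 (h1 ▸ mem_top b : b ∈ center L) a⟩⟩

/-- `S ⊓ L` is a Sylow 2-subgroup of `L`. -/
theorem Shape.exists_sylow (h : Shape z L) (S : Sylow 2 X) :
    ∃ P : Sylow 2 L, (P : Subgroup L) = (S : Subgroup X).subgroupOf L ∧ IsKleinFour ↥(P : Subgroup L) := by
  haveI : Fact (Nat.Prime 2) := ⟨Nat.prime_two⟩
  have hSL : IsKleinFour ↥((S : Subgroup X) ⊓ L) := h.klein S
  set Pp := (S : Subgroup X).subgroupOf L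
  have hPK : IsKleinFour Pp :=
    Transfer.isKleinFour_congr ((subgroupOfEquivOfLe (inf_le_right : (S : Subgroup X) ⊓ L ≤ L)).symm.trans
      (MulEquiv.subgroupCongr (inf_subgroupOf_right _ _))) hSL
  obtain ⟨P, hP⟩ := (S.2.comap_subtype (K := L)).exists_le_sylow
  have hPeq : (P : Subgroup L) = Pp := by
    refine (eq_of_le_of_card_ge hP ?_).symm
    obtain ⟨T, hT⟩ := (P.isPGroup'.map L.subtype).exists_le_sylow
    have h1 : (P : Subgroup L).map L.subtype ≤ (T : Subgroup X) ⊓ L := le_inf hT (map_subtype_le _)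
    rw [← card_map_of_injective (K := (P : Subgroup L)) L.subtype_injective]
    refine (card_le_of_le h1).trans ?_
    rw [(h.klein T).card_four]
    exact hPK.card_four.ge
  exact ⟨P, hPeq, hPeq ▸ hPK⟩

/-- An element of `L` centralising `S ⊓ L` lies in `S`. -/
theorem Shape.self_cent (h : Shape z L) (S : Sylow 2 X) {k : X} (hk : k ∈ L)
    (hc : ∀ s ∈ (S : Subgroup X), s ∈ L → Commute k s) : k ∈ (S : Subgroup X) := by
  haveI := h.simple
  obtain ⟨P, hP, hPK⟩ := h.exists_sylow S
  have h1 : (⟨k, hk⟩ : L) ∈ centralizer ((P : Subgroup L) : Set L) := mem_centralizer_iff.2 fun s hs =>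
    Subtype.ext (hc s (mem_subgroupOf.1 (hP.le hs)) s.2).symm.eq
  exact mem_subgroupOf.1 (hP.le (klein_self_centralizing h.nonab P hPK h1))

/-- An automorphism of odd order fixing `z` and the centraliser in `L` of a noncentral involution is
trivial. -/
theorem Shape.aut_eq_one (h : Shape z L) (hz2 : orderOf z = 2) (hz : z ∈ center X) (α : MulAut X)
    (hα : Odd (orderOf α)) (hαz : α z = z) {S : Sylow 2 X} {b : X} (hb : b ∈ (S : Subgroup X))
    (hzS : z ∈ (S : Subgroup X)) (hbb : b * b = 1) (hb1 : b ≠ 1) (hbz : b ≠ z)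
    (hfix : ∀ c ∈ L, Commute c b → α c = c) : α = 1 := by
  haveI : Fact (Nat.Prime 2) := ⟨Nat.prime_two⟩
  haveI := h.simple
  haveI := h.normal
  have hzz : z * z = 1 := Involution.mul_self hz2
  -- `α L = L`
  have hmap : L.map α.toMonoidHom = L := by
    haveI hn : (L.map α.toMonoidHom).Normal := h.normal.map _ α.surjective
    rcases ((inferInstance : ((L.map α.toMonoidHom).subgroupOf L).Normal)).eq_bot_or_eq_top with h1 | h1
    · exfalso
      have hinf : L.map α.toMonoidHom ⊓ L = ⊥ := disjoint_iff.1 (subgroupOf_eq_bot.1 h1)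
      have hle : L.map α.toMonoidHom ≤ zpowers z := h.cent ▸ (le_centralizer_iff.1 (fun x hx =>
        mem_centralizer_iff.2 fun y hy =>
          (Subgroup.commute_of_normal_of_disjoint _ _ hn h.normal (disjoint_iff.2 hinf) y x hy hx).eq))
      refine h.nonab ⟨⟨fun a b => Subtype.ext (α.injective ?_)⟩⟩
      have := congrArg Subtype.val (mul_comm' (⟨α a, hle ⟨a, a.2, rfl⟩⟩ : zpowers z)
        ⟨α b, hle ⟨b, b.2, rfl⟩⟩)
      simpa only [Subgroup.coe_mul, map_mul] using this
    · refine (eq_of_le_of_card_ge (subgroupOf_eq_top.1 h1) ?_).symm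
      exact (card_map_of_injective α.injective).le
  set β : MulAut L := (α.subgroupMap L).trans (MulEquiv.subgroupCongr hmap) with hβ
  have hβval : ∀ x : L, ((β x : L) : X) = α x := fun x => rfl
  have hβpow : ∀ (k : ℕ) (x : L), ((β ^ k) x : X) = (α ^ k) x := by
    intro k
    induction k with
    | zero => simp
    | succ k ih => intro x; rw [pow_succ', pow_succ', MulAut.mul_apply, MulAut.mul_apply, hβval, ih]
  have hβodd : Odd (orderOf β) := Odd.of_dvd_nat hα (orderOf_dvd_of_pow_eq_one (MulEquiv.ext fun x =>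
    Subtype.ext (by rw [hβpow, pow_orderOf_eq_one]; rfl)))
  -- a Sylow subgroup of `L` and an involution of it with the same centraliser as `b`
  obtain ⟨v, hvL, hvS, hv1, hvc⟩ : ∃ v ∈ L, v ∈ (S : Subgroup X) ∧ v ≠ 1 ∧
      ∀ c : X, Commute c v → Commute c b := by
    rcases h.decomp b hbb with hb' | hb'
    · exact ⟨b, hb', hb, hb1, fun c hc => hc⟩
    · refine ⟨b * z, hb', mul_mem hb hzS, fun e => hbz ?_, fun c hc => ?_⟩
      · rw [eq_inv_of_mul_eq_one_left e, Involution.inv_eq hz2]
      · have := hc.mul_right (show Commute c z from mem_center_iff.1 hz c)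
        rwa [mul_assoc, hzz, mul_one] at this
  obtain ⟨P, hPeq, hPK⟩ := h.exists_sylow S
  have hβ1 : β = 1 := klein_aut_eq_one h.nonab P hPK β hβodd (v := ⟨v, hvL⟩)
    (hPeq ▸ mem_subgroupOf.2 hvS) (fun e => hv1 (congrArg Subtype.val e))
    fun c hc => Subtype.ext ((hβval c).trans (hfix c c.2 (hvc c (hc.map L.subtype))))
  have hL1 : ∀ c ∈ L, α c = c := fun c hc => by rw [← hβval ⟨c, hc⟩, hβ1]; rfl
  refine MulEquiv.ext fun x => ?_
  set d := x⁻¹ * α x
  have hd : d ∈ zpowers z := h.cent ▸ mem_centralizer_iff.2 fun c hc => by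
    have h1 : x * c * x⁻¹ ∈ L := h.normal.conj_mem c hc x
    have h2 := hL1 _ h1
    rw [map_mul, map_mul, map_inv, hL1 c hc] at h2
    calc c * (x⁻¹ * α x) = x⁻¹ * (x * c * x⁻¹) * α x := by group
      _ = x⁻¹ * (α x * c * (α x)⁻¹) * α x := by rw [h2]
      _ = x⁻¹ * α x * c := by group
  obtain ⟨i, hi⟩ := mem_zpowers_iff.1 hd
  have hdfix : α d = d := by rw [← hi, map_zpow, hαz]
  have hpow : ∀ k : ℕ, (α ^ k) x = x * d ^ k := by
    intro k
    induction k with
    | zero => simp
    | succ k ih =>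
      rw [pow_succ', MulAut.mul_apply, ih, map_mul, map_pow, hdfix, pow_succ',
        ← mul_assoc x d, show x * d = α x by simp [d]]
  have h1 := hpow (orderOf α)
  rw [pow_orderOf_eq_one, MulAut.one_apply, left_eq_mul] at h1
  obtain ⟨j, hj⟩ := hα
  have hd2 : d ^ 2 = 1 := by
    rw [← hi, ← zpow_natCast, ← zpow_mul, mul_comm, zpow_mul, zpow_natCast, pow_two, hzz, one_zpow]
  rw [hj, pow_succ, pow_mul, hd2, one_pow, one_mul] at h1
  show α x = x
  exact (inv_mul_eq_one.1 h1).symm

/-- An element of odd order fixing the centraliser in `L` of a noncentral involution is trivial. -/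
theorem Shape.eq_one (h : Shape z L) (hz2 : orderOf z = 2) (hz : z ∈ center X) {φ : X}
    (hφ : Odd (orderOf φ)) {S : Sylow 2 X} {b : X} (hb : b ∈ (S : Subgroup X))
    (hzS : z ∈ (S : Subgroup X)) (hbb : b * b = 1) (hb1 : b ≠ 1) (hbz : b ≠ z)
    (hfix : ∀ c ∈ L, Commute c b → Commute φ c) : φ = 1 := by
  have h1 := h.aut_eq_one hz2 hz (MulAut.conj φ) (Odd.of_dvd_nat hφ (orderOf_map_dvd MulAut.conj φ))
    (by rw [MulAut.conj_apply, mem_center_iff.1 hz φ, mul_inv_cancel_right]) hb hzS hbb hb1 hbz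
    fun c hc hcb => by rw [MulAut.conj_apply, (hfix c hc hcb).eq, mul_inv_cancel_right]
  have hmem : φ ∈ zpowers z := h.cent ▸ mem_centralizer_iff.2 fun c _ => by
    have := congrArg (fun a : MulAut X => a c) h1
    simp only [MulAut.conj_apply, MulAut.one_apply] at this
    exact (mul_inv_eq_iff_eq_mul.1 this).symm
  have hd : orderOf φ ∣ 2 := hz2 ▸ orderOf_dvd_of_mem_zpowers hmem
  exact orderOf_eq_one_iff.1 (Nat.eq_one_of_dvd_coprimes (Nat.coprime_two_right.2 hφ) dvd_rfl hd)

end Cfsg.Agent.AbelianSylow.Core
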