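import Cfsg.Agent.Lib.AbelianSylow.Cent.FieldBorel
import Cfsg.Agent.Lib.Char.Perm

/-!
# No field automorphism, case (B): the action on the `q³ + 1` cosets of the point stabiliser (owner: helper87)

* `BorelTwo.card_quot`, `BorelTwo.two_transitive`, `BorelTwo.card_fixed_t` (`q + 1`),
  `BorelTwo.smul_ne` (an element of order prime to `q³ (q - 1)` fixes nothing)
-/

set_option autoImplicit false
set_option linter.unusedSectionVars false

namespace Cfsg.Agent.AbelianSylow.Field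

open Subgroup

universe u

variable {G : Type u} [Group G]

namespace BorelTwo

variable [Finite G] {t : G} {H P D : Subgroup G} {w : G} {q : ℕ} (B : BorelTwo t H P D w q)
include B

theorem card_quot : Nat.card (G ⧸ H) = q ^ 3 + 1 := by rw [← Subgroup.index_eq_card, B.index]

theorem two_transitive (x y x' y' : G ⧸ H) (hxy : x ≠ y) (hxy' : x' ≠ y') :
    ∃ g : G, g • x = x' ∧ g • y = y' := by
  suffices key : ∀ x y : G ⧸ H, x ≠ y →
      ∃ g : G, g • ((1 : G) : G ⧸ H) = x ∧ g • (w : G ⧸ H) = y by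
    obtain ⟨g, hgx, hgy⟩ := key x y hxy
    obtain ⟨g', hgx', hgy'⟩ := key x' y' hxy'
    exact ⟨g' * g⁻¹, by rw [mul_smul, ← hgx, inv_smul_smul, hgx'],
      by rw [mul_smul, ← hgy, inv_smul_smul, hgy']⟩
  intro x y hxy
  obtain ⟨a, rfl⟩ := QuotientGroup.mk_surjective x
  obtain ⟨b, rfl⟩ := QuotientGroup.mk_surjective y
  have hab : a⁻¹ * b ∉ H := fun h => hxy (QuotientGroup.eq.2 h)
  obtain ⟨p, hp, k, hk, e⟩ := B.exists_eq_mul hab
  refine ⟨a * p, ?_, ?_⟩ <;> rw [MulAction.Quotient.smul_coe, smul_eq_mul, QuotientGroup.eq]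
  · rw [show (a * p * 1)⁻¹ * a = p⁻¹ by group]
    exact inv_mem (B.P_le hp)
  · rw [show (a * p * w)⁻¹ * b = w⁻¹ * p⁻¹ * (a⁻¹ * b) by group, e,
      show w⁻¹ * p⁻¹ * (p * w * k) = k by group]
    exact hk

theorem card_fixed_t : Nat.card {x : G ⧸ H // t • x = x} = q + 1 := by
  classical
  have := Fintype.ofFinite G
  have h := B.ind_t 1
  have e : B.ext 1 = (1 : H → ℂ) := funext fun x => by simp [ext]
  rw [ind, e, Char.indFun_one_eq_fixedPoints, MonoidHom.one_apply, Units.val_one, mul_one] at h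
  have h' : (Nat.card (MulAction.fixedBy (G ⧸ H) t) : ℂ) = ((q + 1 : ℕ) : ℂ) := by
    rw [h, Nat.cast_succ]
  exact Nat.cast_injective (R := ℂ) h'

theorem smul_ne {g : G} (hg : g ≠ 1) (hc : (orderOf g).Coprime (q ^ 3 * (q - 1))) (x : G ⧸ H) :
    g • x ≠ x := by
  obtain ⟨a, rfl⟩ := QuotientGroup.mk_surjective x
  intro e
  rw [MulAction.Quotient.smul_coe, smul_eq_mul, QuotientGroup.eq] at e
  have hm : a⁻¹ * g * a ∈ H := by
    have := inv_mem e
    rwa [mul_inv_rev, inv_inv, ← mul_assoc] at this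
  have h1 : orderOf g ∣ q ^ 3 * (q - 1) := by
    rw [← B.card_H, ← show orderOf (a⁻¹ * g * a) = orderOf g from by
      rw [show a⁻¹ * g * a = MulAut.conj a⁻¹ g by simp, MulEquiv.orderOf_eq]]
    exact Subgroup.orderOf_dvd_natCard _ hm
  exact hg (orderOf_eq_one_iff.1 (Nat.eq_one_of_dvd_coprimes hc dvd_rfl h1))

end BorelTwo

end Cfsg.Agent.AbelianSylow.Field
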