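import Cfsg.Agent.Lib.AbelianSylow.Cent.FieldFrameMake

/-!
# Part (a): field automorphisms and their centralisers (owner: helper29)

For `fr : FieldFrame G t F E L A V D` and `d ∈ D`:
* `exists_rho`   : `C(t) →* D` killing `⟨t⟩ L`, the identity on `D`
* `exists_field` : `C_L(d) ≅ L₂(q₀)`, `q = q₀ ^ |d|`
* `cent_inf`, `card_cent_inf`, `card_cent` : `C(t) ∩ C(d) = ⟨t⟩ C_L(d) D`
* `one_class`    : the involutions of `C(d)` are conjugate in it
* `orderOf_dvd`  : `|d|` divides the number of involutions of `G`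
* `prime_dvd`    : if `|d|` is a power of `l` then `l` divides the number of involutions of `C(d)`
* `eq_zpowers`   : what centralises `C_L(d)` in `D` lies in `⟨d⟩`
-/

set_option autoImplicit false
set_option linter.style.haveILetI false

namespace Cfsg.Agent.AbelianSylow.Field

open Subgroup AbelianTwoPSL

universe u

variable {G : Type u} [Group G] [Finite G] {t : G} {F : Type} [Field F] [Fintype F] {E L : Subgroup G}
  {A : Sylow 2 G} {V D : Subgroup G}

theorem FieldFrame.comm_D (fr : FieldFrame G t F E L A V D) {a b : G} (ha : a ∈ D) (hb : b ∈ D) :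
    Commute a b := by
  haveI := fr.D_cyclic
  haveI := IsCyclic.isMulCommutative (α := D)
  exact congrArg Subtype.val (mul_comm' (⟨a, ha⟩ : D) ⟨b, hb⟩)

theorem FieldFrame.decomp_eq (fr : FieldFrame G t F E L A V D) {x y a b : G} (hx : x ∈ L) (hy : y ∈ L)
    (ha : a ∈ D) (hb : b ∈ D) (h : x * a = y * b) : x = y ∧ a = b := by
  have h1 : y⁻¹ * x ∈ D ⊓ L := mem_inf.2 ⟨by
    rw [show y⁻¹ * x = b * a⁻¹ by rw [eq_mul_inv_iff_mul_eq, mul_assoc, h, inv_mul_cancel_left]]
    exact mul_mem hb (inv_mem ha), mul_mem (inv_mem hy) hx⟩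
  rw [fr.D_inf, mem_bot, inv_mul_eq_one] at h1
  subst h1
  exact ⟨rfl, mul_left_cancel h⟩

theorem FieldFrame.decomp (fr : FieldFrame G t F E L A V D) {c : G} (hc : Commute c t) :
    ∃ x ∈ L, ∃ d ∈ D, c = x * d ∨ c = t * (x * d) := by
  rcases fr.frame.split c hc with he | ⟨e, he, rfl⟩
  · obtain ⟨x, hx, d, hd, rfl⟩ := fr.split c he
    exact ⟨x, hx, d, hd, Or.inl rfl⟩
  · obtain ⟨x, hx, d, hd, rfl⟩ := fr.split e he
    exact ⟨x, hx, d, hd, Or.inr rfl⟩

theorem FieldFrame.decomp_unique (fr : FieldFrame G t F E L A V D) {c x y a b : G} (hx : x ∈ L) (hy : y ∈ L)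
    (ha : a ∈ D) (hb : b ∈ D) (h1 : c = x * a ∨ c = t * (x * a)) (h2 : c = y * b ∨ c = t * (y * b)) :
    x = y ∧ a = b := by
  have hE : ∀ {x a : G}, x ∈ L → a ∈ D → x * a ∈ E := fun hx ha => mul_mem (fr.frame.le hx) (fr.D_le ha)
  have hne : ∀ {x a y b : G}, x ∈ L → a ∈ D → y ∈ L → b ∈ D → t * (x * a) ≠ y * b :=
    fun hx ha hy hb e => fr.frame.htE (by
      rw [eq_mul_inv_of_mul_eq e]
      exact mul_mem (hE hy hb) (inv_mem (hE hx ha)))
  rcases h1 with e | e <;> rcases h2 with e' | e'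
  · exact fr.decomp_eq hx hy ha hb (e.symm.trans e')
  · exact absurd (e'.symm.trans e) (hne hy hb hx ha)
  · exact absurd (e.symm.trans e') (hne hx ha hy hb)
  · exact fr.decomp_eq hx hy ha hb (mul_left_cancel (e.symm.trans e'))

/-- The projection of `C(t)` on `D`. -/
theorem FieldFrame.exists_rho (fr : FieldFrame G t F E L A V D) :
    ∃ ρ : ↥(centralizer ({t} : Set G)) →* ↥D, ∀ (c : ↥(centralizer ({t} : Set G))) (x d : G),
      x ∈ L → ∀ hd : d ∈ D, ((c : G) = x * d ∨ (c : G) = t * (x * d)) → ρ c = ⟨d, hd⟩ := by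
  classical
  choose x hx d hd hcd using fun c : ↥(centralizer ({t} : Set G)) =>
    fr.decomp (show Commute (c : G) t from mem_centralizer_singleton_iff.1 c.2)
  have huniq : ∀ c y b, y ∈ L → b ∈ D → ((c : ↥(centralizer ({t} : Set G))) : G) = y * b ∨
      (c : G) = t * (y * b) → d c = b := fun c y b hy hb hc =>
    (fr.decomp_unique (hx c) hy (hd c) hb (hcd c) hc).2
  refine ⟨MonoidHom.mk' (fun c => ⟨d c, hd c⟩) fun a b => Subtype.ext ?_, fun c y b hy hb hc =>
    Subtype.ext (huniq c y b hy hb hc)⟩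
  show d (a * b) = d a * d b
  have hy : x a * (d a * x b * (d a)⁻¹) ∈ L := mul_mem (hx a) (fr.frame.norm _ (fr.D_le (hd a)) _ (hx b))
  have e : x a * (d a * x b * (d a)⁻¹) * (d a * d b) = x a * d a * (x b * d b) := by group
  have hct : Commute (x a * d a) t :=
    fr.frame.comm _ (mul_mem (fr.frame.le (hx a)) (fr.D_le (hd a)))
  refine huniq _ _ _ hy (mul_mem (hd a) (hd b)) ?_
  rw [e, coe_mul]
  rcases hcd a with ea | ea <;> rcases hcd b with eb | eb <;> rw [ea, eb]
  · exact Or.inl rfl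
  · refine Or.inr ?_
    rw [← mul_assoc, hct.eq, mul_assoc]
  · exact Or.inr (mul_assoc _ _ _)
  · refine Or.inl ?_
    calc t * (x a * d a) * (t * (x b * d b)) = t * (x a * d a * t) * (x b * d b) := by group
      _ = (t * t) * (x a * d a) * (x b * d b) := by rw [hct.eq]; group
      _ = _ := by rw [fr.frame.mul_self_t, one_mul]

/-- The fixed group of a field automorphism. -/
theorem FieldFrame.exists_field (fr : FieldFrame G t F E L A V D) {d : G} (hd : d ∈ D) :
    ∃ (F₀ : Type) (_ : Field F₀) (_ : Fintype F₀), Fintype.card F₀ ^ orderOf d = Fintype.card F ∧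
      Nonempty (↥(L ⊓ centralizer ({d} : Set G)) ≃* PSL2.PSL2 F₀) := by
  obtain ⟨e⟩ := fr.shape.iso
  have hq : Odd (Nat.card F) := by
    rw [Nat.card_eq_fintype_card, Nat.odd_iff]
    have := fr.shape.mod8
    omega
  set α := fieldAct fr.frame.toCtx e ⟨d, fr.D_le hd⟩ with hα
  have happ : ∀ x : ↥L, α (e x) = e ⟨d * x * d⁻¹, fr.frame.norm d (fr.D_le hd) x x.2⟩ := fun x => by
    rw [hα, fieldAct_apply]
  have hinj : Function.Injective (fieldAct fr.frame.toCtx e) := by
    refine (injective_iff_map_eq_one _).2 fun z hz => Subtype.ext (fr.frame.cent z z.2 fun x hx => ?_)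
    have h1 := DFunLike.congr_fun hz (e ⟨x, hx⟩)
    rw [fieldAct_apply, MulAut.one_apply] at h1
    exact mul_inv_eq_iff_eq_mul.1 (congrArg Subtype.val (e.injective h1))
  have ho : orderOf α = orderOf d := by
    rw [hα, orderOf_injective _ hinj, Subgroup.orderOf_mk]
  have hk : IsKleinFour ((V.subgroupOf L).map e.toMonoidHom : Subgroup (PSL2.PSL2 F)) :=
    PSL2.isKleinFour_map e fr.frame.four
  have hfix : ∀ v ∈ (V.subgroupOf L).map e.toMonoidHom, α v = v := by
    rintro _ ⟨v, hv, rfl⟩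
    show α (e v) = e v
    rw [happ]
    refine congrArg e (Subtype.ext (mul_inv_eq_iff_eq_mul.2 ?_))
    exact (mem_centralizer_iff.1 (fr.cent_A hd) _ (fr.frame.memA hv)).symm
  obtain ⟨F₀, i1, i2, hcard, ⟨φ⟩⟩ := exists_fixed_equiv hq hk hfix
    (ho ▸ fr.D_odd.of_dvd_nat (Subgroup.orderOf_dvd_natCard D hd))
  refine ⟨F₀, i1, i2, by rw [← ho, hcard, Nat.card_eq_fintype_card], ⟨?_⟩⟩
  have hm : ((L ⊓ centralizer ({d} : Set G)).subgroupOf L).map e.toMonoidHom =
      MonoidHom.eqLocus α.toMonoidHom (MonoidHom.id (PSL2.PSL2 F)) := by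
    ext y
    obtain ⟨x, rfl⟩ := e.surjective y
    rw [mem_map]
    constructor
    · rintro ⟨x', hx', hxe⟩
      obtain rfl : x' = x := e.injective hxe
      show α (e x') = e x'
      rw [happ]
      refine congrArg e (Subtype.ext (mul_inv_eq_iff_eq_mul.2 ?_))
      exact (mem_centralizer_singleton_iff.1 (mem_subgroupOf.1 hx').2).symm
    · intro hy
      replace hy : α (e x) = e x := hy
      rw [happ] at hy
      exact ⟨x, mem_subgroupOf.2 (mem_inf.2 ⟨x.2, mem_centralizer_singleton_iff.2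
        (mul_inv_eq_iff_eq_mul.1 (congrArg Subtype.val (e.injective hy))).symm⟩), rfl⟩
  exact ((subgroupOfEquivOfLe inf_le_left).symm.trans
    ((equivMapOfInjective _ e.toMonoidHom e.injective).trans (MulEquiv.subgroupCongr hm))).trans φ

theorem FieldFrame.cent_inf (fr : FieldFrame G t F E L A V D) {d : G} (hd : d ∈ D) :
    centralizer ({t} : Set G) ⊓ centralizer ({d} : Set G) =
      zpowers t ⊔ (L ⊓ centralizer ({d} : Set G)) ⊔ D := by
  have htd : Commute t d := (fr.frame.comm d (fr.D_le hd)).symm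
  refine le_antisymm (fun c hc => ?_) (sup_le (sup_le ?_ ?_) ?_)
  · have hct : Commute c t := mem_centralizer_singleton_iff.1 hc.1
    have hcd : Commute c d := mem_centralizer_singleton_iff.1 hc.2
    obtain ⟨x, hx, b, hb, hcb⟩ := fr.decomp hct
    have hxd : Commute x d := by
      rcases hcb with rfl | rfl
      · simpa using hcd.mul_left (fr.comm_D hb hd).inv_left
      · simpa using (htd.inv_left.mul_left hcd).mul_left (fr.comm_D hb hd).inv_left
    have hxb : x * b ∈ zpowers t ⊔ (L ⊓ centralizer ({d} : Set G)) ⊔ D :=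
      mul_mem (mem_sup_left (mem_sup_right (mem_inf.2 ⟨hx, mem_centralizer_singleton_iff.2 hxd.eq⟩)))
        (mem_sup_right hb)
    rcases hcb with rfl | rfl
    · exact hxb
    · exact mul_mem (mem_sup_left (mem_sup_left (mem_zpowers t))) hxb
  · exact zpowers_le.2 (mem_inf.2 ⟨mem_centralizer_singleton_iff.2 rfl,
      mem_centralizer_singleton_iff.2 htd.eq⟩)
  · exact le_inf (fun x hx => mem_centralizer_singleton_iff.2 (fr.frame.commute_of_mem hx.1).eq) inf_le_right
  · exact fun b hb => mem_inf.2 ⟨mem_centralizer_singleton_iff.2 (fr.frame.comm b (fr.D_le hb)).eq,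
      mem_centralizer_singleton_iff.2 (fr.comm_D hb hd).eq⟩

theorem FieldFrame.card_cent_inf (fr : FieldFrame G t F E L A V D) {d : G} (hd : d ∈ D) :
    Nat.card ↥(centralizer ({t} : Set G) ⊓ centralizer ({d} : Set G)) =
      2 * Nat.card ↥(L ⊓ centralizer ({d} : Set G)) * Nat.card D := by
  classical
  set C := centralizer ({t} : Set G) ⊓ centralizer ({d} : Set G) with hC
  have hmem := fr.cent_inf hd
  let φ : (Fin 2 × ↥(L ⊓ centralizer ({d} : Set G))) × ↥D → ↥C := fun p =>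
    ⟨t ^ (p.1.1 : ℕ) * ((p.1.2 : G) * p.2), by
      rw [hC, hmem]
      exact mul_mem (mem_sup_left (mem_sup_left (pow_mem (mem_zpowers t) _)))
        (mul_mem (mem_sup_left (mem_sup_right p.1.2.2)) (mem_sup_right p.2.2))⟩
  have hφ : Function.Bijective φ := by
    constructor
    · rintro ⟨⟨i, x⟩, b⟩ ⟨⟨j, y⟩, b'⟩ he
      have he' : t ^ (i : ℕ) * ((x : G) * b) = t ^ (j : ℕ) * ((y : G) * b') := congrArg Subtype.val he
      have hij : i = j := by
        by_contra hne
        have hmem : ∀ {x' : G} {b' : G}, x' ∈ L → b' ∈ D → x' * b' ∈ E := fun h1 h2 =>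
          mul_mem (fr.frame.le h1) (fr.D_le h2)
        refine fr.frame.htE ?_
        fin_cases i <;> fin_cases j <;> simp at hne he'
        · rw [← mul_inv_eq_iff_eq_mul.2 he']
          exact mul_mem (hmem x.2.1 b.2) (inv_mem (hmem y.2.1 b'.2))
        · rw [eq_mul_inv_of_mul_eq he']
          exact mul_mem (hmem y.2.1 b'.2) (inv_mem (hmem x.2.1 b.2))
      subst hij
      obtain ⟨h1, h2⟩ := fr.decomp_eq x.2.1 y.2.1 b.2 b'.2 (mul_left_cancel he')
      rw [Subtype.ext h1, Subtype.ext h2]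
    · rintro ⟨c, hc⟩
      have hct : Commute c t := mem_centralizer_singleton_iff.1 hc.1
      have hcd : Commute c d := mem_centralizer_singleton_iff.1 hc.2
      have htd : Commute t d := (fr.frame.comm d (fr.D_le hd)).symm
      obtain ⟨x, hx, b, hb, hcb⟩ := fr.decomp hct
      rcases hcb with rfl | rfl
      · refine ⟨((0, ⟨x, mem_inf.2 ⟨hx, mem_centralizer_singleton_iff.2 ?_⟩⟩), ⟨b, hb⟩), Subtype.ext (by simp [φ])⟩
        simpa using (hcd.mul_left (fr.comm_D hb hd).inv_left).eq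
      · refine ⟨((1, ⟨x, mem_inf.2 ⟨hx, mem_centralizer_singleton_iff.2 ?_⟩⟩), ⟨b, hb⟩), Subtype.ext (by simp [φ])⟩
        simpa using ((htd.inv_left.mul_left hcd).mul_left (fr.comm_D hb hd).inv_left).eq
  rw [← Nat.card_congr (Equiv.ofBijective φ hφ), Nat.card_prod, Nat.card_prod, Nat.card_fin]

theorem FieldFrame.card_cent (fr : FieldFrame G t F E L A V D) :
    Nat.card ↥(centralizer ({t} : Set G)) = 2 * Nat.card L * Nat.card D := by
  have h := fr.card_cent_inf (one_mem D)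
  have htop : centralizer ({(1 : G)} : Set G) = ⊤ :=
    (eq_top_iff' _).2 fun x => mem_centralizer_singleton_iff.2 (by simp)
  rwa [htop, inf_top_eq, inf_top_eq] at h

/-- The involutions of `C(d)` are conjugate in it. -/
theorem FieldFrame.one_class (fr : FieldFrame G t F E L A V D) {d : G} (hd : d ∈ D) {u : G}
    (hu : orderOf u = 2) (hud : Commute u d) : ∃ x, Commute x d ∧ x * t * x⁻¹ = u := by
  haveI : Fact (Nat.Prime 2) := ⟨Nat.prime_two⟩
  set X := centralizer ({d} : Set G) with hX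
  have hAX : (A : Subgroup G) ≤ X := fun a ha =>
    mem_centralizer_singleton_iff.2 (mem_centralizer_iff.1 (fr.cent_A hd) a ha)
  have huX : u ∈ X := mem_centralizer_singleton_iff.2 hud.eq
  obtain ⟨R, hR⟩ := Core.exists_sylow_mem (G := X) (a := ⟨u, huX⟩) (Subtype.ext (Involution.mul_self hu))
  obtain ⟨⟨x, hx⟩, hxR⟩ := MulAction.exists_smul_eq X R (A.subtype hAX)
  have hxu : x * u * x⁻¹ ∈ (A : Subgroup G) := by
    have h1 : (⟨x, hx⟩ : X) * ⟨u, huX⟩ * (⟨x, hx⟩ : X)⁻¹ ∈ ((A.subtype hAX : Sylow 2 X) : Subgroup X) := by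
      rw [← hxR]
      exact ⟨_, hR, rfl⟩
    rw [Sylow.coe_subtype] at h1
    exact h1
  obtain ⟨n, hn, hnu⟩ := fr.shape.elem.normalizer_transitive A fr.frame.htA (Involution.ne_one fr.frame.ht)
    hxu fun e => Involution.ne_one hu (conj_eq_one_iff.1 e)
  refine ⟨x⁻¹ * n, ((show Commute x d from mem_centralizer_singleton_iff.1 hx).inv_left).mul_left
    (mem_centralizer_iff.1 (fr.norm_A hn) d hd).symm, ?_⟩
  calc x⁻¹ * n * t * (x⁻¹ * n)⁻¹ = x⁻¹ * (n * t * n⁻¹) * x := by group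
    _ = u := by rw [hnu]; group

/-- The transfer to `D`. -/
theorem FieldFrame.orderOf_dvd (fr : FieldFrame G t F E L A V D) {d : G} (hd : d ∈ D) :
    orderOf d ∣ (centralizer ({t} : Set G)).index := by
  classical
  haveI := fr.D_cyclic
  letI : CommGroup D := IsCyclic.commGroup
  obtain ⟨ρ, hρ⟩ := fr.exists_rho
  haveI := fr.shape.elem.simple
  have htriv : ∀ g : G, MonoidHom.transfer ρ g = 1 := by
    intro g
    rcases (MonoidHom.normal_ker (MonoidHom.transfer ρ)).eq_bot_or_eq_top with hb | ht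
    · refine absurd ⟨⟨fun a b => (MonoidHom.ker_eq_bot_iff _).1 hb ?_⟩⟩ fr.shape.elem.nonab
      rw [map_mul, map_mul, mul_comm]
    · exact MonoidHom.mem_ker.1 (ht ▸ mem_top g)
  have hterm : ∀ (k : ℕ) (g₀ : G) (h : g₀⁻¹ * d ^ k * g₀ ∈ centralizer ({t} : Set G)),
      ρ ⟨_, h⟩ = (⟨d, hd⟩ : D) ^ k := by
    intro k g₀ hk
    have hu : orderOf (g₀ * t * g₀⁻¹) = 2 := by
      rw [show g₀ * t * g₀⁻¹ = MulAut.conj g₀ t from rfl, MulEquiv.orderOf_eq]; exact fr.frame.ht
    have hud : Commute (g₀ * t * g₀⁻¹) (d ^ k) := by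
      have h1 := (show Commute (g₀⁻¹ * d ^ k * g₀) t from mem_centralizer_singleton_iff.1 hk).symm.map
        (MulAut.conj g₀).toMonoidHom
      simpa [mul_assoc] using h1
    obtain ⟨x, hxd, hxu⟩ := fr.one_class (pow_mem hd k) hu hud
    have hc : x⁻¹ * g₀ ∈ centralizer ({t} : Set G) := mem_centralizer_singleton_iff.2 (by
      calc x⁻¹ * g₀ * t = x⁻¹ * (g₀ * t * g₀⁻¹) * g₀ := by group
        _ = t * (x⁻¹ * g₀) := by rw [← hxu]; group)
    have hdt : d ^ k ∈ centralizer ({t} : Set G) :=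
      mem_centralizer_singleton_iff.2 (fr.frame.comm _ (fr.D_le (pow_mem hd k))).eq
    have e : (⟨_, hk⟩ : centralizer ({t} : Set G)) = ⟨_, hc⟩⁻¹ * ⟨_, hdt⟩ * ⟨_, hc⟩ := Subtype.ext (by
      show g₀⁻¹ * d ^ k * g₀ = (x⁻¹ * g₀)⁻¹ * d ^ k * (x⁻¹ * g₀)
      calc g₀⁻¹ * d ^ k * g₀ = g₀⁻¹ * (x * x⁻¹) * d ^ k * g₀ := by group
        _ = g₀⁻¹ * x * (d ^ k * x⁻¹) * g₀ := by rw [(hxd.inv_left).symm.eq]; group
        _ = _ := by group)
    rw [e, map_mul, map_mul, map_inv, mul_right_comm, inv_mul_cancel, one_mul,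
      hρ ⟨_, hdt⟩ 1 (d ^ k) (one_mem L) (pow_mem hd k) (Or.inl (one_mul _).symm)]
    exact Subtype.ext (by simp)
  let := Fintype.ofFinite (Quotient (MulAction.orbitRel (zpowers d) (G ⧸ centralizer ({t} : Set G))))
  have h1 := MonoidHom.transfer_eq_prod_quotient_orbitRel_zpowers_quot ρ d
  rw [htriv, Finset.prod_congr rfl fun q _ => hterm _ q.out.out _, Finset.prod_pow_eq_pow_sum,
    ← index_eq_sum_minimalPeriod] at h1
  rw [← Subgroup.orderOf_mk d hd]
  exact orderOf_dvd_of_pow_eq_one h1.symm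

/-- The number of involutions of `C(d)` is divisible by the prime of `|d|`. -/
theorem FieldFrame.prime_dvd (fr : FieldFrame G t F E L A V D) {d : G} (hd : d ∈ D) {l : ℕ} [Fact l.Prime]
    {k : ℕ} (hk : orderOf d = l ^ (k + 1)) :
    l ∣ Nat.card {u : G // orderOf u = 2 ∧ Commute u d} := by
  set C := centralizer ({t} : Set G)
  have hpg : IsPGroup l (zpowers d) := IsPGroup.of_card (n := k + 1) (by rw [Nat.card_zpowers, hk])
  have hmod := hpg.card_modEq_card_fixedPoints (G ⧸ C)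
  have hidx : l ∣ Nat.card (G ⧸ C) := (dvd_pow_self l (by omega)).trans (hk ▸ fr.orderOf_dvd hd)
  have hC : ∀ a b : G, (a : G ⧸ C) = b ↔ a * t * a⁻¹ = b * t * b⁻¹ := fun a b => by
    rw [QuotientGroup.eq, mem_centralizer_singleton_iff]
    constructor
    · intro h
      calc a * t * a⁻¹ = a * (t * (a⁻¹ * b)) * b⁻¹ := by group
        _ = b * t * b⁻¹ := by rw [← h]; group
    · intro h
      calc a⁻¹ * b * t = a⁻¹ * (b * t * b⁻¹) * b := by group
        _ = t * (a⁻¹ * b) := by rw [← h]; group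
  have hfix : ∀ a : G, (a : G ⧸ C) ∈ MulAction.fixedPoints (zpowers d) (G ⧸ C) ↔
      Commute (a * t * a⁻¹) d := by
    intro a
    constructor
    · intro h
      have h1 := h ⟨d, mem_zpowers d⟩
      rw [show (⟨d, mem_zpowers d⟩ : zpowers d) • (a : G ⧸ C) = ((d * a : G) : G ⧸ C) from rfl, hC] at h1
      show a * t * a⁻¹ * d = d * (a * t * a⁻¹)
      calc a * t * a⁻¹ * d = d * a * t * (d * a)⁻¹ * d := by rw [h1]
        _ = _ := by group
    · rintro h ⟨g, hg⟩
      show ((g * a : G) : G ⧸ C) = a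
      obtain ⟨i, rfl⟩ := mem_zpowers_iff.1 hg
      rw [hC, show d ^ i * a * t * (d ^ i * a)⁻¹ = d ^ i * (a * t * a⁻¹) * (d ^ i)⁻¹ by group,
        ← (h.zpow_right i).eq, mul_inv_cancel_right]
  let ψ : MulAction.fixedPoints (zpowers d) (G ⧸ C) → {u : G // orderOf u = 2 ∧ Commute u d} := fun q =>
    ⟨q.1.out * t * (q.1.out)⁻¹, by
      refine ⟨?_, (hfix _).1 (by rw [QuotientGroup.out_eq']; exact q.2)⟩
      rw [show q.1.out * t * (q.1.out)⁻¹ = MulAut.conj q.1.out t from rfl, MulEquiv.orderOf_eq]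
      exact fr.frame.ht⟩
  have hψ : Function.Bijective ψ := by
    constructor
    · intro q q' he
      refine Subtype.ext ?_
      rw [← QuotientGroup.out_eq' q.1, ← QuotientGroup.out_eq' q'.1, hC]
      exact congrArg Subtype.val he
    · rintro ⟨u, hu, hud⟩
      obtain ⟨g, hg⟩ := fr.shape.elem.one_class fr.frame.ht hu
      refine ⟨⟨(g : G ⧸ C), (hfix g).2 (hg ▸ hud)⟩, Subtype.ext ?_⟩
      show (Quotient.out _) * t * (Quotient.out _)⁻¹ = u
      subst hg
      rw [← hC]
      exact QuotientGroup.out_eq' _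
  rw [← Nat.card_congr (Equiv.ofBijective ψ hψ)]
  exact (Nat.ModEq.dvd_iff hmod dvd_rfl).1 hidx

theorem psl_card_lt {K M : Type} [Field K] [Fintype K] [Field M] [Fintype M] (hK : Odd (Fintype.card K))
    (hM : Odd (Fintype.card M)) (h : Fintype.card K < Fintype.card M) :
    Nat.card (PSL2.PSL2 K) < Nat.card (PSL2.PSL2 M) := by
  have h1 := card_psl_odd hK
  have h2 := card_psl_odd hM
  have h2K : 2 ≤ Fintype.card K := Fintype.one_lt_card
  have : Fintype.card K * ((Fintype.card K + 1) * (Fintype.card K - 1)) <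
      Fintype.card M * ((Fintype.card M + 1) * (Fintype.card M - 1)) :=
    Nat.mul_lt_mul_of_lt_of_le h (Nat.mul_le_mul (by omega) (by omega))
      (Nat.mul_pos (by omega) (by omega))
  omega

/-- What centralises `C_L(d)` in `D` lies in `⟨d⟩`. -/
theorem FieldFrame.eq_zpowers (fr : FieldFrame G t F E L A V D) {d z : G} (hd : d ∈ D) (hz : z ∈ D)
    (hc : ∀ x ∈ L, Commute x d → Commute x z) : z ∈ zpowers d := by
  haveI := fr.D_cyclic
  set W := zpowers d ⊔ zpowers z with hW
  have hWD : W ≤ D := sup_le (zpowers_le.2 hd) (zpowers_le.2 hz)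
  haveI : IsCyclic W := isCyclic_of_injective (inclusion hWD) (inclusion_injective hWD)
  obtain ⟨⟨w, hw⟩, hgen⟩ := IsCyclic.exists_generator (α := W)
  have hWw : W = zpowers w := by
    refine le_antisymm (fun x hx => ?_) (zpowers_le.2 hw)
    obtain ⟨i, hi⟩ := mem_zpowers_iff.1 (hgen ⟨x, hx⟩)
    exact mem_zpowers_iff.2 ⟨i, congrArg Subtype.val hi⟩
  obtain ⟨F₀, _, _, hF₀, ⟨e₀⟩⟩ := fr.exists_field hd
  obtain ⟨F₁, _, _, hF₁, ⟨e₁⟩⟩ := fr.exists_field (hWD hw)
  have hle : L ⊓ centralizer ({d} : Set G) ≤ L ⊓ centralizer ({w} : Set G) := by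
    rintro x ⟨hx, hxd⟩
    have hxd' : Commute x d := mem_centralizer_singleton_iff.1 hxd
    refine mem_inf.2 ⟨hx, mem_centralizer_singleton_iff.2 ?_⟩
    have : W ≤ centralizer ({x} : Set G) := sup_le
      (zpowers_le.2 (mem_centralizer_singleton_iff.2 hxd'.eq.symm))
      (zpowers_le.2 (mem_centralizer_singleton_iff.2 (hc x hx hxd').eq.symm))
    exact (mem_centralizer_singleton_iff.1 (this hw)).symm
  have hcard : Nat.card (PSL2.PSL2 F₀) ≤ Nat.card (PSL2.PSL2 F₁) := by
    rw [← Nat.card_congr e₀.toEquiv, ← Nat.card_congr e₁.toEquiv]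
    exact Nat.le_of_dvd Nat.card_pos (card_dvd_of_le hle)
  have hdw : orderOf d ∣ orderOf w := by
    rw [← Nat.card_zpowers w, ← hWw]
    exact Subgroup.orderOf_dvd_natCard W (mem_sup_left (mem_zpowers d))
  have heq : orderOf d = orderOf w := by
    by_contra hne
    have hlt : orderOf d < orderOf w := lt_of_le_of_ne (Nat.le_of_dvd (orderOf_pos w) hdw) hne
    have hodd : Odd (Fintype.card F) := by
      rw [Nat.odd_iff]
      have := fr.shape.mod8
      omega
    have h0 : Odd (Fintype.card F₀) := (Nat.odd_pow_iff (orderOf_pos d).ne').1 (hF₀ ▸ hodd)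
    have h1 : Odd (Fintype.card F₁) := (Nat.odd_pow_iff (orderOf_pos w).ne').1 (hF₁ ▸ hodd)
    have hlt' : Fintype.card F₁ < Fintype.card F₀ := by
      by_contra hge
      have h2 : 2 ≤ Fintype.card F₁ := Fintype.one_lt_card
      have := calc Fintype.card F₀ ^ orderOf d ≤ Fintype.card F₁ ^ orderOf d := Nat.pow_le_pow_left (not_lt.1 hge) _
        _ < Fintype.card F₁ ^ orderOf w := Nat.pow_lt_pow_right (by omega) hlt
      omega
    exact absurd (psl_card_lt h1 h0 hlt') (not_lt.2 hcard)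
  have hd' : zpowers d = W := eq_of_le_of_card_ge le_sup_left (by rw [hWw, Nat.card_zpowers, Nat.card_zpowers, heq])
  rw [hd']
  exact mem_sup_right (mem_zpowers z)

end Cfsg.Agent.AbelianSylow.Field
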