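import Cfsg.Agent.EqLemmas
import Cfsg.Agent.Lib.Char.Induced
import Cfsg.Agent.Lib.Char.Inner
import Cfsg.Agent.Lib.ClassCount.CharSum
import Cfsg.Agent.Lib.ReeCover.Exceptional

/-!
# No field automorphism, case (B): the characters induced from the point stabiliser (`FIELD_B.md`)

`H = P D`, `D = ⟨t⟩ × T` abelian of order `q - 1` inverted by `w ∉ H`, `P` semiregular on the other points.

* `BorelTwo`
* `BorelTwo.classInner_ind` : `⟨Ind l, Ind m⟩ = [l = m] + [l m = 1]`
* `BorelTwo.exists_family`  : the `(q - 3) / 2` irreducible characters of degree `q³ + 1`, their values at `t`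
  and at the elements of order prime to `q (q² - 1)`
-/

set_option autoImplicit false
set_option linter.unusedSectionVars false

namespace Cfsg.Agent.AbelianSylow.Field

open Subgroup
open scoped ComplexConjugate

universe u

variable {G : Type u} [Group G]

/-- A point stabiliser of the doubly transitive action with the torus inverted by `w`. -/
structure BorelTwo (t : G) (H P D : Subgroup G) (w : G) (q : ℕ) : Prop where
  odd_q : q % 8 = 3
  order_t : orderOf t = 2
  card_cent : Nat.card (centralizer ({t} : Set G)) = q * (q ^ 2 - 1)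
  t_mem : t ∈ D
  P_le : P ≤ H
  D_le : D ≤ H
  normal : H ≤ normalizer (P : Set G)
  card_P : Nat.card P = q ^ 3
  card_D : Nat.card D = q - 1
  card_H : Nat.card H = q ^ 3 * (q - 1)
  comm : ∀ a ∈ D, ∀ b ∈ D, a * b = b * a
  index : H.index = q ^ 3 + 1
  semireg : ∀ g : G, g ∉ H → ∀ p ∈ P, g⁻¹ * p * g ∈ H → p = 1
  w_not : w ∉ H
  w_inv : ∀ d ∈ D, w * d * w⁻¹ = d⁻¹
  cent_H : Nat.card (H ⊓ centralizer ({t} : Set G) : Subgroup G) = q * (q - 1)

namespace BorelTwo

variable [Finite G] {t : G} {H P D : Subgroup G} {w : G} {q : ℕ} (B : BorelTwo t H P D w q)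
include B

theorem three_le : 3 ≤ q := by have := B.odd_q; omega

theorem coprime : (q ^ 3).Coprime (q - 1) := by
  have h1 : Nat.Coprime ((q - 1) + 1) (q - 1) := by simp
  rw [Nat.sub_add_cancel (by have := B.three_le; omega)] at h1
  exact h1.pow_left 3

theorem disjoint {x : G} (hP : x ∈ P) (hD : x ∈ D) : x = 1 :=
  orderOf_eq_one_iff.1 (Nat.eq_one_of_dvd_coprimes B.coprime
    (B.card_P ▸ Subgroup.orderOf_dvd_natCard _ hP) (B.card_D ▸ Subgroup.orderOf_dvd_natCard _ hD))

/-- The characters of `H` over those of `D`. -/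
theorem exists_proj : ∃ π : ↥H →* ↥D, (∀ d : D, π ⟨d, B.D_le d.2⟩ = d) ∧
    ∀ h : H, (h : G) ∈ P → π h = 1 := by
  haveI : (P.subgroupOf H).Normal := normal_subgroupOf_of_le_normalizer B.normal
  let f : ↥D →* ↥H ⧸ P.subgroupOf H := (QuotientGroup.mk' _).comp (Subgroup.inclusion B.D_le)
  have hinj : Function.Injective f := (injective_iff_map_eq_one f).2 fun d hd =>
    Subtype.ext (B.disjoint ((QuotientGroup.eq_one_iff _).1 hd :) d.2)
  have hc : Nat.card (↥H ⧸ P.subgroupOf H) = Nat.card D := by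
    have h1 := (P.subgroupOf H).card_mul_index
    rw [Nat.card_congr (subgroupOfEquivOfLe B.P_le).toEquiv, B.card_P, B.card_H] at h1
    rw [← Subgroup.index_eq_card, B.card_D]
    exact Nat.eq_of_mul_eq_mul_left (pow_pos (by have := B.three_le; omega) 3) h1
  let e := MulEquiv.ofBijective f ((Nat.bijective_iff_injective_and_card f).2 ⟨hinj, hc.symm⟩)
  refine ⟨e.symm.toMonoidHom.comp (QuotientGroup.mk' _), fun d => ?_, fun h hh => ?_⟩
  · exact e.symm_apply_eq.2 rfl
  · show e.symm (QuotientGroup.mk' _ h) = 1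
    rw [show QuotientGroup.mk' (P.subgroupOf H) h = 1 from (QuotientGroup.eq_one_iff _).2 hh, map_one]

/-- The projection of `H` onto `D`. -/
noncomputable def proj : ↥H →* ↥D := B.exists_proj.choose

theorem proj_mem (d : D) : B.proj ⟨d, B.D_le d.2⟩ = d := B.exists_proj.choose_spec.1 d

theorem proj_P (h : H) (hh : (h : G) ∈ P) : B.proj h = 1 := B.exists_proj.choose_spec.2 h hh

/-- The extension of a character of `D`. -/
noncomputable def ext (l : ↥D →* ℂˣ) : ↥H →* ℂ := (Units.coeHom ℂ).comp (l.comp B.proj)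

/-- The induced character. -/
noncomputable def ind [Fintype G] (l : ↥D →* ℂˣ) : G → ℂ := indFun H (B.ext l)

theorem isCharacter_ind [Fintype G] (l : ↥D →* ℂˣ) : IsCharacter G (B.ind l) :=
  Char.IsCharacter.indFun H (Char.isCharacter_of_hom _)

theorem exists_eq_mul {x : G} (hx : x ∉ H) : ∃ p ∈ P, ∃ h ∈ H, x = p * w * h := by
  classical
  have := Fintype.ofFinite (G ⧸ H)
  let f : Option P → G ⧸ H := fun o => o.elim (QuotientGroup.mk 1) fun p => QuotientGroup.mk ((p : G) * w)
  have hne : ∀ p : P, (QuotientGroup.mk ((p : G) * w) : G ⧸ H) ≠ QuotientGroup.mk 1 := fun p e => by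
    have h := QuotientGroup.eq.1 e.symm
    rw [inv_one, one_mul] at h
    exact B.w_not ((mul_mem_cancel_left (B.P_le p.2)).1 h)
  have hinj : Function.Injective f := by
    rintro (_ | p) (_ | p') e
    · rfl
    · exact absurd e.symm (hne p')
    · exact absurd e (hne p)
    · have h := QuotientGroup.eq.1 e
      have h' : w⁻¹ * ((p : G)⁻¹ * p') * w ∈ H := by
        rwa [show w⁻¹ * ((p : G)⁻¹ * p') * w = ((p : G) * w)⁻¹ * (p' * w) by group]
      have h1 := B.semireg w B.w_not _ (mul_mem (inv_mem p.2) p'.2) h'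
      rw [inv_mul_eq_one] at h1
      rw [Subtype.ext h1]
  have hc : Nat.card (Option P) = Nat.card (G ⧸ H) := by
    rw [Finite.card_option, B.card_P, ← Subgroup.index_eq_card, B.index]
  obtain ⟨o, ho⟩ := ((Nat.bijective_iff_injective_and_card f).2 ⟨hinj, hc⟩).2 (QuotientGroup.mk x)
  match o, ho with
  | none, ho => exact absurd (by simpa using QuotientGroup.eq.1 (ho : QuotientGroup.mk (1 : G) = _)) hx
  | some p, ho =>
    exact ⟨p, p.2, _, QuotientGroup.eq.1 (ho : QuotientGroup.mk ((p : G) * w) = _), by group⟩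

theorem mem_conj_iff {h : G} (hh : h ∈ H) : w⁻¹ * h * w ∈ H ↔ h ∈ D := by
  constructor
  · intro hw
    set d : D := B.proj ⟨h, hh⟩ with hd
    have hp : (d : G)⁻¹ * h ∈ P := by
      haveI : (P.subgroupOf H).Normal := normal_subgroupOf_of_le_normalizer B.normal
      have hk : B.proj (⟨(d : G), B.D_le d.2⟩⁻¹ * ⟨h, hh⟩) = 1 := by
        rw [map_mul, map_inv, B.proj_mem, hd, inv_mul_cancel]
      by_contra hn
      have hker : Nat.card (B.proj.ker) = q ^ 3 := by
        have h1 := B.proj.ker.card_mul_index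
        rw [Subgroup.index_ker, MonoidHom.range_eq_top.2 (fun d => ⟨_, B.proj_mem d⟩),
          Subgroup.card_top, B.card_D, B.card_H] at h1
        exact Nat.eq_of_mul_eq_mul_right (by have := B.three_le; omega) h1
      have hle : P.subgroupOf H ≤ B.proj.ker := fun z hz => B.proj_P z hz
      have heq := Subgroup.eq_of_le_of_card_ge hle (by
        rw [hker, Nat.card_congr (subgroupOfEquivOfLe B.P_le).toEquiv, B.card_P])
      exact hn (heq ▸ (MonoidHom.mem_ker.2 hk) :)
    have h1 : w⁻¹ * ((d : G)⁻¹ * h) * w ∈ H := by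
      have e : w⁻¹ * ((d : G)⁻¹ * h) * w = (w⁻¹ * (d : G)⁻¹ * w) * (w⁻¹ * h * w) := by group
      have e2 : w⁻¹ * (d : G)⁻¹ * w = d := by
        have h3 := B.w_inv d d.2
        calc w⁻¹ * (d : G)⁻¹ * w = w⁻¹ * (w * d * w⁻¹) * w := by rw [h3]
          _ = d := by group
      rw [e, e2]; exact mul_mem (B.D_le d.2) hw
    have h2 := B.semireg w B.w_not _ hp h1
    rw [inv_mul_eq_one] at h2
    exact h2 ▸ d.2
  · intro hD
    have h3 := B.w_inv _ (inv_mem hD)
    rw [inv_inv] at h3
    rw [← h3, show w⁻¹ * (w * h⁻¹ * w⁻¹) * w = h⁻¹ by group]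
    exact inv_mem (B.D_le hD)

/-- The products. -/
theorem classInner_ind [Fintype G] [DecidableEq (↥D →* ℂˣ)] (l m : ↥D →* ℂˣ) :
    classInner (B.ind l) (B.ind m) = (if l = m then 1 else 0) + if l * m = 1 then 1 else 0 := by
  classical
  have := Fintype.ofFinite H
  have := Fintype.ofFinite D
  set N : ℂ := (Nat.card H : ℂ) with hN
  have hN0 : N ≠ 0 := Nat.cast_ne_zero.2 Nat.card_pos.ne'
  let S : G → ℂ := fun x => ∑ h : H, B.ext l h * conj (extendByZero H (B.ext m) (x⁻¹ * h * x))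
  have hD : ∀ n : ↥D →* ℂˣ, ∑ d : D, ReeCover.lam D n d = if n = 1 then (Nat.card D : ℂ) else 0 := by
    intro n
    split
    · subst n; simp [ReeCover.lam]
    · rename_i hn
      obtain ⟨x, hx⟩ : ∃ x, ReeCover.lam D n x ≠ 1 := by
        by_contra hh
        push Not at hh
        exact hn (MonoidHom.ext fun x => Units.ext (hh x))
      have h1 : ReeCover.lam D n x * ∑ d : D, ReeCover.lam D n d = ∑ d : D, ReeCover.lam D n d := by
        rw [Finset.mul_sum]
        exact Fintype.sum_equiv (Equiv.mulLeft x) _ _ fun d => by simp [ReeCover.lam]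
      have h2 : (ReeCover.lam D n x - 1) * ∑ d : D, ReeCover.lam D n d = 0 := by
        rw [sub_mul, h1, one_mul, sub_self]
      exact (mul_eq_zero.1 h2).resolve_left (sub_ne_zero.2 hx)
  have hiff : l * m⁻¹ = 1 ↔ l = m := by
    refine ⟨fun h => MonoidHom.ext fun x => mul_inv_eq_one.1 (DFunLike.congr_fun h x :), fun h => ?_⟩
    subst h
    exact MonoidHom.ext fun x => mul_inv_cancel (l x)
  have hext : ∀ (n : ↥D →* ℂˣ) (d : D), B.ext n ⟨d, B.D_le d.2⟩ = ReeCover.lam D n d := fun n d => by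
    simp [ext, ReeCover.lam, B.proj_mem]
  -- the inner stabiliser
  have hin : ∀ x ∈ H, S x = if l = m then N else 0 := by
    intro x hx
    have e : ∀ h : H, B.ext l h * conj (extendByZero H (B.ext m) (x⁻¹ * h * x)) =
        ReeCover.lam D (l * m⁻¹) (B.proj h) := by
      intro h
      rw [Char.extendByZero_mem _ _ (mul_mem (mul_mem (inv_mem hx) h.2) hx),
        show (⟨x⁻¹ * h * x, mul_mem (mul_mem (inv_mem hx) h.2) hx⟩ : H) = (⟨x, hx⟩ : H)⁻¹ * h * ⟨x, hx⟩ from rfl]
      have : B.ext m ((⟨x, hx⟩ : H)⁻¹ * h * ⟨x, hx⟩) = B.ext m h := by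
        rw [map_mul, map_mul, mul_comm (B.ext m _) (B.ext m h), mul_assoc, ← map_mul, inv_mul_cancel,
          map_one, mul_one]
      rw [this]
      show ReeCover.lam D l (B.proj h) * conj (ReeCover.lam D m (B.proj h)) = _
      rw [ReeCover.conj_lam]
      simp [ReeCover.lam]
    by_cases hlm : l = m
    · rw [if_pos hlm]
      simp only [S, e]
      simp [hlm, ReeCover.lam, N]
    · rw [if_neg hlm]
      simp only [S, e]
      obtain ⟨d, hd⟩ : ∃ d, ReeCover.lam D (l * m⁻¹) d ≠ 1 := by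
        by_contra hh
        push Not at hh
        exact hlm (hiff.1 (MonoidHom.ext fun x => Units.ext (hh x)))
      let d' : H := ⟨d, B.D_le d.2⟩
      have h1 : ReeCover.lam D (l * m⁻¹) d * ∑ h : H, ReeCover.lam D (l * m⁻¹) (B.proj h) =
          ∑ h : H, ReeCover.lam D (l * m⁻¹) (B.proj h) := by
        rw [Finset.mul_sum]
        exact Fintype.sum_equiv (Equiv.mulLeft d') _ _ fun h => by
          simp [ReeCover.lam, d', B.proj_mem]
          ring
      have h2 : (ReeCover.lam D (l * m⁻¹) d - 1) * ∑ h : H, ReeCover.lam D (l * m⁻¹) (B.proj h) = 0 := by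
        rw [sub_mul, h1, one_mul, sub_self]
      exact (mul_eq_zero.1 h2).resolve_left (sub_ne_zero.2 hd)
  -- the other points
  have hout : ∀ x : G, x ∉ H → S x = if l * m = 1 then (Nat.card D : ℂ) else 0 := by
    intro x hx
    obtain ⟨p, hp, k, hk, rfl⟩ := B.exists_eq_mul hx
    have e1 : S (p * w * k) = S w := by
      refine Fintype.sum_equiv (MulAut.conj (⟨p, B.P_le hp⟩ : H)⁻¹).toEquiv _ _ fun h => ?_
      set p' : H := ⟨p, B.P_le hp⟩
      show _ = B.ext l (p'⁻¹ * h * p'⁻¹⁻¹) *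
        conj (extendByZero H (B.ext m) (w⁻¹ * ((p'⁻¹ * h * p'⁻¹⁻¹ : H) : G) * w))
      have el : B.ext l (p'⁻¹ * h * p'⁻¹⁻¹) = B.ext l h := by
        rw [inv_inv, map_mul, map_mul, mul_comm (B.ext l _) (B.ext l h), mul_assoc, ← map_mul,
          inv_mul_cancel, map_one, mul_one]
      rw [el]
      congr 2
      have em : ((p'⁻¹ * h * p'⁻¹⁻¹ : H) : G) = p⁻¹ * h * p := by simp [p']
      rw [em, show (p * w * k)⁻¹ * (h : G) * (p * w * k) = k⁻¹ * (w⁻¹ * (p⁻¹ * h * p) * w) * k by group]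
      set z := w⁻¹ * (p⁻¹ * (h : G) * p) * w
      by_cases hz : z ∈ H
      · rw [Char.extendByZero_mem _ _ hz, Char.extendByZero_mem _ _ (mul_mem (mul_mem (inv_mem hk) hz) hk),
          show (⟨k⁻¹ * z * k, mul_mem (mul_mem (inv_mem hk) hz) hk⟩ : H) =
            (⟨k, hk⟩ : H)⁻¹ * ⟨z, hz⟩ * ⟨k, hk⟩ from rfl,
          map_mul, map_mul, mul_comm (B.ext m _) (B.ext m ⟨z, hz⟩), mul_assoc, ← map_mul,
          inv_mul_cancel, map_one, mul_one]
      · rw [Char.extendByZero_not_mem _ _ hz, Char.extendByZero_not_mem]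
        intro h'
        refine hz ?_
        have := mul_mem (mul_mem hk h') (inv_mem hk)
        rwa [show k * (k⁻¹ * z * k) * k⁻¹ = z by group] at this
    rw [e1, ← hD]
    simp only [S]
    let f : D ↪ H := ⟨fun d => ⟨d, B.D_le d.2⟩, fun a b e => Subtype.ext (congrArg (fun z : H => (z : G)) e :)⟩
    rw [← Finset.sum_subset (Finset.subset_univ (Finset.univ.map f)) fun h _ hn => ?_, Finset.sum_map]
    · refine Finset.sum_congr rfl fun d _ => ?_
      have h3 : w⁻¹ * (d : G) * w = (d : G)⁻¹ := by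
        have h4 := B.w_inv _ (inv_mem d.2)
        rw [inv_inv] at h4
        calc w⁻¹ * (d : G) * w = w⁻¹ * (w * (d : G)⁻¹ * w⁻¹) * w := by rw [h4]
          _ = (d : G)⁻¹ := by group
      show B.ext l ⟨d, B.D_le d.2⟩ * conj (extendByZero H (B.ext m) (w⁻¹ * (d : G) * w)) = _
      rw [h3, Char.extendByZero_mem _ _ (inv_mem (B.D_le d.2)),
        show (⟨(d : G)⁻¹, inv_mem (B.D_le d.2)⟩ : H) = ⟨((d⁻¹ : D) : G), B.D_le (d⁻¹).2⟩ from rfl,
        hext, hext, ReeCover.conj_lam, inv_inv]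
      simp [ReeCover.lam]
    · rw [Char.extendByZero_not_mem, map_zero, mul_zero]
      intro hw
      exact hn (Finset.mem_map.2 ⟨⟨h, (B.mem_conj_iff h.2).1 hw⟩, Finset.mem_univ _, rfl⟩)
  have hsum : classInner (B.ind l) (B.ind m) = N⁻¹ * (N⁻¹ * ∑ x : G, S x) := by
    rw [ind, ind, Char.frobenius_reciprocity H _ (Char.indFun_isClassFunction H _), classInner]
    simp only [indFun, map_mul, map_inv₀, map_natCast, map_sum, S, Finset.mul_sum, ← hN]
    rw [Finset.sum_comm]
    exact Finset.sum_congr rfl fun x _ => Finset.sum_congr rfl fun h _ => by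
      rw [show conj N = N from map_natCast _ _]; ring
  have hsplit : ∑ x : G, S x = N * (if l = m then N else 0) +
      ((Nat.card G : ℂ) - N) * (if l * m = 1 then (Nat.card D : ℂ) else 0) := by
    rw [← Finset.sum_add_sum_compl (Finset.univ.filter (· ∈ H)), Finset.sum_congr rfl fun x hx =>
      hin x (Finset.mem_filter.1 hx).2, Finset.sum_congr rfl fun x hx => hout x (fun h => by simp [h] at hx),
      Finset.sum_const, Finset.sum_const, nsmul_eq_mul, nsmul_eq_mul, Finset.card_compl,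
      ← Fintype.card_subtype, ← Nat.card_eq_fintype_card, ← Nat.card_eq_fintype_card]
    rw [Nat.cast_sub (Nat.card_le_card_of_injective _ Subtype.val_injective)]
  have hG : (Nat.card G : ℂ) - N = ((q : ℂ) ^ 3) * N := by
    rw [← H.card_mul_index, B.index]; push_cast; rw [← hN]; ring
  have hDN : (q : ℂ) ^ 3 * (Nat.card D : ℂ) = N := by
    rw [hN, B.card_H, B.card_D]; push_cast; ring
  rw [hsum, hsplit, hG]
  split_ifs <;> field_simp <;> first
    | ring1
    | linear_combination hDN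
    | linear_combination N * hDN

/-- The value at an element of order prime to `q (q² - 1)`. -/
theorem ind_eq_zero [Fintype G] (l : ↥D →* ℂˣ) {g : G} (hg : g ≠ 1)
    (hc : (orderOf g).Coprime (q * (q ^ 2 - 1))) : B.ind l g = 0 := by
  simp only [ind, indFun]
  rw [Finset.sum_eq_zero fun x _ => ?_, mul_zero]
  apply Char.extendByZero_not_mem
  intro hx
  refine hg ?_
  have h1 : orderOf g ∣ q ^ 3 * (q - 1) := by
    rw [← B.card_H, ← show orderOf (x⁻¹ * g * x) = orderOf g from by
      rw [show x⁻¹ * g * x = MulAut.conj x⁻¹ g by simp, MulEquiv.orderOf_eq]]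
    exact Subgroup.orderOf_dvd_natCard _ hx
  have h2 : (orderOf g).Coprime (q ^ 3 * (q - 1)) := by
    have hq := hc.coprime_dvd_right (dvd_mul_right _ _)
    refine (hq.pow_right 3).mul_right (hc.coprime_dvd_right (Dvd.dvd.mul_left ⟨q + 1, ?_⟩ _))
    have := Nat.sq_sub_sq q 1
    rw [one_pow] at this
    rw [this, mul_comm]
  exact orderOf_eq_one_iff.1 (Nat.eq_one_of_dvd_coprimes h2 dvd_rfl h1)

/-- The involutions of `H` are conjugate to `t`. -/
theorem conj_t {x : G} (hx : x ∈ H) (h2 : orderOf x = 2) : ∃ h ∈ H, h * t * h⁻¹ = x := by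
  have : Fact (Nat.Prime 2) := ⟨Nat.prime_two⟩
  have hf : (Nat.card H).factorization 2 = 1 := by
    have hq := B.odd_q
    have e : Nat.card H = 2 * (q ^ 3 * ((q - 1) / 2)) := by
      rw [B.card_H]
      conv_lhs => rw [show q - 1 = 2 * ((q - 1) / 2) by omega]
      ring
    have ho : ¬ 2 ∣ q ^ 3 * ((q - 1) / 2) := by
      rw [Nat.prime_two.dvd_mul, not_or]
      exact ⟨fun h => by have := Nat.prime_two.dvd_of_dvd_pow h; omega, by omega⟩
    rw [e, Nat.factorization_mul two_ne_zero (fun h => ho (by rw [h]; exact dvd_zero _)), Finsupp.add_apply,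
      Nat.Prime.factorization_self Nat.prime_two, Nat.factorization_eq_zero_of_not_dvd ho]
  have hmk : ∀ y : G, ∀ hy : y ∈ H, orderOf y = 2 →
      ∃ S : Sylow 2 H, (S : Subgroup H) = zpowers (⟨y, hy⟩ : H) := fun y hy h =>
    ⟨Sylow.ofCard (zpowers (⟨y, hy⟩ : H)) (by rw [Nat.card_zpowers, orderOf_mk, h, hf, pow_one]), rfl⟩
  obtain ⟨S, hS⟩ := hmk t (B.D_le B.t_mem) B.order_t
  obtain ⟨R, hR⟩ := hmk x hx h2
  obtain ⟨g, hg⟩ := MulAction.exists_smul_eq H S R
  have h1 : g * ⟨t, B.D_le B.t_mem⟩ * g⁻¹ ∈ (R : Subgroup H) := by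
    rw [← hg, Sylow.coe_subgroup_smul]
    exact ⟨⟨t, B.D_le B.t_mem⟩, hS ▸ mem_zpowers _, rfl⟩
  rw [hR, mem_zpowers_iff] at h1
  obtain ⟨n, hn⟩ := h1
  refine ⟨g, g.2, ?_⟩
  have h3 : x ^ n = (g : G) * t * (g : G)⁻¹ := by
    have := congrArg (fun z : H => (z : G)) hn
    simpa using this
  have hxx : x * x = 1 := by rw [← pow_two, ← h2]; exact pow_orderOf_eq_one x
  rcases Int.even_or_odd' n with ⟨i, rfl | rfl⟩
  · rw [zpow_mul, zpow_two, hxx, one_zpow, eq_comm, conj_eq_one_iff] at h3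
    have h4 := B.order_t
    rw [h3, orderOf_one] at h4
    omega
  · rw [zpow_add, zpow_mul, zpow_two, hxx, one_zpow, zpow_one, one_mul] at h3
    exact h3.symm

/-- The value at `t`. -/
theorem ind_t [Fintype G] (l : ↥D →* ℂˣ) : B.ind l t = ((q : ℂ) + 1) * ((l ⟨t, B.t_mem⟩ : ℂˣ) : ℂ) := by
  classical
  have := Fintype.ofFinite H
  set σ : ℂ := ((l ⟨t, B.t_mem⟩ : ℂˣ) : ℂ)
  let C := centralizer ({t} : Set G)
  have := Fintype.ofFinite C
  have hval : ∀ x : G, extendByZero H (B.ext l) (x⁻¹ * t * x) =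
      if x⁻¹ * t * x ∈ H then σ else 0 := by
    intro x
    split
    · rename_i hx
      rw [Char.extendByZero_mem _ _ hx]
      obtain ⟨h, hh, e⟩ := B.conj_t hx (by
        rw [show x⁻¹ * t * x = MulAut.conj x⁻¹ t by simp, MulEquiv.orderOf_eq, B.order_t])
      have e' : (⟨x⁻¹ * t * x, hx⟩ : H) = ⟨h, hh⟩ * ⟨t, B.D_le B.t_mem⟩ * (⟨h, hh⟩ : H)⁻¹ :=
        Subtype.ext e.symm
      rw [e', map_mul, map_mul, mul_comm (B.ext l ⟨h, hh⟩), mul_assoc, ← map_mul, mul_inv_cancel,
        map_one, mul_one]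
      simp [ext, σ, B.proj_mem ⟨t, B.t_mem⟩]
    · rename_i hx
      exact Char.extendByZero_not_mem _ _ hx
  -- the number of `x` with `x⁻¹ t x ∈ H`
  let CH : Subgroup G := H ⊓ C
  let α := {x : G // x⁻¹ * t * x ∈ H}
  let f : C × H → α := fun p => ⟨(p.1 : G) * p.2, by
    have e : ((p.1 : G) * p.2)⁻¹ * t * ((p.1 : G) * p.2) = (p.2 : G)⁻¹ * t * p.2 := by
      have hc : (p.1 : G) * t = t * p.1 := mem_centralizer_singleton_iff.1 p.1.2
      calc ((p.1 : G) * p.2)⁻¹ * t * ((p.1 : G) * p.2) = (p.2 : G)⁻¹ * ((p.1 : G)⁻¹ * (t * p.1)) * p.2 := by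
            group
        _ = _ := by rw [← hc, inv_mul_cancel_left]
    rw [e]; exact mul_mem (mul_mem (inv_mem p.2.2) (B.D_le B.t_mem)) p.2.2⟩
  have hfib : ∀ y : α, Nat.card {p : C × H // f p = y} = Nat.card CH := by
    rintro ⟨x, hx⟩
    obtain ⟨h, hh, e⟩ := B.conj_t hx (by
      rw [show x⁻¹ * t * x = MulAut.conj x⁻¹ t by simp, MulEquiv.orderOf_eq, B.order_t])
    have hxh : x * h ∈ C := mem_centralizer_singleton_iff.2 (by
      calc x * h * t = x * (h * t * h⁻¹) * h := by group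
        _ = t * (x * h) := by rw [e]; group)
    refine Nat.card_congr
      { toFun := fun p => ⟨(x * h)⁻¹ * p.1.1,
          Subgroup.mem_inf.2 ⟨?_, C.mul_mem (C.inv_mem hxh) p.1.1.2⟩⟩
        invFun := fun z => ⟨(⟨x * h * z, C.mul_mem hxh (Subgroup.mem_inf.1 z.2).2⟩,
          ⟨(z : G)⁻¹ * h⁻¹, H.mul_mem (H.inv_mem (Subgroup.mem_inf.1 z.2).1) (H.inv_mem hh)⟩),
          Subtype.ext (by simp [f, mul_assoc])⟩
        left_inv := fun p => ?_
        right_inv := fun z => ?_ }
    · have e2 : (p.1.1 : G) * p.1.2 = x := congrArg Subtype.val p.2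
      have e3 : x⁻¹ * (p.1.1 : G) = (p.1.2 : G)⁻¹ := by
        rw [inv_mul_eq_iff_eq_mul, eq_mul_inv_iff_mul_eq]; exact e2
      rw [show (x * h)⁻¹ * (p.1.1 : G) = h⁻¹ * (p.1.2 : G)⁻¹ by rw [← e3]; group]
      exact mul_mem (inv_mem hh) (inv_mem p.1.2.2)
    · have e2 : (p.1.1 : G) * p.1.2 = x := congrArg Subtype.val p.2
      apply Subtype.ext
      refine Prod.ext (Subtype.ext ?_) (Subtype.ext ?_)
      · show x * h * ((x * h)⁻¹ * (p.1.1 : G)) = _
        rw [mul_inv_cancel_left]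
      · show ((x * h)⁻¹ * (p.1.1 : G))⁻¹ * h⁻¹ = _
        calc ((x * h)⁻¹ * (p.1.1 : G))⁻¹ * h⁻¹ = (p.1.1 : G)⁻¹ * x := by group
          _ = (p.1.2 : G) := inv_mul_eq_iff_eq_mul.2 e2.symm
    · exact Subtype.ext (inv_mul_cancel_left _ _)
  have hcount : Nat.card α * Nat.card CH = Nat.card C * Nat.card H := by
    have := Fintype.ofFinite α
    rw [← Nat.card_prod C H, ← Nat.card_congr (Equiv.sigmaFiberEquiv f), Nat.card_sigma,
      Finset.sum_congr rfl fun y _ => hfib y, Finset.sum_const, Finset.card_univ, smul_eq_mul,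
      ← Nat.card_eq_fintype_card]
  simp only [ind, indFun, hval]
  rw [← Finset.sum_filter, Finset.sum_const, nsmul_eq_mul, ← Fintype.card_subtype,
    ← Nat.card_eq_fintype_card]
  have hα : (Nat.card α : ℂ) = ((q : ℂ) + 1) * (Nat.card H : ℂ) := by
    have h1 : Nat.card α = (q + 1) * Nat.card H := by
      have hsq : q ^ 2 - 1 = (q + 1) * (q - 1) := by
        have := Nat.sq_sub_sq q 1; rwa [one_pow] at this
      rw [show Nat.card CH = q * (q - 1) from B.cent_H, show Nat.card C = q * (q ^ 2 - 1) from B.card_cent,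
        hsq] at hcount
      refine Nat.eq_of_mul_eq_mul_right (show 0 < q * (q - 1) by
        have := B.three_le
        exact Nat.mul_pos (by omega) (by omega)) (hcount.trans ?_)
      ring
    rw [h1]; push_cast; ring
  rw [hα]
  have hH0 : (Nat.card H : ℂ) ≠ 0 := Nat.cast_ne_zero.2 Nat.card_pos.ne'
  field_simp

/-- The `(q - 3) / 2` characters of degree `q³ + 1`. -/
theorem exists_family [Fintype G] [Fintype (IrrCharacter G)] :
    ∃ C : Finset (IrrCharacter G), 2 * C.card = q - 3 ∧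
      (∀ φ ∈ C, (φ : G → ℂ) 1 = ((q ^ 3 + 1 : ℕ) : ℂ) ∧
        ((φ : G → ℂ) t = (q : ℂ) + 1 ∨ (φ : G → ℂ) t = -((q : ℂ) + 1)) ∧
        ∀ g : G, g ≠ 1 → (orderOf g).Coprime (q * (q ^ 2 - 1)) → (φ : G → ℂ) g = 0) ∧
      2 * ∑ φ ∈ C, Complex.normSq ((φ : G → ℂ) t) = ((q : ℝ) - 3) * ((q : ℝ) + 1) ^ 2 := by
  classical
  have := Fintype.ofFinite D
  have := Fintype.ofFinite (IrrCharacter D)
  let _ := Fintype.ofEquiv _ (ReeCover.dualEquiv B.comm).symm
  let Λ : Finset (↥D →* ℂˣ) := Finset.univ.filter fun l => l * l ≠ 1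
  have hirr : ∀ l ∈ Λ, IsIrrCharacter G (B.ind l) := fun l hl => by
    rw [Char.isIrrCharacter_iff_norm_one (B.isCharacter_ind l), B.classInner_ind, if_pos rfl,
      if_neg (Finset.mem_filter.1 hl).2, add_zero]
  let one : IrrCharacter G := ⟨fun _ => 1, Char.isIrrCharacter_one⟩
  let mk : (↥D →* ℂˣ) → IrrCharacter G := fun l =>
    if h : IsIrrCharacter G (B.ind l) then ⟨B.ind l, h⟩ else one
  have hmk : ∀ l ∈ Λ, (mk l : G → ℂ) = B.ind l := fun l hl => by simp [mk, dif_pos (hirr l hl)]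
  have hvt : ∀ l : ↥D →* ℂˣ, B.ind l t = (q : ℂ) + 1 ∨ B.ind l t = -((q : ℂ) + 1) := by
    intro l
    have h2 : ((l ⟨t, B.t_mem⟩ : ℂˣ) : ℂ) * ((l ⟨t, B.t_mem⟩ : ℂˣ) : ℂ) = 1 := by
      rw [← Units.val_mul, ← map_mul]
      have e : (⟨t, B.t_mem⟩ : D) * ⟨t, B.t_mem⟩ = 1 := Subtype.ext (by
        show t * t = 1
        rw [← pow_two, ← B.order_t]; exact pow_orderOf_eq_one t)
      rw [e, map_one, Units.val_one]
    rcases mul_self_eq_one_iff.1 h2 with e | e <;> rw [B.ind_t, e]
    · exact Or.inl (mul_one _)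
    · exact Or.inr (mul_neg_one _)
  have hcnt : 2 * (Λ.image mk).card = q - 3 := by
    have hΛinv : ∀ l ∈ Λ, l⁻¹ ∈ Λ ∧ l⁻¹ ≠ l := fun l hl => by
      have h1 := (Finset.mem_filter.1 hl).2
      refine ⟨Finset.mem_filter.2 ⟨Finset.mem_univ _, fun e => h1 (MonoidHom.ext fun x => ?_)⟩,
        fun e => h1 (MonoidHom.ext fun x => ?_)⟩
      · have := DFunLike.congr_fun e x
        show l x * l x = 1
        rw [← inv_inj, mul_inv_rev, inv_one]
        exact this
      · have := DFunLike.congr_fun e x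
        show l x * l x = 1
        nth_rw 1 [← this]
        exact inv_mul_cancel (l x)
    have hfib : ∀ φ ∈ Λ.image mk, (Λ.filter fun m => mk m = φ).card = 2 := by
      intro φ hφ
      obtain ⟨l, hl, rfl⟩ := Finset.mem_image.1 hφ
      have h2 : Λ.filter (fun m => mk m = mk l) = {l, l⁻¹} := by
        ext m
        rw [Finset.mem_filter, Finset.mem_insert, Finset.mem_singleton]
        constructor
        · rintro ⟨hm, e⟩
          have h1 : classInner (B.ind m) (B.ind l) = 1 := by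
            rw [← hmk m hm, ← hmk l hl, e]
            exact Char.classInner_irr_self (mk l).2
          rw [B.classInner_ind] at h1
          by_contra hne
          rw [not_or] at hne
          have h3 : m * l ≠ 1 := fun e' => hne.2 (MonoidHom.ext fun x =>
            eq_inv_of_mul_eq_one_left (DFunLike.congr_fun e' x :))
          rw [if_neg hne.1, if_neg h3, add_zero] at h1
          exact zero_ne_one h1
        · rintro (rfl | rfl)
          · exact ⟨hl, rfl⟩
          · obtain ⟨hli, hne⟩ := hΛinv l hl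
            refine ⟨hli, Subtype.ext ?_⟩
            rw [hmk _ hli, hmk l hl]
            have h1 : classInner (B.ind l⁻¹) (B.ind l) ≠ 0 := by
              rw [B.classInner_ind, if_neg hne, if_pos (MonoidHom.ext fun x => inv_mul_cancel (l x))]
              norm_num
            by_contra hne'
            exact h1 (Char.classInner_irr_of_ne (hirr _ hli) (hirr l hl) hne')
      rw [h2, Finset.card_pair (hΛinv l hl).2.symm]
    have hΛ : Λ.card = q - 3 := by
      set k := (q - 1) / 2 with hk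
      have hk2 : q - 1 = 2 * k := by have := B.odd_q; omega
      have hkodd : Odd k := Nat.odd_iff.2 (by have := B.odd_q; omega)
      let T : D := ⟨t, B.t_mem⟩
      have hpow : ∀ d : D, d ^ k = 1 ∨ d ^ k = T := by
        intro d
        have h2 : (d ^ k) ^ 2 = 1 := by
          rw [← pow_mul, mul_comm, ← hk2, ← B.card_D]; exact pow_card_eq_one'
        by_cases h1 : d ^ k = 1
        · exact Or.inl h1
        refine Or.inr ?_
        have ho : orderOf ((d ^ k : D) : G) = 2 := by
          rw [Subgroup.orderOf_coe]; exact orderOf_eq_prime h2 h1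
        obtain ⟨h, hh, e⟩ := B.conj_t (B.D_le (d ^ k).2) ho
        have e' := congrArg B.proj (Subtype.ext e :
          (⟨h, hh⟩ : H) * ⟨t, B.D_le B.t_mem⟩ * (⟨h, hh⟩ : H)⁻¹ = ⟨((d ^ k : D) : G), B.D_le (d ^ k).2⟩)
        rw [map_mul, map_mul, map_inv, B.proj_mem ⟨t, B.t_mem⟩, B.proj_mem] at e'
        rw [← e']
        exact Subtype.ext (by
          show ((B.proj ⟨h, hh⟩ : D) : G) * t * ((B.proj ⟨h, hh⟩ : D) : G)⁻¹ = t
          rw [B.comm _ (B.proj ⟨h, hh⟩).2 t B.t_mem, mul_inv_cancel_right])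
      have hdet : ∀ l m : ↥D →* ℂˣ, l * l = 1 → m * m = 1 → l T = m T → l = m := by
        intro l m hl hm e
        have hval : ∀ n : ↥D →* ℂˣ, n * n = 1 → ∀ d, n d = n (d ^ k) := by
          intro n hn d
          obtain ⟨j, hj⟩ := hkodd
          have h1 : n d * n d = 1 := DFunLike.congr_fun hn d
          rw [map_pow, hj, pow_succ, pow_mul, pow_two, h1, one_pow, one_mul]
        refine MonoidHom.ext fun d => ?_
        rw [hval l hl, hval m hm]
        rcases hpow d with e1 | e1 <;> rw [e1]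
        · rw [map_one, map_one]
        · exact e
      have hTT : ∀ n : ↥D →* ℂˣ, ((n T : ℂˣ) : ℂ) = 1 ∨ ((n T : ℂˣ) : ℂ) = -1 := fun n => by
        have h := hvt n
        rw [B.ind_t] at h
        have hq0 : (q : ℂ) + 1 ≠ 0 := Nat.cast_add_one_ne_zero q
        rcases h with h | h
        · exact Or.inl (mul_left_cancel₀ hq0 (h.trans (mul_one _).symm))
        · exact Or.inr (mul_left_cancel₀ hq0 (h.trans (mul_neg_one _).symm))
      obtain ⟨s₀, hs₀⟩ := exists_prime_orderOf_dvd_card' (G := ↥D →* ℂˣ) 2 (by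
        rw [ReeCover.card_dual B.comm, B.card_D, hk2]; exact dvd_mul_right 2 k)
      have hs1 : s₀ ≠ 1 := fun e => by rw [e, orderOf_one] at hs₀; omega
      have hs2 : s₀ * s₀ = 1 := (pow_two s₀).symm.trans (hs₀ ▸ pow_orderOf_eq_one s₀)
      have hcompl : Λᶜ = {1, s₀} := by
        ext l
        simp only [Λ, Finset.mem_compl, Finset.mem_filter, Finset.mem_univ, true_and, ne_eq, not_not,
          Finset.mem_insert, Finset.mem_singleton]
        refine ⟨fun hl => ?_, ?_⟩
        · rcases hTT l with e | e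
          · exact Or.inl (hdet l 1 hl (one_mul (1 : ↥D →* ℂˣ)) (Units.ext (by simpa using e)))
          · refine Or.inr (hdet l s₀ hl hs2 ?_)
            rcases hTT s₀ with e' | e'
            · exact absurd (hdet s₀ 1 hs2 (one_mul (1 : ↥D →* ℂˣ)) (Units.ext (by simpa using e'))) hs1
            · exact Units.ext (e.trans e'.symm)
        · rintro (rfl | rfl)
          exacts [one_mul (1 : ↥D →* ℂˣ), hs2]
      have h1 := Finset.card_add_card_compl Λ
      rw [hcompl, Finset.card_pair hs1.symm, ← Nat.card_eq_fintype_card, ReeCover.card_dual B.comm,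
        B.card_D] at h1
      omega
    rw [← hΛ, Finset.card_eq_sum_card_image mk Λ, Finset.sum_congr rfl hfib, Finset.sum_const, smul_eq_mul,
      mul_comm]
  refine ⟨Λ.image mk, hcnt, ?_, ?_⟩
  · intro φ hφ
    obtain ⟨l, hl, rfl⟩ := Finset.mem_image.1 hφ
    rw [hmk l hl]
    refine ⟨?_, hvt l, fun g hg hc => B.ind_eq_zero l hg hc⟩
    rw [ind, Char.indFun_one_apply, B.index, map_one, mul_one]
  · rw [Finset.sum_congr rfl (g := fun _ => ((q : ℝ) + 1) ^ 2) fun φ hφ => ?_, Finset.sum_const,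
      nsmul_eq_mul]
    · have h3 : 3 ≤ q := B.three_le
      have h4 : 2 * ((Λ.image mk).card : ℝ) = (q : ℝ) - 3 := by
        have := congrArg (fun n : ℕ => (n : ℝ)) hcnt
        push_cast [h3] at this
        exact this
      rw [← h4, mul_assoc]
    · obtain ⟨l, hl, rfl⟩ := Finset.mem_image.1 hφ
      rw [hmk l hl]
      have e : Complex.normSq ((q : ℂ) + 1) = ((q : ℝ) + 1) ^ 2 := by
        rw [show (q : ℂ) + 1 = (((q : ℝ) + 1 : ℝ) : ℂ) by push_cast; ring, Complex.normSq_ofReal, pow_two]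
      rcases hvt l with h | h <;> rw [h] <;> simp only [Complex.normSq_neg, e]

end BorelTwo

end Cfsg.Agent.AbelianSylow.Field
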