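import Cfsg.Agent.Lib.AbelianSylow.Cent.FieldLocal
import Cfsg.Agent.Lib.Solvable.InvariantHall
import Cfsg.Agent.Lib.Extraspecial.Basic

/-!
# No field automorphism: the set inverted by an involution in a group of odd order (owner: helper82)

* `card_inverted`        : it has as many elements as there are cosets of the fixed points
* `dvd_card_inverted_sub_one` : a group acting freely on it
* `exists_inverted_three` : fixed points `⟨z⟩` times a Hall `{3}'`-part: the inverted `3`-elements lie in a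
  subgroup of class two over `⟨z⟩`
* `commute_of_free`      : that subgroup is commutative if it has at most `3 · 3ⁿ` elements, `n` odd, and a group
  of order `(3ⁿ - 1) / 2` acts freely on its inverted elements
-/

set_option autoImplicit false
set_option linter.style.haveILetI false
set_option linter.unusedSectionVars false

namespace Cfsg.Agent.AbelianSylow.Field

open Subgroup

variable {Γ : Type*} [Group Γ] [Finite Γ]

theorem inverted_sep {M : Subgroup Γ} (hM : Odd (Nat.card M)) {τ x x' : Γ} (hx : x ∈ M) (hx' : x' ∈ M)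
    (hxi : τ * x * τ⁻¹ = x⁻¹) (hxi' : τ * x' * τ⁻¹ = x'⁻¹) (hc : Commute (x * x'⁻¹) τ) : x = x' := by
  set c := x * x'⁻¹ with hcd
  have h1 : x'⁻¹ * c⁻¹ * x' = c := by
    have h2 : τ * (c * x') * τ⁻¹ = (c * x')⁻¹ := by rw [hcd, inv_mul_cancel_right]; exact hxi
    have h3 : τ * (c * x') * τ⁻¹ = c * x'⁻¹ := by
      rw [← hxi', show τ * (c * x') * τ⁻¹ = (τ * c * τ⁻¹) * (τ * x' * τ⁻¹) by group, ← hc.eq, mul_inv_cancel_right]
    rw [h3] at h2
    calc x'⁻¹ * c⁻¹ * x' = (c * x')⁻¹ * x' := by group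
      _ = c * x'⁻¹ * x' := by rw [h2]
      _ = c := inv_mul_cancel_right _ _
  have h4 : x' * c * x'⁻¹ = c⁻¹ := by
    calc x' * c * x'⁻¹ = x' * (x'⁻¹ * c⁻¹ * x') * x'⁻¹ := by rw [h1]
      _ = c⁻¹ := by group
  obtain ⟨i, hi⟩ := Nat.odd_iff.2 (Nat.odd_iff.1 (hM.of_dvd_nat (Subgroup.orderOf_dvd_natCard M hx')))
  have hsq : Commute (x' ^ 2) c := by
    refine mul_inv_eq_iff_eq_mul.1 ?_
    calc x' ^ 2 * c * (x' ^ 2)⁻¹ = x' * (x' * c * x'⁻¹) * x'⁻¹ := by rw [pow_two]; group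
      _ = (x' * c * x'⁻¹)⁻¹ := by nth_rewrite 1 [h4]; group
      _ = c := by rw [h4, inv_inv]
  have h6 : c = c⁻¹ := by
    have h7 : x' ^ (2 * i + 1) = 1 := by rw [← hi, pow_orderOf_eq_one]
    have h8 : Commute (x' ^ (2 * i)) c := by rw [pow_mul]; exact hsq.pow_left i
    calc c = x' ^ (2 * i + 1) * c * (x' ^ (2 * i + 1))⁻¹ := by rw [h7]; simp
      _ = x' * (x' ^ (2 * i) * c * (x' ^ (2 * i))⁻¹) * x'⁻¹ := by rw [pow_succ']; group
      _ = c⁻¹ := by rw [h8.eq, mul_inv_cancel_right, h4]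
  exact mul_inv_eq_one.1 (eq_one_of_inv_eq hM (M.mul_mem hx (M.inv_mem hx')) h6)

/-- The set inverted by `τ`. -/
abbrev InvSet (M : Subgroup Γ) (τ : Γ) := {x : M // τ * (x : Γ) * τ⁻¹ = (x : Γ)⁻¹}

theorem card_inverted {M : Subgroup Γ} (hM : Odd (Nat.card M)) {τ : Γ} (hτ : τ * τ = 1)
    (hτM : τ ∈ normalizer (M : Set Γ)) :
    Nat.card (InvSet M τ) = (M ⊓ centralizer ({τ} : Set Γ)).relIndex M := by
  classical
  set C := M ⊓ centralizer ({τ} : Set Γ)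
  refine le_antisymm ?_ ?_
  · refine Nat.card_le_card_of_injective (fun x : InvSet M τ => ((x.1⁻¹ : M) : M ⧸ C.subgroupOf M)) ?_
    rintro ⟨x, hx⟩ ⟨x', hx'⟩ he
    simp only [QuotientGroup.eq, inv_inv, mem_subgroupOf, coe_mul, coe_inv] at he
    exact Subtype.ext (Subtype.ext (inverted_sep hM x.2 x'.2 hx hx' (mem_fixed_iff.1 he).2))
  · have hti : τ⁻¹ = τ := inv_eq_of_mul_eq_one_right hτ
    have hψ : ∀ v : M, τ * (τ * v * τ⁻¹ * (v : Γ)⁻¹) * τ⁻¹ = (τ * v * τ⁻¹ * (v : Γ)⁻¹)⁻¹ := fun v => by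
      calc τ * (τ * v * τ⁻¹ * (v : Γ)⁻¹) * τ⁻¹ = τ * τ * v * (τ⁻¹ * ((v : Γ)⁻¹ * τ⁻¹)) := by group
        _ = v * (τ * ((v : Γ)⁻¹ * τ⁻¹)) := by rw [hτ, one_mul]; nth_rewrite 1 [hti]; rfl
        _ = (τ * v * τ⁻¹ * (v : Γ)⁻¹)⁻¹ := by group
    refine Nat.card_le_card_of_injective (fun z : M ⧸ C.subgroupOf M =>
      (⟨⟨_, M.mul_mem ((mem_normalizer_iff.1 hτM _).1 z.out.2) (M.inv_mem z.out.2)⟩, hψ z.out⟩ : InvSet M τ))
      fun a b e => ?_
    rw [← QuotientGroup.out_eq' a, ← QuotientGroup.out_eq' b, QuotientGroup.eq]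
    set p := a.out
    set q := b.out
    have e' : τ * (p : Γ) * τ⁻¹ * (p : Γ)⁻¹ = τ * (q : Γ) * τ⁻¹ * (q : Γ)⁻¹ :=
      congrArg (fun z : InvSet M τ => ((z.1 : M) : Γ)) e
    refine mem_subgroupOf.2 (mem_fixed_iff.2 ⟨(p⁻¹ * q).2, ?_⟩)
    have h1 : τ * ((p : Γ)⁻¹ * q) * τ⁻¹ = (p : Γ)⁻¹ * q := by
      calc τ * ((p : Γ)⁻¹ * q) * τ⁻¹
          = (p : Γ)⁻¹ * (τ * (p : Γ) * τ⁻¹ * (p : Γ)⁻¹)⁻¹ * (τ * (q : Γ) * τ⁻¹ * (q : Γ)⁻¹) * q := by group
        _ = (p : Γ)⁻¹ * q := by rw [e', inv_mul_cancel_right]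
    exact (mul_inv_eq_iff_eq_mul.1 h1).symm

/-- A group acting freely on the inverted elements. -/
theorem dvd_card_inverted_sub_one {M H : Subgroup Γ} {τ : Γ} (hHM : H ≤ normalizer (M : Set Γ))
    (hHτ : ∀ h ∈ H, Commute h τ)
    (hfree : ∀ h ∈ H, h ≠ 1 → ∀ x ∈ M, τ * x * τ⁻¹ = x⁻¹ → h * x * h⁻¹ = x → x = 1) :
    Nat.card H ∣ Nat.card (InvSet M τ) - 1 := by
  classical
  let X := {x : InvSet M τ // ((x.1 : M) : Γ) ≠ 1}
  letI : MulAction H X :=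
    { smul := fun h x => ⟨⟨⟨(h : Γ) * ((x.1.1 : M) : Γ) * (h : Γ)⁻¹,
          (mem_normalizer_iff.1 (hHM h.2) _).1 x.1.1.2⟩, by
          calc τ * ((h : Γ) * ((x.1.1 : M) : Γ) * (h : Γ)⁻¹) * τ⁻¹
              = (τ * h) * ((x.1.1 : M) : Γ) * (τ * h)⁻¹ := by group
            _ = ((h : Γ) * τ) * ((x.1.1 : M) : Γ) * ((h : Γ) * τ)⁻¹ := by rw [(hHτ h h.2).eq]
            _ = (h : Γ) * (τ * ((x.1.1 : M) : Γ) * τ⁻¹) * (h : Γ)⁻¹ := by group
            _ = ((h : Γ) * ((x.1.1 : M) : Γ) * (h : Γ)⁻¹)⁻¹ := by rw [x.1.2]; group⟩,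
        fun e => x.2 (conj_eq_one_iff.1 e)⟩
      one_smul := fun x => Subtype.ext (Subtype.ext (Subtype.ext (by
        show (1 : Γ) * _ * (1 : Γ)⁻¹ = _; group)))
      mul_smul := fun a b x => Subtype.ext (Subtype.ext (Subtype.ext (by
        show ((a : Γ) * b) * _ * ((a : Γ) * b)⁻¹ = (a : Γ) * ((b : Γ) * _ * (b : Γ)⁻¹) * (a : Γ)⁻¹; group))) }
  have hstab : ∀ x : X, MulAction.stabilizer H x = ⊥ := fun x => eq_bot_iff.2 fun h hh => by
    rw [mem_bot]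
    by_contra hne
    exact x.2 (hfree h h.2 (fun e => hne (Subtype.ext e)) _ x.1.1.2 x.1.2
      (congrArg (fun z : X => ((z.1.1 : M) : Γ)) hh))
  have hX : Nat.card X = Nat.card (InvSet M τ) - 1 := by
    haveI := Fintype.ofFinite (InvSet M τ)
    rw [Nat.card_eq_fintype_card, Nat.card_eq_fintype_card]
    have h1 : Fintype.card {x : InvSet M τ // ¬ ((x.1 : M) : Γ) = 1} =
        Fintype.card (InvSet M τ) - Fintype.card {x : InvSet M τ // ((x.1 : M) : Γ) = 1} :=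
      Fintype.card_subtype_compl _
    refine h1.trans (congrArg _ (Fintype.card_eq_one_iff.2
      ⟨⟨⟨1, by simp⟩, rfl⟩, fun x => Subtype.ext (Subtype.ext (Subtype.ext x.2))⟩))
  rw [← hX, Nat.card_congr (MulAction.selfEquivOrbitsQuotientProd' (G := H) (X := X)
    (φ := Quotient.out) Quotient.out_eq hstab), Nat.card_prod]
  exact dvd_mul_left _ _

theorem eq_zero_or_le_of_dvd {n e : ℕ} (h : (3 ^ n - 1) / 2 ∣ 3 ^ e - 1) : e = 0 ∨ n ≤ e := by
  rcases Nat.eq_zero_or_pos e with he | he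
  · exact Or.inl he
  refine Or.inr (not_lt.1 fun hlt => ?_)
  obtain ⟨n, rfl⟩ : ∃ k, n = k + 1 := ⟨n - 1, by omega⟩
  have h1 : 3 ^ e ≤ 3 ^ n := Nat.pow_le_pow_right (by norm_num) (by omega)
  have h2 : 3 ^ 1 ≤ 3 ^ e := Nat.pow_le_pow_right (by norm_num) he
  have h3 : 3 ^ (n + 1) = 3 * 3 ^ n := by ring
  have h4 := Nat.le_of_dvd (by omega) h
  omega

/-- The inverted `3`-elements over the central `⟨z⟩`. -/
theorem exists_inverted_three {M : Subgroup Γ} (hM : Odd (Nat.card M)) {τ : Γ} (hτ : τ * τ = 1)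
    (hτM : τ ∈ normalizer (M : Set Γ)) {z : Γ} (hz : z ∈ M) (hzc : ∀ x ∈ M, Commute z x) (hzτ : Commute z τ)
    {c : ℕ} (hzo : orderOf z = 3) (hc3 : ¬ 3 ∣ c)
    (hC : Nat.card (M ⊓ centralizer ({τ} : Set Γ) : Subgroup Γ) = 3 * c)
    (hcop : c.Coprime ((M ⊓ centralizer ({τ} : Set Γ)).relIndex M)) :
    ∃ E : Subgroup Γ, E ≤ M ∧ IsPGroup 3 E ∧ z ∈ E ∧ τ ∈ normalizer (E : Set Γ) ∧
      E ⊓ centralizer ({τ} : Set Γ) ≤ zpowers z ∧
      (∀ a ∈ E, ∀ b ∈ E, a * b * a⁻¹ * b⁻¹ ∈ zpowers z) ∧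
      (∀ x ∈ M, τ * x * τ⁻¹ = x⁻¹ → (∃ k : ℕ, x ^ (3 ^ k) = 1) → x ∈ E) ∧
      ∀ g ∈ normalizer (M : Set Γ), Commute g τ → Commute g z → g ∈ normalizer (E : Set Γ) := by
  classical
  haveI : Fact (Nat.Prime 3) := ⟨Nat.prime_three⟩
  set C := M ⊓ centralizer ({τ} : Set Γ) with hCdef
  set n := C.relIndex M with hn
  set π : Set ℕ := {q | ¬ q ∣ c}
  have hcA : (Nat.card (zpowers τ)).Coprime (Nat.card M) := by
    rw [Nat.card_zpowers]
    exact (Nat.coprime_two_left.2 hM).coprime_dvd_left (orderOf_dvd_of_pow_eq_one (by rw [pow_two]; exact hτ))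
  have hzn : zpowers τ ≤ normalizer (zpowers z : Set Γ) := zpowers_le.2 (centralizer_le_normalizer _
    (mem_centralizer_iff.2 fun w hw => by
      obtain ⟨i, rfl⟩ := mem_zpowers_iff.1 hw; exact (hzτ.zpow_left i).eq))
  obtain ⟨Hl, hHl, hHlτ, hzH⟩ := Solvable.exists_invariant_hall_ge (zpowers_le.2 hτM) hcA
    (OddOrderTheorem.solvable hM) π (U := zpowers z) (zpowers_le.2 hz) hzn (fun q hq hd => by
      rw [Nat.card_zpowers, hzo] at hd
      rw [(Nat.prime_dvd_prime_iff_eq hq Nat.prime_three).1 hd]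
      exact hc3)
  obtain ⟨hHM, hpi, hpi'⟩ := hHl
  have hzH' : z ∈ Hl := hzH (mem_zpowers z)
  have hHcop : (Nat.card Hl).Coprime c := Nat.coprime_of_dvd fun q hq h1 h2 => hpi q hq h1 h2
  have hidx : (Hl.relIndex M).Coprime (3 * n) := Nat.coprime_of_dvd fun q hq h1 h2 => by
    refine hpi' q hq ?_ h1
    rcases (Nat.Prime.dvd_mul hq).1 h2 with h | h
    · rw [(Nat.prime_dvd_prime_iff_eq hq Nat.prime_three).1 h]; exact hc3
    · exact fun hqc => Nat.not_coprime_of_dvd_of_dvd hq.one_lt hqc h hcop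
  have hcardM : Nat.card Hl * Hl.relIndex M = 3 * c * n := by
    have h := relIndex_mul_relIndex ⊥ Hl M bot_le hHM
    have h' := relIndex_mul_relIndex ⊥ C M bot_le inf_le_left
    rw [relIndex_bot_left, relIndex_bot_left] at h h'
    rw [h, ← h', hC]
  have hcardH : Nat.card Hl = 3 * n := by
    refine Nat.dvd_antisymm (hHcop.dvd_of_dvd_mul_right (Dvd.intro (Hl.relIndex M) ?_))
      (hidx.symm.dvd_of_dvd_mul_right ⟨c, ?_⟩)
    · rw [hcardM]; ring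
    · rw [hcardM]; ring
  have hHo : Odd (Nat.card Hl) := hM.of_dvd_nat (card_dvd_of_le hHM)
  set CH := Hl ⊓ centralizer ({τ} : Set Γ) with hCH
  have hzCH : z ∈ CH := mem_fixed_iff.2 ⟨hzH', hzτ⟩
  have hCHeq : CH = zpowers z := by
    refine (eq_of_le_of_card_ge (zpowers_le.2 hzCH) (le_of_eq ?_)).symm
    rw [Nat.card_zpowers, hzo]
    refine Nat.dvd_antisymm ?_ (hzo ▸ Subgroup.orderOf_dvd_natCard CH hzCH)
    have h1 : Nat.card CH ∣ 3 * c := hC ▸ card_dvd_of_le (inf_le_inf_right _ hHM)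
    exact (hHcop.coprime_dvd_left (card_dvd_of_le inf_le_left)).dvd_of_dvd_mul_right h1
  have hInv : Nat.card (InvSet Hl τ) = n := by
    rw [card_inverted hHo hτ (hHlτ (mem_zpowers τ)), ← hCH, hCHeq]
    have h := relIndex_mul_relIndex ⊥ CH Hl bot_le inf_le_left
    rw [relIndex_bot_left, relIndex_bot_left, hcardH, hCHeq, Nat.card_zpowers, hzo] at h
    exact (Nat.eq_of_mul_eq_mul_left (by norm_num) h :)
  set ι : InvSet Hl τ → InvSet M τ := fun x => ⟨⟨x.1, hHM x.1.2⟩, x.2⟩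
  have hιi : Function.Injective ι := fun a b e =>
    Subtype.ext (Subtype.ext (congrArg (fun w : InvSet M τ => ((w.1 : M) : Γ)) e))
  have hι := ((Nat.bijective_iff_injective_and_card ι).2
    ⟨hιi, by rw [hInv, card_inverted hM hτ hτM]⟩).2
  have hall : ∀ x ∈ M, τ * x * τ⁻¹ = x⁻¹ → x ∈ Hl := fun x hx hxi => by
    obtain ⟨w, hw⟩ := hι ⟨⟨x, hx⟩, hxi⟩
    have e : ((w.1 : Hl) : Γ) = x := congrArg (fun v : InvSet M τ => ((v.1 : M) : Γ)) hw
    exact e ▸ w.1.2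
  -- every element is `⟨z⟩` times an inverted one
  have hdec : ∀ x ∈ Hl, ∃ i : ℤ, ∃ v ∈ Hl, τ * v * τ⁻¹ = v⁻¹ ∧ x = z ^ i * v := by
    intro x hx
    have hcard : Nat.card (InvSet Hl τ) = ((CH.subgroupOf Hl).index) := by
      rw [card_inverted hHo hτ (hHlτ (mem_zpowers τ))]; rfl
    have hinj : Function.Injective fun w : InvSet Hl τ => ((w.1⁻¹ : Hl) : Hl ⧸ CH.subgroupOf Hl) := by
      rintro ⟨a, ha⟩ ⟨b, hb⟩ he
      simp only [QuotientGroup.eq, inv_inv, mem_subgroupOf, coe_mul, coe_inv] at he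
      exact Subtype.ext (Subtype.ext (inverted_sep hHo a.2 b.2 ha hb (mem_fixed_iff.1 he).2))
    obtain ⟨⟨v, hv⟩, hvx⟩ := ((Nat.bijective_iff_injective_and_card _).2 ⟨hinj, hcard⟩).2
      ((⟨x, hx⟩⁻¹ : Hl) : Hl ⧸ CH.subgroupOf Hl)
    simp only [QuotientGroup.eq, inv_inv, mem_subgroupOf, coe_mul, coe_inv, hCHeq] at hvx
    obtain ⟨i, hi⟩ := mem_zpowers_iff.1 hvx
    refine ⟨-i, v, v.2, hv, ?_⟩
    rw [zpow_neg, hi]; group
  have hZcomm : ∀ a ∈ Hl, ∀ i : ℤ, Commute (z ^ i) a := fun a ha i => (hzc a (hHM ha)).zpow_left i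
  have hcomm : ∀ a ∈ Hl, ∀ b ∈ Hl, a * b * a⁻¹ * b⁻¹ ∈ zpowers z := by
    intro a ha b hb
    obtain ⟨i, a', ha', hai, rfl⟩ := hdec a ha
    obtain ⟨j, b', hb', hbi, rfl⟩ := hdec b hb
    obtain ⟨k, w, hw, hwi, hab⟩ := hdec (a' * b') (Hl.mul_mem ha' hb')
    have hzk : τ * z ^ k * τ⁻¹ = z ^ k := by rw [← (hzτ.zpow_left k).eq, mul_inv_cancel_right]
    have h1 : a'⁻¹ * b'⁻¹ = z ^ k * w⁻¹ := by
      calc a'⁻¹ * b'⁻¹ = (τ * a' * τ⁻¹) * (τ * b' * τ⁻¹) := by rw [hai, hbi]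
        _ = τ * (a' * b') * τ⁻¹ := by group
        _ = (τ * z ^ k * τ⁻¹) * (τ * w * τ⁻¹) := by rw [hab]; group
        _ = z ^ k * w⁻¹ := by rw [hzk, hwi]
    have h2 : a' * b' * a'⁻¹ * b'⁻¹ = z ^ k * z ^ k := by
      rw [mul_assoc (a' * b'), h1, hab, mul_assoc (z ^ k) w, ← mul_assoc w, ← (hZcomm w hw k).eq]
      group
    have h3 : z ^ i * a' * (z ^ j * b') * (z ^ i * a')⁻¹ * (z ^ j * b')⁻¹ = a' * b' * a'⁻¹ * b'⁻¹ := by
      have e1 : a' * (z ^ j * b') = z ^ j * (a' * b') := by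
        rw [← mul_assoc, ← (hZcomm a' ha' j).eq, mul_assoc]
      have hij : Commute (z ^ i) (z ^ j) := (Commute.refl z).zpow_zpow i j
      have c1 : Commute (z ^ i) (a' * b' * a'⁻¹) :=
        ((hZcomm a' ha' i).mul_right (hZcomm b' hb' i)).mul_right (hZcomm a' ha' i).inv_right
      have c2 : Commute (z ^ j) (a' * b' * a'⁻¹ * b'⁻¹) :=
        (((hZcomm a' ha' j).mul_right (hZcomm b' hb' j)).mul_right (hZcomm a' ha' j).inv_right).mul_right
          (hZcomm b' hb' j).inv_right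
      calc z ^ i * a' * (z ^ j * b') * (z ^ i * a')⁻¹ * (z ^ j * b')⁻¹
          = z ^ i * (a' * (z ^ j * b')) * a'⁻¹ * (z ^ i)⁻¹ * b'⁻¹ * (z ^ j)⁻¹ := by group
        _ = (z ^ i * z ^ j) * (a' * b' * a'⁻¹) * (z ^ i)⁻¹ * b'⁻¹ * (z ^ j)⁻¹ := by rw [e1]; group
        _ = z ^ j * (z ^ i * (a' * b' * a'⁻¹)) * (z ^ i)⁻¹ * b'⁻¹ * (z ^ j)⁻¹ := by rw [hij.eq]; group
        _ = z ^ j * ((a' * b' * a'⁻¹) * z ^ i) * (z ^ i)⁻¹ * b'⁻¹ * (z ^ j)⁻¹ := by rw [c1.eq]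
        _ = z ^ j * (a' * b' * a'⁻¹ * b'⁻¹) * (z ^ j)⁻¹ := by group
        _ = a' * b' * a'⁻¹ * b'⁻¹ := by rw [c2.eq]; group
    rw [h3, h2]
    exact mul_mem (zpow_mem_zpowers z k) (zpow_mem_zpowers z k)
  haveI hZn : ((zpowers z).subgroupOf Hl).Normal := ⟨fun a ha g => by
    obtain ⟨i, hi⟩ := mem_zpowers_iff.1 (mem_subgroupOf.1 ha)
    refine mem_subgroupOf.2 ⟨i, ?_⟩
    show z ^ i = (g : Γ) * a * (g : Γ)⁻¹
    rw [← hi, ← (hZcomm g g.2 i).eq, mul_inv_cancel_right]⟩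
  set q := QuotientGroup.mk' ((zpowers z).subgroupOf Hl)
  have hqc : ∀ a b : Hl, Commute (q a) (q b) := fun a b => by
    refine mul_inv_eq_iff_eq_mul.1 (mul_inv_eq_one.1 ?_)
    rw [← map_inv, ← map_mul, ← map_inv, ← map_mul, ← map_mul]
    exact (QuotientGroup.eq_one_iff _).2 (mem_subgroupOf.2 (hcomm a a.2 b b.2))
  have hq3 : ∀ a : Hl, (∃ k : ℕ, q a ^ (3 ^ k) = 1) → ∃ k : ℕ, a ^ (3 ^ k) = 1 := by
    rintro a ⟨k, hk⟩
    rw [← map_pow] at hk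
    obtain ⟨i, hi⟩ := mem_zpowers_iff.1 (mem_subgroupOf.1 ((QuotientGroup.eq_one_iff _).1 hk))
    refine ⟨k + 1, Subtype.ext ?_⟩
    show (a : Γ) ^ (3 ^ (k + 1)) = 1
    rw [pow_succ, pow_mul, ← SubmonoidClass.coe_pow, ← hi, ← zpow_natCast, ← zpow_mul, mul_comm, zpow_mul,
      zpow_natCast, ← hzo, pow_orderOf_eq_one, one_zpow]
  let E : Subgroup Γ :=
    { carrier := {x | ∃ h : x ∈ Hl, ∃ k : ℕ, (⟨x, h⟩ : Hl) ^ (3 ^ k) = 1}
      one_mem' := ⟨Hl.one_mem, 0, one_pow _⟩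
      mul_mem' := by
        rintro a b ⟨ha, i, hi⟩ ⟨hb, j, hj⟩
        refine ⟨Hl.mul_mem ha hb, hq3 _ ⟨i + j, ?_⟩⟩
        rw [show (⟨a * b, Hl.mul_mem ha hb⟩ : Hl) = ⟨a, ha⟩ * ⟨b, hb⟩ from rfl, map_mul, (hqc _ _).mul_pow,
          pow_add, pow_mul, ← map_pow q, hi, map_one, one_pow, one_mul, mul_comm, pow_mul, ← map_pow q, hj,
          map_one, one_pow]
      inv_mem' := by
        rintro a ⟨ha, i, hi⟩
        exact ⟨Hl.inv_mem ha, i, by rw [show (⟨a⁻¹, Hl.inv_mem ha⟩ : Hl) = ⟨a, ha⟩⁻¹ from rfl, inv_pow, hi, inv_one]⟩ }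
  have hEH : E ≤ Hl := fun x hx => hx.1
  have hE3 : ∀ x ∈ E, ∃ k : ℕ, x ^ (3 ^ k) = 1 := fun x hx => by
    obtain ⟨h, k, hk⟩ := hx; exact ⟨k, congrArg Subtype.val hk⟩
  have hEmk : ∀ x ∈ Hl, (∃ k : ℕ, x ^ (3 ^ k) = 1) → x ∈ E := fun x hx ⟨k, hk⟩ => ⟨hx, k, Subtype.ext hk⟩
  have hzE : z ∈ E := hEmk z hzH' ⟨1, by rw [pow_one, ← hzo, pow_orderOf_eq_one]⟩
  refine ⟨E, hEH.trans hHM, fun x => ?_, hzE, ?_,
    (inf_le_inf_right _ hEH).trans hCHeq.le, fun a ha b hb => hcomm a (hEH ha) b (hEH hb),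
    fun x hx hxi hk => hEmk x (hall x hx hxi) hk, fun g hg hgτ hgz => ?_⟩
  · obtain ⟨k, hk⟩ := hE3 x x.2
    exact ⟨k, Subtype.ext hk⟩
  · refine Coprime.mem_normalizer_of_forall fun x hx => ?_
    obtain ⟨k, hk⟩ := hE3 x hx
    exact hEmk _ ((mem_normalizer_iff.1 (hHlτ (mem_zpowers τ)) x).1 (hEH hx))
      ⟨k, by rw [conj_pow, hk, mul_one, mul_inv_cancel]⟩
  · refine Coprime.mem_normalizer_of_forall fun x hx => ?_
    obtain ⟨k, hk⟩ := hE3 x hx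
    refine hEmk _ ?_ ⟨k, by rw [conj_pow, hk, mul_one, mul_inv_cancel]⟩
    obtain ⟨i, v, hv, hvi, rfl⟩ := hdec x (hEH hx)
    have hv' : g * v * g⁻¹ ∈ Hl := hall _ ((mem_normalizer_iff.1 hg v).1 (hHM hv)) (by
      calc τ * (g * v * g⁻¹) * τ⁻¹ = (τ * g) * v * (τ * g)⁻¹ := by group
        _ = (g * τ) * v * (g * τ)⁻¹ := by rw [hgτ.eq]
        _ = g * (τ * v * τ⁻¹) * g⁻¹ := by group
        _ = (g * v * g⁻¹)⁻¹ := by rw [hvi]; group)
    rw [show g * (z ^ i * v) * g⁻¹ = (g * z ^ i * g⁻¹) * (g * v * g⁻¹) by group,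
      (hgz.zpow_right i).eq, mul_inv_cancel_right]
    exact Hl.mul_mem (Hl.zpow_mem hzH' i) hv'

/-- **The triple cover of the inverted part is commutative.** -/
theorem commute_of_free {E H : Subgroup Γ} (hE : IsPGroup 3 E) {τ z : Γ} (hτ : τ * τ = 1)
    (hτE : τ ∈ normalizer (E : Set Γ)) (hzE : z ∈ E) (hzc : ∀ x ∈ E, Commute z x) (hzτ : Commute z τ)
    (hzo : orderOf z = 3) (hfix : E ⊓ centralizer ({τ} : Set Γ) ≤ zpowers z)
    (hcomm : ∀ a ∈ E, ∀ b ∈ E, a * b * a⁻¹ * b⁻¹ ∈ zpowers z)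
    {n : ℕ} (hn : Odd n) (hH : 2 * Nat.card H + 1 = 3 ^ n) (hcard : Nat.card E ≤ 3 * 3 ^ n)
    (hHE : H ≤ normalizer (E : Set Γ)) (hHτ : ∀ h ∈ H, Commute h τ)
    (hfree : ∀ h ∈ H, h ≠ 1 → ∀ x ∈ E, τ * x * τ⁻¹ = x⁻¹ → h * x * h⁻¹ = x → x = 1) :
    ∀ a ∈ E, ∀ b ∈ E, Commute a b := by
  classical
  haveI : Fact (Nat.Prime 3) := ⟨Nat.prime_three⟩
  have hZfix : ∀ X : Subgroup Γ, X ≤ E → z ∈ X → X ⊓ centralizer ({τ} : Set Γ) = zpowers z := fun X hX hz =>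
    le_antisymm ((inf_le_inf_right _ hX).trans hfix) (zpowers_le.2 (mem_fixed_iff.2 ⟨hz, hzτ⟩))
  have hsize : ∀ X : Subgroup Γ, X ≤ E → z ∈ X → τ ∈ normalizer (X : Set Γ) → H ≤ normalizer (X : Set Γ) →
      X = zpowers z ∨ 3 * 3 ^ n ≤ Nat.card X := by
    intro X hX hz hτX hHX
    obtain ⟨j, hj⟩ := IsPGroup.iff_card.1 (hE.to_le hX)
    have hodd : Odd (Nat.card X) := hj ▸ (show Odd 3 by decide).pow
    have h1 := card_inverted hodd hτ hτX
    rw [hZfix X hX hz] at h1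
    have h2 := relIndex_mul_relIndex ⊥ (zpowers z) X bot_le (zpowers_le.2 hz)
    rw [relIndex_bot_left, relIndex_bot_left, Nat.card_zpowers, hzo, ← h1] at h2
    have h3 := dvd_card_inverted_sub_one (M := X) (H := H) hHX hHτ
      (fun h hh h1 x hx => hfree h hh h1 x (hX hx))
    obtain ⟨e, -, he⟩ := (Nat.dvd_prime_pow Nat.prime_three).1 (hj ▸ Dvd.intro_left _ h2 :
      Nat.card (InvSet X τ) ∣ 3 ^ j)
    rw [he, show Nat.card H = (3 ^ n - 1) / 2 by omega] at h3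
    rcases eq_zero_or_le_of_dvd h3 with h | h
    · left
      refine (eq_of_le_of_card_ge (zpowers_le.2 hz) ?_).symm
      rw [Nat.card_zpowers, hzo, ← h2, he, h]
      norm_num
    · right
      rw [← h2, he]
      exact Nat.mul_le_mul_left 3 (Nat.pow_le_pow_right (by norm_num) h)
  set Ze := E ⊓ centralizer (E : Set Γ) with hZe
  have hinv : ∀ g ∈ normalizer (E : Set Γ), g ∈ normalizer (Ze : Set Γ) := fun g hg =>
    Coprime.mem_normalizer_of_forall fun x hx => ⟨(mem_normalizer_iff.1 hg x).1 hx.1,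
      mem_centralizer_iff.2 fun w hw => by
        have hw' : g⁻¹ * w * g ∈ E := by
          have := (mem_normalizer_iff.1 (inv_mem hg) w).1 hw
          rwa [inv_inv] at this
        have := mem_centralizer_iff.1 hx.2 _ hw'
        calc w * (g * x * g⁻¹) = g * ((g⁻¹ * w * g) * x) * g⁻¹ := by group
          _ = g * (x * (g⁻¹ * w * g)) * g⁻¹ := by rw [this]
          _ = g * x * g⁻¹ * w := by group⟩
  have hzZe : z ∈ Ze := ⟨hzE, mem_centralizer_iff.2 fun w hw => (hzc w hw).symm.eq⟩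
  rcases hsize Ze inf_le_left hzZe (hinv τ hτE) (fun g hg => hinv g (hHE hg)) with hZ | hbig
  swap
  · intro a ha b hb
    have heq : Ze = E := eq_of_le_of_card_ge inf_le_left (hcard.trans hbig)
    exact (mem_centralizer_iff.1 (heq.ge ha : a ∈ Ze).2 b hb).symm
  rcases hsize E le_rfl hzE hτE hHE with hEZ | hbig
  · intro a ha b hb
    obtain ⟨i, rfl⟩ := mem_zpowers_iff.1 (hEZ ▸ ha)
    exact (hzc b hb).zpow_left i
  exfalso
  have hEc : Nat.card E = 3 ^ (n + 1) := by rw [pow_succ']; exact le_antisymm hcard hbig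
  set Z := (zpowers z).subgroupOf E
  have hZc : center E = Z := by
    refine le_antisymm (fun x hx => mem_subgroupOf.2 (hZ ▸ ⟨x.2, mem_centralizer_iff.2 fun w hw =>
      congrArg Subtype.val (Subgroup.mem_center_iff.1 hx ⟨w, hw⟩)⟩)) (fun x hx => Subgroup.mem_center_iff.2 fun g =>
      Subtype.ext ?_)
    obtain ⟨i, hi⟩ := mem_zpowers_iff.1 (mem_subgroupOf.1 hx)
    show (g : Γ) * x = x * g
    rw [← hi]; exact ((hzc g g.2).zpow_left i).symm.eq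
  have hcc : Nat.card (center E) = 3 := by
    rw [hZc, Cores.card_subgroupOf (zpowers_le.2 hzE), Nat.card_zpowers, hzo]
  obtain ⟨A, -, hA⟩ := Extraspecial.exists_maximal_abelian (⊥ : Subgroup E)
    (fun a ha b hb => by rw [mem_bot] at ha hb; rw [ha, hb])
  have hZA : center E ≤ A := hA ▸ center_le_centralizer _
  have h := Extraspecial.relIndex_centralizer_eq A ⊤ (center E) hcc
    (fun k hk g _ => (Subgroup.mem_center_iff.mp hk g).symm)
    (fun a _ b _ => by rw [hZc]; exact mem_subgroupOf.2 (hcomm a a.2 b b.2))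
  rw [Subgroup.coe_top, Subgroup.centralizer_univ, inf_eq_right.mpr hZA, top_inf_eq, hA,
    Subgroup.relIndex_top_right] at h
  have h1 := Subgroup.card_mul_index ((center E).subgroupOf A)
  rw [Nat.card_congr (Subgroup.subgroupOfEquivOfLe hZA).toEquiv, hcc] at h1
  change 3 * (center E).relIndex A = Nat.card A at h1
  rw [h] at h1
  have h2 := A.card_mul_index
  rw [hEc] at h2
  obtain ⟨i, hi⟩ := IsPGroup.iff_card.1 (hE.to_subgroup A)
  have h3 : Nat.card A * Nat.card A = 3 ^ (n + 2) := by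
    calc Nat.card A * Nat.card A = Nat.card A * (3 * A.index) := by rw [h1]
      _ = 3 * (Nat.card A * A.index) := by ring
      _ = 3 ^ (n + 2) := by rw [h2]; ring
  rw [hi, ← pow_add] at h3
  have := Nat.pow_right_injective (le_refl 2 |>.trans (by norm_num : 2 ≤ 3)) h3
  obtain ⟨k, rfl⟩ := hn
  omega

end Cfsg.Agent.AbelianSylow.Field
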