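import Cfsg.Agent.Lib.Coprime.Generation
import Cfsg.Agent.EqLemmas
import Mathlib.FieldTheory.Finite.Basic

/-!
# No field automorphism, `q = 27`: a plane of order `13²` on an elementary group of order `3⁶` (owner: helper82)

* `card_le_pow_three` : an automorphism of order `3` has at least the cube root as fixed points
* `fixed_centralized` : what commutes with `f` and normalises the plane fixes the fixed points of `f`
-/

set_option autoImplicit false
set_option linter.unusedSectionVars false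

namespace Cfsg.Agent.AbelianSylow.Field

open Subgroup
open scoped Pointwise

variable {V : Type*} [CommGroup V] [Finite V]

/-- The fixed points of an automorphism. -/
def fixAut (a : MulAut V) : Subgroup V where
  carrier := {v | a v = v}
  one_mem' := map_one a
  mul_mem' := fun {u v} (hu : a u = u) (hv : a v = v) => show a (u * v) = u * v by rw [map_mul, hu, hv]
  inv_mem' := fun {u} (hu : a u = u) => show a u⁻¹ = u⁻¹ by rw [map_inv, hu]

theorem mem_fixAut {a : MulAut V} {v : V} : v ∈ fixAut a ↔ a v = v := Iff.rfl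

theorem card_le_pow_three (h3 : ∀ v : V, v ^ 3 = 1) {σ : MulAut V} (hσ : σ ^ 3 = 1) :
    Nat.card V ≤ Nat.card (fixAut σ) ^ 3 := by
  let D : V →* V :=
    { toFun := fun v => σ v * v⁻¹
      map_one' := by simp
      map_mul' := fun u v => by rw [map_mul, mul_inv, mul_mul_mul_comm] }
  have hD : ∀ v, D v = σ v * v⁻¹ := fun _ => rfl
  have hDDD : ∀ v, D (D (D v)) = 1 := by
    intro v
    have e3 : σ (σ (σ v)) = v := by
      rw [pow_succ, pow_two] at hσ
      exact DFunLike.congr_fun hσ v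
    simp only [hD, map_mul, map_inv, e3]
    have ha := h3 (σ (σ v))
    have hb := h3 (σ v)
    calc v * (σ (σ v))⁻¹ * ((σ (σ v)) * (σ v)⁻¹)⁻¹ * (σ (σ v) * (σ v)⁻¹ * (σ v * v⁻¹)⁻¹)⁻¹
        = ((σ (σ v)) ^ 3)⁻¹ * (σ v) ^ 3 := by
          simp only [mul_inv_rev, inv_inv, pow_succ, pow_zero, one_mul, mul_comm, mul_left_comm, mul_assoc,
            mul_inv_cancel, mul_inv_cancel_left, inv_mul_cancel_left, mul_one]
      _ = 1 := by rw [ha, hb, inv_one, one_mul]
  set k := Nat.card (fixAut σ)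
  have hker : ∀ X : Subgroup V, Nat.card X ≤ k * Nat.card (X.map D) := by
    intro X
    have h1 := Subgroup.relIndex_ker X D
    have h2 := relIndex_mul_relIndex ⊥ (D.ker ⊓ X) X bot_le inf_le_right
    rw [relIndex_bot_left, relIndex_bot_left, inf_relIndex_right, h1] at h2
    rw [← h2]
    refine Nat.mul_le_mul_right _ (card_le_of_le fun v hv => ?_)
    exact mem_fixAut.2 (mul_inv_eq_one.1 hv.1)
  have hbot : (((⊤ : Subgroup V).map D).map D).map D = ⊥ := by
    rw [eq_bot_iff]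
    rintro _ ⟨_, ⟨_, ⟨v, -, rfl⟩, rfl⟩, rfl⟩
    exact mem_bot.2 (hDDD v)
  have e1 := hker ⊤
  have e2 := hker ((⊤ : Subgroup V).map D)
  have e3 := hker (((⊤ : Subgroup V).map D).map D)
  rw [hbot, card_bot, mul_one] at e3
  rw [card_top] at e1
  calc Nat.card V ≤ k * Nat.card ((⊤ : Subgroup V).map D) := e1
    _ ≤ k * (k * Nat.card (((⊤ : Subgroup V).map D).map D)) := Nat.mul_le_mul_left _ e2
    _ ≤ k * (k * k) := Nat.mul_le_mul_left _ (Nat.mul_le_mul_left _ e3)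
    _ = k ^ 3 := by ring

theorem card_invariant_modEq {p n : ℕ} [Fact p.Prime] {e : MulAut V} (he : e ^ (p ^ n) = 1) {X : Subgroup V}
    (hX : ∀ v ∈ X, e v ∈ X) : Nat.card X ≡ Nat.card (fixAut e ⊓ X : Subgroup V) [MOD p] := by
  classical
  haveI := Fintype.ofFinite X
  set F : Function.End X := fun v => ⟨e v, hX v v.2⟩ with hF
  have hpow : ∀ k : ℕ, ∀ v : X, ((F ^ k) v : V) = (e ^ k) (v : V) := by
    intro k
    induction k with
    | zero => intro v; rfl
    | succ k ih =>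
      intro v
      rw [pow_succ', pow_succ', MulAut.mul_apply, ← ih]
      rfl
  have hFp : F ^ p ^ n = 1 := funext fun v => Subtype.ext (by rw [hpow, he]; rfl)
  have h1 := Equiv.Perm.card_fixedPoints_modEq hFp
  rw [← Nat.card_eq_fintype_card, ← Nat.card_eq_fintype_card] at h1
  refine h1.trans (congrArg (· % p) (Nat.card_congr
    { toFun := fun v => ⟨(v.1 : V), mem_fixAut.2 (congrArg Subtype.val v.2), v.1.2⟩
      invFun := fun v => ⟨⟨v.1, v.2.2⟩, Subtype.ext (mem_fixAut.1 v.2.1)⟩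
      left_inv := fun _ => rfl
      right_inv := fun _ => rfl }))

theorem pow_fixAut {a : MulAut V} {v : V} (h : a v = v) (k : ℕ) : (a ^ k) v = v := by
  induction k with
  | zero => rfl
  | succ k ih => rw [pow_succ, MulAut.mul_apply, h, ih]

local instance instFiniteMulAut : Finite (MulAut V) := Finite.of_injective (fun a => (a : V → V)) DFunLike.coe_injective

theorem zpowers_eq_of_mem {p : ℕ} (hp : p.Prime) {c c' : MulAut V} (hc : orderOf c = p) (h : c' ∈ zpowers c)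
    (h1 : c' ≠ 1) : zpowers c' = zpowers c := by
  have hd := orderOf_dvd_of_mem_zpowers h
  rw [hc] at hd
  refine eq_of_le_of_card_ge (zpowers_le.2 h) ?_
  rw [Nat.card_zpowers, Nat.card_zpowers, hc, ((Nat.dvd_prime hp).1 hd).resolve_left fun e => h1 (orderOf_eq_one_iff.1 e)]

theorem zpowers_le_stabilizer {a : MulAut V} {v : V} (h : a v = v) :
    zpowers a ≤ MulAction.stabilizer (MulAut V) v := zpowers_le.2 (MulAction.mem_stabilizer_iff.2 h)

theorem fixAut_eq_of_mem_zpowers {c c' : MulAut V} (hc : orderOf c = 13) (h : c' ∈ zpowers c) (h1 : c' ≠ 1)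
    {v : V} (hv : c' v = v) : c v = v :=
  MulAction.mem_stabilizer_iff.1 (zpowers_le_stabilizer hv
    ((zpowers_eq_of_mem (by norm_num) hc h h1).symm ▸ mem_zpowers c))

theorem zmod_thirteen_cube :
    ∀ a b : ZMod 13, a ^ 3 = 1 → b ^ 3 = 1 → b ≠ 1 → b ^ 0 = a ∨ b ^ 1 = a ∨ b ^ 2 = a := by decide

/-- **The plane.** -/
theorem fixed_centralized (hV : Nat.card V = 729) (h3 : ∀ v : V, v ^ 3 = 1) {A : Subgroup (MulAut V)}
    (hAc : ∀ a ∈ A, ∀ b ∈ A, Commute a b) (hAe : ∀ a ∈ A, a ^ 13 = 1) (hA : Nat.card A = 169)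
    {y f x : MulAut V} (hy : y ∈ A) (hyfix : ∀ v, y v = v → v = 1) {m : ℕ} (hm : (m : ZMod 13) ≠ 1)
    (hf : f ∈ normalizer (A : Set (MulAut V))) (hf3 : f ^ 3 = 1) (hfy : f * y * f⁻¹ = y ^ m)
    (hx : x ∈ normalizer (A : Set (MulAut V))) {r : ℕ} (hx3 : x ^ (3 ^ r) = 1) (hxf : Commute x f) :
    ∀ v, f v = v → x v = v := by
  classical
  haveI : Fact (Nat.Prime 13) := ⟨by norm_num⟩
  haveI : Fact (Nat.Prime 3) := ⟨Nat.prime_three⟩
  haveI : Finite A := Nat.finite_of_card_ne_zero (by omega)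
  have hord : ∀ a ∈ A, a ≠ 1 → orderOf a = 13 := fun a ha h1 => orderOf_eq_prime (hAe a ha) h1
  have hone : ∀ v : V, v ^ 13 = 1 → v = 1 := fun v hv => by
    rwa [show v ^ 13 = (v ^ 3) ^ 4 * v by rw [← pow_mul, ← pow_succ], h3, one_pow, one_mul] at hv
  have hinv : ∀ c ∈ A, ∀ a ∈ A, ∀ v ∈ fixAut c, a v ∈ fixAut c := fun c hc a ha v hv => mem_fixAut.2 (by
    rw [← MulAut.mul_apply, (hAc c hc a ha).eq, MulAut.mul_apply, mem_fixAut.1 hv])
  have hy1 : y ≠ 1 := fun e => by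
    haveI : Nontrivial V := Finite.one_lt_card_iff_nontrivial.1 (hV ▸ (by norm_num : 1 < 729))
    obtain ⟨v, hv⟩ := exists_ne (1 : V)
    exact hv (hyfix v (by rw [e]; rfl))
  have hsize : ∀ c ∈ A, c ≠ 1 → fixAut c ≠ ⊥ → fixAut c ≠ ⊤ → Nat.card (fixAut c) = 27 := by
    intro c hc _ hne hne'
    have h1 := card_invariant_modEq (p := 13) (n := 1) (e := y) (X := fixAut c) (by rw [pow_one]; exact hAe y hy)
      (hinv c hc y hy)
    rw [show (fixAut y ⊓ fixAut c : Subgroup V) = ⊥ from eq_bot_iff.2 fun v hv => mem_bot.2 (hyfix v hv.1),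
      card_bot] at h1
    obtain ⟨k, hk, hk'⟩ := (Nat.dvd_prime_pow Nat.prime_three).1
      ((show (729 : ℕ) = 3 ^ 6 by norm_num) ▸ hV ▸ card_subgroup_dvd_card (fixAut c))
    rw [hk'] at h1 ⊢
    interval_cases k <;> first
      | rfl
      | (exfalso; exact absurd h1 (by decide))
      | (exfalso; exact hne (Subgroup.eq_bot_of_card_eq _ (by rw [hk']; rfl)))
      | (exfalso; exact hne' (eq_top_of_card_eq _ (by rw [hk', hV]; rfl)))
  have hfaith : ∀ c : MulAut V, fixAut c = ⊤ → c = 1 := fun c h =>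
    MulEquiv.ext fun v => mem_fixAut.1 (h ▸ mem_top v : v ∈ fixAut c)
  -- two lines with fixed points
  obtain ⟨t, ht, hty⟩ : ∃ t ∈ A, t ∉ zpowers y := by
    by_contra hno
    push_neg at hno
    have := card_le_of_le (show A ≤ zpowers y from hno)
    rw [hA, Nat.card_zpowers, hord y hy hy1] at this
    omega
  have hindep : ∀ i j : ℕ, ¬(13 ∣ i ∧ 13 ∣ j) → y ^ i * t ^ j ≠ 1 := by
    intro i j hij e
    by_cases hj : 13 ∣ j
    · obtain ⟨j', rfl⟩ := hj
      rw [pow_mul, hAe t ht, one_pow, mul_one, ← orderOf_dvd_iff_pow_eq_one, hord y hy hy1] at e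
      exact hij ⟨e, dvd_mul_right _ _⟩
    · refine hty ?_
      have ht1 : orderOf (t ^ j) = orderOf t := Nat.Coprime.orderOf_pow (by
        rw [hord t ht fun h => hty (by rw [h]; exact one_mem _)]
        exact (by norm_num : Nat.Prime 13).coprime_iff_not_dvd.2 hj)
      have hmem : t ^ j ∈ zpowers y := by
        rw [show t ^ j = (y ^ i)⁻¹ from eq_inv_of_mul_eq_one_right e]
        exact inv_mem (pow_mem (mem_zpowers y) i)
      have hle : zpowers (t ^ j) ≤ zpowers t := zpowers_le.2 (pow_mem (mem_zpowers t) j)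
      haveI : Finite (zpowers t) := Finite.of_injective (fun z => (⟨z.1, zpowers_le.2 ht z.2⟩ : A))
        fun a b e => Subtype.ext (congrArg (fun z : A => (z : MulAut V)) e)
      have := eq_of_le_of_card_ge hle (by rw [Nat.card_zpowers, Nat.card_zpowers, ht1])
      exact (zpowers_le.2 hmem) (this ▸ mem_zpowers t)
  have hgen : ∀ W : Subgroup V, (∀ c ∈ A, c ≠ 1 → ∀ v, c v = v → v ∈ W) → W = ⊤ := by
    intro W hW
    refine eq_top_iff.2 fun v _ => ?_
    have := Coprime.pow_mem_of_pair_aut y t (hAc y hy t ht) (by norm_num : Nat.Prime 13) (hAe y hy) (hAe t ht) W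
      (fun i j hij v hv => hW _ (A.mul_mem (A.pow_mem hy i) (A.pow_mem ht j)) (hindep i j hij) v hv) v
    rwa [show v ^ 13 = (v ^ 3) ^ 4 * v by rw [← pow_mul, ← pow_succ], h3, one_pow, one_mul] at this
  obtain ⟨c1, hc1, hc11, hX⟩ : ∃ c ∈ A, c ≠ 1 ∧ fixAut c ≠ ⊥ := by
    by_contra hno
    push_neg at hno
    have h := hgen ⊥ fun c hc hc1 v hv => by rw [← hno c hc hc1]; exact hv
    have := congrArg (fun W : Subgroup V => Nat.card W) h
    simp only [card_bot, card_top, hV] at this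
    omega
  obtain ⟨c2, hc2, hc21, hY, hc2n⟩ : ∃ c ∈ A, c ≠ 1 ∧ fixAut c ≠ ⊥ ∧ c ∉ zpowers c1 := by
    by_contra hno
    push_neg at hno
    refine hc11 (hfaith c1 (hgen _ fun c hc h1 v hv => ?_))
    by_cases hb : fixAut c = ⊥
    · rw [show v = 1 from mem_bot.1 (hb ▸ (hv : v ∈ fixAut c))]; exact one_mem _
    · exact mem_fixAut.2 (fixAut_eq_of_mem_zpowers (hord c1 hc1 hc11) (hno c hc h1 hb) h1 hv)
  have hAgen : A ≤ zpowers c1 ⊔ zpowers c2 := by
    have hle : zpowers c1 ⊔ zpowers c2 ≤ A := sup_le (zpowers_le.2 hc1) (zpowers_le.2 hc2)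
    haveI : Finite (zpowers c1 ⊔ zpowers c2 : Subgroup (MulAut V)) :=
      Finite.of_injective (fun z => (⟨z.1, hle z.2⟩ : A))
        fun a b e => Subtype.ext (congrArg (fun z : A => (z : MulAut V)) e)
    refine (eq_of_le_of_card_ge hle ?_).ge
    rw [hA]
    obtain ⟨k, hk, hk'⟩ := (Nat.dvd_prime_pow (by norm_num : Nat.Prime 13)).1
      ((show (169 : ℕ) = 13 ^ 2 by norm_num) ▸ hA ▸ card_dvd_of_le hle)
    rw [hk']
    interval_cases k
    · exfalso
      have := (card_eq_one.1 (by rw [hk']; rfl) : zpowers c1 ⊔ zpowers c2 = ⊥)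
      exact hc11 (mem_bot.1 (this ▸ mem_sup_left (mem_zpowers c1)))
    · exfalso
      refine hc2n ?_
      have : zpowers c1 = zpowers c1 ⊔ zpowers c2 := eq_of_le_of_card_ge le_sup_left
        (by rw [hk', Nat.card_zpowers, hord c1 hc1 hc11]; norm_num)
      rw [this]
      exact mem_sup_right (mem_zpowers c2)
    · rfl
  have hcommon : ∀ v, c1 v = v → c2 v = v → v = 1 := by
    intro v h1 h2
    refine hyfix v ?_
    have hle : A ≤ (MulAction.stabilizer (MulAut V) v) := hAgen.trans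
      (sup_le (zpowers_le.2 (MulAction.mem_stabilizer_iff.2 h1)) (zpowers_le.2 (MulAction.mem_stabilizer_iff.2 h2)))
    exact MulAction.mem_stabilizer_iff.1 (hle hy)
  set X := fixAut c1 with hXdef
  set Y := fixAut c2 with hYdef
  have hXc : Nat.card X = 27 := hsize c1 hc1 hc11 hX fun h => hc11 (hfaith c1 h)
  have hYc : Nat.card Y = 27 := hsize c2 hc2 hc21 hY fun h => hc21 (hfaith c2 h)
  have hdec : ∀ v : V, ∃ a ∈ X, ∃ b ∈ Y, a * b = v := by
    have hinj : Function.Injective fun p : X × Y => (p.1 : V) * p.2 := by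
      rintro ⟨a, b⟩ ⟨a', b'⟩ e
      have e' : (a' : V)⁻¹ * a = b' * (b : V)⁻¹ := by
        rw [inv_mul_eq_iff_eq_mul, ← mul_assoc, eq_mul_inv_iff_mul_eq]; exact e
      have h1 : (a' : V)⁻¹ * a = 1 := hcommon _ (mem_fixAut.1 (X.mul_mem (X.inv_mem a'.2) a.2))
        (e' ▸ mem_fixAut.1 (Y.mul_mem b'.2 (Y.inv_mem b.2)))
      have h2 : (a : V) = a' := (inv_mul_eq_one.1 h1).symm
      refine Prod.ext (Subtype.ext h2) (Subtype.ext ?_)
      have h3 : (a : V) * b = a' * b' := e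
      rw [h2] at h3
      exact mul_left_cancel h3
    intro v
    have hb := (Nat.bijective_iff_injective_and_card _).2 ⟨hinj, by rw [Nat.card_prod, hXc, hYc, hV]⟩
    obtain ⟨⟨a, b⟩, e⟩ := hb.2 v
    exact ⟨a, a.2, b, b.2, e⟩
  have huniq : ∀ a ∈ X, ∀ b ∈ Y, ∀ a' ∈ X, ∀ b' ∈ Y, a * b = a' * b' → a = a' ∧ b = b' := by
    intro a ha b hb a' ha' b' hb' e
    have h1 : a'⁻¹ * a = b' * b⁻¹ := by
      rw [inv_mul_eq_iff_eq_mul, ← mul_assoc, eq_mul_inv_iff_mul_eq]; exact e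
    have h2 : a'⁻¹ * a = 1 := hcommon _ (mem_fixAut.1 (X.mul_mem (X.inv_mem ha') ha))
      (h1 ▸ mem_fixAut.1 (Y.mul_mem hb' (Y.inv_mem hb)))
    have h4 : a = a' := (inv_mul_eq_one.1 h2).symm
    subst h4
    exact ⟨rfl, mul_left_cancel e⟩
  have hspecial : ∀ c ∈ A, c ≠ 1 → fixAut c ≠ ⊥ → c ∈ zpowers c1 ∨ c ∈ zpowers c2 := by
    intro c hc h1 hb
    obtain ⟨⟨v, hv⟩, hv1⟩ := (ne_bot_iff_exists_ne_one).1 hb
    obtain ⟨a, ha, b, hb', rfl⟩ := hdec v
    have hcv : c a * c b = a * b := by rw [← map_mul]; exact hv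
    obtain ⟨hca, hcb⟩ := huniq _ (hinv c1 hc1 c hc a ha) _ (hinv c2 hc2 c hc b hb') a ha b hb' hcv
    by_contra hno
    push_neg at hno
    have hsup : ∀ d ∈ A, d ≠ 1 → c ∉ zpowers d → A ≤ zpowers d ⊔ zpowers c := by
      intro d hd hd1 hcd
      have hle : zpowers d ⊔ zpowers c ≤ A := sup_le (zpowers_le.2 hd) (zpowers_le.2 hc)
      haveI : Finite (zpowers d ⊔ zpowers c : Subgroup (MulAut V)) :=
        Finite.of_injective (fun z => (⟨z.1, hle z.2⟩ : A))
          fun a b e => Subtype.ext (congrArg (fun z : A => (z : MulAut V)) e)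
      refine (eq_of_le_of_card_ge hle ?_).ge
      rw [hA]
      obtain ⟨k, hk, hk'⟩ := (Nat.dvd_prime_pow (by norm_num : Nat.Prime 13)).1
        ((show (169 : ℕ) = 13 ^ 2 by norm_num) ▸ hA ▸ card_dvd_of_le hle)
      rw [hk']
      interval_cases k
      · exfalso
        have := (card_eq_one.1 (by rw [hk']; rfl) : zpowers d ⊔ zpowers c = ⊥)
        exact hd1 (mem_bot.1 (this ▸ mem_sup_left (mem_zpowers d)))
      · exfalso
        refine hcd ?_
        have : zpowers d = zpowers d ⊔ zpowers c := eq_of_le_of_card_ge le_sup_left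
          (by rw [hk', Nat.card_zpowers, hord d hd hd1]; norm_num)
        rw [this]
        exact mem_sup_right (mem_zpowers c)
      · rfl
    have key : ∀ d ∈ A, d ≠ 1 → c ∉ zpowers d → ∀ w, d w = w → c w = w → w = 1 := by
      intro d hd hd1 hcd w h1 h2
      refine hyfix w ?_
      have hle : A ≤ MulAction.stabilizer (MulAut V) w := (hsup d hd hd1 hcd).trans
        (sup_le (zpowers_le.2 (MulAction.mem_stabilizer_iff.2 h1)) (zpowers_le.2 (MulAction.mem_stabilizer_iff.2 h2)))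
      exact MulAction.mem_stabilizer_iff.1 (hle hy)
    refine hv1 (Subtype.ext ?_)
    show a * b = 1
    rw [key c1 hc1 hc11 hno.1 a ha hca, key c2 hc2 hc21 hno.2 b hb' hcb, one_mul]
  -- an element of odd order normalising `A` preserves both lines
  set P1 := zpowers c1 with hP1
  set P2 := zpowers c2 with hP2
  have hP12 : P1 ≠ P2 := fun e => hc2n (e ▸ mem_zpowers c2)
  have hperm : ∀ g ∈ normalizer (A : Set (MulAut V)), ∀ k : ℕ, g ^ (3 ^ k) = 1 →
      MulAut.conj g • P1 = P1 ∧ MulAut.conj g • P2 = P2 := by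
    intro g hg k hk
    have hsm : ∀ c : MulAut V, MulAut.conj g • zpowers c = zpowers (g * c * g⁻¹) := fun c =>
      MonoidHom.map_zpowers _ c
    have hconj : ∀ c ∈ A, c ≠ 1 → fixAut c ≠ ⊥ →
        MulAut.conj g • zpowers c = P1 ∨ MulAut.conj g • zpowers c = P2 := by
      intro c hc h1 hb
      have he : g * c * g⁻¹ ≠ 1 := fun e => h1 (conj_eq_one_iff.1 e)
      have hb' : fixAut (g * c * g⁻¹) ≠ ⊥ := by
        obtain ⟨⟨v, hv⟩, hv1⟩ := (ne_bot_iff_exists_ne_one).1 hb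
        refine (ne_bot_iff_exists_ne_one).2 ⟨⟨g v, mem_fixAut.2 ?_⟩, fun e => hv1 (Subtype.ext ?_)⟩
        · simp [MulAut.mul_apply, mem_fixAut.1 hv]
        · exact g.injective (by rw [show g v = 1 from congrArg Subtype.val e]; exact (map_one g).symm)
      rw [hsm]
      rcases hspecial _ ((mem_normalizer_iff.1 hg c).1 hc) he hb' with h | h
      · exact Or.inl (zpowers_eq_of_mem (by norm_num) (hord c1 hc1 hc11) h he)
      · exact Or.inr (zpowers_eq_of_mem (by norm_num) (hord c2 hc2 hc21) h he)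
    have hfix1 : MulAut.conj g • P1 = P1 := by
      refine (hconj c1 hc1 hc11 hX).resolve_right fun h12 => ?_
      have h21 : MulAut.conj g • P2 = P1 := (hconj c2 hc2 hc21 hY).resolve_right fun h22 =>
        hP12 (MulAction.injective (MulAut.conj g) (h12.trans h22.symm))
      obtain ⟨i, hi⟩ : Odd (3 ^ k) := (show Odd 3 by decide).pow
      have h2 : ∀ j : ℕ, MulAut.conj g ^ (2 * j) • P1 = P1 := by
        intro j
        induction j with
        | zero => rw [mul_zero, pow_zero, one_smul]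
        | succ j ih => rw [mul_add, mul_one, pow_succ', pow_succ', mul_smul, mul_smul, ih, h12, h21]
      refine hP12 ?_
      calc P1 = MulAut.conj (g ^ (3 ^ k)) • P1 := by rw [hk, map_one, one_smul]
        _ = P2 := by rw [map_pow, hi, pow_succ', mul_smul, h2, h12]
    exact ⟨hfix1, (hconj c2 hc2 hc21 hY).resolve_left fun h =>
      hP12 (MulAction.injective (MulAut.conj g) (hfix1.trans h.symm))⟩
  have hperm' : ∀ g ∈ normalizer (A : Set (MulAut V)), ∀ k : ℕ, g ^ (3 ^ k) = 1 →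
      (∀ z ∈ P1, g * z * g⁻¹ ∈ P1) ∧ ∀ z ∈ P2, g * z * g⁻¹ ∈ P2 := fun g hg k hk =>
    ⟨fun z hz => (hperm g hg k hk).1 ▸ ⟨z, hz, rfl⟩, fun z hz => (hperm g hg k hk).2 ▸ ⟨z, hz, rfl⟩⟩
  -- preserved fixed spaces
  have hpres : ∀ g ∈ normalizer (A : Set (MulAut V)), ∀ k : ℕ, g ^ (3 ^ k) = 1 →
      (∀ v ∈ X, g v ∈ X) ∧ ∀ v ∈ Y, g v ∈ Y := by
    intro g hg k hk
    obtain ⟨h1, h2⟩ := hperm' g hg k hk
    have key : ∀ c ∈ A, c ≠ 1 → g * c * g⁻¹ ∈ zpowers c → ∀ v, c v = v → c (g v) = g v := by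
      intro c hc hc0 hm v hv
      refine fixAut_eq_of_mem_zpowers (hord c hc hc0) hm (fun e => hc0 (conj_eq_one_iff.1 e)) ?_
      simp [MulAut.mul_apply, hv]
    exact ⟨fun v hv => key c1 hc1 hc11 (h1 _ (mem_zpowers c1)) v hv,
      fun v hv => key c2 hc2 hc21 (h2 _ (mem_zpowers c2)) v hv⟩
  obtain ⟨hfX, hfY⟩ := hpres f hf 1 (by rw [pow_one]; exact hf3)
  obtain ⟨hxX, hxY⟩ := hpres x hx r hx3
  obtain ⟨hf1, hf2⟩ := hperm' f hf 1 (by rw [pow_one]; exact hf3)
  obtain ⟨hx1, hx2⟩ := hperm' x hx r hx3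
  -- the components of `y`
  have hcomm12 : P2 ≤ normalizer (P1 : Set (MulAut V)) := le_trans
    (zpowers_le.2 (mem_centralizer_iff.2 fun z hz => by
      obtain ⟨i, rfl⟩ := mem_zpowers_iff.1 hz; exact ((hAc c1 hc1 c2 hc2).zpow_left i).eq))
    (centralizer_le_normalizer _)
  obtain ⟨d1, hd1, d2, hd2, hd⟩ := (Coprime.mem_sup_iff hcomm12).1 (hAgen hy)
  have hinf : ∀ z ∈ P1, z ∈ P2 → z = 1 := fun z hz1 hz2 => by
    by_contra h
    exact hP12 ((zpowers_eq_of_mem (by norm_num) (hord c1 hc1 hc11) hz1 h).symm.trans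
      (zpowers_eq_of_mem (by norm_num) (hord c2 hc2 hc21) hz2 h))
  have hPA : ∀ z, z ∈ P1 ∨ z ∈ P2 → z ∈ A := fun z hz =>
    hz.elim (fun h => zpowers_le.2 hc1 h) (fun h => zpowers_le.2 hc2 h)
  have hd11 : d1 ≠ 1 := fun e => by
    rw [e, one_mul] at hd
    refine hY (eq_bot_iff.2 fun v hv => mem_bot.2 (hyfix v ?_))
    exact MulAction.mem_stabilizer_iff.1 (zpowers_le_stabilizer (mem_fixAut.1 hv) (hd ▸ hd2))
  have hd21 : d2 ≠ 1 := fun e => by
    rw [e, mul_one] at hd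
    refine hX (eq_bot_iff.2 fun v hv => mem_bot.2 (hyfix v ?_))
    exact MulAction.mem_stabilizer_iff.1 (zpowers_le_stabilizer (mem_fixAut.1 hv) (hd ▸ hd1))
  have hfd : f * d1 * f⁻¹ = d1 ^ m ∧ f * d2 * f⁻¹ = d2 ^ m := by
    have e : (f * d1 * f⁻¹) * (f * d2 * f⁻¹) = d1 ^ m * d2 ^ m := by
      rw [← (hAc _ (hPA _ (Or.inl hd1)) _ (hPA _ (Or.inr hd2))).mul_pow, hd, ← hfy, ← hd]; group
    have h1 : (d1 ^ m)⁻¹ * (f * d1 * f⁻¹) = d2 ^ m * (f * d2 * f⁻¹)⁻¹ := by
      rw [inv_mul_eq_iff_eq_mul, ← mul_assoc, eq_mul_inv_iff_mul_eq]; exact e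
    have h2 := hinf _ (mul_mem (inv_mem (pow_mem hd1 m)) (hf1 d1 hd1))
      (h1 ▸ mul_mem (pow_mem hd2 m) (inv_mem (hf2 d2 hd2)))
    exact ⟨(inv_mul_eq_one.1 h2).symm, (mul_inv_eq_one.1 (h1 ▸ h2 : d2 ^ m * (f * d2 * f⁻¹)⁻¹ = 1)).symm⟩
  -- on each component `x` acts as a power of `f`
  have hiter : ∀ (g d : MulAut V) (j n : ℕ), g * d * g⁻¹ = d ^ j → g ^ n * d * (g ^ n)⁻¹ = d ^ (j ^ n) := by
    intro g d j n hg
    induction n with
    | zero => simp
    | succ n ih =>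
      calc g ^ (n + 1) * d * (g ^ (n + 1))⁻¹ = g ^ n * (g * d * g⁻¹) * (g ^ n)⁻¹ := by rw [pow_succ]; group
        _ = (g ^ n * d * (g ^ n)⁻¹) ^ j := by rw [hg, conj_pow]
        _ = d ^ (j ^ (n + 1)) := by rw [ih, ← pow_mul, pow_succ]
  have hroot : ∀ (g d : MulAut V) (j k : ℕ), orderOf d = 13 → g * d * g⁻¹ = d ^ j → g ^ (3 ^ k) = 1 →
      (j : ZMod 13) ^ 3 = 1 := by
    intro g d j k hd' hg hk
    have h1 : (j : ZMod 13) ^ (3 ^ k) = 1 := by
      have := hiter g d j (3 ^ k) hg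
      rw [hk, one_mul, inv_one, mul_one] at this
      nth_rewrite 1 [← pow_one d] at this
      rw [pow_eq_pow_iff_modEq, hd'] at this
      rw [← Nat.cast_pow, ← Nat.cast_one, ZMod.natCast_eq_natCast_iff]
      exact this.symm
    have h12 : (j : ZMod 13) ^ 12 = 1 := ZMod.pow_card_sub_one_eq_one fun e => by
      rw [e, zero_pow (by positivity)] at h1; exact zero_ne_one h1
    have hdvd : orderOf (j : ZMod 13) ∣ 3 := by
      have a1 := orderOf_dvd_of_pow_eq_one h1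
      have a2 := orderOf_dvd_of_pow_eq_one h12
      obtain ⟨e, -, he⟩ := (Nat.dvd_prime_pow Nat.prime_three).1 a1
      rw [he] at a2 ⊢
      rcases e with _ | _ | e
      · simp
      · simp
      · exfalso
        exact absurd ((show (9 : ℕ) ∣ 3 ^ (e + 2) from ⟨3 ^ e, by ring⟩).trans a2) (by norm_num)
    exact orderOf_dvd_iff_pow_eq_one.1 hdvd
  have key : ∀ (d : MulAut V) (Z : Subgroup V), d ∈ A → d ≠ 1 → f * d * f⁻¹ = d ^ m → x * d * x⁻¹ ∈ zpowers d →
      (∀ v ∈ Z, d v ∈ Z) → (∀ v ∈ Z, f v ∈ Z) → (∀ v ∈ Z, x v ∈ Z) → Nat.card Z = 27 →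
      (∀ v ∈ Z, d v = v → v = 1) → ∀ v ∈ Z, f v = v → x v = v := by
    intro d Z hdA hd0 hfd' hxd hdZ hfZ hxZ hZ27 hfree v hv hfv
    have ho := hord d hdA hd0
    obtain ⟨j, -, hj⟩ : ∃ j, j < orderOf d ∧ d ^ j = x * d * x⁻¹ :=
      ((isOfFinOrder_of_finite d).mem_powers_iff_mem_zpowers.2 hxd).elim fun j hj =>
        ⟨j % orderOf d, Nat.mod_lt _ (orderOf_pos d), by rw [pow_mod_orderOf]; exact hj⟩
    have hj3 := hroot x d j r ho hj.symm hx3
    have hm3 := hroot f d m 1 ho hfd' (by rw [pow_one]; exact hf3)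
    obtain ⟨k, hk⟩ : ∃ k : ℕ, (m : ZMod 13) ^ k = j := by
      rcases zmod_thirteen_cube _ _ hj3 hm3 hm with h | h | h
      exacts [⟨0, h⟩, ⟨1, h⟩, ⟨2, h⟩]
    set g := (f ^ k)⁻¹ * x with hg
    have hgd : Commute g d := by
      have h1 : f ^ k * d * (f ^ k)⁻¹ = x * d * x⁻¹ := by
        rw [hiter f d m k hfd', ← hj, pow_eq_pow_iff_modEq, ho, ← ZMod.natCast_eq_natCast_iff, Nat.cast_pow, hk]
      refine mul_inv_eq_iff_eq_mul.1 ?_
      calc g * d * g⁻¹ = (f ^ k)⁻¹ * (x * d * x⁻¹) * f ^ k := by rw [hg]; group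
        _ = d := by rw [← h1]; group
    have hg3 : g ^ (3 ^ (r + 1)) = 1 := by
      rw [hg, ((hxf.pow_right k).inv_right.symm).mul_pow, inv_pow, ← pow_mul, pow_succ, mul_comm (3 ^ r) 3,
        mul_left_comm k 3, pow_mul f, hf3, one_pow, inv_one, one_mul, mul_comm, pow_mul, hx3, one_pow]
    have hfkZ : ∀ n : ℕ, ∀ w ∈ Z, (f ^ n) w ∈ Z := by
      intro n
      induction n with
      | zero => exact fun w hw => hw
      | succ n ih => intro w hw; rw [pow_succ, MulAut.mul_apply]; exact ih _ (hfZ w hw)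
    have hfkinv : ∀ w ∈ Z, ((f ^ k)⁻¹) w ∈ Z := by
      intro w hw
      rw [show (f ^ k)⁻¹ = f ^ (k * 2) from inv_eq_of_mul_eq_one_right (by
        rw [← pow_add, show k + k * 2 = 3 * k by ring, pow_mul, hf3, one_pow])]
      exact hfkZ _ w hw
    have hgZ : ∀ w ∈ Z, g w ∈ Z := fun w hw => hfkinv _ (hxZ w hw)
    set W := fixAut g ⊓ Z with hW
    have hW3 : Nat.card W ≡ 27 [MOD 3] := hZ27 ▸ (card_invariant_modEq (p := 3) (n := r + 1) hg3 hgZ).symm
    have hdW : ∀ w ∈ W, d w ∈ W := fun w hw => ⟨mem_fixAut.2 (by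
      rw [← MulAut.mul_apply, hgd.eq, MulAut.mul_apply, mem_fixAut.1 hw.1]), hdZ w hw.2⟩
    have hW13 := card_invariant_modEq (p := 13) (n := 1) (e := d) (by rw [pow_one]; exact hAe d hdA) hdW
    rw [show (fixAut d ⊓ W : Subgroup V) = ⊥ from eq_bot_iff.2 fun w hw => mem_bot.2 (hfree w hw.2.2 hw.1),
      card_bot] at hW13
    obtain ⟨e, he, he'⟩ := (Nat.dvd_prime_pow Nat.prime_three).1
      ((show (27 : ℕ) = 3 ^ 3 by norm_num) ▸ hZ27 ▸ card_dvd_of_le (inf_le_right : W ≤ Z))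
    have hWZ : W = Z := by
      refine eq_of_le_of_card_ge inf_le_right ?_
      rw [hZ27, he']
      rw [he'] at hW3 hW13
      interval_cases e <;> first | (exfalso; revert hW3; decide) | (exfalso; revert hW13; decide) | norm_num
    have hgv : g v = v := mem_fixAut.1 ((hWZ.ge hv).1)
    have : x v = (f ^ k) (g v) := by rw [← MulAut.mul_apply, hg, mul_inv_cancel_left]
    rw [this, hgv, pow_fixAut hfv]
  intro v hfv
  obtain ⟨a, ha, b, hb, rfl⟩ := hdec v
  rw [map_mul] at hfv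
  obtain ⟨hfa, hfb⟩ := huniq _ (hfX a ha) _ (hfY b hb) a ha b hb hfv
  have hxd : ∀ (P : Subgroup (MulAut V)) (c d : MulAut V), P = zpowers c → orderOf c = 13 → d ∈ P → d ≠ 1 →
      (∀ z ∈ P, x * z * x⁻¹ ∈ P) → x * d * x⁻¹ ∈ zpowers d := by
    intro P c d hP hc hd' hd0 hh
    rw [zpowers_eq_of_mem (by norm_num) hc (hP ▸ hd') hd0, ← hP]
    exact hh d hd'
  have hxa := key d2 X (hPA _ (Or.inr hd2)) hd21 hfd.2
    (hxd P2 c2 d2 rfl (hord c2 hc2 hc21) hd2 hd21 hx2) (hinv c1 hc1 d2 (hPA _ (Or.inr hd2))) hfX hxX hXc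
    (fun v hv h => hcommon v (mem_fixAut.1 hv) (fixAut_eq_of_mem_zpowers (hord c2 hc2 hc21) hd2 hd21 h)) a ha hfa
  have hxb := key d1 Y (hPA _ (Or.inl hd1)) hd11 hfd.1
    (hxd P1 c1 d1 rfl (hord c1 hc1 hc11) hd1 hd11 hx1) (hinv c2 hc2 d1 (hPA _ (Or.inl hd1))) hfY hxY hYc
    (fun v hv h => hcommon v (fixAut_eq_of_mem_zpowers (hord c1 hc1 hc11) hd1 hd11 h) (mem_fixAut.1 hv)) b hb hfb
  rw [map_mul, hxa, hxb]

end Cfsg.Agent.AbelianSylow.Field
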