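import Cfsg.Agent.Lib.AbelianSylow.Cent.FieldThree
import Cfsg.Agent.Lib.AbelianSylow.Cent.FieldLines
import Cfsg.Agent.Lib.AbelianSylow.Cent.FieldInvSet

/-!
# No field automorphism, case `s = 3`: the component of `C(f)` (owner: helper82; `FIELD.md` step 5)

* `mem_of_fixed_le`       : if the fixed points of `f` on the invariant Sylow subgroup of `W` lie in `U`, then modulo
  `W` nothing of `3`-power order is inverted by `t`
* `noInvertedMod_of_comp` : the component supplies `NoInvertedMod` when `q₀ = 3ⁿ`, `n > 1` odd; `f` may lie in it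
-/

set_option autoImplicit false
set_option linter.style.haveILetI false
set_option linter.unusedSectionVars false

namespace Cfsg.Agent.AbelianSylow.Field

open Subgroup

universe u

variable {G : Type u} [Group G] [Finite G] {t f y : G} {U F₃ B H N K W : Subgroup G} {l m : ℕ}

/-- Too few fixed points of `f`: the elementary section is `U`, so `t` centralises it. -/
theorem mem_of_fixed_le (D : LocalData t U B N K W) (c : ThreeCtx t f y U F₃ B H l m)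
    (hUf : Nat.card (U ⊓ centralizer ({f} : Set G) : Subgroup G) ^ 3 ≤ Nat.card U) {R : Subgroup G} (hRW : R ≤ W)
    (hR3 : IsPGroup 3 R) (hRt : t ∈ normalizer (R : Set G)) (hUR : U ≤ R)
    (hRc : Nat.card R = 3 ^ (Nat.card W).factorization 3)
    (hRB : ∀ x ∈ B, x ∈ normalizer (W : Set G) → x ∈ normalizer (R : Set G))
    (hle : R ⊓ centralizer ({f} : Set G) ≤ U) {d : G} (hd : d ∈ K) {k : ℕ} (hk : d ^ (3 ^ k) ∈ W)
    (hdt : t * d * t⁻¹ * d ∈ W) : d ∈ W := by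
  haveI : Fact (Nat.Prime 2) := ⟨Nat.prime_two⟩
  haveI : Fact (Nat.Prime 3) := ⟨Nat.prime_three⟩
  haveI : Fact l.Prime := ⟨c.l_prime⟩
  haveI : (W.subgroupOf N).Normal := Cores.subgroupOf_normal_of_le_normalizer D.W_normal
  have hBN : B ≤ N := D.B_le.trans D.K_le
  have hfB : f ∈ B := c.F_le c.f_mem
  have hyB : y ∈ B := c.H_le c.y_mem
  have hfR : f ∈ normalizer (R : Set G) := hRB f hfB (D.W_normal (hBN hfB))
  have hyR : y ∈ normalizer (R : Set G) := hRB y hyB (D.W_normal (hBN hyB))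
  have hfree : ∀ r ∈ R, Commute y r → r = 1 := by
    intro r hr hc
    obtain ⟨k, hk⟩ := hR3 ⟨r, hr⟩
    set C := R ⊓ centralizer ({y} : Set G)
    have htC : t ∈ normalizer (C : Set G) := Coprime.mem_normalizer_of_forall fun z hz =>
      ⟨(mem_normalizer_iff.1 hRt z).1 hz.1, mem_centralizer_singleton_iff.2 (by
        have h1 : Commute z y := mem_centralizer_singleton_iff.1 hz.2
        have h2 : Commute y t := c.commute_t hyB
        exact ((h2.symm.mul_left h1).mul_left h2.symm.inv_left).eq)⟩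
    have hct := c.cent_H y c.y_mem (c.y_order ▸ c.l_prime) C (hR3.to_le inf_le_left)
      (fun w hw => mem_centralizer_singleton_iff.1 hw.2) htC r ⟨hr, mem_centralizer_singleton_iff.2 hc.symm.eq⟩
    exact c.y_free r (D.fix r (D.W_le (hRW hr)) hct) k (congrArg (Subtype.val : R → G) hk) hc.symm
  set C := R ⊓ centralizer ({f} : Set G) with hC
  -- the section
  obtain ⟨W₁, hW₁W, hW₁N, hcube, hcomm, hfaith⟩ := D.frat
  haveI : (W₁.subgroupOf N).Normal := Cores.subgroupOf_normal_of_le_normalizer hW₁N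
  set q := QuotientGroup.mk' (W₁.subgroupOf N) with hq
  have hq1 : ∀ z : N, q z = 1 ↔ (z : G) ∈ W₁ := fun z => QuotientGroup.eq_one_iff z
  set Vb := (W.subgroupOf N).map q with hVb
  haveI hVn : Vb.Normal := Normal.map inferInstance q (QuotientGroup.mk'_surjective _)
  have hVcomm : ∀ u v : Vb, u * v = v * u := by
    rintro ⟨_, u, hu, rfl⟩ ⟨_, v, hv, rfl⟩
    refine Subtype.ext (show q u * q v = q v * q u from mul_inv_eq_iff_eq_mul.1 (mul_inv_eq_one.1 ?_))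
    rw [← map_inv, ← map_mul, ← map_inv, ← map_mul, ← map_mul, hq1]
    exact hcomm _ (mem_subgroupOf.1 hu) _ (mem_subgroupOf.1 hv)
  letI : CommGroup Vb := { (inferInstance : Group Vb) with mul_comm := hVcomm }
  have hexp : ∀ v : Vb, v ^ 3 = 1 := by
    rintro ⟨_, u, hu, rfl⟩
    refine Subtype.ext ?_
    show q u ^ 3 = 1
    rw [← map_pow, hq1]
    exact hcube _ (mem_subgroupOf.1 hu)
  set ρ : N ⧸ W.subgroupOf N →* MulAut Vb := QuotientGroup.lift (W.subgroupOf N)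
    ((MulAut.conjNormal (H := Vb)).comp q) (fun z hz => by
      refine MulEquiv.ext fun v => Subtype.ext ?_
      have h := congrArg Subtype.val (hVcomm ⟨q z, z, hz, rfl⟩ v)
      show (MulAut.conjNormal (q z) v : N ⧸ W₁.subgroupOf N) = v
      rw [MulAut.conjNormal_apply]
      exact mul_inv_eq_iff_eq_mul.2 h) with hρ
  set π := QuotientGroup.mk' (W.subgroupOf N) with hπ
  have hρap : ∀ (z : N) (v : Vb), ((ρ (π z) v : Vb) : N ⧸ W₁.subgroupOf N) = q z * v * (q z)⁻¹ :=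
    fun z v => MulAut.conjNormal_apply (q z) v
  have hinjK : ∀ z ∈ imgMod N W K, ρ z = 1 → z = 1 := by
    rintro _ ⟨z, hz, rfl⟩ h1
    refine (mk_eq_one_iff (W := W) z).2 (hfaith z (mem_subgroupOf.1 hz) fun w hw => ?_)
    have h2 := congrArg Subtype.val (DFunLike.congr_fun h1 ⟨q ⟨w, D.K_le (D.W_le hw)⟩, _, mem_subgroupOf.2 hw, rfl⟩)
    rw [hρap, MulAut.one_apply] at h2
    refine (hq1 (z * ⟨w, D.K_le (D.W_le hw)⟩ * z⁻¹ * ⟨w, D.K_le (D.W_le hw)⟩⁻¹)).1 ?_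
    rw [map_mul, map_mul, map_mul, map_inv, map_inv]
    exact mul_inv_eq_one.2 h2
  -- `W = W₁ R`
  have hWcover : ∀ w ∈ W, ∃ r ∈ R, w * r⁻¹ ∈ W₁ := by
    intro w hw
    have hn : R ≤ normalizer (W₁ : Set G) := ((hRW.trans D.W_le).trans D.K_le).trans hW₁N
    have hle : W₁ ⊔ R ≤ W := sup_le hW₁W hRW
    have h1 : (W₁ ⊔ R).relIndex W = 1 := by
      obtain ⟨i, hi⟩ := IsPGroup.iff_card.1 (show IsPGroup 3 Vb from fun v => ⟨1, by rw [pow_one]; exact hexp v⟩)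
      have h2 : W₁.relIndex W = 3 ^ i := by
        rw [← hi, hVb, ← Subgroup.relIndex_ker (W.subgroupOf N) q, QuotientGroup.ker_mk',
          relIndex_subgroupOf (D.W_le.trans D.K_le)]
      have h3 : ¬ 3 ∣ R.relIndex W := fun h => by
        have h4 := relIndex_mul_relIndex ⊥ R W bot_le hRW
        rw [relIndex_bot_left, relIndex_bot_left] at h4
        refine Nat.pow_succ_factorization_not_dvd (Nat.card_pos (α := W)).ne' Nat.prime_three ?_
        rw [pow_succ, ← hRc, ← h4]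
        exact mul_dvd_mul_left _ h
      exact Nat.eq_one_of_dvd_coprimes ((Nat.prime_three.coprime_iff_not_dvd.2 h3).pow_left i)
        (h2 ▸ relIndex_dvd_of_le_left W le_sup_left) (relIndex_dvd_of_le_left W le_sup_right)
    obtain ⟨w₁, hw₁, r, hr, rfl⟩ := (Coprime.mem_sup_iff hn).1 (relIndex_eq_one.1 h1 hw)
    exact ⟨r, hr, by rwa [mul_inv_cancel_right]⟩
  have hVlift : ∀ v : Vb, ∃ r, ∃ hr : r ∈ R, (v : N ⧸ W₁.subgroupOf N) = q ⟨r, D.K_le (D.W_le (hRW hr))⟩ := by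
    rintro ⟨_, w, hw, rfl⟩
    obtain ⟨r, hr, hwr⟩ := hWcover w (mem_subgroupOf.1 hw)
    refine ⟨r, hr, mul_inv_eq_one.1 ?_⟩
    rw [← map_inv, ← map_mul, hq1]
    exact hwr
  set yN : N := ⟨y, hBN hyB⟩ with hyN
  set fN : N := ⟨f, hBN hfB⟩ with hfN
  -- fixed points of `f` come from `C`
  set σ := ρ (π fN) with hσ
  have hσ3 : σ ^ 3 = 1 := by
    rw [hσ, ← map_pow, ← map_pow, show fN ^ 3 = 1 from Subtype.ext c.f_cube, map_one, map_one]
  have hCmap : ∀ z : C, q ⟨z, D.K_le (D.W_le (hRW z.2.1))⟩ ∈ Vb := fun z =>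
    ⟨_, mem_subgroupOf.2 (hRW z.2.1), rfl⟩
  have hCfixed : ∀ z : C, σ ⟨_, hCmap z⟩ = ⟨_, hCmap z⟩ := fun z => by
    refine Subtype.ext ((hρap fN _).trans ?_)
    show q fN * q ⟨z, _⟩ * (q fN)⁻¹ = q ⟨z, _⟩
    rw [← map_inv, ← map_mul, ← map_mul]
    exact congrArg q (Subtype.ext (show f * z * f⁻¹ = z by
      rw [← (mem_centralizer_singleton_iff.1 z.2.2 : (z : G) * f = f * z), mul_inv_cancel_right]))
  set Φ : C → fixAut σ := fun z => ⟨⟨_, hCmap z⟩, hCfixed z⟩ with hΦ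
  have hΦsurj : Function.Surjective Φ := by
    rintro ⟨v, hv⟩
    obtain ⟨r, hr, hvr⟩ := hVlift v
    have h1 : f * r * f⁻¹ * r⁻¹ ∈ W₁ := (hq1 (fN * ⟨r, D.K_le (D.W_le (hRW hr))⟩ * fN⁻¹ *
      ⟨r, D.K_le (D.W_le (hRW hr))⟩⁻¹)).1 (by
        rw [map_mul, map_mul, map_mul, map_inv, map_inv, ← hvr]
        exact mul_inv_eq_one.2 ((hρap fN v).symm.trans (congrArg Subtype.val hv)))
    set R1 := R ⊓ W₁
    have ha1 : r * f * r⁻¹ * f⁻¹ ∈ R1 := by
      refine ⟨?_, ?_⟩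
      · rw [show r * f * r⁻¹ * f⁻¹ = r * (f * r⁻¹ * f⁻¹) by group]
        exact R.mul_mem hr ((mem_normalizer_iff.1 hfR _).1 (R.inv_mem hr))
      · have := W₁.inv_mem h1
        rwa [show (f * r * f⁻¹ * r⁻¹)⁻¹ = r * f * r⁻¹ * f⁻¹ by group] at this
    obtain ⟨b, hb, hbf⟩ := exists_conj_of_fpf c.l_ne_three c.m_ne c.y_order c.f_cube c.y_moved R1
      (hR3.to_le inf_le_left) (inf_normalizer_le_normalizer_inf ⟨hyR, hW₁N (hBN hyB)⟩)
      (inf_normalizer_le_normalizer_inf ⟨hfR, hW₁N (hBN hfB)⟩) (fun z hz => hfree z hz.1) ha1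
      (by rw [show r * f * r⁻¹ * f⁻¹ * f = r * f * r⁻¹ by group, conj_pow, c.f_cube]; group)
    have hbr : b⁻¹ * r ∈ C := by
      refine ⟨R.mul_mem (R.inv_mem hb.1) hr, mem_centralizer_singleton_iff.2 (mul_inv_eq_iff_eq_mul.1 ?_)⟩
      calc b⁻¹ * r * f * (b⁻¹ * r)⁻¹ = b⁻¹ * (r * f * r⁻¹ * f⁻¹ * f) * b := by group
        _ = f := by rw [← hbf]; group
    refine ⟨⟨_, hbr⟩, Subtype.ext (Subtype.ext ?_)⟩
    show q ⟨b⁻¹ * r, _⟩ = (v : N ⧸ W₁.subgroupOf N)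
    rw [hvr, show (⟨b⁻¹ * r, D.K_le (D.W_le (hRW hbr.1))⟩ : N) =
      ⟨b⁻¹, N.inv_mem (D.K_le (D.W_le (hRW hb.1)))⟩ * ⟨r, D.K_le (D.W_le (hRW hr))⟩ from rfl, map_mul,
      (hq1 _).2 (W₁.inv_mem hb.2), one_mul]
  have hσle : Nat.card (fixAut σ) ≤ Nat.card C := Nat.card_le_card_of_surjective Φ hΦsurj
  have hσle : True := trivial
  have h1 := card_le_pow_three hexp hσ3
  have hfixC : Nat.card (fixAut σ) ≤ Nat.card (U ⊓ centralizer ({f} : Set G) : Subgroup G) :=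
    (Nat.card_le_card_of_surjective Φ hΦsurj).trans (card_le_of_le fun z hz => ⟨hle hz, hz.2⟩)
  have hUN : U ≤ N := c.U_le.trans hBN
  have hUmem : ∀ u : U, q ⟨u, hUN u.2⟩ ∈ Vb := fun u => ⟨_, mem_subgroupOf.2 (hRW (hUR u.2)), rfl⟩
  set τ := π ⟨t, D.t_mem⟩ with hτ
  have hρτ : ρ τ = 1 := by
    refine MulEquiv.ext fun v => ?_
    rw [MulAut.one_apply]
    rcases c.normal_three (U ⊓ W₁) (inf_le_left.trans c.U_le)
        (fun b hb => inf_normalizer_le_normalizer_inf ⟨c.U_normal hb, hW₁N (hBN hb)⟩)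
        (c.U_three.to_le inf_le_left) with hbot | htop
    · set Ψ : U → Vb := fun u => ⟨_, hUmem u⟩
      have hinj : Function.Injective Ψ := by
        intro u u' e
        have e' : q ⟨u, hUN u.2⟩ = q ⟨u', hUN u'.2⟩ := congrArg Subtype.val e
        have h2 : (u : G) * (u' : G)⁻¹ ∈ U ⊓ W₁ := ⟨U.mul_mem u.2 (U.inv_mem u'.2),
          (hq1 (⟨u, hUN u.2⟩ * ⟨u', hUN u'.2⟩⁻¹ : N)).1 (by rw [map_mul, map_inv, e', mul_inv_cancel])⟩
        rw [hbot, mem_bot, mul_inv_eq_one] at h2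
        exact Subtype.ext h2
      have hcard : Nat.card Vb ≤ Nat.card U := h1.trans ((Nat.pow_le_pow_left hfixC 3).trans hUf)
      obtain ⟨u, rfl⟩ := ((Nat.bijective_iff_injective_and_card Ψ).2
        ⟨hinj, le_antisymm (Nat.card_le_card_of_injective Ψ hinj) hcard⟩).2 v
      refine Subtype.ext ?_
      rw [hτ, hρap]
      show q ⟨t, D.t_mem⟩ * q ⟨u, _⟩ * (q ⟨t, D.t_mem⟩)⁻¹ = q ⟨u, _⟩
      rw [← map_inv, ← map_mul, ← map_mul]
      exact congrArg q (Subtype.ext (show t * u * t⁻¹ = (u : G) by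
        rw [← (c.commute_t (c.U_le u.2)).eq, mul_inv_cancel_right]))
    · have hfix1 : fixAut σ = ⊥ := eq_bot_iff.2 fun w hw => by
        obtain ⟨z, hz⟩ := hΦsurj ⟨w, hw⟩
        rw [mem_bot, ← show ((Φ z : fixAut σ) : Vb) = w from congrArg Subtype.val hz]
        refine Subtype.ext ((hq1 _).2 ?_)
        exact ((htop.ge : U ≤ U ⊓ W₁) (hle z.2)).2
      rw [hfix1, card_bot] at h1
      haveI := Finite.card_le_one_iff_subsingleton.1 (h1.trans (by norm_num))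
      exact Subsingleton.elim _ _
  set db := π ⟨d, D.K_le hd⟩ with hdb
  have hdbi : τ * db * τ⁻¹ = db⁻¹ := by
    rw [eq_inv_iff_mul_eq_one, hτ, hdb, ← map_inv, ← map_mul, ← map_mul, ← map_mul, hπ, mk_eq_one_iff]
    exact hdt
  have hdb3 : db ^ (3 ^ k) = 1 := by rw [hdb, ← map_pow, hπ, mk_eq_one_iff]; exact hk
  have h2 : db * db = 1 := by
    have hdbK : db ∈ imgMod N W K := ⟨_, mem_subgroupOf.2 hd, rfl⟩
    refine hinjK _ (mul_mem hdbK hdbK) ?_
    have h3 := congrArg ρ hdbi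
    rw [map_mul, map_mul, map_inv, map_inv, hρτ, one_mul, inv_one, mul_one] at h3
    rw [map_mul]
    nth_rewrite 1 [h3]
    exact inv_mul_cancel _
  exact (mk_eq_one_iff (W := W) (⟨d, D.K_le hd⟩ : N)).1 (orderOf_eq_one_iff.1 (Nat.eq_one_of_dvd_coprimes
    (((Nat.coprime_primes Nat.prime_two Nat.prime_three).2 (by decide)).pow_right k)
    (orderOf_dvd_of_pow_eq_one (by rw [pow_two]; exact h2)) (orderOf_dvd_of_pow_eq_one hdb3)))

/-- A nontrivial element of `H` has a power of prime order. -/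
theorem exists_prime_pow {x : G} (hx : x ≠ 1) : ∃ k : ℕ, (orderOf (x ^ k)).Prime := by
  obtain ⟨p, hp, hpd⟩ := Nat.exists_prime_and_dvd (n := orderOf x) fun e => hx (orderOf_eq_one_iff.1 e)
  exact ⟨orderOf x / p, by rw [orderOf_pow_orderOf_div (orderOf_pos x).ne' hpd]; exact hp⟩

/-- **The component.** `Kc` normal in `C(f)`, containing `f` and `[t, C(f)]`, of `3`-part at most `3 q₀³`,
`q₀ = 3ⁿ`, its fixed points `U₀ ⟨f⟩ ⋊ H₀` with `H₀` a Hall subgroup. -/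
theorem noInvertedMod_of_comp (c : ThreeCtx t f y U F₃ B H l m) {Kc : Subgroup G}
    (hKc : Kc ≤ centralizer ({f} : Set G))
    (hKn : centralizer ({f} : Set G) ≤ normalizer (Kc : Set G))
    (hcomm : ∀ x ∈ centralizer ({f} : Set G), t * x * t⁻¹ * x⁻¹ ∈ Kc) (hfK : f ∈ Kc) {n : ℕ} (hn : Odd n)
    (hn1 : 1 < n) (h3 : ¬ 3 ∣ (U ⊔ zpowers f).relIndex (Kc ⊓ B))
    (hhall : ∀ r : ℕ, r.Prime → r ≠ 3 → r ∣ Nat.card (Kc ⊓ B : Subgroup G) → ¬ r ∣ (Kc ⊓ B).relIndex Kc)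
    (hcard : ¬ 3 ^ (3 * n + 2) ∣ Nat.card Kc) (hUK : 3 ^ n ∣ Nat.card (U ⊓ Kc : Subgroup G))
    (hUf : Nat.card (U ⊓ centralizer ({f} : Set G) : Subgroup G) ^ 3 ≤ Nat.card U)
    {H₀ : Subgroup G} (hH₀ : H₀ ≤ H) (hH₀f : H₀ ≤ centralizer ({f} : Set G))
    (hH₀c : 2 * Nat.card H₀ + 1 = 3 ^ n) : NoInvertedMod t f U B := by
  intro N K W D d hd ⟨k, hk⟩ hdt hdf
  haveI : (W.subgroupOf N).Normal := Cores.subgroupOf_normal_of_le_normalizer D.W_normal
  haveI : Fact (Nat.Prime 2) := ⟨Nat.prime_two⟩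
  haveI : Fact (Nat.Prime 3) := ⟨Nat.prime_three⟩
  have hBN : B ≤ N := D.B_le.trans D.K_le
  have hUW : U ≤ W := D.inter ▸ inf_le_left
  have hfB : f ∈ B := c.F_le c.f_mem
  have htt : t * t = 1 := Involution.mul_self c.invol
  have htf : t ∈ centralizer ({f} : Set G) := mem_centralizer_singleton_iff.2 (c.commute_t hfB).symm.eq
  obtain ⟨R, hRW, hR3, hRt, hUR, hRc, hRB⟩ := D.exists_sylow c hUW D.W_le (D.W_normal D.t_mem)
    fun z hz hc => D.fixed_W hz hc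
  set Cr := R ⊓ Kc with hCr
  have htCr : t ∈ normalizer (Cr : Set G) := inf_normalizer_le_normalizer_inf ⟨hRt, hKn htf⟩
  by_cases htriv : ∀ v ∈ Cr, t * v * t⁻¹ = v⁻¹ → v = 1
  · refine mem_of_fixed_le D c hUf hRW hR3 hRt hUR hRc hRB (fun z hz => ?_) hd hk hdt
    have hti := c.t_inv
    have h1 : t * z * t⁻¹ * z⁻¹ = 1 := htriv _
      ⟨R.mul_mem ((mem_normalizer_iff.1 hRt z).1 hz.1) (R.inv_mem hz.1), hcomm z hz.2⟩ (by
        calc t * (t * z * t⁻¹ * z⁻¹) * t⁻¹ = t * t * z * (t⁻¹ * (z⁻¹ * t⁻¹)) := by group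
          _ = z * (t * (z⁻¹ * t⁻¹)) := by rw [htt, one_mul]; nth_rewrite 1 [hti]; rfl
          _ = (t * z * t⁻¹ * z⁻¹)⁻¹ := by group)
    exact D.fixed_W (hRW hz.1) (mul_inv_eq_iff_eq_mul.1 (mul_inv_eq_one.1 h1)).symm
  set π := QuotientGroup.mk' (W.subgroupOf N) with hπ
  set τ := π ⟨t, D.t_mem⟩ with hτ
  set fb := π ⟨f, hBN hfB⟩ with hfb
  have hτ2 : τ * τ = 1 := by
    rw [hτ, ← map_mul, ← map_one π]; congr 1; exact Subtype.ext htt
  set J := K ⊓ Kc with hJ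
  set M := imgMod N W J with hM
  have hMK : M ≤ imgMod N W K := map_mono fun z hz => mem_subgroupOf.2 (mem_subgroupOf.1 hz).1
  have hMo : Odd (Nat.card M) := D.imgK_odd.of_dvd_nat (card_dvd_of_le hMK)
  have hnormM : ∀ a (ha : a ∈ N), a ∈ centralizer ({f} : Set G) →
      π ⟨a, ha⟩ ∈ normalizer (M : Set (N ⧸ W.subgroupOf N)) := fun a ha haf =>
    Coprime.mem_normalizer_of_forall fun z hz => by
      obtain ⟨z', hz', rfl⟩ := hz
      rw [← map_inv, ← map_mul, ← map_mul]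
      refine ⟨_, mem_subgroupOf.2 ⟨?_, ?_⟩, rfl⟩
      · exact (mem_normalizer_iff.1 (D.K_normal ha) (z' : G)).1 (mem_subgroupOf.1 hz').1
      · exact (mem_normalizer_iff.1 (hKn haf) (z' : G)).1 (mem_subgroupOf.1 hz').2
  -- the fixed points
  have hC : M ⊓ centralizer ({τ} : Set (N ⧸ W.subgroupOf N)) = imgMod N W (Kc ⊓ B) := by
    refine le_antisymm ?_ ?_
    · intro z hz
      obtain ⟨x, hx, rfl⟩ := hz.1
      have hc : Commute (π x) τ := (mem_fixed_iff.1 hz).2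
      obtain ⟨hxK, hxc⟩ : (x : G) ∈ K ∧ (x : G) ∈ Kc := mem_subgroupOf.1 hx
      have hxW : t * x * t⁻¹ * (x : G)⁻¹ ∈ W ⊓ Kc := by
        refine ⟨(mk_eq_one_iff (W := W) (⟨t, D.t_mem⟩ * x * ⟨t, D.t_mem⟩⁻¹ * x⁻¹ : N)).1 ?_,
          Kc.mul_mem ((mem_normalizer_iff.1 (hKn htf) _).1 hxc) (Kc.inv_mem hxc)⟩
        rw [map_mul, map_mul, map_mul, map_inv, map_inv, ← hτ, ← hc.eq, mul_inv_cancel_right, mul_inv_cancel]
      obtain ⟨w, hw, hwc⟩ := exists_fixed_mul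
        (D.K_odd.of_dvd_nat (card_dvd_of_le (inf_le_left.trans D.W_le))) (Involution.mul_self c.invol)
        (inf_normalizer_le_normalizer_inf ⟨D.W_normal D.t_mem, hKn htf⟩) hxW
      refine ⟨⟨w, D.K_le (D.W_le hw.1)⟩ * x, mem_subgroupOf.2
        ⟨Kc.mul_mem hw.2 hxc, D.fix _ (K.mul_mem (D.W_le hw.1) hxK) hwc⟩, ?_⟩
      rw [map_mul, (mk_eq_one_iff (W := W) (⟨w, D.K_le (D.W_le hw.1)⟩ : N)).2 hw.1, one_mul]
    · rintro _ ⟨x, hx, rfl⟩
      obtain ⟨hxc, hxB⟩ : (x : G) ∈ Kc ∧ (x : G) ∈ B := mem_subgroupOf.1 hx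
      exact mem_fixed_iff.2 ⟨⟨x, mem_subgroupOf.2 ⟨D.B_le hxB, hxc⟩, rfl⟩,
        Commute.map (Subtype.ext (c.commute_t hxB).eq) π⟩
  set C0 := Kc ⊓ B with hC0
  have hcardC : Nat.card (imgMod N W C0) = U.relIndex C0 := by
    rw [imgMod, ← Subgroup.relIndex_ker (C0.subgroupOf N) π, QuotientGroup.ker_mk',
      relIndex_subgroupOf (inf_le_right.trans hBN), ← inf_relIndex_right W C0, ← inf_relIndex_right U C0]
    congr 1
    rw [← D.inter, inf_assoc]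
    exact congrArg _ (inf_eq_right.2 inf_le_right).symm
  set T := (U ⊔ zpowers f) ⊓ C0 with hT
  have hfC0 : f ∈ C0 := ⟨hfK, hfB⟩
  have hfbT : (T.subgroupOf N).map π = zpowers fb := by
    refine le_antisymm ?_ (zpowers_le.2 ⟨⟨f, hBN hfB⟩, mem_subgroupOf.2 ⟨mem_sup_right (mem_zpowers f), hfC0⟩, rfl⟩)
    rintro _ ⟨x, hx, rfl⟩
    obtain ⟨v, hv, w, hw, hvw⟩ := (Coprime.mem_sup_iff (zpowers_le.2 (c.U_normal hfB))).1 (mem_subgroupOf.1 hx).1
    obtain ⟨i, rfl⟩ := mem_zpowers_iff.1 hw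
    refine ⟨i, ?_⟩
    rw [show x = ⟨v, hBN (c.U_le hv)⟩ * ⟨f, hBN hfB⟩ ^ i from Subtype.ext (by simpa using hvw.symm), map_mul,
      (mk_eq_one_iff (W := W) (⟨v, hBN (c.U_le hv)⟩ : N)).2 (hUW hv), one_mul, map_zpow]
  have hfbo : orderOf fb = 3 := orderOf_eq_prime (by
    rw [hfb, ← map_pow, ← map_one π]; congr 1; exact Subtype.ext c.f_cube)
    fun e => D.f_not_mem c ((mk_eq_one_iff (W := W) (⟨f, hBN hfB⟩ : N)).1 e)
  set cc := (U ⊔ zpowers f).relIndex C0 with hcc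
  have hCcard : U.relIndex C0 = 3 * cc := by
    have h1 := relIndex_mul_relIndex (U ⊓ C0) T C0 (inf_le_inf_right _ le_sup_left) inf_le_right
    rw [inf_relIndex_right, hT, inf_relIndex_right, ← hT] at h1
    rw [← h1, hcc]
    congr 1
    rw [← hfbo, ← Nat.card_zpowers, ← hfbT, ← Subgroup.relIndex_ker (T.subgroupOf N) π, QuotientGroup.ker_mk',
      relIndex_subgroupOf ((inf_le_right.trans inf_le_right).trans hBN), ← inf_relIndex_right W T,
      ← inf_relIndex_right (U ⊓ C0) T]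
    congr 1
    refine le_antisymm (fun x hx => ⟨hUW hx.1.1, hx.2⟩) fun x hx => ⟨⟨?_, hx.2.2⟩, hx.2⟩
    exact D.inter ▸ ⟨hx.1, hx.2.2.2⟩
  have hcop : cc.Coprime ((M ⊓ centralizer ({τ} : Set (N ⧸ W.subgroupOf N))).relIndex M) := by
    refine Nat.coprime_of_dvd fun r hr hrcc hrn => ?_
    have h1 := relIndex_mul_relIndex ⊥ (M ⊓ centralizer ({τ} : Set (N ⧸ W.subgroupOf N))) M bot_le inf_le_left
    rw [relIndex_bot_left, relIndex_bot_left] at h1
    have h2 : Nat.card M ∣ Nat.card Kc := ((J.subgroupOf N).card_map_dvd π).trans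
      ((Cores.card_subgroupOf (inf_le_left.trans D.K_le)).dvd.trans (card_dvd_of_le inf_le_right))
    have h4 : r * U.relIndex C0 ∣ Nat.card Kc := by
      rw [mul_comm r, ← hcardC, ← hC]
      exact (mul_dvd_mul_left _ hrn).trans (h1.dvd.trans h2)
    have hrC : r ∣ U.relIndex C0 := hCcard ▸ hrcc.mul_left 3
    have h5 := relIndex_mul_relIndex ⊥ (U ⊓ C0) C0 bot_le inf_le_right
    rw [relIndex_bot_left, relIndex_bot_left, inf_relIndex_right] at h5
    have h6 := relIndex_mul_relIndex ⊥ C0 Kc bot_le inf_le_left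
    rw [relIndex_bot_left, relIndex_bot_left, ← h5] at h6
    have hr3 : r ≠ 3 := fun e => h3 (e ▸ hrcc)
    refine hhall r hr hr3 (h5 ▸ hrC.mul_left _) ?_
    have h7 : r ∣ Nat.card (U ⊓ C0 : Subgroup G) * C0.relIndex Kc := by
      refine Nat.dvd_of_mul_dvd_mul_right (Nat.pos_of_ne_zero (n := U.relIndex C0) fun e => h3 (by rw [show cc = 0 by omega]; exact dvd_zero 3)) ?_
      rw [show Nat.card (U ⊓ C0 : Subgroup G) * C0.relIndex Kc * U.relIndex C0 = Nat.card Kc by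
        rw [← h6]; ring]
      exact h4
    refine (Nat.Coprime.dvd_mul_left ?_).1 h7
    obtain ⟨j, hj⟩ := IsPGroup.iff_card.1 (c.U_three.to_le (inf_le_left : U ⊓ C0 ≤ U))
    rw [hj]
    exact ((Nat.coprime_primes hr Nat.prime_three).2 hr3).pow_right j
  have hfbM : fb ∈ M := ⟨_, mem_subgroupOf.2 ⟨D.B_le hfB, hfK⟩, rfl⟩
  have hfbτ : Commute fb τ := Commute.map (Subtype.ext (c.commute_t hfB).eq : Commute (⟨f, hBN hfB⟩ : N) ⟨t, D.t_mem⟩) π
  have hfbc : ∀ x ∈ M, Commute fb x := by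
    rintro _ ⟨x, hx, rfl⟩
    exact Commute.map (Subtype.ext (mem_centralizer_singleton_iff.1 (hKc (mem_subgroupOf.1 hx).2)).symm :
      Commute (⟨f, hBN hfB⟩ : N) x) π
  obtain ⟨E, hEM, hE3, hfE, hEτ, hEfix, hEcomm, hEall, hEn⟩ := exists_inverted_three hMo hτ2
    (hnormM t D.t_mem htf) hfbM hfbc hfbτ hfbo h3 (by rw [hC, hcardC, hCcard]) hcop
  -- the image of `H₀`
  have hH₀N : H₀ ≤ N := (hH₀.trans c.H_le).trans hBN
  have hinjH : ∀ a ∈ H, a ∈ W → a = 1 := by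
    intro a ha haW
    have haU : a ∈ U := D.inter ▸ ⟨haW, c.H_le ha⟩
    refine orderOf_eq_one_iff.1 (Nat.eq_one_of_dvd_coprimes ?_ (Subgroup.orderOf_dvd_natCard U haU)
      (Subgroup.orderOf_dvd_natCard H ha))
    obtain ⟨j, hj⟩ := IsPGroup.iff_card.1 c.U_three
    rw [hj]; exact (Nat.prime_three.coprime_iff_not_dvd.2 c.H_three).pow_left j
  set Hb := (H₀.subgroupOf N).map π with hHb
  have hHbc : Nat.card Hb = Nat.card H₀ := by
    rw [hHb, ← Subgroup.relIndex_ker (H₀.subgroupOf N) π, QuotientGroup.ker_mk', relIndex_subgroupOf hH₀N,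
      ← inf_relIndex_right W H₀, show W ⊓ H₀ = ⊥ from eq_bot_iff.2 fun a ha => mem_bot.2 (hinjH a (hH₀ ha.2) ha.1),
      relIndex_bot_left]
  have hHbτ : ∀ g ∈ Hb, Commute g τ := by
    rintro _ ⟨x, hx, rfl⟩
    exact Commute.map (Subtype.ext (c.commute_t (c.H_le (hH₀ (mem_subgroupOf.1 hx)))).eq :
      Commute x (⟨t, D.t_mem⟩ : N)) π
  have hHbE : Hb ≤ normalizer (E : Set (N ⧸ W.subgroupOf N)) := by
    rintro _ ⟨x, hx, rfl⟩
    exact hEn _ (hnormM x x.2 (hH₀f (mem_subgroupOf.1 hx))) (hHbτ _ ⟨x, hx, rfl⟩) (Commute.map (Subtype.ext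
      (mem_centralizer_singleton_iff.1 (hH₀f (mem_subgroupOf.1 hx))) : Commute x (⟨f, hBN hfB⟩ : N)) π)
  have hfreeE : ∀ g ∈ Hb, g ≠ 1 → ∀ e ∈ E, τ * e * τ⁻¹ = e⁻¹ → g * e * g⁻¹ = e → e = 1 := by
    rintro _ ⟨x, hx, rfl⟩ hne e heE hei hfix
    have hxH : (x : G) ∈ H := hH₀ (mem_subgroupOf.1 hx)
    obtain ⟨j, hj⟩ := exists_prime_pow (x := (x : G)) fun h => hne (by
      rw [show x = 1 from Subtype.ext h, map_one])
    obtain ⟨e', he', rfl⟩ := hMK (hEM heE)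
    obtain ⟨i, hi⟩ := hE3 ⟨π e', heE⟩
    have hcx : Commute (π x ^ j) (π e') := (show Commute (π x) (π e') from mul_inv_eq_iff_eq_mul.1 hfix).pow_left j
    refine (mk_eq_one_iff (W := W) e').2 (D.no_inverted c (H.pow_mem hxH j) hj (mem_subgroupOf.1 he') (k := i)
      ((mk_eq_one_iff (W := W) (e' ^ (3 ^ i))).1 (by rw [map_pow]; exact congrArg Subtype.val hi))
      ((mk_eq_one_iff (W := W) (⟨t, D.t_mem⟩ * e' * ⟨t, D.t_mem⟩⁻¹ * e' : N)).1 (by
        rw [map_mul, map_mul, map_mul, map_inv, hei, inv_mul_cancel]))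
      ((mk_eq_one_iff (W := W) (x ^ j * e' * (x ^ j)⁻¹ * e'⁻¹ : N)).1 (by
        rw [map_mul, map_mul, map_mul, map_inv, map_inv, map_pow, hcx.eq, mul_inv_cancel_right, mul_inv_cancel])))
  -- the bound on `E` from the order of the component
  have hEcard : Nat.card E ≤ 3 * 3 ^ n := by
    push Not at htriv
    obtain ⟨v, hv, hvi, hv1⟩ := htriv
    have hCr3 : IsPGroup 3 Cr := hR3.to_le inf_le_left
    obtain ⟨i, hi⟩ := IsPGroup.iff_card.1 hCr3
    have hCro : Odd (Nat.card Cr) := hi ▸ (show Odd 3 by decide).pow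
    have hinvc := card_inverted hCro htt htCr
    set F0 := Cr ⊓ centralizer ({t} : Set G)
    have hF0 : 3 ^ n ≤ Nat.card F0 := by
      refine (Nat.le_of_dvd Nat.card_pos hUK).trans (card_le_of_le fun u hu => ?_)
      exact mem_fixed_iff.2 ⟨⟨hUR hu.1, hu.2⟩, c.commute_t (c.U_le hu.1)⟩
    have h2 := relIndex_mul_relIndex ⊥ F0 Cr bot_le inf_le_left
    rw [relIndex_bot_left, relIndex_bot_left, ← hinvc] at h2
    obtain ⟨e, -, he⟩ := (Nat.dvd_prime_pow Nat.prime_three).1 (hi ▸ Dvd.intro_left _ h2 :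
      Nat.card (InvSet Cr t) ∣ 3 ^ i)
    have hH₀R : H₀ ≤ normalizer (Cr : Set G) := fun x hx => inf_normalizer_le_normalizer_inf
      ⟨hRB x (c.H_le (hH₀ hx)) (D.W_normal (hH₀N hx)), hKn (hH₀f hx)⟩
    have h4 := dvd_card_inverted_sub_one (M := Cr) (τ := t) hH₀R (fun x hx => c.commute_t (c.H_le (hH₀ hx)))
      fun x hx hx1 w hw hwi hwx => by
        obtain ⟨j, hj⟩ := exists_prime_pow hx1
        have hwxj : Commute w (x ^ j) := (show Commute x w from mul_inv_eq_iff_eq_mul.1 hwx).symm.pow_right j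
        have htw : t ∈ normalizer (zpowers w : Set G) := Coprime.mem_normalizer_of_forall fun z hz => by
          obtain ⟨a, rfl⟩ := mem_zpowers_iff.1 hz
          rw [← conj_zpow, hwi]
          exact zpow_mem (inv_mem (mem_zpowers w)) a
        have hct := c.cent_H _ (H.pow_mem (hH₀ hx) j) hj (zpowers w)
          (hCr3.to_le (zpowers_le.2 hw)) (fun z hz => by
            obtain ⟨a, rfl⟩ := mem_zpowers_iff.1 hz; exact hwxj.zpow_left a) htw w (mem_zpowers w)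
        refine eq_one_of_inv_eq hCro hw ?_
        nth_rewrite 1 [show w = t * w * t⁻¹ by rw [← hct.eq, mul_inv_cancel_right]]
        exact hwi
    rw [he, show Nat.card H₀ = (3 ^ n - 1) / 2 by omega] at h4
    have hne : e ≠ 0 := fun h => hv1 (by
      rw [h, pow_zero] at he
      haveI := (Nat.card_eq_one_iff_unique.1 he).1
      exact congrArg (fun z : InvSet Cr t => ((z.1 : Cr) : G))
        (Subsingleton.elim (⟨⟨v, hv⟩, hvi⟩ : InvSet Cr t) ⟨1, by simp⟩))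
    have he2 := (eq_zero_or_le_of_dvd h4).resolve_left hne
    have hi2 : 2 * n ≤ i := by
      refine (Nat.pow_le_pow_iff_right (show 1 < 3 by norm_num)).1 ?_
      rw [← hi, ← h2, he, two_mul, pow_add]
      exact Nat.mul_le_mul hF0 (Nat.pow_le_pow_right (by norm_num) he2)
    obtain ⟨j, hj⟩ := IsPGroup.iff_card.1 hE3
    have h5 := relIndex_mul_relIndex ⊥ (W ⊓ J) J bot_le inf_le_right
    rw [relIndex_bot_left, relIndex_bot_left, inf_relIndex_right] at h5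
    have hMc : Nat.card M = W.relIndex J := by
      rw [hM, imgMod, ← Subgroup.relIndex_ker (J.subgroupOf N) π, QuotientGroup.ker_mk',
        relIndex_subgroupOf (inf_le_left.trans D.K_le)]
    have h6 : 3 ^ (i + j) ∣ Nat.card Kc := by
      rw [pow_add, ← hi, ← hj]
      refine (mul_dvd_mul (card_dvd_of_le (show Cr ≤ W ⊓ J from fun z hz => ⟨hRW hz.1, D.W_le (hRW hz.1), hz.2⟩))
        ((card_dvd_of_le hEM).trans hMc.dvd)).trans ?_
      rw [h5]
      exact card_dvd_of_le inf_le_right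
    have h7 : i + j < 3 * n + 2 := by
      by_contra h
      exact hcard ((pow_dvd_pow 3 (by omega)).trans h6)
    rw [hj, ← pow_succ']
    exact Nat.pow_le_pow_right (by norm_num) (by omega)
  have hEc := commute_of_free hE3 hτ2 hEτ hfE (fun x hx => hfbc x (hEM hx)) hfbτ hfbo hEfix hEcomm hn
    (hHbc ▸ hH₀c) hEcard hHbE hHbτ hfreeE
  let E₀ : Subgroup (N ⧸ W.subgroupOf N) :=
    { carrier := {e | e ∈ E ∧ τ * e * τ⁻¹ = e⁻¹}
      one_mem' := ⟨E.one_mem, by simp⟩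
      mul_mem' := fun {a b} ha hb => ⟨E.mul_mem ha.1 hb.1, by
        rw [show τ * (a * b) * τ⁻¹ = (τ * a * τ⁻¹) * (τ * b * τ⁻¹) by group, ha.2, hb.2, ← mul_inv_rev,
          (hEc a ha.1 b hb.1).eq]⟩
      inv_mem' := fun {a} ha => ⟨E.inv_mem ha.1, by
        rw [show τ * a⁻¹ * τ⁻¹ = (τ * a * τ⁻¹)⁻¹ by group, ha.2]⟩ }
  obtain ⟨h, hh, hhp⟩ : ∃ h ∈ H₀, (orderOf h).Prime := by
    have h1 : 1 < Nat.card H₀ := by
      have : 3 ^ 2 ≤ 3 ^ n := Nat.pow_le_pow_right (by norm_num) hn1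
      omega
    obtain ⟨p, hp, hpd⟩ := Nat.exists_prime_and_dvd h1.ne'
    haveI := Fact.mk hp
    obtain ⟨x, hx⟩ := exists_prime_orderOf_dvd_card' p hpd
    exact ⟨x, x.2, by rw [Subgroup.orderOf_coe, hx]; exact hp⟩
  have hhb : π ⟨h, hH₀N hh⟩ ∈ Hb := ⟨_, mem_subgroupOf.2 hh, rfl⟩
  have hEbot := trivial_of_normalized D c (hH₀ hh) hhp (E := E₀) (fun e he => hMK (hEM he.1))
    (hE3.to_le fun e he => he.1) (fun e he => he.2) fun e he =>
      ⟨(mem_normalizer_iff.1 (hHbE hhb) e).1 he.1, by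
        calc τ * (π ⟨h, hH₀N hh⟩ * e * (π ⟨h, hH₀N hh⟩)⁻¹) * τ⁻¹
            = (τ * π ⟨h, hH₀N hh⟩) * e * (τ * π ⟨h, hH₀N hh⟩)⁻¹ := by group
          _ = (π ⟨h, hH₀N hh⟩ * τ) * e * (π ⟨h, hH₀N hh⟩ * τ)⁻¹ := by rw [(hHbτ _ hhb).eq]
          _ = π ⟨h, hH₀N hh⟩ * (τ * e * τ⁻¹) * (π ⟨h, hH₀N hh⟩)⁻¹ := by group
          _ = (π ⟨h, hH₀N hh⟩ * e * (π ⟨h, hH₀N hh⟩)⁻¹)⁻¹ := by rw [he.2]; group⟩
  -- `d` lies there
  have hdN : d ∈ N := D.K_le hd
  set db := π ⟨d, hdN⟩ with hdb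
  have hdbi : τ * db * τ⁻¹ = db⁻¹ := by
    rw [eq_inv_iff_mul_eq_one, hτ, hdb, ← map_inv, ← map_mul, ← map_mul, ← map_mul, hπ, mk_eq_one_iff]
    exact hdt
  have hdb3 : db ^ (3 ^ k) = 1 := by rw [hdb, ← map_pow, hπ, mk_eq_one_iff]; exact hk
  have hsq : db * db ∈ M := by
    have h1 : t * d * t⁻¹ * d⁻¹ ∈ J := ⟨K.mul_mem ((mem_normalizer_iff.1 (D.K_normal D.t_mem) d).1 hd)
      (K.inv_mem hd), hcomm d (mem_centralizer_singleton_iff.2 hdf.eq)⟩
    have h2 : db⁻¹ * db⁻¹ ∈ M := by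
      refine ⟨⟨t, D.t_mem⟩ * ⟨d, hdN⟩ * ⟨t, D.t_mem⟩⁻¹ * ⟨d, hdN⟩⁻¹, mem_subgroupOf.2 h1, ?_⟩
      rw [map_mul, map_mul, map_mul, map_inv, map_inv, hdbi]
    simpa using M.inv_mem h2
  have hdM : db ∈ M := by
    obtain ⟨i, hi⟩ : Odd (3 ^ k) := (show Odd 3 by decide).pow
    have : db = (db * db) ^ (i + 1) := by
      rw [← pow_two, ← pow_mul, show 2 * (i + 1) = 2 * i + 1 + 1 by ring, ← hi, pow_succ, hdb3, one_mul]
    rw [this]
    exact M.pow_mem hsq _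
  have : db ∈ E₀ := ⟨hEall db hdM hdbi ⟨k, hdb3⟩, hdbi⟩
  rw [hEbot, mem_bot, hdb, hπ, mk_eq_one_iff] at this
  exact this

end Cfsg.Agent.AbelianSylow.Field
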