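import Cfsg.Agent.Lib.AbelianSylow.Cent.FieldThree
import Cfsg.Agent.Lib.AbelianSylow.Cent.FieldLines
import Cfsg.Agent.Lib.AltE7.Section

/-!
# No field automorphism, case `s = 3`, `q = 27` (owner: helper82; `FIELD.md` step 5, `q₀ = 3`)

* `exists_inverted_lift`    : an inverted coset of `W` in `C(f)` gives an inverted `3`-element of `C(f)`
* `noInvertedMod_of_small`  : if `H` has order `13` and the inverted `3`-elements of `C(f)` are those of a
  cyclic group of order `9` moving `C_U(f)`, the component supplies `NoInvertedMod`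
-/

set_option autoImplicit false
set_option linter.style.haveILetI false
set_option linter.unusedSectionVars false

namespace Cfsg.Agent.AbelianSylow.Field

open Subgroup
open scoped Pointwise

universe u

variable {G : Type u} [Group G] [Finite G] {t f y : G} {U F₃ B H N K W : Subgroup G} {l m : ℕ}

theorem card_le_fixed_mul_inverted {C : Subgroup G} (ht : t * t = 1) (htC : t ∈ normalizer (C : Set G))
    {I : Subgroup G} (hI : ∀ v ∈ C, t * v * t⁻¹ = v⁻¹ → v ∈ I) :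
    Nat.card C ≤ Nat.card I * Nat.card (C ⊓ centralizer ({t} : Set G) : Subgroup G) := by
  classical
  set C0 := C ⊓ centralizer ({t} : Set G)
  have hti : t⁻¹ = t := inv_eq_of_mul_eq_one_right ht
  have hψ : ∀ v : C, t * (v : G) * t⁻¹ * (v : G)⁻¹ ∈ I := fun v => hI _
    (C.mul_mem ((mem_normalizer_iff.1 htC _).1 v.2) (C.inv_mem v.2)) (by
      calc t * (t * v * t⁻¹ * (v : G)⁻¹) * t⁻¹ = t * t * v * (t⁻¹ * ((v : G)⁻¹ * t⁻¹)) := by group
        _ = v * (t * ((v : G)⁻¹ * t⁻¹)) := by rw [ht, one_mul]; nth_rewrite 1 [hti]; rfl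
        _ = (t * v * t⁻¹ * (v : G)⁻¹)⁻¹ := by group)
  rw [card_eq_card_quotient_mul_card_subgroup (C0.subgroupOf C), Cores.card_subgroupOf inf_le_left]
  refine Nat.mul_le_mul_right _ (Nat.card_le_card_of_injective
    (fun z : C ⧸ C0.subgroupOf C => (⟨_, hψ z.out⟩ : I)) fun a b e => ?_)
  rw [← QuotientGroup.out_eq' a, ← QuotientGroup.out_eq' b, QuotientGroup.eq]
  set p := a.out
  set q := b.out
  have e' : t * (p : G) * t⁻¹ * (p : G)⁻¹ = t * (q : G) * t⁻¹ * (q : G)⁻¹ := congrArg Subtype.val e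
  refine mem_subgroupOf.2 ⟨(p⁻¹ * q).2, mem_centralizer_singleton_iff.2 ?_⟩
  have h1 : t * ((p : G)⁻¹ * q) * t⁻¹ = (p : G)⁻¹ * q := by
    calc t * ((p : G)⁻¹ * q) * t⁻¹
        = (p : G)⁻¹ * (t * (p : G) * t⁻¹ * (p : G)⁻¹)⁻¹ * (t * (q : G) * t⁻¹ * (q : G)⁻¹) * q := by group
      _ = (p : G)⁻¹ * q := by rw [e', inv_mul_cancel_right]
  exact (mul_inv_eq_iff_eq_mul.1 h1).symm

theorem exists_inverted_lift (D : LocalData t U B N K W) (c : ThreeCtx t f y U F₃ B H l m) {d : G} (hd : d ∈ K)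
    {k : ℕ} (hk : d ^ (3 ^ k) ∈ W) (hdt : t * d * t⁻¹ * d ∈ W) (hdf : Commute d f) :
    ∃ e ∈ K, Commute e f ∧ t * e * t⁻¹ = e⁻¹ ∧ (∃ j : ℕ, e ^ (3 ^ j) = 1) ∧ (e ∈ W → d ∈ W) := by
  haveI : (W.subgroupOf N).Normal := Cores.subgroupOf_normal_of_le_normalizer D.W_normal
  set π := QuotientGroup.mk' (W.subgroupOf N) with hπ
  have hdN : d ∈ N := D.K_le hd
  have hti := c.t_inv
  set s := t * d * t⁻¹ * d⁻¹ with hs
  have hsK : s ∈ K := K.mul_mem ((mem_normalizer_iff.1 (D.K_normal D.t_mem) d).1 hd) (K.inv_mem hd)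
  have hsinv : t * s * t⁻¹ = s⁻¹ := by
    calc t * s * t⁻¹ = t * t * d * (t⁻¹ * (d⁻¹ * t⁻¹)) := by rw [hs]; group
      _ = d * (t * (d⁻¹ * t⁻¹)) := by rw [Involution.mul_self c.invol, one_mul]; nth_rewrite 1 [hti]; rfl
      _ = s⁻¹ := by rw [hs]; group
  have htf : Commute t f := (c.commute_t (c.F_le c.f_mem)).symm
  have hsf : Commute s f := ((htf.mul_left hdf).mul_left htf.inv_left).mul_left hdf.inv_left
  obtain ⟨a, n, hn, han⟩ := Nat.exists_eq_pow_mul_and_not_dvd (orderOf_pos s).ne' 3 (by norm_num)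
  obtain ⟨r, hrn, hr3⟩ := Nat.chineseRemainder
    ((Nat.prime_three.coprime_iff_not_dvd.2 hn).symm.pow_right (max a k)) 0 1
  refine ⟨s ^ r, K.pow_mem hsK r, hsf.pow_left r, by rw [← conj_pow, hsinv, inv_pow],
    ⟨a, ?_⟩, fun heW => ?_⟩
  · rw [← pow_mul, ← orderOf_dvd_iff_pow_eq_one, han, mul_comm (3 ^ a)]
    exact mul_dvd_mul (Nat.modEq_zero_iff_dvd.1 hrn) dvd_rfl
  · set db := π ⟨d, hdN⟩ with hdb
    have hdb3 : db ^ (3 ^ k) = 1 := by rw [hdb, ← map_pow, hπ, mk_eq_one_iff]; exact hk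
    have hti' : π ⟨t, D.t_mem⟩ * db * (π ⟨t, D.t_mem⟩)⁻¹ = db⁻¹ := by
      rw [eq_inv_iff_mul_eq_one, hdb, ← map_inv, ← map_mul, ← map_mul, ← map_mul, hπ, mk_eq_one_iff]
      exact hdt
    have hsb : π ⟨s, D.K_le hsK⟩ = db⁻¹ * db⁻¹ := by
      rw [show (⟨s, D.K_le hsK⟩ : N) = ⟨t, D.t_mem⟩ * ⟨d, hdN⟩ * ⟨t, D.t_mem⟩⁻¹ * ⟨d, hdN⟩⁻¹ from rfl,
        map_mul, map_mul, map_mul, map_inv, map_inv, hti']
    have hsb3 : (π ⟨s, D.K_le hsK⟩) ^ (3 ^ max a k) = 1 := by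
      rw [hsb, (Commute.refl db⁻¹).mul_pow, inv_pow, ← orderOf_dvd_iff_pow_eq_one.1
        ((orderOf_dvd_of_pow_eq_one hdb3).trans (pow_dvd_pow 3 (le_max_right a k)))]
      rw [orderOf_dvd_iff_pow_eq_one.1
        ((orderOf_dvd_of_pow_eq_one hdb3).trans (pow_dvd_pow 3 (le_max_right a k)))]
      simp
    have h1 : π ⟨s, D.K_le hsK⟩ = 1 := by
      calc π ⟨s, D.K_le hsK⟩ = π ⟨s, D.K_le hsK⟩ ^ 1 := (pow_one _).symm
        _ = π ⟨s, D.K_le hsK⟩ ^ r :=
          pow_eq_pow_iff_modEq.2 (hr3.symm.of_dvd (orderOf_dvd_of_pow_eq_one hsb3))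
        _ = 1 := by rw [← map_pow, hπ, mk_eq_one_iff]; exact heW
    have h2 : db * db = 1 := by
      rw [hsb] at h1
      simpa using congrArg (·⁻¹) h1
    have h3 : db = 1 := orderOf_eq_one_iff.1 (Nat.eq_one_of_dvd_coprimes
      (((Nat.coprime_primes Nat.prime_two Nat.prime_three).2 (by decide)).pow_right k)
      (orderOf_dvd_of_pow_eq_one (by rw [pow_two]; exact h2)) (orderOf_dvd_of_pow_eq_one hdb3))
    exact (mk_eq_one_iff (W := W) (⟨d, hdN⟩ : N)).1 h3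

/-- A `t`-invariant `3`-subgroup of `W` lies in the invariant Sylow subgroup. -/
theorem LocalData.le_sylow (D : LocalData t U B N K W) (c : ThreeCtx t f y U F₃ B H l m) {R : Subgroup G}
    (hRW : R ≤ W) (hRt : t ∈ normalizer (R : Set G)) (hUR : U ≤ R)
    (hRc : Nat.card R = 3 ^ (Nat.card W).factorization 3) {Q : Subgroup G} (hQW : Q ≤ W) (hQ : IsPGroup 3 Q)
    (hQt : t ∈ normalizer (Q : Set G)) : Q ≤ R := by
  haveI : Fact (Nat.Prime 3) := ⟨Nat.prime_three⟩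
  have hWo : Odd (Nat.card W) := D.K_odd.of_dvd_nat (card_dvd_of_le D.W_le)
  have htW : zpowers t ≤ normalizer (W : Set G) := zpowers_le.2 (D.W_normal D.t_mem)
  have hcop : (Nat.card (zpowers t)).Coprime (Nat.card W) := by
    rw [Nat.card_zpowers, c.invol]; exact Nat.coprime_two_left.2 hWo
  have hsol := OddOrderTheorem.solvable hWo
  obtain ⟨Q', hQQ', hQ'W, hQ't, hQ'c⟩ := Coprime.exists_invariant_card htW hcop (Or.inr hsol) 3 hQW hQ
    (zpowers_le.2 hQt)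
  obtain ⟨e, he, hee⟩ := Coprime.exists_mem_centralizer_conj_of_card htW hcop (Or.inr hsol) hQ'W hRW hQ't
    (zpowers_le.2 hRt) hQ'c hRc
  have heR : e ∈ R := hUR (D.fixed_W he.1 (mem_centralizer_iff.1 he.2 t (mem_zpowers t)).symm)
  rw [Coprime.conj_eq_of_mem_normalizer (le_normalizer heR)] at hee
  exact hQQ'.trans hee.ge

theorem not_pow_three_dvd_gl {n N0 : ℕ} (hn : n = 27 ∨ n = 729)
    (h : (n = 27 → N0 = ∏ i : Fin 3, (3 ^ 3 - 3 ^ i.val)) ∧ (n = 729 → N0 = ∏ i : Fin 6, (3 ^ 6 - 3 ^ i.val))) :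
    ¬ 13 ^ 3 ∣ N0 ∧ (n = 27 → ¬ 13 ^ 2 ∣ N0) := by
  rcases hn with rfl | rfl
  · rw [h.1 rfl]
    simp [Fin.prod_univ_succ]
  · rw [h.2 rfl]
    simp [Fin.prod_univ_succ]

theorem three_pow_cases {i e : ℕ} (hi : i ≤ 2) (he : e ≤ 2) (he0 : e ≠ 0) (hne : 3 ^ i ≠ 3 ^ e) (h9 : 3 ^ i ≠ 9) :
    3 ^ i ≤ 3 ∧ (3 ^ e ≠ 9 → 3 ^ i ≤ 1) := by
  interval_cases i <;> interval_cases e <;> norm_num at *

set_option maxHeartbeats 1600000 in
/-- **The component, `q = 27`.** -/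
theorem noInvertedMod_of_small (c : ThreeCtx t f y U F₃ B H l m) (hl : l = 13) (hHy : ∀ x ∈ H, x ∈ zpowers y)
    (hUf : Nat.card (U ⊓ centralizer ({f} : Set G) : Subgroup G) ≤ 3)
    (hu0 : ∃ u ∈ U, u ≠ 1 ∧ Commute u f)
    (hcyc : ∀ P : Subgroup G, IsPGroup 3 P → P ≤ centralizer ({f} : Set G) → t ∈ normalizer (P : Set G) →
      ∃ a : G, a ^ 9 = 1 ∧ ∀ x ∈ P, t * x * t⁻¹ = x⁻¹ → x ∈ zpowers a)
    (hmove : ∀ d ∈ centralizer ({f} : Set G), orderOf d = 9 → t * d * t⁻¹ = d⁻¹ →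
      ∀ u ∈ U, u ≠ 1 → Commute u f → ¬ Commute d u) : NoInvertedMod t f U B := by
  intro N K W D d0 hd0 ⟨k0, hk0⟩ hdt0 hdf0
  subst hl
  haveI : Fact (Nat.Prime 2) := ⟨Nat.prime_two⟩
  haveI : Fact (Nat.Prime 3) := ⟨Nat.prime_three⟩
  haveI : Fact (Nat.Prime 13) := ⟨by norm_num⟩
  haveI : (W.subgroupOf N).Normal := Cores.subgroupOf_normal_of_le_normalizer D.W_normal
  obtain ⟨d2, hd2K, hd2f, hd2t, ⟨j2, hd2j⟩, hd2W⟩ := exists_inverted_lift D c hd0 hk0 hdt0 hdf0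
  refine hd2W ?_
  clear hd2W hdt0 hdf0 hk0 hd0 d0 k0
  have hUW : U ≤ W := D.inter ▸ inf_le_left
  have hBN : B ≤ N := D.B_le.trans D.K_le
  have hfB : f ∈ B := c.F_le c.f_mem
  have hyB : y ∈ B := c.H_le c.y_mem
  -- the Sylow subgroup of `W`
  obtain ⟨R, hRW, hR3, hRt, hUR, hRc, hRB⟩ := D.exists_sylow c hUW D.W_le (D.W_normal D.t_mem)
    fun z hz hc => D.fixed_W hz hc
  have hfR : f ∈ normalizer (R : Set G) := hRB f hfB (D.W_normal (hBN hfB))
  have hyR : y ∈ normalizer (R : Set G) := hRB y hyB (D.W_normal (hBN hyB))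
  have hfree : ∀ r ∈ R, Commute y r → r = 1 := by
    intro r hr hc
    obtain ⟨k, hk⟩ := hR3 ⟨r, hr⟩
    set C := R ⊓ centralizer ({y} : Set G)
    have htC : t ∈ normalizer (C : Set G) := Coprime.mem_normalizer_of_forall fun z hz =>
      ⟨(mem_normalizer_iff.1 hRt z).1 hz.1, mem_centralizer_singleton_iff.2 (by
        have h1 : Commute z y := mem_centralizer_singleton_iff.1 hz.2
        have h2 : Commute y t := c.commute_t hyB
        exact ((h2.symm.mul_left h1).mul_left h2.symm.inv_left).eq)⟩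
    have hct := c.cent_H y c.y_mem (c.y_order ▸ c.l_prime) C (hR3.to_le inf_le_left)
      (fun w hw => mem_centralizer_singleton_iff.1 hw.2) htC r ⟨hr, mem_centralizer_singleton_iff.2 hc.symm.eq⟩
    exact c.y_free r (D.fix r (D.W_le (hRW hr)) hct) k (congrArg (Subtype.val : R → G) hk) hc.symm
  -- the group `C` and a Sylow subgroup of the fixed points of `f`
  set C := R ⊓ centralizer ({f} : Set G) with hC
  set J := K ⊓ centralizer ({f} : Set G) with hJ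
  have htf : t ∈ centralizer ({f} : Set G) := mem_centralizer_singleton_iff.2 (c.commute_t hfB).symm.eq
  have hJo : Odd (Nat.card J) := D.K_odd.of_dvd_nat (card_dvd_of_le inf_le_left)
  have htJ : zpowers t ≤ normalizer (J : Set G) :=
    zpowers_le.2 (inf_normalizer_le_normalizer_inf ⟨D.K_normal D.t_mem, le_normalizer htf⟩)
  have hcopJ : (Nat.card (zpowers t)).Coprime (Nat.card J) := by
    rw [Nat.card_zpowers, c.invol]; exact Nat.coprime_two_left.2 hJo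
  have hsolJ := OddOrderTheorem.solvable hJo
  have htC : t ∈ normalizer (C : Set G) := inf_normalizer_le_normalizer_inf ⟨hRt, le_normalizer htf⟩
  have hC3 : IsPGroup 3 C := hR3.to_le inf_le_left
  obtain ⟨P, hCP, hPJ, hPt, hPc⟩ := Coprime.exists_invariant_card htJ hcopJ (Or.inr hsolJ) 3
    (inf_le_inf_right _ (hRW.trans D.W_le)) hC3 (zpowers_le.2 htC)
  have hd2J : d2 ∈ J := ⟨hd2K, mem_centralizer_singleton_iff.2 hd2f.eq⟩
  have htz : zpowers t ≤ normalizer (zpowers d2 : Set G) := zpowers_le.2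
    (Coprime.mem_normalizer_of_forall fun z hz => by
      obtain ⟨i, rfl⟩ := mem_zpowers_iff.1 hz
      rw [← conj_zpow, hd2t]
      exact zpow_mem (inv_mem (mem_zpowers d2)) i)
  obtain ⟨P', hdP', hP'J, hP't, hP'c⟩ := Coprime.exists_invariant_card htJ hcopJ (Or.inr hsolJ) 3
    (zpowers_le.2 hd2J) (by
      rintro ⟨z, i, rfl⟩
      refine ⟨j2, Subtype.ext ?_⟩
      show (d2 ^ i) ^ (3 ^ j2) = 1
      rw [← zpow_natCast, ← zpow_mul, mul_comm, zpow_mul, zpow_natCast, hd2j, one_zpow]) htz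
  obtain ⟨e, he, hee⟩ := Coprime.exists_mem_centralizer_conj_of_card htJ hcopJ (Or.inr hsolJ) hPJ hP'J hPt hP't
    hPc hP'c
  have het : Commute e t := (mem_centralizer_iff.1 he.2 t (mem_zpowers t)).symm
  set d := e * d2 * e⁻¹ with hd
  have hdP : d ∈ P := hee ▸ ⟨d2, hdP' (mem_zpowers d2), rfl⟩
  have hdW2 : d ∈ W → d2 ∈ W := fun h => (mem_normalizer_iff.1 (D.W_normal (D.K_le he.1.1)) d2).2 h
  refine hdW2 ?_
  have hdJ : d ∈ J := hPJ hdP
  have hdf : Commute d f := mem_centralizer_singleton_iff.1 hdJ.2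
  have hdt : t * d * t⁻¹ = d⁻¹ := by
    calc t * (e * d2 * e⁻¹) * t⁻¹ = (t * e) * d2 * (t * e)⁻¹ := by group
      _ = (e * t) * d2 * (e * t)⁻¹ := by rw [het.eq]
      _ = e * (t * d2 * t⁻¹) * e⁻¹ := by group
      _ = (e * d2 * e⁻¹)⁻¹ := by rw [hd2t]; group
  have hP3 : IsPGroup 3 P := Coprime.isPGroup_of_card hPc
  have hdC : ∀ z ∈ C, d * z * d⁻¹ ∈ C := by
    intro z hz
    have h1 : d * z * d⁻¹ ∈ P := P.mul_mem (P.mul_mem hdP (hCP hz)) (P.inv_mem hdP)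
    refine ⟨?_, (hPJ h1).2⟩
    refine D.le_sylow c hRW hRt hUR hRc (inf_le_right : P ⊓ W ≤ W) (hP3.to_le inf_le_left)
      (inf_normalizer_le_normalizer_inf ⟨hPt (mem_zpowers t), D.W_normal D.t_mem⟩) ⟨h1, ?_⟩
    exact (mem_normalizer_iff.1 (D.W_normal (D.K_le hdJ.1)) z).1 (hRW hz.1)
  by_contra hdW
  -- the order of `C`
  obtain ⟨a, ha9, hainv⟩ := hcyc P hP3 (hPJ.trans inf_le_right) (hPt (mem_zpowers t))
  have hda : d ∈ zpowers a := hainv d hdP hdt
  have hCfix : Nat.card (C ⊓ centralizer ({t} : Set G) : Subgroup G) ≤ 3 := by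
    refine (card_le_of_le fun z hz => ?_).trans hUf
    exact ⟨D.fixed_W (hRW hz.1.1) (mem_centralizer_singleton_iff.1 hz.2), hz.1.2⟩
  have hCle : Nat.card C ≤ Nat.card (zpowers a ⊓ C : Subgroup G) * 3 :=
    (card_le_fixed_mul_inverted (Involution.mul_self c.invol) htC (I := zpowers a ⊓ C)
      fun v hv hvt => ⟨hainv v (hCP hv) hvt, hv⟩).trans (Nat.mul_le_mul_left _ hCfix)
  have hdC' : d ∉ C := fun h => hdW (hRW h.1)
  have hd1 : d ≠ 1 := fun e => hdW (e ▸ one_mem W)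
  have hI : Nat.card (zpowers a ⊓ C : Subgroup G) ≤ 3 ∧
      (orderOf d ≠ 9 → Nat.card (zpowers a ⊓ C : Subgroup G) ≤ 1) := by
    have h9 : orderOf a ∣ 3 ^ 2 := orderOf_dvd_of_pow_eq_one (by simpa using ha9)
    obtain ⟨i, hi, hIc⟩ := (Nat.dvd_prime_pow Nat.prime_three).1
      (((card_dvd_of_le (inf_le_left : zpowers a ⊓ C ≤ zpowers a)).trans (Nat.card_zpowers a).dvd).trans h9)
    obtain ⟨e', he', hde⟩ := (Nat.dvd_prime_pow Nat.prime_three).1 ((orderOf_dvd_of_mem_zpowers hda).trans h9)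
    haveI : IsCyclic (zpowers a) := inferInstance
    have hneq : Nat.card (zpowers a ⊓ C : Subgroup G) ≠ orderOf d := fun h => hdC' (by
      have := OddPrime.eq_of_card_eq_of_cyclic (S := zpowers a) (X := zpowers a ⊓ C) (Y := zpowers d)
        inf_le_left (zpowers_le.2 hda) (by rw [h, Nat.card_zpowers])
      exact ((this.ge : zpowers d ≤ zpowers a ⊓ C) (mem_zpowers d)).2)
    have he0 : e' ≠ 0 := fun h => hd1 (orderOf_eq_one_iff.1 (by rw [hde, h, pow_zero]))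
    have hle2 : Nat.card (zpowers a ⊓ C : Subgroup G) ≠ 9 := fun h => by
      have hle : orderOf a ≤ 9 := Nat.le_of_dvd (by norm_num) (by simpa using h9)
      have heq : zpowers a ⊓ C = zpowers a := eq_of_le_of_card_ge inf_le_left (by
        rw [h, Nat.card_zpowers]; exact hle)
      exact hdC' ((heq.ge hda).2)
    rw [hde] at hneq ⊢
    rw [hIc] at hneq hle2 ⊢
    exact three_pow_cases hi he' he0 hneq hle2
  have hC9 : Nat.card C ≤ 9 := hCle.trans (by omega)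
  -- the section
  obtain ⟨W₁, hW₁W, hW₁N, hcube, hcomm, hfaith⟩ := D.frat
  haveI : (W₁.subgroupOf N).Normal := Cores.subgroupOf_normal_of_le_normalizer hW₁N
  set q := QuotientGroup.mk' (W₁.subgroupOf N) with hq
  have hq1 : ∀ z : N, q z = 1 ↔ (z : G) ∈ W₁ := fun z => QuotientGroup.eq_one_iff z
  set Vb := (W.subgroupOf N).map q with hVb
  haveI hVn : Vb.Normal := Normal.map inferInstance q (QuotientGroup.mk'_surjective _)
  have hVcomm : ∀ u v : Vb, u * v = v * u := by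
    rintro ⟨_, u, hu, rfl⟩ ⟨_, v, hv, rfl⟩
    refine Subtype.ext (show q u * q v = q v * q u from mul_inv_eq_iff_eq_mul.1 (mul_inv_eq_one.1 ?_))
    rw [← map_inv, ← map_mul, ← map_inv, ← map_mul, ← map_mul, hq1]
    exact hcomm _ (mem_subgroupOf.1 hu) _ (mem_subgroupOf.1 hv)
  letI : CommGroup Vb := { (inferInstance : Group Vb) with mul_comm := hVcomm }
  have hexp : ∀ v : Vb, v ^ 3 = 1 := by
    rintro ⟨_, u, hu, rfl⟩
    refine Subtype.ext ?_
    show q u ^ 3 = 1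
    rw [← map_pow, hq1]
    exact hcube _ (mem_subgroupOf.1 hu)
  set ρ : N ⧸ W.subgroupOf N →* MulAut Vb := QuotientGroup.lift (W.subgroupOf N)
    ((MulAut.conjNormal (H := Vb)).comp q) (fun z hz => by
      refine MulEquiv.ext fun v => Subtype.ext ?_
      have h := congrArg Subtype.val (hVcomm ⟨q z, z, hz, rfl⟩ v)
      show (MulAut.conjNormal (q z) v : N ⧸ W₁.subgroupOf N) = v
      rw [MulAut.conjNormal_apply]
      exact mul_inv_eq_iff_eq_mul.2 h) with hρ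
  set π := QuotientGroup.mk' (W.subgroupOf N) with hπ
  have hρap : ∀ (z : N) (v : Vb), ((ρ (π z) v : Vb) : N ⧸ W₁.subgroupOf N) = q z * v * (q z)⁻¹ :=
    fun z v => MulAut.conjNormal_apply (q z) v
  have hinjK : ∀ z ∈ imgMod N W K, ρ z = 1 → z = 1 := by
    rintro _ ⟨z, hz, rfl⟩ h1
    refine (mk_eq_one_iff (W := W) z).2 (hfaith z (mem_subgroupOf.1 hz) fun w hw => ?_)
    have h2 := congrArg Subtype.val (DFunLike.congr_fun h1 ⟨q ⟨w, D.K_le (D.W_le hw)⟩, _, mem_subgroupOf.2 hw, rfl⟩)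
    rw [hρap, MulAut.one_apply] at h2
    refine (hq1 (z * ⟨w, D.K_le (D.W_le hw)⟩ * z⁻¹ * ⟨w, D.K_le (D.W_le hw)⟩⁻¹)).1 ?_
    rw [map_mul, map_mul, map_mul, map_inv, map_inv]
    exact mul_inv_eq_one.2 h2
  -- `W = W₁ R`
  have hWcover : ∀ w ∈ W, ∃ r ∈ R, w * r⁻¹ ∈ W₁ := by
    intro w hw
    have hn : R ≤ normalizer (W₁ : Set G) := ((hRW.trans D.W_le).trans D.K_le).trans hW₁N
    have hle : W₁ ⊔ R ≤ W := sup_le hW₁W hRW
    have h1 : (W₁ ⊔ R).relIndex W = 1 := by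
      obtain ⟨i, hi⟩ := IsPGroup.iff_card.1 (show IsPGroup 3 Vb from fun v => ⟨1, by rw [pow_one]; exact hexp v⟩)
      have h2 : W₁.relIndex W = 3 ^ i := by
        rw [← hi, hVb, ← Subgroup.relIndex_ker (W.subgroupOf N) q, QuotientGroup.ker_mk',
          relIndex_subgroupOf (D.W_le.trans D.K_le)]
      have h3 : ¬ 3 ∣ R.relIndex W := fun h => by
        have h4 := relIndex_mul_relIndex ⊥ R W bot_le hRW
        rw [relIndex_bot_left, relIndex_bot_left] at h4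
        refine Nat.pow_succ_factorization_not_dvd (Nat.card_pos (α := W)).ne' Nat.prime_three ?_
        rw [pow_succ, ← hRc, ← h4]
        exact mul_dvd_mul_left _ h
      exact Nat.eq_one_of_dvd_coprimes ((Nat.prime_three.coprime_iff_not_dvd.2 h3).pow_left i)
        (h2 ▸ relIndex_dvd_of_le_left W le_sup_left) (relIndex_dvd_of_le_left W le_sup_right)
    obtain ⟨w₁, hw₁, r, hr, rfl⟩ := (Coprime.mem_sup_iff hn).1 (relIndex_eq_one.1 h1 hw)
    exact ⟨r, hr, by rwa [mul_inv_cancel_right]⟩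
  have hVlift : ∀ v : Vb, ∃ r, ∃ hr : r ∈ R, (v : N ⧸ W₁.subgroupOf N) = q ⟨r, D.K_le (D.W_le (hRW hr))⟩ := by
    rintro ⟨_, w, hw, rfl⟩
    obtain ⟨r, hr, hwr⟩ := hWcover w (mem_subgroupOf.1 hw)
    refine ⟨r, hr, mul_inv_eq_one.1 ?_⟩
    rw [← map_inv, ← map_mul, hq1]
    exact hwr
  set yN : N := ⟨y, hBN hyB⟩ with hyN
  set fN : N := ⟨f, hBN hfB⟩ with hfN
  -- `y` is free on the section
  have hfix : ∀ v : Vb, ρ (π yN) v = v → v = 1 := by
    intro v hv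
    obtain ⟨r, hr, hvr⟩ := hVlift v
    have h1 : y * r * y⁻¹ * r⁻¹ ∈ W₁ := (hq1 (yN * ⟨r, D.K_le (D.W_le (hRW hr))⟩ * yN⁻¹ *
      ⟨r, D.K_le (D.W_le (hRW hr))⟩⁻¹)).1 (by
        rw [map_mul, map_mul, map_mul, map_inv, map_inv, ← hvr]
        exact mul_inv_eq_one.2 ((hρap yN v).symm.trans (congrArg Subtype.val hv)))
    set R1 := R ⊓ W₁
    have hyR1 : y ∈ normalizer (R1 : Set G) := inf_normalizer_le_normalizer_inf ⟨hyR, hW₁N (hBN hyB)⟩
    set ψ : G → G := fun s => s⁻¹ * (y * s * y⁻¹) with hψ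
    have hψinj : ∀ s ∈ R, ∀ s' ∈ R, ψ s = ψ s' → s = s' := by
      intro s hs s' hs' h
      simp only [hψ] at h
      have h2 : y * (s * s'⁻¹) * y⁻¹ = s * s'⁻¹ := by
        calc y * (s * s'⁻¹) * y⁻¹ = s * (s⁻¹ * (y * s * y⁻¹)) * (s'⁻¹ * (y * s' * y⁻¹))⁻¹ * s'⁻¹ := by group
          _ = s * s'⁻¹ := by rw [h]; group
      exact mul_inv_eq_one.1 (hfree _ (R.mul_mem hs (R.inv_mem hs')) (mul_inv_eq_iff_eq_mul.1 h2))
    have hsurj : Function.Surjective fun s : R1 => (⟨ψ s,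
        R1.mul_mem (R1.inv_mem s.2) ((mem_normalizer_iff.1 hyR1 s).1 s.2)⟩ : R1) :=
      Finite.injective_iff_surjective.1 fun s s' h =>
        Subtype.ext (hψinj s s.2.1 s' s'.2.1 (congrArg Subtype.val h))
    have hψr : ψ r ∈ R1 := by
      refine ⟨R.mul_mem (R.inv_mem hr) ((mem_normalizer_iff.1 hyR r).1 hr), ?_⟩
      have := (mem_normalizer_iff.1 (hW₁N (N.inv_mem (D.K_le (D.W_le (hRW hr))))) _).1 h1
      show r⁻¹ * (y * r * y⁻¹) ∈ W₁
      rwa [inv_inv, show r⁻¹ * (y * r * y⁻¹ * r⁻¹) * r = r⁻¹ * (y * r * y⁻¹) by group] at this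
    obtain ⟨s, hs⟩ := hsurj ⟨ψ r, hψr⟩
    have hrs : (s : G) = r := hψinj s s.2.1 r hr (congrArg Subtype.val hs)
    refine Subtype.ext (hvr.trans ((hq1 _).2 ?_))
    show r ∈ W₁
    rw [← hrs]; exact s.2.2
  -- fixed points of `f` come from `C`
  set σ := ρ (π fN) with hσ
  have hσ3 : σ ^ 3 = 1 := by
    rw [hσ, ← map_pow, ← map_pow, show fN ^ 3 = 1 from Subtype.ext c.f_cube, map_one, map_one]
  have hCmap : ∀ z : C, q ⟨z, D.K_le (D.W_le (hRW z.2.1))⟩ ∈ Vb := fun z =>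
    ⟨_, mem_subgroupOf.2 (hRW z.2.1), rfl⟩
  have hCfixed : ∀ z : C, σ ⟨_, hCmap z⟩ = ⟨_, hCmap z⟩ := fun z => by
    refine Subtype.ext ((hρap fN _).trans ?_)
    show q fN * q ⟨z, _⟩ * (q fN)⁻¹ = q ⟨z, _⟩
    rw [← map_inv, ← map_mul, ← map_mul]
    exact congrArg q (Subtype.ext (show f * z * f⁻¹ = z by
      rw [← (mem_centralizer_singleton_iff.1 z.2.2 : (z : G) * f = f * z), mul_inv_cancel_right]))
  set Φ : C → fixAut σ := fun z => ⟨⟨_, hCmap z⟩, hCfixed z⟩ with hΦ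
  have hΦsurj : Function.Surjective Φ := by
    rintro ⟨v, hv⟩
    obtain ⟨r, hr, hvr⟩ := hVlift v
    have h1 : f * r * f⁻¹ * r⁻¹ ∈ W₁ := (hq1 (fN * ⟨r, D.K_le (D.W_le (hRW hr))⟩ * fN⁻¹ *
      ⟨r, D.K_le (D.W_le (hRW hr))⟩⁻¹)).1 (by
        rw [map_mul, map_mul, map_mul, map_inv, map_inv, ← hvr]
        exact mul_inv_eq_one.2 ((hρap fN v).symm.trans (congrArg Subtype.val hv)))
    set R1 := R ⊓ W₁
    have ha1 : r * f * r⁻¹ * f⁻¹ ∈ R1 := by
      refine ⟨?_, ?_⟩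
      · rw [show r * f * r⁻¹ * f⁻¹ = r * (f * r⁻¹ * f⁻¹) by group]
        exact R.mul_mem hr ((mem_normalizer_iff.1 hfR _).1 (R.inv_mem hr))
      · have := W₁.inv_mem h1
        rwa [show (f * r * f⁻¹ * r⁻¹)⁻¹ = r * f * r⁻¹ * f⁻¹ by group] at this
    obtain ⟨b, hb, hbf⟩ := exists_conj_of_fpf c.l_ne_three c.m_ne c.y_order c.f_cube c.y_moved R1
      (hR3.to_le inf_le_left) (inf_normalizer_le_normalizer_inf ⟨hyR, hW₁N (hBN hyB)⟩)
      (inf_normalizer_le_normalizer_inf ⟨hfR, hW₁N (hBN hfB)⟩) (fun z hz => hfree z hz.1) ha1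
      (by rw [show r * f * r⁻¹ * f⁻¹ * f = r * f * r⁻¹ by group, conj_pow, c.f_cube]; group)
    have hbr : b⁻¹ * r ∈ C := by
      refine ⟨R.mul_mem (R.inv_mem hb.1) hr, mem_centralizer_singleton_iff.2 (mul_inv_eq_iff_eq_mul.1 ?_)⟩
      calc b⁻¹ * r * f * (b⁻¹ * r)⁻¹ = b⁻¹ * (r * f * r⁻¹ * f⁻¹ * f) * b := by group
        _ = f := by rw [← hbf]; group
    refine ⟨⟨_, hbr⟩, Subtype.ext (Subtype.ext ?_)⟩
    show q ⟨b⁻¹ * r, _⟩ = (v : N ⧸ W₁.subgroupOf N)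
    rw [hvr, show (⟨b⁻¹ * r, D.K_le (D.W_le (hRW hbr.1))⟩ : N) =
      ⟨b⁻¹, N.inv_mem (D.K_le (D.W_le (hRW hb.1)))⟩ * ⟨r, D.K_le (D.W_le (hRW hr))⟩ from rfl, map_mul,
      (hq1 _).2 (W₁.inv_mem hb.2), one_mul]
  have hσle : Nat.card (fixAut σ) ≤ Nat.card C := Nat.card_le_card_of_surjective Φ hΦsurj
  -- the section has order `27` or `729`
  have hfK : f ∈ K := D.B_le hfB
  have hfb1 : π fN ≠ 1 := fun e => D.f_not_mem c ((mk_eq_one_iff (W := W) fN).1 e)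
  have hfbK : π fN ∈ imgMod N W K := ⟨fN, mem_subgroupOf.2 hfK, rfl⟩
  have hybK : π yN ∈ imgMod N W K := ⟨yN, mem_subgroupOf.2 (D.B_le hyB), rfl⟩
  have hρinj : Set.InjOn ρ (imgMod N W K) := fun u hu v hv e => mul_inv_eq_one.1
    (hinjK _ (mul_mem hu (inv_mem hv)) (by rw [map_mul, map_inv, e, mul_inv_cancel]))
  have hcardV : Nat.card Vb = 27 ∨ Nat.card Vb = 729 := by
    obtain ⟨i, hi⟩ := IsPGroup.iff_card.1 (show IsPGroup 3 Vb from fun v => ⟨1, by rw [pow_one]; exact hexp v⟩)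
    have h1 := card_le_pow_three hexp hσ3
    have h2 : Nat.card Vb ≤ 3 ^ 6 := h1.trans ((Nat.pow_le_pow_left (hσle.trans hC9) 3).trans (by norm_num))
    rw [hi] at h2
    have hi6 : i ≤ 6 := (Nat.pow_le_pow_iff_right (by norm_num)).1 h2
    have hy13 : (ρ (π yN)) ^ (13 ^ 1) = 1 := by
      rw [pow_one, ← map_pow, ← map_pow, show yN ^ 13 = 1 from Subtype.ext (by
        show y ^ 13 = 1; rw [← c.y_order]; exact pow_orderOf_eq_one y), map_one, map_one]
    have h3 := card_invariant_modEq (p := 13) hy13 (X := (⊤ : Subgroup Vb)) (fun _ _ => mem_top _)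
    rw [show (fixAut (ρ (π yN)) ⊓ ⊤ : Subgroup Vb) = ⊥ from eq_bot_iff.2 fun v hv => mem_bot.2 (hfix v hv.1),
      card_bot, card_top, hi] at h3
    have h0 : i ≠ 0 := fun e => by
      rw [e, pow_zero] at hi
      haveI := (Nat.card_eq_one_iff_unique.1 hi).1
      exact hfb1 (hinjK _ hfbK (MulEquiv.ext fun v => Subsingleton.elim _ _))
    rw [hi]
    interval_cases i <;> first | (exfalso; revert h3; decide) | (exfalso; exact h0 rfl) | norm_num
  -- the normal `13`-subgroup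
  haveI hKn := D.imgK_normal
  set Kb := imgMod N W K with hKb
  have hKo : Odd (Nat.card Kb) := D.imgK_odd
  set τ := π ⟨t, D.t_mem⟩ with hτ
  set db := π ⟨d, D.K_le hdJ.1⟩ with hdb
  have hdbK : db ∈ Kb := ⟨_, mem_subgroupOf.2 hdJ.1, rfl⟩
  have hdbi : τ * db * τ⁻¹ = db⁻¹ := by
    rw [hτ, hdb, ← map_inv, ← map_mul, ← map_mul, ← map_inv]
    exact congrArg π (Subtype.ext hdt)
  obtain ⟨kd, hkd⟩ := hP3 ⟨d, hdP⟩
  have hd3 : d ^ (3 ^ kd) = 1 := congrArg Subtype.val hkd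
  have hdb3 : db ^ (3 ^ kd) = 1 := by
    rw [hdb, ← map_pow, show (⟨d, D.K_le hdJ.1⟩ : N) ^ (3 ^ kd) = 1 from Subtype.ext hd3, map_one]
  have hdb1 : db ≠ 1 := fun e => hdW ((mk_eq_one_iff (W := W) (⟨d, D.K_le hdJ.1⟩ : N)).1 e)
  set F := fitOf Kb
  have hyO : π yN ∈ (Cfsg.pCore 13 Kb).map Kb.subtype := by
    by_cases hfx : F ⊓ centralizer ({τ} : Set (N ⧸ W.subgroupOf N)) = ⊥
    · exact absurd (D.eq_one_of_fit_free c hfx hdbK hdb3 hdbi) hdb1
    obtain ⟨⟨z, hz⟩, hz1⟩ := (ne_bot_iff_exists_ne_one).1 hfx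
    obtain ⟨x, hx, hxz⟩ := D.fixed_fit_le c hz
    obtain ⟨i, hi⟩ := mem_zpowers_iff.1 (hHy _ (mem_subgroupOf.1 hx))
    have hz' : z = π yN ^ i := by
      rw [← hxz, ← map_zpow]; exact congrArg π (Subtype.ext hi.symm)
    have hy13 : π yN ^ 13 = 1 := by
      rw [← map_pow, show yN ^ 13 = 1 from Subtype.ext (by
        show y ^ 13 = 1; rw [← c.y_order]; exact pow_orderOf_eq_one y), map_one]
    have hne : π yN ≠ 1 := fun e => hz1 (Subtype.ext (by show z = 1; rw [hz', e, one_zpow]))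
    have hgen : π yN ∈ zpowers z := by
      have ho : orderOf (π yN) = 13 := orderOf_eq_prime hy13 hne
      have heq : zpowers z = zpowers (π yN) := eq_of_le_of_card_ge (zpowers_le.2 ⟨i, hz'.symm⟩) (by
        rw [Nat.card_zpowers, Nat.card_zpowers, ho]
        refine ((orderOf_eq_prime ?_ fun e => hz1 (Subtype.ext e))).ge
        show z ^ 13 = 1
        rw [hz', ← zpow_natCast, ← zpow_mul, mul_comm, zpow_mul, zpow_natCast, hy13, one_zpow])
      rw [heq]; exact mem_zpowers _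
    obtain ⟨y', hy', hye⟩ := (zpowers_le.2 hz.1 : zpowers z ≤ F) hgen
    exact ⟨y', RankTwo.mem_pCore_of_mem_fitting 13 hy' (n := 1) (Subtype.ext (by
      show (y' : N ⧸ W.subgroupOf N) ^ 13 ^ 1 = 1
      rw [pow_one, show (y' : N ⧸ W.subgroupOf N) = π yN from hye, hy13])), hye⟩
  set O := (Cfsg.pCore 13 Kb).map Kb.subtype with hO
  have hOK : O ≤ Kb := map_subtype_le _
  haveI : (Cfsg.pCore 13 Kb).Characteristic := Cores.pCore_characteristic 13 _
  haveI hOn : O.Normal := normalizer_eq_top_iff.1 (top_le_iff.1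
    ((normalizer_eq_top Kb).ge.trans (Cores.normalizer_le_normalizer_map _)))
  have hO13 : IsPGroup 13 O := (Cores.isPGroup_pCore 13 Kb).map _
  have hOcard : Nat.card O = Nat.card (O.map ρ) := by
    refine Nat.card_congr (Equiv.ofBijective (ρ.subgroupMap O) ⟨?_, MonoidHom.subgroupMap_surjective _ _⟩)
    exact fun u v e => Subtype.ext (hρinj (hOK u.2) (hOK v.2) (congrArg Subtype.val e))
  obtain ⟨i, hi⟩ := IsPGroup.iff_card.1 hO13
  have hybne : π yN ≠ 1 := fun e => by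
    have hh := hfix
    rw [e, map_one] at hh
    rcases hcardV with h | h <;>
    · haveI : Nontrivial Vb := Finite.one_lt_card_iff_nontrivial.1 (by rw [h]; norm_num)
      obtain ⟨v, hv⟩ := exists_ne (1 : Vb)
      exact hv (hh v rfl)
  have hyo : orderOf (π yN) = 13 := orderOf_eq_prime (by
    rw [← map_pow, show yN ^ 13 = 1 from Subtype.ext (by
      show y ^ 13 = 1; rw [← c.y_order]; exact pow_orderOf_eq_one y), map_one]) hybne
  have hsmall : i ≤ 2 ∧ (Nat.card Vb = 27 → i ≤ 1) := by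
    have hdvd : Nat.card O ∣ Nat.card (MulAut Vb) := hOcard ▸ card_subgroup_dvd_card _
    have hN := not_pow_three_dvd_gl (N0 := Nat.card (MulAut Vb)) hcardV
      ⟨fun h => AltE7.card_mulAut_elem (s := 3) hexp (n := 3) (by rw [h]; norm_num),
       fun h => AltE7.card_mulAut_elem (s := 3) hexp (n := 6) (by rw [h]; norm_num)⟩
    rw [hi] at hdvd
    refine ⟨?_, fun h => ?_⟩
    · by_contra hlt
      exact hN.1 ((pow_dvd_pow 13 (by omega)).trans hdvd)
    · by_contra hlt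
      exact hN.2 h ((pow_dvd_pow 13 (by omega)).trans hdvd)
  -- `d` does not normalise `⟨y⟩`
  have hnorm : db * π yN * db⁻¹ ∉ zpowers (π yN) := by
    intro hm'
    obtain ⟨j, hj⟩ := mem_zpowers_iff.1 hm'
    have hyτ : Commute (π yN) τ := Commute.map (Subtype.ext (c.commute_t hyB).eq : Commute yN ⟨t, D.t_mem⟩) π
    have h1 : τ * (db * π yN * db⁻¹) * τ⁻¹ = π yN ^ j := by
      rw [← hj, ← (hyτ.zpow_left j).eq, mul_inv_cancel_right]
    have h2 : db⁻¹ * π yN * db = db * π yN * db⁻¹ := by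
      rw [← hj]
      rw [← h1, show τ * (db * π yN * db⁻¹) * τ⁻¹ = (τ * db * τ⁻¹) * (τ * π yN * τ⁻¹) * (τ * db * τ⁻¹)⁻¹ by group,
        hdbi, ← hyτ.eq, mul_inv_cancel_right, inv_inv]
    have hsq : Commute (db * db) (π yN) := by
      refine mul_inv_eq_iff_eq_mul.1 ?_
      calc db * db * π yN * (db * db)⁻¹ = db * (db * π yN * db⁻¹) * db⁻¹ := by group
        _ = db * (db⁻¹ * π yN * db) * db⁻¹ := by rw [h2]
        _ = π yN := by group
    obtain ⟨i', hi'⟩ : Odd (3 ^ kd) := (show Odd 3 by decide).pow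
    have hdbe : db = (db * db) ^ (i' + 1) := by
      rw [← pow_two, ← pow_mul, show 2 * (i' + 1) = 2 * i' + 1 + 1 by ring, ← hi', pow_succ, hdb3, one_mul]
    have hc : Commute db (π yN) := hdbe ▸ hsq.pow_left _
    refine hdW (D.no_inverted c c.y_mem (c.y_order ▸ c.l_prime) hdJ.1 (k := kd) (by rw [hd3]; exact one_mem W)
      (by rw [hdt, inv_mul_cancel]; exact one_mem W) ((mk_eq_one_iff (W := W)
        (yN * ⟨d, D.K_le hdJ.1⟩ * yN⁻¹ * ⟨d, D.K_le hdJ.1⟩⁻¹ : N)).1 ?_))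
    rw [map_mul, map_mul, map_mul, map_inv, map_inv, ← hdb, ← hc.eq, mul_inv_cancel_right, mul_inv_cancel]
  have hnormO : db * π yN * db⁻¹ ∈ O := hOn.conj_mem _ hyO db
  have hOcomm : ∀ u ∈ O, ∀ v ∈ O, Commute u v := by
    obtain ⟨h2, -⟩ := hsmall
    rcases (by omega : i ≤ 1 ∨ i = 2) with h | h
    · intro u hu v hv
      have hc : IsCyclic O := by
        rcases (by omega : i = 0 ∨ i = 1) with h | h
        · haveI : Subsingleton O := (Nat.card_eq_one_iff_unique.1 (by rw [hi, h, pow_zero])).1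
          exact isCyclic_of_subsingleton
        · exact isCyclic_of_prime_card (p := 13) (by rw [hi, h, pow_one])
      exact congrArg (Subtype.val : O → _) ((IsCyclic.commGroup (α := O)).mul_comm ⟨u, hu⟩ ⟨v, hv⟩)
    · intro u hu v hv
      exact congrArg (Subtype.val : O → _)
        ((IsPGroup.commGroupOfCardEqPrimeSq (p := 13) (G := O) (by rw [hi, h])).mul_comm ⟨u, hu⟩ ⟨v, hv⟩)
  let A : Subgroup (N ⧸ W.subgroupOf N) :=
    { carrier := {u | u ∈ O ∧ u ^ 13 = 1}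
      one_mem' := ⟨O.one_mem, one_pow _⟩
      mul_mem' := fun {u v} hu hv => ⟨O.mul_mem hu.1 hv.1, by
        rw [(hOcomm u hu.1 v hv.1).mul_pow, hu.2, hv.2, one_mul]⟩
      inv_mem' := fun {u} hu => ⟨O.inv_mem hu.1, by rw [inv_pow, hu.2, inv_one]⟩ }
  have hAn : ∀ g u, u ∈ A → g * u * g⁻¹ ∈ A := fun g u hu =>
    ⟨hOn.conj_mem _ hu.1 g, by rw [conj_pow, hu.2, mul_one, mul_inv_cancel]⟩
  have hyA : π yN ∈ A := ⟨hyO, by rw [← hyo, pow_orderOf_eq_one]⟩
  have hAO : A ≤ O := fun u hu => hu.1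
  obtain ⟨j, hj, hAc⟩ := (Nat.dvd_prime_pow (by norm_num : Nat.Prime 13)).1
    ((card_dvd_of_le hAO).trans ((hi ▸ dvd_rfl : Nat.card O ∣ 13 ^ i).trans (pow_dvd_pow 13 hsmall.1)))
  have hj2 : j = 2 := by
    by_contra hne
    refine hnorm ((eq_of_le_of_card_ge (zpowers_le.2 hyA) ?_).ge (hAn db _ hyA))
    rw [Nat.card_zpowers, hyo, hAc]
    calc 13 ^ j ≤ 13 ^ 1 := Nat.pow_le_pow_right (by norm_num) (by omega)
      _ = 13 := pow_one 13
  have hV729 : Nat.card Vb = 729 := hcardV.resolve_left fun h => by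
    have h1 := hsmall.2 h
    have := card_le_of_le hAO
    rw [hAc, hi, hj2] at this
    exact absurd ((Nat.pow_le_pow_iff_right (by norm_num)).1 this) (by omega)
  -- the plane
  have hAK : A ≤ Kb := hAO.trans hOK
  have hmapn : ∀ g, ρ g ∈ normalizer (A.map ρ : Set (MulAut Vb)) := fun g => by
    refine le_normalizer_map ρ ⟨g, ?_, rfl⟩
    refine Coprime.mem_normalizer_of_forall fun u hu => hAn g u hu
  have hdfb : Commute db (π fN) := Commute.map (Subtype.ext hdf.eq : Commute (⟨d, D.K_le hdJ.1⟩ : N) fN) π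
  have hAcard : Nat.card (A.map ρ) = 169 := by
    rw [show (169 : ℕ) = 13 ^ 2 by norm_num, ← hj2, ← hAc]
    refine (Nat.card_congr (Equiv.ofBijective (ρ.subgroupMap A) ⟨?_, MonoidHom.subgroupMap_surjective _ _⟩)).symm
    exact fun u v e => Subtype.ext (hρinj (hAK u.2) (hAK v.2) (congrArg Subtype.val e))
  have hmain := fixed_centralized (A := A.map ρ) hV729 hexp
    (by rintro _ ⟨u, hu, rfl⟩ _ ⟨v, hv, rfl⟩; exact (hOcomm u hu.1 v hv.1).map ρ)
    (by rintro _ ⟨u, hu, rfl⟩; rw [← map_pow, hu.2, map_one]) hAcard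
    (y := ρ (π yN)) ⟨_, hyA, rfl⟩ hfix (m := m) c.m_ne (f := σ) (hmapn _) hσ3
    (by rw [hσ, ← map_inv, ← map_mul, ← map_mul, ← map_pow, ← map_inv, ← map_mul, ← map_mul, ← map_pow]
        exact congrArg (fun z => ρ (π z)) (Subtype.ext c.y_moved))
    (x := ρ db) (hmapn _) (r := kd) (by rw [← map_pow, hdb3, map_one]) (hdfb.map ρ)
  -- `d` moves a fixed element
  obtain ⟨u, huU, hu1, huf⟩ := hu0
  have huC : u ∈ C := ⟨hUR huU, mem_centralizer_singleton_iff.2 huf.eq⟩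
  have hfix9 : 9 ≤ Nat.card (fixAut σ) := by
    have h1 := card_le_pow_three hexp hσ3
    rw [hV729] at h1
    by_contra hlt
    exact absurd (h1.trans (Nat.pow_le_pow_left (by omega : Nat.card (fixAut σ) ≤ 8) 3)) (by norm_num)
  have hd9 : orderOf d = 9 := by
    by_contra hne
    have := hI.2 hne
    omega
  have hΦinj : Function.Injective Φ :=
    (((Nat.bijective_iff_surjective_and_card Φ).2 ⟨hΦsurj, le_antisymm (hC9.trans hfix9) hσle⟩)).1
  have h1 := hmain _ (hCfixed ⟨u, huC⟩)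
  have h2 : Φ ⟨d * u * d⁻¹, hdC u huC⟩ = Φ ⟨u, huC⟩ := by
    refine Subtype.ext (Subtype.ext ?_)
    have h3 := congrArg Subtype.val h1
    rw [hdb, hρap, ← map_inv, ← map_mul, ← map_mul] at h3
    exact h3
  exact hmove d hdJ.2 hd9 hdt u huU hu1 huf (mul_inv_eq_iff_eq_mul.1 (congrArg Subtype.val (hΦinj h2)))

end Cfsg.Agent.AbelianSylow.Field
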