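import Cfsg.Agent.Lib.AbelianSylow.Cent.CoreBasic
import Cfsg.Agent.Lib.Coprime.Basic
import Mathlib.GroupTheory.Sylow
import Mathlib.GroupTheory.IndexNormal

/-!
# Part (a), field automorphisms, `q₀ = 3`: the group `C(f) / ⟨f⟩` (owner: helper80)

`A` elementary of order 8, the involutions are one class, `C(t)` of order 24 meets `N(A)` in more than `C(A)`.

* `Small.card_cases`  : the order is 168 or 1512
* `Small.exists_mover`: an element of order 3 moves a subgroup of order 7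
-/

set_option autoImplicit false
set_option linter.style.haveILetI false
set_option linter.unusedVariables false
set_option linter.unusedSectionVars false

namespace Cfsg.Agent.AbelianSylow.Field.Small

open Subgroup

universe u

variable {X : Type u} [Group X] [Finite X]

/-- Orbit counting for conjugation by the elements of `H`. -/
theorem card_eq_class_mul (H : Subgroup X) (t : X) {P : X → Prop}
    (hP : ∀ h ∈ H, P (h * t * h⁻¹)) (htr : ∀ u, P u → ∃ h ∈ H, h * t * h⁻¹ = u) :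
    Nat.card H = Nat.card {u // P u} * Nat.card ↥(H ⊓ centralizer ({t} : Set X)) := by
  classical
  choose s hs hst using htr
  rw [← Nat.card_prod]
  refine Nat.card_congr
    { toFun := fun h => (⟨(h : X) * t * (h : X)⁻¹, hP h h.2⟩,
        ⟨(s _ (hP h h.2))⁻¹ * h, mem_inf.2 ⟨mul_mem (inv_mem (hs _ _)) h.2,
          mem_centralizer_singleton_iff.2 ?_⟩⟩)
      invFun := fun p => ⟨s p.1.1 p.1.2 * p.2, mul_mem (hs _ _) p.2.2.1⟩
      left_inv := fun h => Subtype.ext (by simp)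
      right_inv := ?_ }
  · have e := hst _ (hP h h.2)
    calc (s _ (hP h h.2))⁻¹ * h * t
        = (s _ (hP h h.2))⁻¹ * ((h : X) * t * (h : X)⁻¹) * h := by group
      _ = (s _ (hP h h.2))⁻¹ * (s _ (hP h h.2) * t * (s _ (hP h h.2))⁻¹) * h := by rw [e]
      _ = t * ((s _ (hP h h.2))⁻¹ * h) := by group
  · rintro ⟨⟨u, hu⟩, ⟨c, hc⟩⟩
    have hct : c * t = t * c := mem_centralizer_singleton_iff.1 hc.2
    have e : s u hu * c * t * (s u hu * c)⁻¹ = u := by
      rw [show s u hu * c * t * (s u hu * c)⁻¹ = s u hu * (c * t * c⁻¹) * (s u hu)⁻¹ by group, hct,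
        mul_inv_cancel_right, hst]
    refine Prod.ext (Subtype.ext e) (Subtype.ext ?_)
    show (s (s u hu * c * t * (s u hu * c)⁻¹) _)⁻¹ * (s u hu * c) = c
    simp only [e]
    group

variable (A : Subgroup X) (t : X)

/-- The situation of `C(f) / ⟨f⟩`. -/
structure Hyp : Prop where
  cardA : Nat.card A = 8
  sq : ∀ a ∈ A, a * a = 1
  mem : t ∈ A
  ne : t ≠ 1
  trans : ∀ a ∈ A, a ≠ 1 → ∃ n ∈ normalizer (A : Set X), n * t * n⁻¹ = a
  card : Nat.card (centralizer ({t} : Set X)) = 24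
  mover : ∃ n ∈ normalizer (A : Set X), Commute n t ∧ ∃ a ∈ A, ¬ Commute n a
  one : ∀ u : X, orderOf u = 2 → ∃ x, x * t * x⁻¹ = u

variable {A t}

local notation "𝐇" => normalizer (A : Set X)

theorem Hyp.comm (h : Hyp A t) {a b : X} (ha : a ∈ A) (hb : b ∈ A) : Commute a b := by
  have hab := h.sq _ (mul_mem ha hb)
  have hai : a⁻¹ = a := inv_eq_of_mul_eq_one_right (h.sq a ha)
  have hbi : b⁻¹ = b := inv_eq_of_mul_eq_one_right (h.sq b hb)
  show a * b = b * a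
  calc a * b = (a * b)⁻¹ := (inv_eq_of_mul_eq_one_right hab).symm
    _ = b * a := by rw [mul_inv_rev, hai, hbi]

theorem Hyp.orderA (h : Hyp A t) {a : X} (ha : a ∈ A) (h1 : a ≠ 1) : orderOf a = 2 :=
  haveI : Fact (Nat.Prime 2) := ⟨Nat.prime_two⟩
  orderOf_eq_prime (by rw [pow_two]; exact h.sq a ha) h1

theorem Hyp.A_le (h : Hyp A t) : A ≤ centralizer ({t} : Set X) := fun a ha =>
  mem_centralizer_singleton_iff.2 (h.comm ha h.mem).eq

theorem Hyp.le (h : Hyp A t) : centralizer ({t} : Set X) ≤ 𝐇 := by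
  obtain ⟨n, hn, hnt, a, ha, hna⟩ := h.mover
  have hle : A ≤ 𝐇 ⊓ centralizer ({t} : Set X) := le_inf le_normalizer h.A_le
  have hd : Nat.card ↥(𝐇 ⊓ centralizer ({t} : Set X)) ∣ 24 :=
    h.card ▸ card_dvd_of_le inf_le_right
  have h8 : 8 ∣ Nat.card ↥(𝐇 ⊓ centralizer ({t} : Set X)) := h.cardA ▸ card_dvd_of_le hle
  have hne : Nat.card ↥(𝐇 ⊓ centralizer ({t} : Set X)) ≠ 8 := fun e => by
    have he : A = 𝐇 ⊓ centralizer ({t} : Set X) := eq_of_le_of_card_ge hle (by rw [e, h.cardA])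
    exact hna (h.comm (he ▸ mem_inf.2 ⟨hn, mem_centralizer_singleton_iff.2 hnt.eq⟩) ha)
  obtain ⟨c, hc⟩ := h8
  have h24 : Nat.card ↥(𝐇 ⊓ centralizer ({t} : Set X)) = 24 := by
    have := Nat.le_of_dvd (by norm_num) hd
    rw [hc] at hd hne this ⊢
    have hc' : c ≤ 3 := by omega
    interval_cases c <;> omega
  exact (eq_of_le_of_card_ge inf_le_right (by rw [h.card, h24])).symm.le.trans inf_le_left

theorem Hyp.selfcent (h : Hyp A t) {z : X} (hz : ∀ a ∈ A, Commute z a) : z ∈ A := by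
  set C := centralizer (A : Set X) with hC
  have hle : A ≤ C := fun a ha => mem_centralizer_iff.2 fun b hb => (h.comm hb ha).eq
  have hCt : C ≤ centralizer ({t} : Set X) := fun c hc =>
    mem_centralizer_singleton_iff.2 (mem_centralizer_iff.1 hc t h.mem).symm
  have hd : Nat.card C ∣ 24 := h.card ▸ card_dvd_of_le hCt
  have h8 : 8 ∣ Nat.card C := h.cardA ▸ card_dvd_of_le hle
  have hne : Nat.card C ≠ 24 := fun e => by
    obtain ⟨n, -, hnt, a, ha, hna⟩ := h.mover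
    have he : C = centralizer ({t} : Set X) := eq_of_le_of_card_ge hCt (by rw [e, h.card])
    exact hna (mem_centralizer_iff.1 (he ▸ mem_centralizer_singleton_iff.2 hnt.eq : n ∈ C) a ha).symm
  obtain ⟨c, hc⟩ := h8
  have h8' : Nat.card C = 8 := by
    have := Nat.le_of_dvd (by norm_num) hd
    rw [hc] at hd hne this ⊢
    have hc' : c ≤ 3 := by omega
    interval_cases c <;> omega
  rw [eq_of_le_of_card_ge hle (by rw [h8', h.cardA])]
  exact mem_centralizer_iff.2 fun b hb => (hz b hb).eq.symm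

theorem Hyp.le_of_mem (h : Hyp A t) {a : X} (ha : a ∈ A) (ha1 : a ≠ 1) :
    centralizer ({a} : Set X) ≤ 𝐇 ∧ Nat.card (centralizer ({a} : Set X)) = 24 := by
  obtain ⟨n, hn, rfl⟩ := h.trans a ha ha1
  have hm : centralizer ({n * t * n⁻¹} : Set X) =
      (centralizer ({t} : Set X)).map (MulAut.conj n).toMonoidHom := by
    rw [map_equiv_eq_comap_symm']
    ext x
    rw [mem_centralizer_singleton_iff, mem_comap, mem_centralizer_singleton_iff]
    show x * (n * t * n⁻¹) = n * t * n⁻¹ * x ↔ n⁻¹ * x * n * t = t * (n⁻¹ * x * n)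
    constructor
    · intro e
      calc n⁻¹ * x * n * t = n⁻¹ * (x * (n * t * n⁻¹)) * n := by group
        _ = t * (n⁻¹ * x * n) := by rw [e]; group
    · intro e
      calc x * (n * t * n⁻¹) = n * (n⁻¹ * x * n * t) * n⁻¹ := by group
        _ = n * t * n⁻¹ * x := by rw [e]; group
  refine ⟨?_, by rw [hm, card_map_of_injective (MulAut.conj n).injective, h.card]⟩
  rw [hm]
  rintro _ ⟨x, hx, rfl⟩
  exact mul_mem (mul_mem hn (h.le hx)) (inv_mem hn)

theorem Hyp.card_inv_A (h : Hyp A t) : Nat.card {u : X // u ∈ A ∧ u ≠ 1} = 7 := by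
  classical
  let := Fintype.ofFinite A
  have e : {u : X // u ∈ A ∧ u ≠ 1} ≃ {u : A // u ≠ 1} :=
    { toFun := fun u => ⟨⟨u.1, u.2.1⟩, fun e => u.2.2 (congrArg Subtype.val e)⟩
      invFun := fun u => ⟨u.1.1, u.1.2, fun e => u.2 (Subtype.ext e)⟩
      left_inv := fun u => rfl
      right_inv := fun u => rfl }
  rw [Nat.card_congr e, Nat.card_eq_fintype_card, Fintype.card_subtype_compl, Fintype.card_subtype_eq,
    ← Nat.card_eq_fintype_card, h.cardA]

theorem Hyp.card_H (h : Hyp A t) : Nat.card 𝐇 = 168 := by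
  rw [card_eq_class_mul 𝐇 t (P := fun u => u ∈ A ∧ u ≠ 1)
    (fun n hn => ⟨(mem_normalizer_iff.1 hn t).1 h.mem, fun e => h.ne (conj_eq_one_iff.1 e)⟩)
    (fun u hu => h.trans u hu.1 hu.2), h.card_inv_A, inf_eq_right.2 h.le, h.card]

theorem Hyp.card_inv (h : Hyp A t) :
    Nat.card {u : X // orderOf u = 2} * 24 = Nat.card X := by
  have e := card_eq_class_mul (⊤ : Subgroup X) t (P := fun u => orderOf u = 2)
    (fun n _ => by rw [show n * t * n⁻¹ = MulAut.conj n t from rfl, MulEquiv.orderOf_eq]; exact h.orderA h.mem h.ne)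
    (fun u hu => by obtain ⟨x, hx⟩ := h.one u hu; exact ⟨x, mem_top x, hx⟩)
  rw [top_inf_eq, h.card, card_top] at e
  exact e.symm

/-- The involutions of `N(A)` lie in `A`. -/
theorem Hyp.invol_mem (h : Hyp A t) {u : X} (hu : u ∈ 𝐇) (h2 : u * u = 1) : u ∈ A := by
  classical
  haveI : Fact (Nat.Prime 2) := ⟨Nat.prime_two⟩
  -- `u` centralises some non-trivial element of `A`
  obtain ⟨a, ha, ha1, hua⟩ : ∃ a ∈ A, a ≠ 1 ∧ Commute u a := by
    by_cases hall : ∀ a ∈ A, Commute u a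
    · exact ⟨t, h.mem, h.ne, hall t h.mem⟩
    · push Not at hall
      obtain ⟨a, ha, hna⟩ := hall
      have hua : u * a * u⁻¹ ∈ A := (mem_normalizer_iff.1 hu a).1 ha
      refine ⟨a * (u * a * u⁻¹), mul_mem ha hua, fun e => hna ?_, ?_⟩
      · have e' : u * a * u⁻¹ = a := by
          rw [← inv_eq_of_mul_eq_one_right e]; exact inv_eq_of_mul_eq_one_right (h.sq a ha)
        exact mul_inv_eq_iff_eq_mul.1 e'
      · refine mul_inv_eq_iff_eq_mul.1 ?_
        calc u * (a * (u * a * u⁻¹)) * u⁻¹ = (u * a * u⁻¹) * ((u * u) * a * (u * u)⁻¹) := by group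
          _ = (u * a * u⁻¹) * a := by rw [h2, one_mul, inv_one, mul_one]
          _ = a * (u * a * u⁻¹) := (h.comm hua ha).eq
  obtain ⟨hle, h24⟩ := h.le_of_mem ha ha1
  set C := centralizer ({a} : Set X) with hCa
  have hAC : A ≤ C := fun b hb => mem_centralizer_singleton_iff.2 (h.comm hb ha).eq
  have huC : u ∈ C := mem_centralizer_singleton_iff.2 hua.eq
  -- `A⟨u⟩` is a 2-subgroup of a group of order 24
  have hz2 : IsPGroup 2 (zpowers u) := by
    rcases eq_or_ne u 1 with rfl | hu1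
    · rw [zpowers_one_eq_bot]; exact IsPGroup.of_bot
    · exact IsPGroup.of_card (n := 1) (by rw [Nat.card_zpowers, pow_one, orderOf_eq_prime (by rw [pow_two, h2]) hu1])
  have hpA : IsPGroup 2 A := IsPGroup.of_card (G := A) (p := 2) (n := 3) (by rw [h.cardA]; norm_num)
  have hJ : IsPGroup 2 ↥(A ⊔ zpowers u) :=
    IsPGroup.to_sup_of_normal_left' hpA hz2 (zpowers_le.2 hu)
  obtain ⟨j, hj⟩ := hJ.exists_card_eq
  have hd : 2 ^ j ∣ 8 * 3 := by
    rw [← hj, show 8 * 3 = 24 by norm_num, ← h24]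
    exact card_dvd_of_le (sup_le hAC (zpowers_le.2 huC))
  have h8 : 2 ^ j ∣ 8 := (Nat.Coprime.pow_left j (by norm_num)).dvd_of_dvd_mul_right hd
  have he : A = A ⊔ zpowers u :=
    eq_of_le_of_card_ge le_sup_left (by rw [hj, h.cardA]; exact Nat.le_of_dvd (by norm_num) h8)
  rw [he]; exact mem_sup_right (mem_zpowers u)

/-- Elements of orders 7 and 3 of `N(A)` do not commute. -/
theorem Hyp.not_commute (h : Hyp A t) {k z : X} (hk : k ∈ 𝐇) (hz : z ∈ 𝐇) (hk7 : orderOf k = 7)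
    (hz3 : orderOf z = 3) : ¬ Commute k z := by
  classical
  intro hkz
  haveI : Fact (Nat.Prime 3) := ⟨Nat.prime_three⟩
  haveI : Fact (Nat.Prime 7) := ⟨by norm_num⟩
  have hfix : ∀ a ∈ A, a ≠ 1 → ¬ Commute k a := fun a ha ha1 hka => by
    obtain ⟨-, h24⟩ := h.le_of_mem ha ha1
    have := Subgroup.orderOf_dvd_natCard (centralizer ({a} : Set X)) (mem_centralizer_singleton_iff.2 hka.eq)
    rw [h24, hk7] at this
    norm_num at this
  -- `z` fixes an element of `A`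
  have hAn : ∀ n ∈ 𝐇, ∀ a ∈ A, n * a * n⁻¹ ∈ A := fun n hn a ha => (mem_normalizer_iff.1 hn a).1 ha
  set Z := zpowers z with hZ
  letI act : MulAction Z {u : X // u ∈ A ∧ u ≠ 1} :=
    { smul := fun g u => ⟨(g : X) * u.1 * (g : X)⁻¹,
        hAn _ (zpowers_le.2 hz g.2) _ u.2.1, fun e => u.2.2 (conj_eq_one_iff.1 e)⟩
      one_smul := fun u => Subtype.ext (show (1 : X) * u.1 * (1 : X)⁻¹ = u.1 by group)
      mul_smul := fun g g' u => Subtype.ext
        (show (g * g' : X) * u.1 * (g * g' : X)⁻¹ = g * (g' * u.1 * (g' : X)⁻¹) * (g : X)⁻¹ by group) }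
  have hpg : IsPGroup 3 Z := IsPGroup.of_card (n := 1) (by rw [Nat.card_zpowers, hz3, pow_one])
  obtain ⟨⟨a, ha, ha1⟩, hafix⟩ : Set.Nonempty (MulAction.fixedPoints Z {u : X // u ∈ A ∧ u ≠ 1}) := by
    refine IsPGroup.nonempty_fixed_point_of_prime_not_dvd_card hpg _ ?_
    rw [h.card_inv_A]; norm_num
  have hza : Commute z a := mul_inv_eq_iff_eq_mul.1 (congrArg Subtype.val (hafix ⟨z, mem_zpowers z⟩) :)
  -- so `z` centralises the orbit of `k` on it
  set S : Subgroup X := centralizer ({z} : Set X) ⊓ A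
  have hkS : ∀ i : Fin 7, k ^ (i : ℕ) * a * (k ^ (i : ℕ))⁻¹ ∈ S := fun i =>
    mem_inf.2 ⟨mul_mem (mul_mem (mem_centralizer_singleton_iff.2 (hkz.pow_left _).eq)
      (mem_centralizer_singleton_iff.2 hza.symm.eq))
      (inv_mem (mem_centralizer_singleton_iff.2 (hkz.pow_left _).eq)), hAn _ (pow_mem hk _) a ha⟩
  have hinj : Function.Injective fun i : Option (Fin 7) =>
      (match i with
      | none => (1 : S)
      | some i => ⟨_, hkS i⟩) := by
    have hne : ∀ i : ℕ, k ^ i * a * (k ^ i)⁻¹ ≠ 1 := fun i e => ha1 (conj_eq_one_iff.1 e)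
    have key : ∀ i j : Fin 7, (i : ℕ) < j →
        k ^ (i : ℕ) * a * (k ^ (i : ℕ))⁻¹ ≠ k ^ (j : ℕ) * a * (k ^ (j : ℕ))⁻¹ := by
      intro i j hij e
      set d := (j : ℕ) - i with hd
      have hd' : (j : ℕ) = i + d := by omega
      rw [hd', pow_add] at e
      have e' : Commute (k ^ d) a := by
        refine mul_inv_eq_iff_eq_mul.1 ?_
        calc k ^ d * a * (k ^ d)⁻¹
            = (k ^ (i : ℕ))⁻¹ * (k ^ (i : ℕ) * k ^ d * a * (k ^ (i : ℕ) * k ^ d)⁻¹) * k ^ (i : ℕ) := by group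
          _ = a := by rw [← e]; group
      have hco : Nat.Coprime d 7 := Nat.Coprime.symm ((Fact.out : Nat.Prime 7).coprime_iff_not_dvd.2
        fun hdd => by have := Nat.le_of_dvd (by omega) hdd; omega)
      obtain ⟨m, hm⟩ := exists_pow_eq_self_of_coprime (x := k) (n := d) (hk7 ▸ hco)
      refine hfix a ha ha1 ?_
      rw [← hm]
      exact e'.pow_left m
    rintro (_ | i) (_ | j) e
    · rfl
    · exact absurd (congrArg Subtype.val e).symm (hne j)
    · exact absurd (congrArg Subtype.val e) (hne i)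
    · have e' := congrArg Subtype.val e
      rcases lt_trichotomy (i : ℕ) j with hlt | heq | hgt
      · exact absurd e' (key i j hlt)
      · rw [Fin.ext heq]
      · exact absurd e'.symm (key j i hgt)
  have hS : S = A := eq_of_le_of_card_ge inf_le_right (by
    rw [h.cardA]
    exact le_trans (by simp) (Nat.card_le_card_of_injective _ hinj))
  have hzA : z ∈ A := h.selfcent fun b hb =>
    (mem_centralizer_singleton_iff.1 (mem_inf.1 (hS.symm ▸ hb : b ∈ S)).1).symm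
  have := h.orderA hzA (by rintro rfl; simp at hz3)
  omega

/-- A group of odd order dividing 21 has at most one subgroup of order 7. -/
theorem eq_of_le_card {D K₁ K₂ : Subgroup X} (hD : Nat.card D ∣ 21) (h₁ : K₁ ≤ D) (h₂ : K₂ ≤ D)
    (c₁ : Nat.card K₁ = 7) (c₂ : Nat.card K₂ = 7) : K₁ = K₂ := by
  by_contra hne
  have hbot : K₁ ⊓ K₂ = ⊥ := by
    have hd : Nat.card ↥(K₁ ⊓ K₂) ∣ 7 := c₁ ▸ card_dvd_of_le inf_le_left
    rcases (Nat.dvd_prime (by norm_num)).1 hd with e | e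
    · exact eq_bot_of_card_eq _ e
    · exact absurd ((eq_of_le_of_card_ge inf_le_left (by omega)).symm.trans
        (eq_of_le_of_card_ge inf_le_right (by omega))) hne
  have hinj : Function.Injective fun p : K₁ × K₂ => (⟨p.1 * p.2, mul_mem (h₁ p.1.2) (h₂ p.2.2)⟩ : D) := by
    rintro ⟨a, b⟩ ⟨a', b'⟩ e
    have e' : (a : X) * b = a' * b' := congrArg Subtype.val e
    have hm : (a' : X)⁻¹ * a = b' * (b : X)⁻¹ := by
      calc (a' : X)⁻¹ * a = (a' : X)⁻¹ * (a * b) * (b : X)⁻¹ := by group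
        _ = b' * (b : X)⁻¹ := by rw [e']; group
    have h0 : (a' : X)⁻¹ * a = 1 := (mem_bot (G := X)).1 (hbot ▸ mem_inf.2
      ⟨mul_mem (inv_mem a'.2) a.2, hm ▸ mul_mem b'.2 (inv_mem b.2)⟩)
    have ha : a' = a := Subtype.ext (inv_mul_eq_one.1 h0)
    exact Prod.ext ha.symm (Subtype.ext (mul_inv_eq_one.1 (hm ▸ h0)).symm)
  have h49 := Nat.card_le_card_of_injective _ hinj
  rw [Nat.card_prod, c₁, c₂] at h49
  have := Nat.le_of_dvd (by norm_num) hD
  omega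

/-- The meet of `N(A)` with a conjugate by an involution outside has odd order. -/
theorem Hyp.dvd_meet (h : Hyp A t) {z : X} (hz : z ∉ 𝐇) {D : Subgroup X}
    (hD : ∀ x ∈ D, x ∈ 𝐇 ∧ z⁻¹ * x * z ∈ 𝐇) : Nat.card D ∣ 21 := by
  haveI : Fact (Nat.Prime 2) := ⟨Nat.prime_two⟩
  have h168 : Nat.card D ∣ 8 * 21 := by
    rw [show 8 * 21 = 168 by norm_num, ← h.card_H]
    exact card_dvd_of_le fun x hx => (hD x hx).1
  have hodd : ¬ 2 ∣ Nat.card D := fun h2 => by
    obtain ⟨a, ha⟩ := exists_prime_orderOf_dvd_card' (G := D) 2 h2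
    rw [← Subgroup.orderOf_coe] at ha
    have hmem := hD a a.2
    have h1 : (a : X) ∈ A := h.invol_mem hmem.1 (Involution.mul_self ha)
    set b := z⁻¹ * (a : X) * z with hb
    have hb2 : orderOf b = 2 := by
      rw [hb, show z⁻¹ * (a : X) * z = MulAut.conj z⁻¹ (a : X) by simp, MulEquiv.orderOf_eq, ha]
    have hbA : b ∈ A := h.invol_mem hmem.2 (Involution.mul_self hb2)
    obtain ⟨n, hn, hnt⟩ := h.trans a h1 (Involution.ne_one ha)
    obtain ⟨n', hn', hnt'⟩ := h.trans b hbA (Involution.ne_one hb2)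
    -- `n⁻¹ z n'` centralises `t`
    have hw : n⁻¹ * z * n' ∈ centralizer ({t} : Set X) := mem_centralizer_singleton_iff.2 (by
      calc n⁻¹ * z * n' * t = n⁻¹ * z * (n' * t * n'⁻¹) * n' := by group
        _ = n⁻¹ * z * b * n' := by rw [hnt']
        _ = n⁻¹ * (a : X) * n * n⁻¹ * z * n' := by rw [hb]; group
        _ = n⁻¹ * (n * t * n⁻¹) * n * n⁻¹ * z * n' := by rw [hnt]
        _ = t * (n⁻¹ * z * n') := by group)
    refine hz ?_
    have := mul_mem (mul_mem hn (h.le hw)) (inv_mem hn')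
    rwa [show n * (n⁻¹ * z * n') * n'⁻¹ = z by group] at this
  exact (Nat.Coprime.pow_right 3 (Nat.Coprime.symm
    (Nat.prime_two.coprime_iff_not_dvd.2 hodd)) : Nat.Coprime (Nat.card D) (2 ^ 3)).dvd_of_dvd_mul_left
      (by norm_num at h168 ⊢; exact h168)

/-- The elements of `D` inverted by an involution lie in a subgroup of order 7, unless there are fewer
than 7 of them. -/
theorem Hyp.inverted (h : Hyp A t) {z : X} (hz2 : orderOf z = 2) (hz : z ∉ 𝐇) :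
    Nat.card {x : X // x ∈ 𝐇 ∧ z * x * z⁻¹ = x⁻¹} ≤ 7 ∧
      (Nat.card {x : X // x ∈ 𝐇 ∧ z * x * z⁻¹ = x⁻¹} = 7 → ∃ K : Subgroup X, K ≤ 𝐇 ∧ Nat.card K = 7 ∧
        (∀ x ∈ K, z * x * z⁻¹ = x⁻¹) ∧
        ∀ K' : Subgroup X, K' ≤ 𝐇 → Nat.card K' = 7 → (∀ x ∈ K', z⁻¹ * x * z ∈ 𝐇) → K' = K) := by
  classical
  haveI : Fact (Nat.Prime 7) := ⟨by norm_num⟩
  have hzi : z⁻¹ = z := inv_eq_of_mul_eq_one_right (Involution.mul_self hz2)
  set D : Subgroup X := 𝐇 ⊓ (𝐇).map (MulAut.conj z).toMonoidHom with hDdef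
  have hmemD : ∀ x, x ∈ D ↔ x ∈ 𝐇 ∧ z⁻¹ * x * z ∈ 𝐇 := fun x => by
    rw [hDdef, mem_inf, mem_map_equiv, MulAut.conj_symm_apply]
  have hD := h.dvd_meet hz fun x hx => (hmemD x).1 hx
  set S := {x : X // x ∈ 𝐇 ∧ z * x * z⁻¹ = x⁻¹}
  have hSD : ∀ x : S, x.1 ∈ D := by
    rintro ⟨x, hx1, hx2⟩
    refine (hmemD x).2 ⟨hx1, ?_⟩
    rw [hzi] at hx2 ⊢
    rw [hx2]; exact inv_mem hx1
  have hle : Nat.card S ≤ Nat.card D :=
    Nat.card_le_card_of_injective (fun x => ⟨x.1, hSD x⟩) fun a b e =>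
      Subtype.ext (congrArg Subtype.val e :)
  have hDpos : 0 < Nat.card D := Nat.card_pos
  by_cases h7 : 7 ∣ Nat.card D
  · obtain ⟨k, hk⟩ := exists_prime_orderOf_dvd_card' (G := D) 7 h7
    rw [← Subgroup.orderOf_coe] at hk
    set K : Subgroup X := zpowers (k : X)
    have hKD : K ≤ D := zpowers_le.2 k.2
    have hKc : Nat.card K = 7 := by rw [Nat.card_zpowers, hk]
    have hconjD : ∀ x ∈ D, z * x * z⁻¹ ∈ D := fun x hx => by
      obtain ⟨h1, h2⟩ := (hmemD x).1 hx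
      rw [hmemD]
      refine ⟨by rwa [hzi] at h2 ⊢, ?_⟩
      rwa [show z⁻¹ * (z * x * z⁻¹) * z = x by group]
    -- the unique subgroup of order 7 is invariant
    have hfixK : ∀ K' : Subgroup X, K' ≤ D → Nat.card K' = 7 → K' = K := fun K' h1 h2 =>
      eq_of_le_card hD h1 hKD h2 hKc
    have hzK : ∀ x ∈ K, z * x * z⁻¹ ∈ K := fun x hx => by
      have e := hfixK (K.map (MulAut.conj z).toMonoidHom)
        (by rintro _ ⟨y, hy, rfl⟩; exact hconjD y (hKD hy))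
        (by rw [card_map_of_injective (MulAut.conj z).injective, hKc])
      exact e ▸ mem_map_of_mem _ hx
    have hsK : ∀ s ∈ D, ∀ x ∈ K, s * x * s⁻¹ ∈ K := fun s hs x hx => by
      have e := hfixK (K.map (MulAut.conj s).toMonoidHom)
        (by rintro _ ⟨y, hy, rfl⟩; exact mul_mem (mul_mem hs (hKD hy)) (inv_mem hs))
        (by rw [card_map_of_injective (MulAut.conj s).injective, hKc])
      exact e ▸ mem_map_of_mem _ hx
    have hSK : ∀ x : S, x.1 ∈ K := by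
      intro x
      by_contra hx
      have hd : orderOf x.1 ∣ 21 := (Subgroup.orderOf_dvd_natCard D (hSD x)).trans hD
      have hx7 : ¬ orderOf x.1 = 7 := fun e => hx (hfixK (zpowers x.1) (zpowers_le.2 (hSD x))
        (by rw [Nat.card_zpowers, e]) ▸ mem_zpowers _)
      have hx1 : orderOf x.1 ≠ 1 := fun e => hx (orderOf_eq_one_iff.1 e ▸ one_mem K)
      have hor : orderOf x.1 = 3 ∨ orderOf x.1 = 21 := by
        have : orderOf x.1 ∈ Nat.divisors 21 := Nat.mem_divisors.2 ⟨hd, by norm_num⟩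
        rw [show Nat.divisors 21 = {1, 3, 7, 21} by decide] at this
        simp only [Finset.mem_insert, Finset.mem_singleton] at this
        tauto
      rcases hor with h3 | h21
      · obtain ⟨e, he⟩ := mem_zpowers_iff.1 (hzK _ (mem_zpowers (k : X)))
        obtain ⟨r, hr⟩ := mem_zpowers_iff.1 (hsK _ (hSD x) _ (mem_zpowers (k : X)))
        have hinv : z * x.1 * z⁻¹ = x.1⁻¹ := x.2.2
        have hpow : ∀ (g y : X) (i : ℤ), g * y ^ i * g⁻¹ = (g * y * g⁻¹) ^ i := fun g y i => conj_zpow.symm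
        have e1 : z * (x.1 * k * x.1⁻¹) * z⁻¹ = x.1 * (z * k * z⁻¹) * x.1⁻¹ := by
          rw [← hr, hpow, ← he, ← zpow_mul, mul_comm, zpow_mul, hr, hpow]
        have e2 : z * (x.1 * k * x.1⁻¹) * z⁻¹ = x.1⁻¹ * (z * k * z⁻¹) * x.1 := by
          calc z * (x.1 * k * x.1⁻¹) * z⁻¹
              = (z * x.1 * z⁻¹) * (z * k * z⁻¹) * (z * x.1 * z⁻¹)⁻¹ := by group
            _ = _ := by rw [hinv, inv_inv]
        have hcom : Commute (z * k * z⁻¹) (x.1 * x.1) := by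
          show z * k * z⁻¹ * (x.1 * x.1) = x.1 * x.1 * (z * k * z⁻¹)
          calc z * k * z⁻¹ * (x.1 * x.1) = x.1 * (x.1⁻¹ * (z * k * z⁻¹) * x.1) * x.1 := by group
            _ = x.1 * (x.1 * (z * k * z⁻¹) * x.1⁻¹) * x.1 := by rw [← e2, e1]
            _ = _ := by group
        refine h.not_commute ((hmemD _).1 (hconjD _ k.2)).1 (mul_mem x.2.1 x.2.1) ?_ ?_ hcom
        · rw [show z * (k : X) * z⁻¹ = MulAut.conj z (k : X) from rfl, MulEquiv.orderOf_eq, hk]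
        · rw [← pow_two, Nat.Coprime.orderOf_pow (by rw [h3]; norm_num), h3]
      · refine h.not_commute (k := x.1 ^ 3) (z := x.1 ^ 7) (pow_mem x.2.1 3) (pow_mem x.2.1 7) ?_ ?_
          (Commute.pow_pow_self _ _ _)
        · rw [orderOf_pow, h21]; norm_num
        · rw [orderOf_pow, h21]; norm_num
    refine ⟨hKc ▸ Nat.card_le_card_of_injective (fun x => (⟨x.1, hSK x⟩ : K)) fun a b e =>
      Subtype.ext (congrArg Subtype.val e :), fun hS => ⟨K, fun x hx => ((hmemD x).1 (hKD hx)).1, hKc, ?_, ?_⟩⟩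
    · intro x hx
      have hb := Function.Injective.bijective_of_nat_card_le (f := fun x : S => (⟨x.1, hSK x⟩ : K))
        (fun a b e => Subtype.ext (congrArg Subtype.val e :)) (by omega)
      obtain ⟨y, hy⟩ := hb.2 ⟨x, hx⟩
      obtain rfl : y.1 = x := congrArg Subtype.val hy
      exact y.2.2
    · exact fun K' h1 h2 h3 => hfixK K' (fun x hx => (hmemD x).2 ⟨h1 hx, h3 x hx⟩) h2
  · have : Nat.card D ∣ 3 :=
      (Nat.Coprime.symm ((by norm_num : Nat.Prime 7).coprime_iff_not_dvd.2 h7)).dvd_of_dvd_mul_right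
        (by norm_num; exact hD)
    have := Nat.le_of_dvd (by norm_num) this
    exact ⟨by omega, fun h => absurd h (by omega)⟩

/-- The subgroups of order 7 of `N(A)`: eight conjugates with normalisers of order 21. -/
theorem Hyp.seven (h : Hyp A t) :
    (∃ K : Subgroup X, K ≤ 𝐇 ∧ Nat.card K = 7) ∧
    Nat.card {K : Subgroup X // K ≤ 𝐇 ∧ Nat.card K = 7} = 8 ∧
    (∀ K₁ K₂ : Subgroup X, K₁ ≤ 𝐇 → Nat.card K₁ = 7 → K₂ ≤ 𝐇 → Nat.card K₂ = 7 →
      ∃ n ∈ 𝐇, K₁.map (MulAut.conj n).toMonoidHom = K₂) ∧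
    ∀ K : Subgroup X, K ≤ 𝐇 → Nat.card K = 7 → Nat.card ↥(normalizer (K : Set X) ⊓ 𝐇) = 21 := by
  classical
  haveI : Fact (Nat.Prime 7) := ⟨by norm_num⟩
  have hS7 : ∀ P : Sylow 7 𝐇, Nat.card (P : Subgroup 𝐇) = 7 := fun P => by
    have hc : Nat.card (P : Subgroup 𝐇) = 7 ^ (168 : ℕ).factorization 7 :=
      h.card_H ▸ P.card_eq_multiplicity
    rw [show (168 : ℕ).factorization 7 = 1 from by
      rw [show (168 : ℕ) = 7 ^ 1 * 24 from by norm_num]
      rw [Nat.factorization_mul_apply_of_coprime (by norm_num), Nat.Prime.factorization_pow (by norm_num)]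
      simp [Nat.factorization_eq_zero_of_not_dvd (show ¬ 7 ∣ 24 by norm_num)]] at hc
    simpa using hc
  let e : Sylow 7 𝐇 ≃ {K : Subgroup X // K ≤ 𝐇 ∧ Nat.card K = 7} :=
    { toFun := fun P => ⟨(P : Subgroup 𝐇).map (𝐇).subtype, map_subtype_le _,
        by rw [card_map_of_injective (subtype_injective _), hS7]⟩
      invFun := fun K => (IsPGroup.of_card (p := 7) (n := 1)
          (by rw [Nat.card_congr (subgroupOfEquivOfLe K.2.1).toEquiv, K.2.2, pow_one])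
        : IsPGroup 7 (K.1.subgroupOf 𝐇)).toSylow (by
          have := (K.1.subgroupOf 𝐇).card_mul_index
          rw [Nat.card_congr (subgroupOfEquivOfLe K.2.1).toEquiv, K.2.2, h.card_H] at this
          omega)
      left_inv := fun P => Sylow.ext (comap_map_eq_self_of_injective (subtype_injective _) _)
      right_inv := fun K => Subtype.ext (by
        show (K.1.subgroupOf 𝐇).map (𝐇).subtype = K.1
        rw [subgroupOf_map_subtype, inf_eq_left.2 K.2.1]) }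
  obtain ⟨P₀⟩ : Nonempty (Sylow 7 𝐇) := inferInstance
  have hidx : ∀ P : Sylow 7 𝐇, Nat.card (Sylow 7 𝐇) * Nat.card (normalizer ((P : Subgroup 𝐇) : Set 𝐇)) = 168 := by
    intro P
    rw [P.card_eq_index_normalizer, mul_comm]
    exact (Subgroup.card_mul_index (normalizer ((P : Subgroup 𝐇) : Set 𝐇))).trans h.card_H
  have hn8 : Nat.card (Sylow 7 𝐇) = 8 := by
    have hmod := card_sylow_modEq_one 7 𝐇
    have hdvd : Nat.card (Sylow 7 𝐇) ∣ 24 := by
      have h1 : Nat.card (Sylow 7 𝐇) ∣ (P₀ : Subgroup 𝐇).index := P₀.card_dvd_index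
      have h2 := (P₀ : Subgroup 𝐇).card_mul_index
      rw [hS7, h.card_H] at h2
      rwa [show (P₀ : Subgroup 𝐇).index = 24 by omega] at h1
    have hne : Nat.card (Sylow 7 𝐇) ≠ 1 := by
      intro h1
      haveI : Subsingleton (Sylow 7 𝐇) := (Nat.card_eq_one_iff_unique.1 h1).1
      have hP : (P₀ : Subgroup 𝐇).Normal := inferInstance
      obtain ⟨⟨k, hk⟩⟩ : Nonempty {k : (P₀ : Subgroup 𝐇) // k ≠ 1} := by
        haveI : Nontrivial (P₀ : Subgroup 𝐇) := Finite.one_lt_card_iff_nontrivial.1 (by rw [hS7]; norm_num)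
        obtain ⟨k, hk⟩ := exists_ne (1 : (P₀ : Subgroup 𝐇))
        exact ⟨⟨k, hk⟩⟩
      have hk7 : orderOf ((k : 𝐇) : X) = 7 := by
        rw [Subgroup.orderOf_coe, Subgroup.orderOf_coe]
        exact orderOf_eq_prime (by have h7 := pow_card_eq_one' (x := k); rwa [hS7] at h7) hk
      have hcomm : ∀ a ∈ A, Commute ((k : 𝐇) : X) a := by
        intro a ha
        have haH : a ∈ 𝐇 := le_normalizer ha
        have h2 : (k : 𝐇) * ⟨a, haH⟩ * (k : 𝐇)⁻¹ * ⟨a, haH⟩⁻¹ ∈ (P₀ : Subgroup 𝐇) := by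
          rw [show (k : 𝐇) * ⟨a, haH⟩ * (k : 𝐇)⁻¹ * ⟨a, haH⟩⁻¹
            = (k : 𝐇) * (⟨a, haH⟩ * (k : 𝐇)⁻¹ * ⟨a, haH⟩⁻¹) by group]
          exact mul_mem k.2 (hP.conj_mem _ (inv_mem k.2) _)
        have hA : ((k : 𝐇) : X) * a * ((k : 𝐇) : X)⁻¹ * a⁻¹ ∈ A :=
          mul_mem ((mem_normalizer_iff.1 (k : 𝐇).2 a).1 ha) (inv_mem ha)
        by_contra hnc
        have h1' := h.orderA hA fun e => hnc (mul_inv_eq_iff_eq_mul.1 (mul_inv_eq_one.1 e))
        have h7 := Subgroup.orderOf_dvd_natCard (P₀ : Subgroup 𝐇) h2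
        rw [hS7, ← Subgroup.orderOf_coe] at h7
        rw [show ((((k : 𝐇) * ⟨a, haH⟩ * (k : 𝐇)⁻¹ * ⟨a, haH⟩⁻¹ : 𝐇)) : X)
          = ((k : 𝐇) : X) * a * ((k : 𝐇) : X)⁻¹ * a⁻¹ from rfl, h1'] at h7
        norm_num at h7
      have := h.orderA (h.selfcent hcomm) (by intro e; rw [e, orderOf_one] at hk7; omega)
      omega
    have h24 : Nat.card (Sylow 7 𝐇) ∈ Nat.divisors 24 := Nat.mem_divisors.2 ⟨hdvd, by norm_num⟩
    rw [show Nat.divisors 24 = {1, 2, 3, 4, 6, 8, 12, 24} by decide] at h24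
    unfold Nat.ModEq at hmod
    simp only [Finset.mem_insert, Finset.mem_singleton] at h24
    omega
  refine ⟨⟨_, (e P₀).2⟩, by rw [← Nat.card_congr e, hn8], ?_, ?_⟩
  · intro K₁ K₂ h1 c1 h2 c2
    obtain ⟨n, hn⟩ := MulAction.exists_smul_eq 𝐇 (e.symm ⟨K₁, h1, c1⟩) (e.symm ⟨K₂, h2, c2⟩)
    refine ⟨n, n.2, ?_⟩
    have hn' := congrArg (fun P : Sylow 7 𝐇 => (P : Subgroup 𝐇).map (𝐇).subtype) hn
    have e2 : ((e.symm ⟨K₂, h2, c2⟩ : Sylow 7 𝐇) : Subgroup 𝐇).map (𝐇).subtype = K₂ :=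
      congrArg Subtype.val (e.apply_symm_apply ⟨K₂, h2, c2⟩)
    rw [e2] at hn'
    rw [← hn']
    ext x
    simp only [mem_map, Subgroup.coe_subtype, MulEquiv.coe_toMonoidHom, MulAut.conj_apply]
    constructor
    · rintro ⟨y, hy, rfl⟩
      exact ⟨n * ⟨y, h1 hy⟩ * n⁻¹, ⟨⟨y, h1 hy⟩, hy, rfl⟩, rfl⟩
    · rintro ⟨_, ⟨y, hy, rfl⟩, rfl⟩
      exact ⟨y, hy, rfl⟩
  · intro K hK hc
    have h1 := hidx (e.symm ⟨K, hK, hc⟩)
    rw [hn8] at h1
    have h2 : Nat.card (normalizer ((K.subgroupOf 𝐇 : Subgroup 𝐇) : Set 𝐇))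
        = Nat.card ↥(normalizer (K : Set X) ⊓ 𝐇) := by
      rw [← subgroupOf_normalizer_eq hK, ← Nat.card_congr (subgroupOfEquivOfLe inf_le_right).toEquiv,
        inf_subgroupOf_right]
    have h3 : Nat.card (normalizer ((K.subgroupOf 𝐇 : Subgroup 𝐇) : Set 𝐇)) * 8 = 168 := by
      rw [mul_comm]; exact h1
    omega

/-- Some element of order 3 of `N(A)` moves a subgroup of order 7. -/
theorem Hyp.exists_mover (h : Hyp A t) :
    ∃ k b : X, orderOf k = 7 ∧ orderOf b = 3 ∧ b * k * b⁻¹ ∈ zpowers k ∧ ¬ Commute b k := by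
  haveI : Fact (Nat.Prime 3) := ⟨Nat.prime_three⟩
  haveI : Fact (Nat.Prime 7) := ⟨by norm_num⟩
  obtain ⟨⟨K, hK, hc⟩, -, -, h21⟩ := h.seven
  obtain ⟨k, hk⟩ := exists_prime_orderOf_dvd_card' (G := K) 7 (by rw [hc])
  rw [← Subgroup.orderOf_coe] at hk
  have hKk : K = zpowers (k : X) :=
    (eq_of_le_of_card_ge (zpowers_le.2 k.2) (by rw [hc, Nat.card_zpowers, hk])).symm
  obtain ⟨b, hb⟩ := exists_prime_orderOf_dvd_card' (G := ↥(normalizer (K : Set X) ⊓ 𝐇)) 3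
    (by rw [h21 K hK hc]; norm_num)
  rw [← Subgroup.orderOf_coe] at hb
  refine ⟨k, b, hk, hb, ?_, fun e => h.not_commute (hK k.2) b.2.2 hk hb e.symm⟩
  rw [← hKk]
  exact (mem_normalizer_iff.1 b.2.1 _).1 k.2

/-- **The order.** -/
theorem Hyp.card_cases (h : Hyp A t) : Nat.card X = 168 ∨ Nat.card X = 1512 := by
  classical
  haveI : Fact (Nat.Prime 2) := ⟨Nat.prime_two⟩
  haveI : Fact (Nat.Prime 3) := ⟨Nat.prime_three⟩
  haveI : Fact (Nat.Prime 7) := ⟨by norm_num⟩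
  haveI : Fintype (X ⧸ 𝐇) := Fintype.ofFinite _
  set q₀ : X ⧸ 𝐇 := ((1 : X) : X ⧸ 𝐇) with hq₀
  have hne₀ : ∀ z : X, (z : X ⧸ 𝐇) ≠ q₀ ↔ z ∉ 𝐇 := fun z => by
    rw [hq₀, Ne, QuotientGroup.eq]; simp
  -- the cosets and their involutions
  let fib : X ⧸ 𝐇 → Type u := fun q => {u : {u : X // orderOf u = 2} // ((u.1 : X) : X ⧸ 𝐇) = q}
  have hm : Fintype.card (X ⧸ 𝐇) * 168 = Nat.card X := by
    rw [← Nat.card_eq_fintype_card, ← h.card_H]
    exact (Subgroup.card_eq_card_quotient_mul_card_subgroup _).symm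
  have hn : Nat.card {u : X // orderOf u = 2} = 7 * Fintype.card (X ⧸ 𝐇) := by
    have := h.card_inv
    omega
  have hH0 : Nat.card (fib q₀) = 7 := by
    rw [← h.card_inv_A]
    exact Nat.card_congr
      { toFun := fun u => ⟨u.1.1, h.invol_mem (by
            simpa using QuotientGroup.eq.1 u.2.symm)
          (Involution.mul_self u.1.2), Involution.ne_one u.1.2⟩
        invFun := fun a => ⟨⟨a.1, h.orderA a.2.1 a.2.2⟩, by
          rw [hq₀, QuotientGroup.eq]; simpa using le_normalizer a.2.1⟩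
        left_inv := fun u => rfl
        right_inv := fun a => rfl }
  -- one coset: the inverted elements
  have key : ∀ (z : X) (hz : orderOf z = 2) (u : X) (hu : orderOf u = 2), (u : X ⧸ 𝐇) = (z : X ⧸ 𝐇) →
      z * (z⁻¹ * u) * z⁻¹ = (z⁻¹ * u)⁻¹ := by
    intro z hz u hu _
    rw [mul_inv_rev, inv_inv, show u⁻¹ = u from inv_eq_of_mul_eq_one_right (Involution.mul_self hu),
      show z⁻¹ = z from inv_eq_of_mul_eq_one_right (Involution.mul_self hz), ← mul_assoc,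
      Involution.mul_self hz, one_mul]
  have hfib : ∀ q : X ⧸ 𝐇, q ≠ q₀ → ∀ z : X, orderOf z = 2 → (z : X ⧸ 𝐇) = q →
      Nat.card (fib q) ≤ Nat.card {x : X // x ∈ 𝐇 ∧ z * x * z⁻¹ = x⁻¹} := by
    rintro _ - z hz rfl
    refine Nat.card_le_card_of_injective (fun u => ⟨z⁻¹ * u.1.1, QuotientGroup.eq.1 u.2.symm,
      key z hz _ u.1.2 u.2⟩) fun u v e => Subtype.ext (Subtype.ext ?_)
    exact mul_left_cancel (congrArg Subtype.val e :)
  have hle : ∀ q : X ⧸ 𝐇, Nat.card (fib q) ≤ 7 := fun q => by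
    by_cases hq : q = q₀
    · rw [hq, hH0]
    · rcases isEmpty_or_nonempty (fib q) with he | ⟨⟨⟨z, hz⟩, hzq⟩⟩
      · simp
      · exact (hfib q hq z hz hzq).trans (h.inverted hz ((hne₀ z).1 (hzq.symm ▸ hq))).1
  have hall : ∀ q : X ⧸ 𝐇, Nat.card (fib q) = 7 := by
    have hsum : ∑ q : X ⧸ 𝐇, Nat.card (fib q) = ∑ _q : X ⧸ 𝐇, 7 := by
      rw [← Nat.card_sigma, Nat.card_congr (Equiv.sigmaFiberEquiv _), hn]
      simp [mul_comm]
    exact fun q => (Finset.sum_eq_sum_iff_of_le fun q _ => hle q).1 hsum q (Finset.mem_univ q)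
  -- the subgroup of order 7 of a coset
  let 𝒦 := {K : Subgroup X // K ≤ 𝐇 ∧ Nat.card K = 7}
  let Fixes : Subgroup X → X ⧸ 𝐇 → Prop := fun K q => ∀ x ∈ K, q.out⁻¹ * x * q.out ∈ 𝐇
  have hFix : ∀ (K : Subgroup X) (g : X), Fixes K (g : X ⧸ 𝐇) ↔ ∀ x ∈ K, g⁻¹ * x * g ∈ 𝐇 := by
    intro K g
    obtain ⟨⟨c, hc⟩, hco⟩ := QuotientGroup.mk_out_eq_mul 𝐇 g
    refine forall_congr' fun x => forall_congr' fun _ => ?_
    rw [hco, show (g * c)⁻¹ * x * (g * c) = c⁻¹ * (g⁻¹ * x * g) * c by group]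
    constructor
    · intro h'
      have := mul_mem (mul_mem hc h') (inv_mem hc)
      rwa [show c * (c⁻¹ * (g⁻¹ * x * g) * c) * c⁻¹ = g⁻¹ * x * g by group] at this
    · exact fun h' => mul_mem (mul_mem (inv_mem hc) h') hc
  have hcoset : ∀ q : X ⧸ 𝐇, q ≠ q₀ → ∃ K : 𝒦, Fixes K.1 q ∧
      (∀ u : X, orderOf u = 2 → (u : X ⧸ 𝐇) = q → ∀ x ∈ K.1, u * x * u⁻¹ = x⁻¹) ∧
      ∀ K' : 𝒦, Fixes K'.1 q → K' = K := by
    intro q hq
    have hKz : ∀ z : X, orderOf z = 2 → (z : X ⧸ 𝐇) = q → ∃ K : 𝒦, Fixes K.1 q ∧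
        (∀ x ∈ K.1, z * x * z⁻¹ = x⁻¹) ∧ ∀ K' : 𝒦, Fixes K'.1 q → K' = K := by
      rintro z hz rfl
      have hzH := (hne₀ z).1 hq
      obtain ⟨h1, h2⟩ := h.inverted hz hzH
      obtain ⟨K, hK, hc, hinv, huniq⟩ := h2 (le_antisymm h1 (hall _ ▸ hfib _ hq z hz rfl))
      refine ⟨⟨K, hK, hc⟩, (hFix K z).2 fun x hx => ?_, hinv, fun K' hf =>
        Subtype.ext (huniq K'.1 K'.2.1 K'.2.2 ((hFix K'.1 z).1 hf))⟩
      rw [show z⁻¹ = z from inv_eq_of_mul_eq_one_right (Involution.mul_self hz)]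
      have e := hinv x hx
      rw [show z⁻¹ = z from inv_eq_of_mul_eq_one_right (Involution.mul_self hz)] at e
      rw [e]; exact inv_mem (hK hx)
    obtain ⟨⟨⟨z, hz⟩, hzq⟩⟩ : Nonempty (fib q) := (Nat.card_pos_iff.1 (by rw [hall]; norm_num)).1
    obtain ⟨K, hK1, -, hK3⟩ := hKz z hz hzq
    refine ⟨K, hK1, fun u hu huq x hx => ?_, hK3⟩
    obtain ⟨K', hK'1, hK'2, -⟩ := hKz u hu huq
    exact hK'2 x (hK3 K' hK'1 ▸ hx)
  choose κ hκ1 hκ2 hκ3 using hcoset
  obtain ⟨⟨K₀, hK₀, hc₀⟩, h8, hconj, h21⟩ := h.seven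
  -- the fixed cosets of one subgroup of order 7
  set N := normalizer (K₀ : Set X) with hN
  have hfixN : ∀ g : X, Fixes K₀ (g : X ⧸ 𝐇) ↔ ∃ n ∈ N, (n : X ⧸ 𝐇) = (g : X ⧸ 𝐇) := by
    intro g
    rw [hFix]
    constructor
    · intro hg
      obtain ⟨n, hn, hnK⟩ := hconj K₀ (K₀.map (MulAut.conj g⁻¹).toMonoidHom) hK₀ hc₀
        (by rintro _ ⟨x, hx, rfl⟩; simpa using hg x hx)
        (by rw [card_map_of_injective (MulAut.conj g⁻¹).injective, hc₀])
      refine ⟨g * n, Cfsg.Agent.Coprime.mem_normalizer_of_forall fun x hx => ?_, QuotientGroup.eq.2 (by simpa using hn)⟩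
      have : (MulAut.conj n) x ∈ K₀.map (MulAut.conj g⁻¹).toMonoidHom := hnK ▸ ⟨x, hx, rfl⟩
      obtain ⟨y, hy, e⟩ := this
      have e' : g⁻¹ * y * g = n * x * n⁻¹ := by simpa using e
      rwa [show g * n * x * (g * n)⁻¹ = y by
        calc g * n * x * (g * n)⁻¹ = g * (n * x * n⁻¹) * g⁻¹ := by group
          _ = y := by rw [← e']; group]
    · rintro ⟨n, hn, he⟩ x hx
      have hm' := QuotientGroup.eq.1 he
      have hx' : n⁻¹ * x * n ∈ 𝐇 := by
        have := (mem_normalizer_iff.1 (inv_mem hn) x).1 hx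
        rw [inv_inv] at this
        exact hK₀ this
      have := mul_mem (mul_mem (inv_mem hm') hx') hm'
      rwa [show (n⁻¹ * g)⁻¹ * (n⁻¹ * x * n) * (n⁻¹ * g) = g⁻¹ * x * g by group] at this
  have hF : Nat.card N = Nat.card {q : X ⧸ 𝐇 // Fixes K₀ q} * 21 := by
    rw [← h21 K₀ hK₀ hc₀, ← hN]
    let ψ : N ⧸ (N ⊓ 𝐇).subgroupOf N → {q : X ⧸ 𝐇 // Fixes K₀ q} := fun c =>
      ⟨((c.out : X) : X ⧸ 𝐇), (hfixN _).2 ⟨c.out, c.out.2, rfl⟩⟩
    have hψ : Function.Bijective ψ := by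
      constructor
      · intro a b e
        rw [← QuotientGroup.out_eq' a, ← QuotientGroup.out_eq' b, QuotientGroup.eq, mem_subgroupOf]
        exact mem_inf.2 ⟨(a.out⁻¹ * b.out).2, QuotientGroup.eq.1 (congrArg Subtype.val e)⟩
      · rintro ⟨q, hq⟩
        obtain ⟨g, rfl⟩ := QuotientGroup.mk_surjective q
        obtain ⟨n, hn, he⟩ := (hfixN g).1 hq
        refine ⟨QuotientGroup.mk ⟨n, hn⟩, Subtype.ext (Eq.trans ?_ he)⟩
        obtain ⟨⟨c, hc⟩, hco⟩ := QuotientGroup.mk_out_eq_mul ((N ⊓ 𝐇).subgroupOf N) ⟨n, hn⟩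
        show (((QuotientGroup.mk ⟨n, hn⟩ : N ⧸ (N ⊓ 𝐇).subgroupOf N).out : X) : X ⧸ 𝐇) = _
        rw [hco, QuotientGroup.eq]
        show (n * (c : X))⁻¹ * n ∈ 𝐇
        rw [show (n * (c : X))⁻¹ * n = (c : X)⁻¹ by group]
        exact inv_mem (mem_subgroupOf.1 hc).2
    rw [← Nat.card_congr (Equiv.ofBijective ψ hψ), ← Nat.card_congr (subgroupOfEquivOfLe inf_le_left).toEquiv]
    exact Subgroup.card_eq_card_quotient_mul_card_subgroup _
  have hq₀fix : ∀ K : 𝒦, Fixes K.1 q₀ := fun K => (hFix K.1 1).2 fun x hx => by simpa using K.2.1 hx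
  -- all of them are fixed by equally many
  have hFconst : ∀ K : 𝒦, Nat.card {q : X ⧸ 𝐇 // Fixes K.1 q} = Nat.card {q : X ⧸ 𝐇 // Fixes K₀ q} := by
    rintro ⟨K, hK, hc⟩
    obtain ⟨n, hn, rfl⟩ := hconj K₀ K hK₀ hc₀ hK hc
    refine (Nat.card_congr (Equiv.subtypeEquiv (MulAction.toPerm n) fun q => ?_)).symm
    obtain ⟨g, rfl⟩ := QuotientGroup.mk_surjective q
    rw [show MulAction.toPerm n (g : X ⧸ 𝐇) = ((n * g : X) : X ⧸ 𝐇) from rfl, hFix, hFix]
    constructor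
    · rintro h' _ ⟨x, hx, rfl⟩
      show (n * g)⁻¹ * (n * x * n⁻¹) * (n * g) ∈ 𝐇
      rw [show (n * g)⁻¹ * (n * x * n⁻¹) * (n * g) = g⁻¹ * x * g by group]
      exact h' x hx
    · intro h' x hx
      have := h' (n * x * n⁻¹) ⟨x, hx, rfl⟩
      rwa [show (n * g)⁻¹ * (n * x * n⁻¹) * (n * g) = g⁻¹ * x * g by group] at this
  set Fc := Nat.card {q : X ⧸ 𝐇 // Fixes K₀ q} with hFc
  have hrest : ∀ K : 𝒦, Nat.card {q : X ⧸ 𝐇 // Fixes K.1 q ∧ q ≠ q₀} + 1 = Fc := by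
    intro K
    rw [← hFconst K]
    let := Fintype.ofFinite {q : X ⧸ 𝐇 // Fixes K.1 q}
    have hne : Nat.card {q : X ⧸ 𝐇 // Fixes K.1 q ∧ q ≠ q₀}
        = Nat.card {q : {q : X ⧸ 𝐇 // Fixes K.1 q} // q ≠ ⟨q₀, hq₀fix K⟩} := Nat.card_congr
      { toFun := fun q => ⟨⟨q.1, q.2.1⟩, fun e => q.2.2 (congrArg Subtype.val e)⟩
        invFun := fun q => ⟨q.1.1, q.1.2, fun e => q.2 (Subtype.ext e)⟩
        left_inv := fun q => rfl
        right_inv := fun q => rfl }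
    rw [hne, Nat.card_eq_fintype_card, Nat.card_eq_fintype_card, Fintype.card_subtype_compl,
      Fintype.card_subtype_eq]
    have : 0 < Fintype.card {q : X ⧸ 𝐇 // Fixes K.1 q} := Fintype.card_pos_iff.2 ⟨⟨q₀, hq₀fix K⟩⟩
    omega
  have hcount : Fintype.card (X ⧸ 𝐇) = 8 * (Fc - 1) + 1 := by
    have e : {q : X ⧸ 𝐇 // q ≠ q₀} ≃ Σ K : 𝒦, {q : X ⧸ 𝐇 // Fixes K.1 q ∧ q ≠ q₀} :=
      { toFun := fun q => ⟨κ q.1 q.2, q.1, hκ1 q.1 q.2, q.2⟩
        invFun := fun p => ⟨p.2.1, p.2.2.2⟩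
        left_inv := fun q => rfl
        right_inv := by
          rintro ⟨K, q, hqK, hq⟩
          obtain rfl := hκ3 q hq K hqK
          rfl }
    let := Fintype.ofFinite 𝒦
    have h1 : Nat.card {q : X ⧸ 𝐇 // q ≠ q₀} = 8 * (Fc - 1) := by
      rw [Nat.card_congr e, Nat.card_sigma, Finset.sum_congr rfl fun K _ =>
        (show Nat.card {q : X ⧸ 𝐇 // Fixes K.1 q ∧ q ≠ q₀} = Fc - 1 by have := hrest K; omega),
        Finset.sum_const, Finset.card_univ, ← Nat.card_eq_fintype_card, h8, smul_eq_mul]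
    rw [Nat.card_eq_fintype_card, Fintype.card_subtype_compl, Fintype.card_subtype_eq] at h1
    have : 0 < Fintype.card (X ⧸ 𝐇) := Fintype.card_pos_iff.2 ⟨q₀⟩
    omega
  by_cases hF1 : Fc = 1
  · left; rw [← hm, hcount, hF1]
  -- inverters
  right
  have hF0 : 1 ≤ Fc := by have := hrest ⟨K₀, hK₀, hc₀⟩; omega
  let J := {u : X // orderOf u = 2 ∧ ∀ x ∈ K₀, u * x * u⁻¹ = x⁻¹}
  have hJ : 7 * (Fc - 1) ≤ Nat.card J := by
    let := Fintype.ofFinite {q : X ⧸ 𝐇 // Fixes K₀ q ∧ q ≠ q₀}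
    have hs : Nat.card (Σ q : {q : X ⧸ 𝐇 // Fixes K₀ q ∧ q ≠ q₀}, fib q.1) = (Fc - 1) * 7 := by
      rw [Nat.card_sigma, Finset.sum_congr rfl fun q _ => hall q.1, Finset.sum_const, Finset.card_univ,
        ← Nat.card_eq_fintype_card, smul_eq_mul]
      have := hrest ⟨K₀, hK₀, hc₀⟩
      simp only at this
      omega
    rw [mul_comm, ← hs]
    refine Nat.card_le_card_of_injective (fun p => (⟨p.2.1.1, p.2.1.2, fun x hx =>
      hκ2 p.1.1 p.1.2.2 _ p.2.1.2 p.2.2 x (by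
        rw [← hκ3 p.1.1 p.1.2.2 ⟨K₀, hK₀, hc₀⟩ p.1.2.1]; exact hx)⟩ : J)) ?_
    rintro ⟨⟨q, hq⟩, ⟨u, hu⟩⟩ ⟨⟨q', hq'⟩, ⟨u', hu'⟩⟩ e
    obtain rfl : u = u' := Subtype.ext (congrArg Subtype.val e :)
    obtain rfl : q = q' := hu.symm.trans hu'
    rfl
  obtain ⟨⟨z₀, hz₀, hz₀K⟩⟩ : Nonempty J := (Nat.card_pos_iff.1 (by omega)).1
  set C := centralizer (K₀ : Set X) with hC
  have hJC : Nat.card J ≤ Nat.card C := by
    refine Nat.card_le_card_of_injective (fun u => (⟨z₀⁻¹ * u.1, mem_centralizer_iff.2 fun x hx => ?_⟩ : C))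
      fun u v e => Subtype.ext (mul_left_cancel (congrArg Subtype.val e :))
    have e1 := u.2.2 x hx
    have e2 := hz₀K x hx
    have hux : u.1 * x = x⁻¹ * u.1 := mul_inv_eq_iff_eq_mul.1 e1
    have hzx : z₀⁻¹ * x⁻¹ = x * z₀⁻¹ := by
      calc z₀⁻¹ * x⁻¹ = z₀⁻¹ * (z₀ * x * z₀⁻¹) := by rw [e2]
        _ = x * z₀⁻¹ := by group
    calc x * (z₀⁻¹ * u.1) = (x * z₀⁻¹) * u.1 := by group
      _ = z₀⁻¹ * (x⁻¹ * u.1) := by rw [← hzx]; group
      _ = z₀⁻¹ * u.1 * x := by rw [← hux]; group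
  haveI : IsCyclic K₀ := isCyclic_of_prime_card hc₀
  obtain ⟨k, hk⟩ := exists_prime_orderOf_dvd_card' (G := K₀) 7 (by rw [hc₀])
  rw [← Subgroup.orderOf_coe] at hk
  let θ : N →* MulAut K₀ := K₀.normalizerMonoidHom
  have hker : θ.ker = C.subgroupOf N := K₀.normalizerMonoidHom_ker
  have hz₀N : z₀ ∈ N := Cfsg.Agent.Coprime.mem_normalizer_of_forall fun x hx => by rw [hz₀K x hx]; exact inv_mem hx
  obtain ⟨b, hb⟩ := exists_prime_orderOf_dvd_card' (G := ↥(N ⊓ 𝐇)) 3 (by rw [h21 K₀ hK₀ hc₀]; norm_num)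
  rw [← Subgroup.orderOf_coe] at hb
  have ho : ∀ (g : X) (hg : g ∈ N) (p : ℕ), p.Prime → g ^ p = 1 → ¬ Commute g k → p ∣ Nat.card θ.range := by
    intro g hg p hp hgp hgk
    haveI := Fact.mk hp
    have hθ : orderOf (θ ⟨g, hg⟩) = p := by
      refine orderOf_eq_prime ?_ fun e => hgk ?_
      · rw [← map_pow, show (⟨g, hg⟩ : N) ^ p = 1 from Subtype.ext hgp, map_one]
      · have := congrArg (fun F : MulAut K₀ => ((F k : K₀) : X)) e
        exact mul_inv_eq_iff_eq_mul.1 this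
    rw [← hθ]
    exact Subgroup.orderOf_dvd_natCard θ.range ⟨⟨g, hg⟩, rfl⟩
  have h6 : 6 ∣ Nat.card θ.range := by
    refine Nat.Coprime.mul_dvd_of_dvd_of_dvd (by norm_num : Nat.Coprime 2 3) ?_ ?_
    · refine ho z₀ hz₀N 2 Nat.prime_two (by rw [pow_two]; exact Involution.mul_self hz₀) fun e => ?_
      have h2 := hz₀K k k.2
      rw [e.eq, mul_inv_cancel_right] at h2
      have : orderOf (k : X) ∣ 2 := orderOf_dvd_of_pow_eq_one (by rw [pow_two]; nth_rw 2 [h2]; exact mul_inv_cancel _)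
      rw [hk] at this
      norm_num at this
    · exact ho b b.2.1 3 Nat.prime_three (by rw [← hb]; exact pow_orderOf_eq_one _)
        fun e => h.not_commute (hK₀ k.2) b.2.2 hk hb e.symm
  have hCN : C ≤ N := centralizer_le_normalizer _
  have hcardN : 6 * Nat.card C ≤ Nat.card N := by
    have e1 := θ.ker.card_mul_index
    rw [Subgroup.index_ker, hker, Nat.card_congr (subgroupOfEquivOfLe hCN).toEquiv] at e1
    rw [← e1, mul_comm]
    exact Nat.mul_le_mul_left _ (Nat.le_of_dvd Nat.card_pos h6)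
  have h7C : 7 ∣ Nat.card C := by
    rw [← hk]
    refine Subgroup.orderOf_dvd_natCard C (mem_centralizer_iff.2 fun x hx => ?_)
    exact congrArg Subtype.val ((IsCyclic.commGroup (α := K₀)).mul_comm ⟨x, hx⟩ k)
  have hFle : Fc ≤ 2 := by omega
  have hF2 : Fc = 2 := by omega
  rw [← hm, hcount, hF2]

end Cfsg.Agent.AbelianSylow.Field.Small
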