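import Cfsg.Agent.Lib.AbelianSylow.Cent.FieldPlane
import Mathlib

/-!
# No field automorphism: automorphisms of a group of order `s²` as matrices (owner: helper80)

* `exists_pair_rep` : matrices with respect to a basis `f, w`
* `isMover_of`      : a nontrivial automorphism of odd order prime to `s` fixing `f` and `⟨w⟩` is a mover
* `exists_rep`      : it always has such a `w`
-/

set_option autoImplicit false

namespace Cfsg.Agent.AbelianSylow.Field.Plane

open Subgroup

universe u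

variable {s : ℕ} [hs : Fact s.Prime] {V : Type u} [CommGroup V] [Finite V]

theorem pow_val_eq (hexp : ∀ x : V, x ^ s = 1) (x : V) (n : ℕ) : x ^ ((n : ZMod s)).val = x ^ n := by
  rw [ZMod.val_natCast]
  conv_rhs => rw [← Nat.mod_add_div n s, pow_add, pow_mul, hexp x, one_pow, mul_one]

/-- A representation with respect to the basis `f, w`. -/
structure Rep (f w : V) (ρ : MulAut V →* GL (Fin 2) (ZMod s)) : Prop where
  inj : Function.Injective ρ
  apply_f : ∀ a, a f = f ^ ((ρ a) 0 0).val * w ^ ((ρ a) 1 0).val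
  apply_w : ∀ a, a w = f ^ ((ρ a) 0 1).val * w ^ ((ρ a) 1 1).val
  coord : ∀ i j i' j' : ZMod s, f ^ i.val * w ^ j.val = f ^ i'.val * w ^ j'.val → i = i' ∧ j = j'

theorem exists_pair_rep (hcard : Nat.card V = s ^ 2) (hexp : ∀ x : V, x ^ s = 1) {f w : V}
    (hf : f ≠ 1) (hw : w ∉ zpowers f) : ∃ ρ : MulAut V →* GL (Fin 2) (ZMod s), Rep f w ρ := by
  classical
  have hsQ : ∀ x : Additive V, s • x = 0 := fun x => congrArg Additive.ofMul (hexp (Additive.toMul x))
  have : Module (ZMod s) (Additive V) := AddCommGroup.zmodModule hsQ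
  haveI : Fintype (Additive V) := Fintype.ofFinite _
  haveI : Module.Finite (ZMod s) (Additive V) := Module.Finite.of_finite
  have hsmul : ∀ (a : ZMod s) (x : V), a • Additive.ofMul x = Additive.ofMul (x ^ a.val) := by
    intro a x
    conv_lhs => rw [← ZMod.natCast_zmod_val a, Nat.cast_smul_eq_nsmul]
    rfl
  set v : Fin 2 → Additive V := ![Additive.ofMul f, Additive.ofMul w] with hv
  have hli : LinearIndependent (ZMod s) v := by
    rw [hv, LinearIndependent.pair_iff' (fun h => hf (Additive.ofMul.injective h))]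
    intro a ha
    rw [hsmul] at ha
    exact hw (Additive.ofMul.injective ha ▸ pow_mem (mem_zpowers f) _)
  have hfr : Module.finrank (ZMod s) (Additive V) = 2 := by
    have h : Nat.card (Additive V) = Nat.card (ZMod s) ^ Module.finrank (ZMod s) (Additive V) :=
      Module.natCard_eq_pow_finrank
    rw [Nat.card_zmod, show Nat.card (Additive V) = s ^ 2 from hcard] at h
    exact (Nat.pow_right_injective hs.out.two_le h).symm
  set b := basisOfLinearIndependentOfCardEqFinrank hli (by rw [hfr]; rfl) with hb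
  have hb0 : b 0 = Additive.ofMul f := by simp [hb, hv]
  have hb1 : b 1 = Additive.ofMul w := by simp [hb, hv]
  have hE : ∀ (a : MulAut V) (x : Additive V), (MonoidHom.toAdditive a.toMonoidHom).toZModLinearMap s x =
      Additive.ofMul (a x.toMul) := fun a x => rfl
  let E : MulAut V →* Module.End (ZMod s) (Additive V) :=
    { toFun := fun a => (MonoidHom.toAdditive a.toMonoidHom).toZModLinearMap s
      map_one' := LinearMap.ext fun x => by rw [hE]; simp
      map_mul' := fun a a' => LinearMap.ext fun x => by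
        rw [Module.End.mul_apply, hE, hE, hE]; simp }
  set L := (LinearMap.toMatrixAlgEquiv b).toAlgHom.toRingHom.toMonoidHom.comp E with hL
  refine ⟨L.toHomUnits, ?_, ?_, ?_, ?_⟩
  · intro a a' h
    have h1 : L a = L a' := congrArg Units.val h
    have h2 : E a = E a' := (LinearMap.toMatrixAlgEquiv b).injective h1
    exact MulEquiv.ext fun x => Additive.ofMul.injective (LinearMap.congr_fun h2 (Additive.ofMul x))
  · intro a
    have h := b.sum_repr (E a (b 0))
    rw [Fin.sum_univ_two, hb0, hb1, hsmul, hsmul, ← ofMul_mul] at h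
    have h' := Additive.ofMul.injective h
    refine h'.symm.trans ?_
    simp [hL, LinearMap.toMatrixAlgEquiv_apply, hb0]
  · intro a
    have h := b.sum_repr (E a (b 1))
    rw [Fin.sum_univ_two, hb0, hb1, hsmul, hsmul, ← ofMul_mul] at h
    have h' := Additive.ofMul.injective h
    refine h'.symm.trans ?_
    simp [hL, LinearMap.toMatrixAlgEquiv_apply, hb1]
  · intro i j i' j' h
    have h' : i • b 0 + j • b 1 = i' • b 0 + j' • b 1 := by
      rw [hb0, hb1, hsmul, hsmul, hsmul, hsmul, ← ofMul_mul, ← ofMul_mul, h]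
    have h0 := congrArg (fun x => b.repr x 0) h'
    have h1 := congrArg (fun x => b.repr x 1) h'
    simp at h0 h1
    exact ⟨h0, h1⟩

variable {f w : V} {ρ : MulAut V →* GL (Fin 2) (ZMod s)}

theorem Rep.exp_card (h : Rep f w ρ) : f ≠ 1 := fun e => by
  have := (h.coord 1 0 0 0 (by simp [e])).1
  exact one_ne_zero this

theorem Rep.f_mem_iff (h : Rep f w ρ) (hexp : ∀ x : V, x ^ s = 1) (a : MulAut V) :
    (ρ a) 1 0 = 0 ↔ a f ∈ zpowers f := by
  refine ⟨fun e => by rw [h.apply_f, e, ZMod.val_zero, pow_zero, mul_one]; exact pow_mem (mem_zpowers f) _,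
    fun hm => ?_⟩
  obtain ⟨n, hn⟩ := mem_powers_iff_mem_zpowers.2 hm
  simp only at hn
  refine (h.coord ((ρ a) 0 0) _ (n : ZMod s) 0 ?_).2
  rw [← h.apply_f, ← hn, pow_val_eq hexp, ZMod.val_zero, pow_zero, mul_one]

theorem Rep.w_mem_iff (h : Rep f w ρ) (hexp : ∀ x : V, x ^ s = 1) (a : MulAut V) :
    (ρ a) 0 1 = 0 ↔ a w ∈ zpowers w := by
  refine ⟨fun e => by rw [h.apply_w, e, ZMod.val_zero, pow_zero, one_mul]; exact pow_mem (mem_zpowers w) _,
    fun hm => ?_⟩
  obtain ⟨n, hn⟩ := mem_powers_iff_mem_zpowers.2 hm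
  simp only at hn
  refine (h.coord _ ((ρ a) 1 1) 0 (n : ZMod s) ?_).1
  rw [← h.apply_w, ← hn, pow_val_eq hexp, ZMod.val_zero, pow_zero, one_mul]

theorem Rep.fix_iff (h : Rep f w ρ) (a : MulAut V) : a f = f ↔ (ρ a) 0 0 = 1 ∧ (ρ a) 1 0 = 0 := by
  constructor
  · intro e
    refine h.coord _ _ 1 0 ?_
    rw [← h.apply_f, e, ZMod.val_one, pow_one, ZMod.val_zero, pow_zero, mul_one]
  · rintro ⟨e0, e1⟩
    rw [h.apply_f, e0, e1, ZMod.val_one, pow_one, ZMod.val_zero, pow_zero, mul_one]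

/-- **The mover.** -/
theorem isMover_of (hs2 : s ≠ 2) (h : Rep f w ρ) {c : MulAut V} {k : ℕ} (hk : Odd k) (hck : c ^ k = 1)
    (hc1 : c ≠ 1) (hcf : c f = f) (h01 : (ρ c) 0 1 = 0) : IsMover (ρ c) := by
  obtain ⟨e0, e1⟩ := (h.fix_iff c).1 hcf
  refine ⟨e0, h01, e1, fun hsq => ?_⟩
  have hp : ∀ n : ℕ, ((ρ c) ^ n) 1 0 = 0 ∧ ((ρ c) ^ n) 1 1 = ((ρ c) 1 1) ^ n := by
    intro n
    induction n with
    | zero => simp
    | succ n ih =>
      obtain ⟨-, -, d, e⟩ := mul_entries ((ρ c) ^ n) (ρ c)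
      rw [pow_succ (ρ c) n]
      exact ⟨by rw [d, ih.1, e1]; ring, by rw [e, ih.1, ih.2]; ring⟩
  have hμk : ((ρ c) 1 1) ^ k = 1 := by
    rw [← (hp k).2, ← map_pow, hck, map_one]
    exact one_entries.2.2.2
  have hμ : (ρ c) 1 1 = 1 := by
    obtain ⟨j, rfl⟩ := hk
    rwa [pow_succ, pow_mul, pow_two, hsq, one_pow, one_mul] at hμk
  refine hc1 (h.inj ?_)
  rw [map_one]
  exact ext_entries (by rw [e0, one_entries.1]) (by rw [h01, one_entries.2.1])
    (by rw [e1, one_entries.2.2.1]) (by rw [hμ, one_entries.2.2.2])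

/-- A nontrivial automorphism of odd order prime to `s` fixing `f` has a second line. -/
theorem exists_rep (hs2 : s ≠ 2) (hcard : Nat.card V = s ^ 2) (hexp : ∀ x : V, x ^ s = 1)
    (hf : f ≠ 1) {c : MulAut V} {k : ℕ} (hk : Odd k) (hks : ¬ s ∣ k) (hck : c ^ k = 1) (hc1 : c ≠ 1)
    (hcf : c f = f) :
    ∃ (w : V) (ρ : MulAut V →* GL (Fin 2) (ZMod s)), Rep f w ρ ∧ w ∉ zpowers f ∧ IsMover (ρ c) := by
  classical
  obtain ⟨w', hw'⟩ : ∃ x : V, x ∉ zpowers f := by
    by_contra hall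
    push Not at hall
    have h1 : Nat.card (zpowers f) = s ^ 2 := by rw [(eq_top_iff' _).2 hall, Nat.card_congr Subgroup.topEquiv.toEquiv, hcard]
    rw [Nat.card_zpowers, orderOf_eq_prime (hexp f) hf] at h1
    nlinarith [hs.out.two_le]
  obtain ⟨ρ', h'⟩ := exists_pair_rep hcard hexp hf hw'
  obtain ⟨e0, e1⟩ := (h'.fix_iff c).1 hcf
  set μ := (ρ' c) 1 1
  set i := (ρ' c) 0 1
  have hμ : μ ≠ 1 := by
    intro hμ
    have hs1 : (ρ' c) ^ s = 1 := pow_char_of_unip e0 hμ (Or.inr e1)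
    rw [← map_pow, ← map_one ρ'] at hs1
    exact hc1 (orderOf_eq_one_iff.1 (Nat.eq_one_of_dvd_coprimes ((Nat.Prime.coprime_iff_not_dvd hs.out).2 hks)
      (orderOf_dvd_of_pow_eq_one (h'.inj hs1)) (orderOf_dvd_of_pow_eq_one hck)))
  set t : ZMod s := i / (μ - 1) with ht
  have hti : t + i = t * μ := by
    rw [ht]
    field_simp [sub_ne_zero.2 hμ]
    ring
  set w := f ^ t.val * w' with hwdef
  have hw : w ∉ zpowers f := fun hm => hw' (by
    have := mul_mem (inv_mem (pow_mem (mem_zpowers f) t.val)) hm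
    rwa [hwdef, inv_mul_cancel_left] at this)
  obtain ⟨ρ, h⟩ := exists_pair_rep hcard hexp hf hw
  refine ⟨w, ρ, h, hw, isMover_of hs2 h hk hck hc1 hcf ((h.w_mem_iff hexp c).2 ?_)⟩
  have hcw : c w = w ^ μ.val := by
    rw [hwdef, map_mul, map_pow, hcf, h'.apply_w, ← mul_assoc, ← pow_add, mul_pow, ← pow_mul,
      ← pow_val_eq hexp f (t.val + i.val), ← pow_val_eq hexp f (t.val * μ.val)]
    simp only [Nat.cast_add, Nat.cast_mul, ZMod.natCast_zmod_val]
    rw [hti]
  rw [hcw]
  exact pow_mem (mem_zpowers w) _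

end Cfsg.Agent.AbelianSylow.Field.Plane
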