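import Cfsg.Agent.EqLemmas
import Cfsg.Agent.Lib.AbelianSylow.Cent.FieldPlaneRep
import Cfsg.Agent.Lib.Cores.Basic
import Cfsg.Agent.Lib.Coprime.Basic
import Cfsg.Agent.Lib.PGroup.MaximalClass
import Cfsg.Agent.Lib.PAutPrime.Basic
import Cfsg.Agent.Lib.HallHigman.FrattiniModule
import Cfsg.Agent.Lib.Solvable.Fitting

/-!
# No field automorphism: the transfer character of `C(y)` (owner: helper80)

`C` odd normal in `M` with `y` central of order `s`, `f ∈ C` of order `s` with no fusion to its other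
powers and `|C_R(f)| ≤ s²` for `s`-subgroups `R` of `C`, `c` an element of odd order fixing `f` and moving `y`.
* `Data.exists_hom` : a homomorphism `C → Z/s`, nontrivial at `f`, that agrees on the `M`-conjugates of `f`.
-/

set_option autoImplicit false
set_option linter.style.haveILetI false

namespace Cfsg.Agent.AbelianSylow.Field

open Subgroup
open scoped commutatorElement

universe u

/-- Automorphisms act on the quotient by a characteristic subgroup. -/
def quotAut {T : Type u} [Group T] (N : Subgroup T) [hN : N.Characteristic] :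
    MulAut T →* MulAut (T ⧸ N) where
  toFun a := QuotientGroup.congr N N a (Subgroup.characteristic_iff_map_eq.1 hN a)
  map_one' := MulEquiv.ext fun x => QuotientGroup.induction_on x fun _ => rfl
  map_mul' _ _ := MulEquiv.ext fun x => QuotientGroup.induction_on x fun _ => rfl

theorem quotAut_mk {T : Type u} [Group T] (N : Subgroup T) [N.Characteristic] (a : MulAut T) (x : T) :
    quotAut N a (x : T ⧸ N) = ((a x : T) : T ⧸ N) := rfl

section PGroupLemmas

variable {s : ℕ} [hs : Fact s.Prime] {T : Type u} [Group T] [Finite T]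

theorem commutator_le_frattini (hT : IsPGroup s T) : _root_.commutator T ≤ frattini T := by
  rw [_root_.commutator_def, Subgroup.commutator_le]
  exact fun a _ b _ => PGroup.commutatorElement_mem_frattini hT a b

/-- A coprime automorphism trivial modulo `Φ` is trivial. -/
theorem eq_one_of_trivial_mod_frattini (hT : IsPGroup s T) {σ : MulAut T} {k : ℕ} (hk : ¬ s ∣ k)
    (hσ : σ ^ k = 1) (h : ∀ x : T, x⁻¹ * σ x ∈ frattini T) : σ = 1 := by
  by_contra hne
  obtain ⟨q, hq, hqd⟩ := Nat.exists_prime_and_dvd (fun e => hne (orderOf_eq_one_iff.1 e) : orderOf σ ≠ 1)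
  haveI : Fact q.Prime := ⟨hq⟩
  have hqs : q ≠ s := fun e => hk (e ▸ hqd.trans (orderOf_dvd_of_pow_eq_one hσ))
  have hpow : ∀ n : ℕ, ∀ x : T, x⁻¹ * (σ ^ n) x ∈ frattini T := by
    intro n
    induction n with
    | zero => intro x; simp
    | succ n ih =>
      intro x
      rw [pow_succ, MulAut.mul_apply]
      have h2 := mul_mem (h x) (ih (σ x))
      rwa [mul_assoc, mul_inv_cancel_left] at h2
  have hτ : σ ^ (orderOf σ / q) = 1 := PAutPrime.eq_one_of_frattini hqs hT _
    (by rw [← pow_mul, Nat.div_mul_cancel hqd, pow_orderOf_eq_one]) (hpow _)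
  have hd := Nat.le_of_dvd (Nat.div_pos (Nat.le_of_dvd (orderOf_pos σ) hqd) hq.pos) (orderOf_dvd_of_pow_eq_one hτ)
  exact absurd hd (not_le.2 (Nat.div_lt_self (orderOf_pos σ) hq.one_lt))

/-- **A group with a small centraliser.** -/
theorem derived_of_bound (hT : IsPGroup s T) {f y : T} (hf : orderOf f = s) (hy : orderOf y = s)
    (hfy : Commute f y) (hyf : y ∉ zpowers f) (hb : Nat.card (centralizer ({f} : Set T)) ≤ s ^ 2) :
    (_root_.commutator T).index = s ^ 2 ∧ f ∉ _root_.commutator T ∧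
      ∀ z ∈ _root_.commutator T, ∃ r : T, r * f * r⁻¹ = f * z := by
  classical
  set C := centralizer ({f} : Set T) with hC
  have hfC : ∀ n : ℤ, f ^ n ∈ C := fun n =>
    mem_centralizer_singleton_iff.2 ((Commute.refl f).zpow_left n).eq
  have hyC : ∀ n : ℤ, y ^ n ∈ C := fun n => mem_centralizer_singleton_iff.2 (hfy.symm.zpow_left n).eq
  let g : zpowers f × zpowers y → C := fun p => ⟨p.1 * p.2, by
    obtain ⟨⟨a, ha⟩, ⟨b, hb'⟩⟩ := p
    obtain ⟨i, rfl⟩ := mem_zpowers_iff.1 ha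
    obtain ⟨j, rfl⟩ := mem_zpowers_iff.1 hb'
    exact mul_mem (hfC i) (hyC j)⟩
  have hdis : Disjoint (zpowers f) (zpowers y) := by
    rw [disjoint_iff]
    by_contra hne
    have hp : (Nat.card (zpowers y)).Prime := by rw [Nat.card_zpowers, hy]; exact hs.out
    haveI := Fact.mk hp
    rcases (zpowers f ⊓ zpowers y).subgroupOf (zpowers y) |>.eq_bot_or_eq_top_of_prime_card with h | h
    · exact hne (le_bot_iff.1 fun x hx => by
        have : (⟨x, hx.2⟩ : zpowers y) ∈ (zpowers f ⊓ zpowers y).subgroupOf (zpowers y) := hx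
        rw [h, Subgroup.mem_bot] at this
        exact congrArg Subtype.val this)
    · have : (⟨y, mem_zpowers y⟩ : zpowers y) ∈ (zpowers f ⊓ zpowers y).subgroupOf (zpowers y) :=
        h ▸ Subgroup.mem_top _
      exact hyf this.1
  have hginj : Function.Injective g := fun p q h =>
    Subgroup.mul_injective_of_disjoint hdis (congrArg Subtype.val h)
  have hge : s ^ 2 ≤ Nat.card C := by
    refine le_trans (le_of_eq ?_) (Nat.card_le_card_of_injective g hginj)
    rw [Nat.card_prod, Nat.card_zpowers, Nat.card_zpowers, hf, hy, pow_two]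
  have hCc : Nat.card C = s ^ 2 := le_antisymm hb hge
  set T' := _root_.commutator T with hT'
  -- the class map
  let κ : T ⧸ C → T' := fun q => ⟨f⁻¹ * (q.out * f * q.out⁻¹), by
    have : f⁻¹ * (q.out * f * q.out⁻¹) = ⁅f⁻¹, q.out⁆ := by rw [commutatorElement_def]; group
    rw [this, hT', commutator_def]
    exact commutator_mem_commutator (mem_top _) (mem_top _)⟩
  have hκ : Function.Injective κ := by
    intro a b h
    have h1 : a.out * f * a.out⁻¹ = b.out * f * b.out⁻¹ := mul_left_cancel (congrArg Subtype.val h)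
    refine a.out_eq'.symm.trans ((QuotientGroup.eq.2 (mem_centralizer_singleton_iff.2 ?_)).trans b.out_eq')
    calc a.out⁻¹ * b.out * f = a.out⁻¹ * (b.out * f * b.out⁻¹) * b.out := by group
      _ = a.out⁻¹ * (a.out * f * a.out⁻¹) * b.out := by rw [h1]
      _ = f * (a.out⁻¹ * b.out) := by group
  have hup : T'.index ≤ s ^ 2 := by
    have h1 := Nat.card_le_card_of_injective κ hκ
    rw [← index_eq_card] at h1
    have h2 := C.card_mul_index
    rw [hCc, ← T'.card_mul_index] at h2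
    have h3 : Nat.card T' * T'.index ≤ Nat.card T' * s ^ 2 := by
      rw [← h2, mul_comm (Nat.card T') (s ^ 2)]
      exact Nat.mul_le_mul_left _ h1
    exact Nat.le_of_mul_le_mul_left h3 Nat.card_pos
  have hidx : T'.index = s ^ 2 := by
    refine le_antisymm hup ?_
    by_cases hc : T' = ⊥
    · rw [hc, Subgroup.index_bot]
      exact hge.trans (Nat.le_of_dvd Nat.card_pos (card_subgroup_dvd_card C))
    · exact PGroup.index_commutator_ge hT hc
  have hbij : Function.Bijective κ := by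
    rw [Nat.bijective_iff_injective_and_card]
    refine ⟨hκ, ?_⟩
    have h2 := C.card_mul_index
    rw [hCc, ← T'.card_mul_index, hidx, mul_comm (Nat.card T')] at h2
    rw [← index_eq_card]
    exact Nat.eq_of_mul_eq_mul_left (pow_pos hs.out.pos 2) h2
  have hclass : ∀ z ∈ T', ∃ r : T, r * f * r⁻¹ = f * z := fun z hz => by
    obtain ⟨q, hq⟩ := hbij.2 ⟨z, hz⟩
    refine ⟨q.out, ?_⟩
    have h4 : f⁻¹ * (q.out * f * q.out⁻¹) = z := congrArg Subtype.val hq
    rw [← h4, mul_inv_cancel_left]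
  refine ⟨hidx, fun hfT => ?_, hclass⟩
  obtain ⟨r, hr⟩ := hclass f⁻¹ (inv_mem hfT)
  rw [mul_inv_cancel, conj_eq_one_iff] at hr
  rw [hr, orderOf_one] at hf
  exact hs.out.one_lt.ne hf

end PGroupLemmas

/-- The configuration in `M ≥ C`. -/
structure Data (s : ℕ) {M : Type u} [Group M] (C : Subgroup M) (f y c : M) : Prop where
  normal : C.Normal
  odd : Odd (Nat.card C)
  idx : ¬ s ∣ C.index
  ne_two : s ≠ 2
  ord_f : orderOf f = s
  ord_y : orderOf y = s
  mem_f : f ∈ C
  mem_y : y ∈ C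
  central : ∀ x ∈ C, Commute x y
  nmem : y ∉ zpowers f
  comm_c : Commute c f
  norm_c : c * y * c⁻¹ ∈ zpowers y
  move : ¬ Commute c y
  pow_c : ∃ k : ℕ, Odd k ∧ ¬ s ∣ k ∧ c ^ k = 1
  ab : ∀ m : M, m * c * m⁻¹ * c⁻¹ ∈ C
  rigid : ∀ m : M, m * f * m⁻¹ ∈ zpowers f → Commute m f
  bound : ∀ R : Subgroup M, R ≤ C → IsPGroup s R → f ∈ R →
    Nat.card (R ⊓ centralizer ({f} : Set M) : Subgroup M) ≤ s ^ 2

variable {s : ℕ} [hs : Fact s.Prime] {M : Type u} [Group M] [Finite M] {C : Subgroup M} {f y c : M}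

theorem Data.f_pow_one (h : Data s C f y c) : f ^ 1 ≠ 1 := fun e => by
  have := h.ord_f
  rw [pow_one] at e
  rw [e, orderOf_one] at this
  exact hs.out.one_lt.ne this

omit [Finite M] in
theorem nmh_coe {R : Subgroup M} (n : normalizer (R : Set M)) (x : R) :
    ((R.normalizerMonoidHom n x : R) : M) = (n : M) * x * (n : M)⁻¹ := rfl

theorem Data.derived (h : Data s C f y c) {R : Subgroup M} (hR : R ≤ C) (hp : IsPGroup s R) (hfR : f ∈ R)
    (hyR : y ∈ R) {j : ℕ} (hj : f ^ j ≠ 1) :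
    (_root_.commutator R).index = s ^ 2 ∧ (⟨f, hfR⟩ : R) ^ j ∉ _root_.commutator R ∧
      ∀ z ∈ _root_.commutator R, ∃ r : R, r * (⟨f, hfR⟩ : R) ^ j * r⁻¹ = (⟨f, hfR⟩ : R) ^ j * z := by
  set f' : R := ⟨f, hfR⟩
  have hfj : orderOf (f ^ j) = s := by
    refine orderOf_eq_prime (p := s) ?_ hj
    rw [← pow_mul, mul_comm, pow_mul, orderOf_dvd_iff_pow_eq_one.1 h.ord_f.dvd, one_pow]
  have hgen : zpowers (f ^ j) = zpowers f :=
    Subgroup.eq_of_le_of_card_ge (zpowers_le.2 (pow_mem (mem_zpowers f) j))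
      (le_of_eq (by rw [Nat.card_zpowers, Nat.card_zpowers, h.ord_f, hfj]))
  refine derived_of_bound hp (y := ⟨y, hyR⟩) ?_ ?_ ?_ ?_ ?_
  · rw [← Subgroup.orderOf_coe, SubmonoidClass.coe_pow]; exact hfj
  · rw [← Subgroup.orderOf_coe]; exact h.ord_y
  · exact Subtype.ext ((h.central f h.mem_f).pow_left j).eq
  · intro hm
    obtain ⟨i, hi⟩ := mem_zpowers_iff.1 hm
    refine h.nmem (hgen ▸ mem_zpowers_iff.2 ⟨i, ?_⟩)
    simpa using congrArg (Subtype.val : R → M) hi
  · refine le_trans (le_of_eq ?_) (h.bound R hR hp hfR)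
    rw [← Cores.card_map_subtype]
    congr 2
    ext x
    simp only [Subgroup.mem_map, Subgroup.mem_inf, Subgroup.coe_subtype]
    refine ⟨?_, fun ⟨hx, hxc⟩ => ⟨⟨x, hx⟩, mem_centralizer_singleton_iff.2 (Subtype.ext ?_), rfl⟩⟩
    · rintro ⟨x, hx, rfl⟩
      refine ⟨x.2, mem_centralizer_singleton_iff.2 ?_⟩
      have h1 : Commute (x : M) (f ^ j) := congrArg Subtype.val (mem_centralizer_singleton_iff.1 hx)
      obtain ⟨i, hi⟩ := mem_zpowers_iff.1 (hgen ▸ mem_zpowers f : f ∈ zpowers (f ^ j))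
      exact (hi ▸ h1.zpow_right i : Commute (x : M) f).eq
    · simpa using ((mem_centralizer_singleton_iff.1 hxc : x * f = f * x) |> fun e =>
        ((show Commute x f from e).pow_right j).eq)

/-- A normalising element that multiplies `f` modulo `R'` is congruent to `1` on it. -/
theorem Data.fix_of_line (h : Data s C f y c) {R : Subgroup M} (hR : R ≤ C) (hp : IsPGroup s R)
    (hfR : f ∈ R) (hyR : y ∈ R) {n : M} (hn : n ∈ normalizer (R : Set M)) {j : ℕ}
    (he : ((⟨f, hfR⟩ : R) ^ j)⁻¹ * R.normalizerMonoidHom ⟨n, hn⟩ ⟨f, hfR⟩ ∈ _root_.commutator R) :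
    ∃ r : R, n * f * n⁻¹ = r * f * r⁻¹ := by
  set f' : R := ⟨f, hfR⟩
  set σ := R.normalizerMonoidHom ⟨n, hn⟩
  have hj : f ^ j ≠ 1 := fun e => by
    rw [show f' ^ j = 1 from Subtype.ext (by simpa using e), inv_one, one_mul] at he
    have h1 : σ.symm (σ f') ∈ _root_.commutator R :=
      Subgroup.characteristic_iff_map_le.1 inferInstance σ.symm ⟨_, he, rfl⟩
    rw [MulEquiv.symm_apply_apply] at h1
    have := (h.derived hR hp hfR hyR (j := 1) h.f_pow_one).2.1
    rw [pow_one] at this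
    exact this h1
  obtain ⟨r, hr⟩ := (h.derived hR hp hfR hyR hj).2.2 _ he
  rw [mul_inv_cancel_left] at hr
  have hr' : (r : M) * f ^ j * (r : M)⁻¹ = n * f * n⁻¹ := by
    simpa [σ, f', nmh_coe] using congrArg (Subtype.val : R → M) hr
  have h2 : ((r : M)⁻¹ * n) * f * ((r : M)⁻¹ * n)⁻¹ = f ^ j := by
    calc ((r : M)⁻¹ * n) * f * ((r : M)⁻¹ * n)⁻¹ = (r : M)⁻¹ * (n * f * n⁻¹) * r := by group
      _ = f ^ j := by rw [← hr']; group
  have h3 := h.rigid _ (h2 ▸ pow_mem (mem_zpowers f) j)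
  have h4 : f ^ j = f := by rw [← h2, h3.eq, mul_inv_cancel_right]
  exact ⟨r, by rw [← hr', h4]; simp⟩

/-- Conjugation by `c` on a normalised subgroup has order prime to `s`. -/
theorem Data.normalizer_pow (h : Data s C f y c) {R : Subgroup M} (hc : c ∈ normalizer (R : Set M)) :
    ∃ k, Odd k ∧ ¬ s ∣ k ∧ (⟨c, hc⟩ : normalizer (R : Set M)) ^ k = 1 := by
  obtain ⟨k, hk, hks, hck⟩ := h.pow_c
  exact ⟨k, hk, hks, Subtype.ext (by simpa using hck)⟩

/-- `c` acts nontrivially on `R/R'`. -/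
theorem Data.not_trivial_mod (h : Data s C f y c) {R : Subgroup M} (hp : IsPGroup s R) (hyR : y ∈ R)
    (hc : c ∈ normalizer (R : Set M))
    (htriv : ∀ x : R, x⁻¹ * R.normalizerMonoidHom ⟨c, hc⟩ x ∈ frattini R) : False := by
  obtain ⟨k, -, hks, hck⟩ := h.normalizer_pow hc
  have h1 := eq_one_of_trivial_mod_frattini hp hks
    (σ := R.normalizerMonoidHom ⟨c, hc⟩) (by rw [← map_pow, hck, map_one]) htriv
  have h2 : c * y * c⁻¹ = y :=
    congrArg (Subtype.val : R → M) (DFunLike.congr_fun h1 (⟨y, hyR⟩ : R))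
  exact h.move (mul_inv_eq_iff_eq_mul.1 h2)

/-- **The end game.** -/
theorem Data.endgame (h : Data s C f y c) {W Q : Subgroup M} (hWn : W.Normal) (hWC : W ≤ C)
    (hWp : IsPGroup s W) (hfW : f ∉ W) (hQ : Q = W ⊔ zpowers f)
    (hsyl : ∀ R : Subgroup M, R ≤ C → IsPGroup s R → Q ≤ R → R = Q) :
    ∃ φ : C →* Multiplicative (ZMod s), φ ⟨f, h.mem_f⟩ ≠ 1 ∧
      ∀ m : M, φ ⟨m * f * m⁻¹, h.normal.conj_mem f h.mem_f m⟩ = φ ⟨f, h.mem_f⟩ := by
  classical
  haveI := hWn
  haveI := h.normal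
  have hfQ : f ∈ Q := hQ ▸ mem_sup_right (mem_zpowers f)
  have hWQ : W ≤ Q := hQ ▸ le_sup_left
  have hQC : Q ≤ C := hQ ▸ sup_le hWC (zpowers_le.2 h.mem_f)
  have hfp : IsPGroup s (zpowers f) := IsPGroup.of_card (n := 1) (by rw [Nat.card_zpowers, h.ord_f, pow_one])
  have hQp : IsPGroup s Q := hQ ▸ hWp.to_sup_of_normal_left hfp
  have hyQ : y ∈ Q := by
    have hy' : IsPGroup s (zpowers y) := IsPGroup.of_card (n := 1) (by rw [Nat.card_zpowers, h.ord_y, pow_one])
    have hnorm : zpowers y ≤ normalizer (Q : Set M) := by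
      refine zpowers_le.2 (centralizer_le_normalizer _ (mem_centralizer_iff.2 fun x hx => ?_))
      exact h.central x (hQC hx)
    have h1 := hsyl _ (sup_le hQC (zpowers_le.2 h.mem_y)) (hQp.to_sup_of_normal_left' hy' hnorm) le_sup_left
    exact h1 ▸ mem_sup_right (mem_zpowers y)
  have hcQ : c ∈ normalizer (Q : Set M) := by
    refine Coprime.mem_normalizer_of_forall fun x hx => ?_
    rw [hQ] at hx ⊢
    obtain ⟨w, hw, z, hz, rfl⟩ := (Subgroup.mem_sup_of_normal_left).1 hx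
    obtain ⟨i, rfl⟩ := mem_zpowers_iff.1 hz
    rw [← conj_mul, (h.comm_c.zpow_right i).eq, mul_inv_cancel_right]
    exact mul_mem (mem_sup_left (hWn.conj_mem w hw c)) (mem_sup_right (zpow_mem (mem_zpowers f) i))
  set f' : ↥Q := ⟨f, hfQ⟩ with hf'
  set W' : Subgroup ↥Q := W.subgroupOf Q with hW'
  haveI : W'.Normal := hWn.subgroupOf Q
  -- `Q/W` has order `s`
  have hcov : ∀ x : ↥Q, ∃ i : ℤ, x * (f' ^ i)⁻¹ ∈ W' := by
    rintro ⟨x, hx⟩
    rw [hQ] at hx
    obtain ⟨w, hw, z, hz, rfl⟩ := (Subgroup.mem_sup_of_normal_left).1 hx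
    obtain ⟨i, rfl⟩ := mem_zpowers_iff.1 hz
    refine ⟨i, ?_⟩
    rw [hW', Subgroup.mem_subgroupOf]
    simp [hf', mul_assoc, hw]
  have hWidx : W'.index = s := by
    have hcyc : Nat.card (↥Q ⧸ W') = orderOf (f' : ↥Q ⧸ W') := by
      rw [← Nat.card_zpowers]
      refine (Nat.card_congr (Equiv.subtypeUnivEquiv fun q => ?_)).symm
      induction q using QuotientGroup.induction_on with | _ x => ?_
      obtain ⟨i, hi⟩ := hcov x
      exact mem_zpowers_iff.2 ⟨i, by
        rw [← QuotientGroup.mk_zpow, eq_comm, QuotientGroup.eq_iff_div_mem, div_eq_mul_inv]; exact hi⟩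
    rw [index_eq_card, hcyc]
    refine orderOf_eq_prime ?_ fun e => hfW (Subgroup.mem_subgroupOf.1 ((QuotientGroup.eq_one_iff f').1 e))
    rw [← QuotientGroup.mk_pow, show f' ^ s = 1 from Subtype.ext (by
      simp [hf', orderOf_dvd_iff_pow_eq_one.1 h.ord_f.dvd])]
    rfl
  have hcw : _root_.commutator ↥Q ≤ W' := by
    rw [_root_.commutator_def, Subgroup.commutator_le]
    intro a _ b _
    obtain ⟨i, hi⟩ := hcov a
    obtain ⟨k, hk⟩ := hcov b
    rw [← QuotientGroup.eq_one_iff] at hi hk ⊢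
    rw [QuotientGroup.mk_mul, mul_eq_one_iff_eq_inv, QuotientGroup.mk_inv, inv_inv, QuotientGroup.mk_zpow] at hi hk
    rw [commutatorElement_def]
    simp only [QuotientGroup.mk_mul, QuotientGroup.mk_inv, hi, hk]
    group
  have hd := h.derived hQC hQp hfQ hyQ (j := 1) h.f_pow_one
  -- the plane `Q/Q'`
  set π : ↥Q →* Abelianization ↥Q := Abelianization.of with hπ
  have hker : ∀ x, π x = 1 ↔ x ∈ _root_.commutator ↥Q := fun x => by
    rw [hπ, ← MonoidHom.mem_ker, Abelianization.ker_of]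
  have hVcard : Nat.card (Abelianization ↥Q) = s ^ 2 := by
    rw [← hd.1, index_eq_card]; rfl
  have hsW : ∀ x ∈ W', x ^ s ∈ _root_.commutator ↥Q := by
    intro x hx
    have h1 := Subgroup.relIndex_mul_index hcw
    rw [hd.1, hWidx, pow_two] at h1
    have h2 : (_root_.commutator ↥Q).relIndex W' = s := Nat.eq_of_mul_eq_mul_right hs.out.pos h1
    have h3 := ((_root_.commutator ↥Q).subgroupOf W').pow_index_mem ⟨x, hx⟩
    rw [Subgroup.mem_subgroupOf] at h3
    simpa [Subgroup.relIndex] using h2 ▸ h3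
  have hexp : ∀ v : Abelianization ↥Q, v ^ s = 1 := by
    intro v
    obtain ⟨x, rfl⟩ : ∃ x, π x = v := by
      induction v using QuotientGroup.induction_on with | _ x => exact ⟨x, rfl⟩
    obtain ⟨i, hi⟩ := hcov x
    have h1 := (hker _).2 (hsW _ hi)
    rw [map_pow, map_mul, mul_pow, map_inv, map_zpow, inv_pow, ← zpow_natCast (π f' ^ i),
      ← zpow_mul, mul_comm i, zpow_mul, zpow_natCast, ← map_pow π f',
      show f' ^ s = 1 from Subtype.ext (by simp [hf', orderOf_dvd_iff_pow_eq_one.1 h.ord_f.dvd]),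
      map_one, one_zpow, inv_one, mul_one] at h1
    exact h1
  -- the line `W/Q'`
  obtain ⟨w₀, hw₀W, hw₀⟩ : ∃ x ∈ W', x ∉ _root_.commutator ↥Q := by
    by_contra hall
    push Not at hall
    have h1 : W' = _root_.commutator ↥Q := le_antisymm hall hcw
    rw [← h1, hWidx] at hd
    nlinarith [hs.out.two_le, hd.1]
  set w := π w₀
  have hline : ∀ x ∈ W', π x ∈ zpowers w := by
    intro x hx
    have hle : zpowers w ≤ W'.map π := zpowers_le.2 ⟨w₀, hw₀W, rfl⟩
    have hcard : Nat.card (W'.map π) ≤ Nat.card (zpowers w) := by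
      rw [Nat.card_zpowers, orderOf_eq_prime (hexp w) fun e => hw₀ ((hker _).1 e)]
      refine Nat.le_of_dvd hs.out.pos ?_
      have h1 := Subgroup.card_mul_index (W'.map π)
      rw [Subgroup.index_map, show π.range = ⊤ from MonoidHom.range_eq_top.2 (by
        intro v; induction v using QuotientGroup.induction_on with | _ x => exact ⟨x, rfl⟩),
        Subgroup.index_top, mul_one, hπ, Abelianization.ker_of, sup_eq_left.2 hcw, hWidx, hVcard, pow_two] at h1
      exact dvd_of_eq (Nat.eq_of_mul_eq_mul_right hs.out.pos h1)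
    rw [Subgroup.eq_of_le_of_card_ge hle hcard]
    exact ⟨x, hx, rfl⟩
  have hπf : π f' ≠ 1 := fun e => by
    have := (hker _).1 e
    rw [show f' = (⟨f, hfQ⟩ : ↥Q) ^ 1 by rw [pow_one]] at this
    exact hd.2.1 this
  have hwf : w ∉ zpowers (π f') := by
    intro hm
    obtain ⟨i, hi⟩ := mem_powers_iff_mem_zpowers.2 hm
    simp only at hi
    have h1 : (f' ^ i)⁻¹ * w₀ ∈ W' := hcw ((hker _).1 (by
      rw [map_mul, map_inv, map_pow, hi, inv_mul_cancel]))
    have h2 : f' ^ i ∈ W' := by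
      have := mul_mem hw₀W (inv_mem h1)
      rwa [mul_inv_rev, inv_inv, mul_inv_cancel_left] at this
    have hsi : s ∣ i := by
      rw [← QuotientGroup.eq_one_iff, QuotientGroup.mk_pow, ← orderOf_dvd_iff_pow_eq_one] at h2
      rwa [orderOf_eq_prime (p := s) ?_ ?_] at h2
      · rw [← QuotientGroup.mk_pow, QuotientGroup.eq_one_iff]
        exact hWidx ▸ W'.pow_index_mem f'
      · exact fun e => hfW (Subgroup.mem_subgroupOf.1 ((QuotientGroup.eq_one_iff f').1 e))
    obtain ⟨t, rfl⟩ := hsi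
    rw [pow_mul, hexp, one_pow] at hi
    exact hw₀ ((hker _).1 hi.symm)
  obtain ⟨ρ, hρ⟩ := Plane.exists_pair_rep hVcard hexp hπf hwf
  -- the normaliser
  set N := normalizer (Q : Set M)
  set α : N →* MulAut (Abelianization ↥Q) := (quotAut (_root_.commutator ↥Q)).comp Q.normalizerMonoidHom
  have hα : ∀ (n : N) (x : ↥Q), α n (π x) = π (Q.normalizerMonoidHom n x) := fun n x => rfl
  have hαw : ∀ n : N, α n w ∈ zpowers w := fun n => by
    rw [hα]
    refine hline _ ?_
    rw [hW', Subgroup.mem_subgroupOf]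
    exact hWn.conj_mem _ (Subgroup.mem_subgroupOf.1 hw₀W) (n : M)
  obtain ⟨k, hk, hks, hck⟩ := h.normalizer_pow hcQ
  set c' : N := ⟨c, hcQ⟩
  have hcf : α c' (π f') = π f' := by
    rw [hα]; congr 1
    exact Subtype.ext (mul_inv_eq_iff_eq_mul.2 h.comm_c.eq : c * f * c⁻¹ = f)
  have hc1 : α c' ≠ 1 := by
    intro e
    refine h.not_trivial_mod hQp hyQ hcQ fun x => commutator_le_frattini hQp ((hker _).1 ?_)
    rw [map_mul, map_inv, ← hα, e, MulAut.one_apply, inv_mul_cancel]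
  have hmov : Plane.IsMover (ρ (α c')) := Plane.isMover_of h.ne_two hρ hk
    (by rw [← map_pow, hck, map_one]) hc1 hcf ((hρ.w_mem_iff hexp _).2 (hαw c'))
  set A := (ρ.comp α).range
  haveI : Finite A := Finite.of_surjective _ (ρ.comp α).rangeRestrict_surjective
  have htriv : ∀ n : N, (n : M) ∈ Q → α n = 1 := by
    intro n hn
    refine MulEquiv.ext fun v => ?_
    obtain ⟨x, rfl⟩ : ∃ x, π x = v := by
      induction v using QuotientGroup.induction_on with | _ x => exact ⟨x, rfl⟩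
    rw [hα, MulAut.one_apply,
      show Q.normalizerMonoidHom n x = (⟨n, hn⟩ : ↥Q) * x * (⟨n, hn⟩ : ↥Q)⁻¹ from Subtype.ext rfl,
      map_mul, map_mul, map_inv, mul_comm (π ⟨n, hn⟩), mul_inv_cancel_right]
  have hA : ¬ s ∣ Nat.card A := by
    intro hd'
    obtain ⟨z, hz⟩ := exists_prime_orderOf_dvd_card' (G := A) s hd'
    obtain ⟨x, hx, e, he⟩ := HallHigman.exists_pElement_preimage _ (ρ.comp α).rangeRestrict_surjective
      (x := z) ⟨1, by rw [pow_one]; exact orderOf_dvd_iff_pow_eq_one.1 hz.dvd⟩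
    have hxM : (x : M) ^ s ^ e = 1 := by simpa using congrArg (Subtype.val : N → M) he
    have hxC : (x : M) ∈ C := by
      rw [← QuotientGroup.eq_one_iff, ← orderOf_eq_one_iff]
      refine Nat.eq_one_of_dvd_coprimes
        (((Nat.Prime.coprime_iff_not_dvd hs.out).2 h.idx).pow_left e) ?_ ?_
      · exact orderOf_dvd_of_pow_eq_one (by rw [← QuotientGroup.mk_pow, hxM]; rfl)
      · exact (_root_.orderOf_dvd_natCard _).trans (by rw [index_eq_card])
    have hxp : IsPGroup s (zpowers (x : M)) := by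
      obtain ⟨l, -, hl⟩ := (Nat.dvd_prime_pow hs.out).1 (orderOf_dvd_of_pow_eq_one hxM)
      exact IsPGroup.of_card (n := l) (by rw [Nat.card_zpowers, hl])
    have hQx := hsyl _ (sup_le hQC (zpowers_le.2 hxC))
      (hQp.to_sup_of_normal_left' hxp (zpowers_le.2 x.2)) le_sup_left
    have hxQ : (x : M) ∈ Q := hQx ▸ mem_sup_right (mem_zpowers _)
    have : z = 1 := by
      rw [← hx]; exact Subtype.ext (by simp [htriv x hxQ])
    rw [this, orderOf_one] at hz
    exact hs.out.one_lt.ne hz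
  have hfix : ∀ n ∈ N, n * f * n⁻¹ * f⁻¹ ∈ W := by
    intro n hn
    set n' : N := ⟨n, hn⟩
    have h01 : (ρ (α n')) 0 1 = 0 := (hρ.w_mem_iff hexp _).2 (hαw n')
    have hmem : ρ (α n') * ρ (α c') * (ρ (α n'))⁻¹ * (ρ (α c'))⁻¹ ∈ A := ⟨n' * c' * n'⁻¹ * c'⁻¹, by simp⟩
    obtain ⟨-, h10⟩ := Plane.diag_of_sprime hA hmov hmem (Or.inl h01)
    obtain ⟨j, hj⟩ := mem_powers_iff_mem_zpowers.2 ((hρ.f_mem_iff hexp _).1 h10)
    simp only at hj
    obtain ⟨r, hr⟩ := h.fix_of_line hQC hQp hfQ hyQ hn (j := j) ((hker _).1 (by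
      rw [map_mul, map_inv, map_pow, ← hα, hj, inv_mul_cancel]))
    rw [hr]
    have h1 : ⁅r, f'⁆ ∈ W' := hcw (by rw [_root_.commutator_def]; exact commutator_mem_commutator (mem_top _) (mem_top _))
    rw [hW', Subgroup.mem_subgroupOf] at h1
    simpa [commutatorElement_def, hf'] using h1
  -- transfer in `C/W`
  set WC := W.subgroupOf C
  haveI : WC.Normal := hWn.subgroupOf C
  obtain ⟨S, hS⟩ := (show IsPGroup s (Q.subgroupOf C) from
    hQp.of_equiv (subgroupOfEquivOfLe hQC).symm).exists_le_sylow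
  have hSQ : (S : Subgroup C).map C.subtype = Q := by
    refine hsyl _ (map_subtype_le _) (S.2.map _) fun x hx => ⟨⟨x, hQC hx⟩, hS hx, rfl⟩
  set P := S.mapSurjective (QuotientGroup.mk'_surjective WC)
  set g : C ⧸ WC := QuotientGroup.mk' WC ⟨f, h.mem_f⟩
  have hg1 : g ≠ 1 := fun e => hfW (Subgroup.mem_subgroupOf.1 ((QuotientGroup.eq_one_iff _).1 e))
  have hgs : g ^ s = 1 := by
    rw [← map_pow, show (⟨f, h.mem_f⟩ : C) ^ s = 1 from Subtype.ext (by
      simp [orderOf_dvd_iff_pow_eq_one.1 h.ord_f.dvd]), map_one]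
  have hPeq : (P : Subgroup (C ⧸ WC)) = zpowers g := by
    show (S : Subgroup C).map _ = _
    refine le_antisymm ?_ (zpowers_le.2 ⟨⟨f, h.mem_f⟩, hS hfQ, rfl⟩)
    rintro _ ⟨x, hx, rfl⟩
    have hxQ : (x : M) ∈ Q := hSQ ▸ ⟨x, hx, rfl⟩
    rw [hQ] at hxQ
    obtain ⟨w', hw', z, hz, hwz⟩ := (Subgroup.mem_sup_of_normal_left).1 hxQ
    obtain ⟨i, rfl⟩ := mem_zpowers_iff.1 hz
    refine mem_zpowers_iff.2 ⟨i, ?_⟩
    rw [← map_zpow, QuotientGroup.mk'_eq_mk']
    refine ⟨(⟨f, h.mem_f⟩ : C)⁻¹ ^ i * x, ?_, by rw [inv_zpow, mul_inv_cancel_left]⟩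
    rw [Subgroup.mem_subgroupOf]
    have := hWn.conj_mem w' hw' (f ^ i)⁻¹
    simpa [← hwz, mul_assoc] using this
  have hPc : normalizer (P : Set (C ⧸ WC)) ≤ centralizer (P : Set (C ⧸ WC)) := by
    intro q hq
    obtain ⟨x, rfl⟩ := QuotientGroup.mk'_surjective WC q
    have hxN : (x : M) ∈ normalizer (Q : Set M) := by
      refine Coprime.mem_normalizer_of_forall fun z hz => ?_
      rw [hQ] at hz ⊢
      obtain ⟨w', hw', v, hv, rfl⟩ := (Subgroup.mem_sup_of_normal_left).1 hz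
      rw [← conj_mul]
      refine mul_mem (mem_sup_left (hWn.conj_mem w' hw' x)) ?_
      obtain ⟨i, rfl⟩ := mem_zpowers_iff.1 hv
      rw [← conj_zpow]
      refine zpow_mem ?_ i
      have h1 : QuotientGroup.mk' WC x * g * (QuotientGroup.mk' WC x)⁻¹ ∈ zpowers g :=
        hPeq ▸ (mem_normalizer_iff.1 hq g).1 (by show g ∈ (P : Subgroup (C ⧸ WC)); rw [hPeq]; exact mem_zpowers g)
      obtain ⟨k', hk'⟩ := mem_zpowers_iff.1 h1
      rw [← map_zpow, ← map_inv, ← map_mul, ← map_mul, QuotientGroup.mk'_eq_mk'] at hk'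
      obtain ⟨z', hz', hzz⟩ := hk'
      have : (x : M) * f * (x : M)⁻¹ = f ^ k' * z' := by simpa using (congrArg Subtype.val hzz).symm
      rw [this]
      exact mul_mem (mem_sup_right (zpow_mem (mem_zpowers f) k')) (mem_sup_left hz')
    have hcom : Commute (QuotientGroup.mk' WC x) g := by
      rw [← commutatorElement_eq_one_iff_commute, ← map_commutatorElement, QuotientGroup.mk'_apply,
        QuotientGroup.eq_one_iff, Subgroup.mem_subgroupOf]
      simpa [commutatorElement_def] using hfix x hxN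
    refine mem_centralizer_iff.2 fun z hz => ?_
    obtain ⟨i, rfl⟩ := mem_zpowers_iff.1 (hPeq ▸ hz : z ∈ zpowers g)
    exact (hcom.zpow_right i).symm.eq
  set τ := MonoidHom.transferSylow P hPc
  have hPcard : Nat.card (P : Subgroup (C ⧸ WC)) = s := by
    rw [hPeq, Nat.card_zpowers, orderOf_eq_prime hgs hg1]
  let e : (P : Subgroup (C ⧸ WC)) ≃* Multiplicative (ZMod s) :=
    mulEquivOfPrimeCardEq (p := s) hPcard (by simp [Nat.card_zmod])
  set φ := e.toMonoidHom.comp (τ.comp (QuotientGroup.mk' WC))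
  have hφW : ∀ z : C, (z : M) ∈ W → φ z = 1 := fun z hz => by
    simp [φ, (QuotientGroup.eq_one_iff z).2 (show z ∈ WC from Subgroup.mem_subgroupOf.2 hz)]
  refine ⟨φ, ?_, fun m => ?_⟩
  · intro h1
    have h2 : τ g = 1 := e.injective (by rw [map_one]; exact h1)
    rw [MonoidHom.transferSylow_eq_pow P hPc g
      (show g ∈ (P : Subgroup (C ⧸ WC)) by rw [hPeq]; exact mem_zpowers g)] at h2
    have h3 : g ^ (P : Subgroup (C ⧸ WC)).index = 1 := congrArg Subtype.val h2
    have h4 := orderOf_dvd_of_pow_eq_one h3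
    rw [orderOf_eq_prime hgs hg1] at h4
    exact P.not_dvd_index h4
  · have hF : m ∈ C ⊔ normalizer (Q : Set M) := by
      rw [sup_comm, ← hSQ, Sylow.normalizer_sup_eq_top]
      exact mem_top m
    obtain ⟨a, ha, n, hn, rfl⟩ := (Subgroup.mem_sup_of_normal_left).1 hF
    have hw := hfix n hn
    have e1 : (⟨a * n * f * (a * n)⁻¹, h.normal.conj_mem f h.mem_f _⟩ : C) =
        ⟨a, ha⟩ * (⟨n * f * n⁻¹ * f⁻¹, hWC hw⟩ * ⟨f, h.mem_f⟩) * ⟨a, ha⟩⁻¹ := Subtype.ext (by
      simp [mul_assoc])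
    rw [e1, map_mul, map_mul, map_mul, map_inv, hφW ⟨n * f * n⁻¹ * f⁻¹, hWC hw⟩ hw, one_mul,
      mul_comm (φ ⟨a, ha⟩), mul_inv_cancel_right]

end Cfsg.Agent.AbelianSylow.Field
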