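import Cfsg.Agent.EqLemmas
import Cfsg.Agent.Lib.AbelianSylow.Cent.FieldCore
import Cfsg.Agent.Lib.OddOrderTheorem.Basic
import Cfsg.Agent.Lib.BurnsideBasis.Basic

/-!
# No field automorphism: the transfer character, both cases (owner: helper80)

* `Data.exists_hom_reduced` : the character when `O_{s'}(C) = 1`: `F = O_s(C)` contains `f` and is the Sylow
  subgroup, or has index `s` in it.
-/

set_option autoImplicit false
set_option linter.style.haveILetI false

namespace Cfsg.Agent.AbelianSylow.Field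

open Subgroup
open scoped commutatorElement

universe u

variable {s : ℕ} [hs : Fact s.Prime] {M : Type u} [Group M] [Finite M] {C : Subgroup M} {f y c : M}

/-- `O_s(C)` in `M`. -/
def coreIn (s : ℕ) (C : Subgroup M) : Subgroup M := (Cfsg.pCore s C).map C.subtype

theorem coreIn_le : coreIn s C ≤ C := map_subtype_le _

theorem coreIn_isPGroup : IsPGroup s (coreIn s C) := (Cores.isPGroup_pCore s C).map _

theorem coreIn_normal (hC : C.Normal) : (coreIn s C).Normal := by
  haveI := hC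
  haveI : (Cfsg.pCore s C).Characteristic := by
    rw [characteristic_iff_map_le]
    intro e
    exact Cores.map_pCore_le e.toMonoidHom e.surjective s
  rw [← normalizer_eq_top_iff, eq_top_iff]
  have h1 := Cores.normalizer_le_normalizer_map (H := C) (Cfsg.pCore s C)
  rwa [normalizer_eq_top] at h1

theorem le_coreIn {N : Subgroup M} (hN : N.Normal) (hNC : N ≤ C) (hp : IsPGroup s N) : N ≤ coreIn s C := by
  intro x hx
  have h1 : N.subgroupOf C ≤ Cfsg.pCore s C :=
    Cores.le_pCore (hN.subgroupOf C) (hp.of_equiv (subgroupOfEquivOfLe hNC).symm)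
  exact ⟨⟨x, hNC hx⟩, h1 hx, rfl⟩

theorem mem_coreIn_of_commute (h : Data s C f y c) (hO : Cfsg.pPrimeCore s C = ⊥) {x : M} (hx : x ∈ C)
    (hc : ∀ v ∈ coreIn s C, Commute x v) : x ∈ coreIn s C := by
  haveI : Group.IsSolvable C := OddOrderTheorem.solvable h.odd
  refine ⟨⟨x, hx⟩, Solvable.centralizer_pCore_le_of_isSolvable hO (mem_centralizer_iff.2 fun v hv => ?_), rfl⟩
  exact Subtype.ext (hc v ⟨v, hv, rfl⟩).symm.eq

/-- Conjugation on the normal subgroup `O_s(C)`. -/
theorem mem_coreIn_of_trivial (h : Data s C f y c) (hO : Cfsg.pPrimeCore s C = ⊥)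
    [hFn : (coreIn s C).Normal] {a : M} (ha : a ∈ C)
    (htriv : quotAut (frattini (coreIn s C)) (MulAut.conjNormal a) = 1) : a ∈ coreIn s C := by
  classical
  haveI := h.normal
  set α : M →* MulAut (coreIn s C ⧸ frattini (coreIn s C)) :=
    (quotAut (frattini (coreIn s C))).comp MulAut.conjNormal
  set K := C ⊓ α.ker with hK
  suffices hKp : IsPGroup s K from le_coreIn (inferInstance : K.Normal) inf_le_left hKp ⟨ha, htriv⟩
  refine IsPGroup.of_card (Nat.eq_prime_pow_of_unique_prime_dvd Nat.card_pos.ne' fun {q} hq hqd => ?_)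
  · haveI : Fact q.Prime := ⟨hq⟩
    by_contra hne
    obtain ⟨⟨z, hzC, hzk⟩, hz⟩ := exists_prime_orderOf_dvd_card' (G := K) q hqd
    rw [← Subgroup.orderOf_coe] at hz
    change orderOf z = q at hz
    have hσ : MulAut.conjNormal (H := coreIn s C) z = 1 := by
      refine eq_one_of_trivial_mod_frattini coreIn_isPGroup (k := q)
        (fun hd => hne ((Nat.prime_dvd_prime_iff_eq hs.out hq).1 hd).symm)
        (by rw [← map_pow, orderOf_dvd_iff_pow_eq_one.1 hz.dvd, map_one]) fun x => ?_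
      have h1 : α z (x : coreIn s C ⧸ frattini (coreIn s C)) = (x : coreIn s C ⧸ frattini (coreIn s C)) := by
        rw [show α z = 1 from hzk]; rfl
      exact QuotientGroup.eq.1 h1.symm
    have hzF : z ∈ coreIn s C := mem_coreIn_of_commute h hO hzC fun v hv => by
      have h1 : z * v * z⁻¹ = v := by
        simpa using congrArg (Subtype.val : coreIn s C → M) (DFunLike.congr_fun hσ (⟨v, hv⟩ : coreIn s C))
      exact mul_inv_eq_iff_eq_mul.1 h1
    obtain ⟨k, hk⟩ := coreIn_isPGroup (s := s) (C := C) ⟨z, hzF⟩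
    have h2 : q ∣ s ^ k := hz ▸ orderOf_dvd_of_pow_eq_one (congrArg Subtype.val hk)
    exact hne ((Nat.prime_dvd_prime_iff_eq hq hs.out).1 (hq.dvd_of_dvd_pow h2))

/-- An endomorphism `x ↦ f x / x`. -/
def divHom {V : Type u} [CommGroup V] (a : MulAut V) : V →* V where
  toFun x := a x / x
  map_one' := by simp
  map_mul' x z := by rw [map_mul]; exact (div_mul_div_comm _ _ _ _).symm

/-- A map of order prime to `s` commuting with one of `s`-power order with a single fixed line is a power map. -/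
theorem exists_scalar {V : Type u} [CommGroup V] [Finite V] (hexp : ∀ x : V, x ^ s = 1) (hV1 : Nontrivial V)
    {φ γ₀ : MulAut V} (hcomm : Commute φ γ₀) (hφ : ∃ e, φ ^ s ^ e = 1)
    (hker : Nat.card (divHom φ).ker ≤ s) {k : ℕ} (hks : ¬ s ∣ k) (hγ : γ₀ ^ k = 1) :
    ∃ j : ℕ, ∀ x : V, γ₀ x = x ^ j := by
  classical
  have hVs : IsPGroup s V := fun x => ⟨1, by rw [pow_one]; exact hexp x⟩
  -- `φ` fixes a nontrivial element
  obtain ⟨v, hv, hv1⟩ : ∃ v : V, φ v = v ∧ v ≠ 1 := by
    obtain ⟨e, he⟩ := hφ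
    have hp : IsPGroup s (Subgroup.zpowers φ) := by
      obtain ⟨l, -, hl⟩ := (Nat.dvd_prime_pow hs.out).1 (orderOf_dvd_of_pow_eq_one he)
      exact IsPGroup.of_card (n := l) (by rw [Nat.card_zpowers, hl])
    have hd : s ∣ Nat.card V := by
      obtain ⟨n, hn⟩ := IsPGroup.iff_card.1 hVs
      rcases n with _ | n
      · rw [pow_zero] at hn; exact absurd hn (Finite.one_lt_card (α := V)).ne'
      · exact hn ▸ dvd_pow_self s n.succ_ne_zero
    obtain ⟨b, hb, hb1⟩ := hp.exists_fixed_point_of_prime_dvd_card_of_fixed_point V hd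
      (a := 1) (fun σ => map_one (σ : MulAut V))
    exact ⟨b, hb ⟨φ, Subgroup.mem_zpowers φ⟩, hb1.symm⟩
  have hvk : v ∈ (divHom φ).ker := MonoidHom.mem_ker.2 (by simp [divHom, hv])
  have hvo : orderOf v = s := orderOf_eq_prime (hexp v) hv1
  have hkerv : ∀ x : V, φ x = x → x ∈ zpowers v := by
    intro x hx
    rw [Subgroup.eq_of_le_of_card_ge (zpowers_le.2 hvk) (hker.trans (by rw [Nat.card_zpowers, hvo]))]
    exact MonoidHom.mem_ker.2 (by simp [divHom, hx])
  obtain ⟨j, hj⟩ : ∃ j : ℕ, γ₀ v = v ^ j := by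
    obtain ⟨j, hj⟩ := mem_powers_iff_mem_zpowers.2 (hkerv (γ₀ v) (by
      rw [← MulAut.mul_apply, hcomm.eq, MulAut.mul_apply, hv]))
    exact ⟨j, hj.symm⟩
  have hjs : ¬ s ∣ j := by
    rintro ⟨t, rfl⟩
    rw [pow_mul, orderOf_dvd_iff_pow_eq_one.1 hvo.dvd, one_pow, map_eq_one_iff γ₀ γ₀.injective] at hj
    exact hv1 hj
  -- the inverse exponent
  obtain ⟨j', hj'⟩ : ∃ j' : ℕ, j * j' ≡ 1 [MOD s] := by
    obtain ⟨j', -, hj'⟩ := Nat.exists_mul_mod_eq_one_of_coprime
      ((Nat.Prime.coprime_iff_not_dvd hs.out).2 hjs).symm hs.out.one_lt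
    exact ⟨j', by rw [Nat.ModEq, hj', Nat.mod_eq_of_lt hs.out.one_lt]⟩
  have hinv : ∀ x : V, (x ^ j) ^ j' = x := fun x => by
    rw [← pow_mul]
    conv_rhs => rw [← pow_one x]
    exact pow_eq_pow_iff_modEq.2 (hj'.of_dvd (orderOf_dvd_of_pow_eq_one (hexp x)))
  let γ : V →* V := (powMonoidHom j').comp γ₀.toMonoidHom
  have hγv : γ v = v := by simp [γ, hj, hinv]
  have hit : ∀ n : ℕ, ∀ x : V, γ^[n] x = ((γ₀ ^ n) x) ^ (j' ^ n) := by
    intro n
    induction n with
    | zero => intro x; simp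
    | succ n ih =>
      intro x
      rw [Function.iterate_succ_apply', ih, pow_succ' γ₀, MulAut.mul_apply]
      simp [γ, ← pow_mul, pow_succ', mul_comm]
  have hvn : ∀ n : ℕ, γ^[n] v = v := fun n => Function.iterate_fixed hγv n
  -- `γ` fixes `v`, so `j' ^ (k * s ^ e)` is `1` modulo the exponent after enough iterations
  have hjk : j' ^ k ≡ 1 [MOD s] := by
    have h1 := hit k v
    rw [hvn, hγ, MulAut.one_apply] at h1
    have h2 : v ^ 1 = v ^ (j' ^ k) := by rw [pow_one]; exact h1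
    exact (hvo ▸ pow_eq_pow_iff_modEq.1 h2).symm
  set n₀ := k with hn₀
  have hγn : ∀ x : V, γ^[n₀] x = x := by
    intro x
    rw [hit, hn₀, hγ, MulAut.one_apply]
    conv_rhs => rw [← pow_one x]
    exact pow_eq_pow_iff_modEq.2 (hjk.of_dvd (orderOf_dvd_of_pow_eq_one (hexp x)))
  -- the average
  let Ψ : V →* V :=
    { toFun := fun x => ∏ i ∈ Finset.range n₀, γ^[i] x
      map_one' := Finset.prod_eq_one fun i _ => Function.iterate_fixed (map_one γ) i
      map_mul' := fun x z => by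
        rw [← Finset.prod_mul_distrib]
        exact Finset.prod_congr rfl fun i _ => iterate_map_mul γ i x z }
  have hφγ : ∀ i : ℕ, ∀ x : V, φ (γ^[i] x) = γ^[i] (φ x) := by
    intro i x
    induction i with
    | zero => rfl
    | succ i ih =>
      rw [Function.iterate_succ_apply', Function.iterate_succ_apply', ← ih]
      simp only [γ, MonoidHom.comp_apply, powMonoidHom_apply, MulEquiv.coe_toMonoidHom, map_pow]
      rw [← MulAut.mul_apply, hcomm.eq, MulAut.mul_apply]
  have hΨv : Ψ v ≠ 1 := by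
    have : Ψ v = v ^ n₀ := by simp [Ψ, hvn]
    rw [this, Ne, ← orderOf_dvd_iff_pow_eq_one, hvo, hn₀]
    exact hks
  have hinj : Function.Injective Ψ := by
    rw [← MonoidHom.ker_eq_bot_iff]
    by_contra hne
    obtain ⟨e', he'⟩ := hφ
    have hp : IsPGroup s (Subgroup.zpowers φ) := by
      obtain ⟨l, -, hl⟩ := (Nat.dvd_prime_pow hs.out).1 (orderOf_dvd_of_pow_eq_one he')
      exact IsPGroup.of_card (n := l) (by rw [Nat.card_zpowers, hl])
    have hstab : ∀ σ ∈ Subgroup.zpowers φ, ∀ x ∈ Ψ.ker, σ x ∈ Ψ.ker := by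
      have hφk : ∀ x ∈ Ψ.ker, φ x ∈ Ψ.ker := fun x hx => MonoidHom.mem_ker.2 (by
        show ∏ i ∈ Finset.range n₀, γ^[i] (φ x) = 1
        rw [Finset.prod_congr rfl fun i _ => (hφγ i x).symm, ← map_prod]
        show φ (Ψ x) = 1
        rw [MonoidHom.mem_ker.1 hx, map_one])
      intro σ hσ x hx
      obtain ⟨n, rfl⟩ := mem_powers_iff_mem_zpowers.2 hσ
      clear hσ
      induction n with
      | zero => simpa using hx
      | succ n ih => simp only [pow_succ', MulAut.mul_apply] at ih ⊢; exact hφk _ ih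
    letI : MulAction (Subgroup.zpowers φ) Ψ.ker :=
      { smul := fun σ x => ⟨(σ : MulAut V) x, hstab σ σ.2 x x.2⟩
        one_smul := fun x => Subtype.ext rfl
        mul_smul := fun _ _ x => Subtype.ext rfl }
    have hd : s ∣ Nat.card Ψ.ker := by
      obtain ⟨n, hn⟩ := IsPGroup.iff_card.1 (hVs.to_subgroup Ψ.ker)
      rcases n with _ | n
      · exact absurd (Subgroup.card_eq_one.1 (by simpa using hn)) hne
      · exact hn ▸ dvd_pow_self s n.succ_ne_zero
    obtain ⟨b, hb, hb1⟩ := hp.exists_fixed_point_of_prime_dvd_card_of_fixed_point Ψ.ker hd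
      (a := 1) (fun σ => Subtype.ext (map_one (σ : MulAut V)))
    have hbv : (b : V) ∈ zpowers v := hkerv _ (congrArg Subtype.val (hb ⟨φ, Subgroup.mem_zpowers φ⟩))
    have hvb : v ∈ zpowers (b : V) := by
      have hle : zpowers (b : V) ≤ zpowers v := zpowers_le.2 hbv
      have hbo : orderOf (b : V) = s := by
        exact orderOf_eq_prime (hexp _) fun h1 => hb1 (Subtype.ext h1.symm)
      rw [Subgroup.eq_of_le_of_card_ge hle (by rw [Nat.card_zpowers, Nat.card_zpowers, hbo, hvo])]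
      exact mem_zpowers v
    exact hΨv (MonoidHom.mem_ker.1 ((zpowers_le.2 b.2 : zpowers (b : V) ≤ Ψ.ker) hvb))
  refine ⟨j, fun x => ?_⟩
  obtain ⟨z, rfl⟩ := (Finite.injective_iff_surjective.1 hinj) x
  have h1 : γ (Ψ z) = Ψ z := by
    show γ (∏ i ∈ Finset.range n₀, γ^[i] z) = ∏ i ∈ Finset.range n₀, γ^[i] z
    rw [map_prod]
    simp only [← Function.iterate_succ_apply']
    have h2 := Finset.prod_range_succ' (fun i => γ^[i] z) n₀
    rw [Finset.prod_range_succ, hγn, Function.iterate_zero_apply] at h2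
    exact (mul_right_cancel h2).symm
  have h2 : (γ₀ (Ψ z) ^ j') ^ j = Ψ z ^ j := by
    conv_rhs => rw [← h1]
    rfl
  rwa [← pow_mul, mul_comm, pow_mul, hinv] at h2

/-- A maximal `s`-subgroup of `C` over a given one. -/
theorem exists_sylow_in {R : Subgroup M} (hR : R ≤ C) (hp : IsPGroup s R) :
    ∃ Q : Subgroup M, R ≤ Q ∧ Q ≤ C ∧ IsPGroup s Q ∧
      ∀ S : Subgroup M, S ≤ C → IsPGroup s S → Q ≤ S → S = Q := by
  obtain ⟨S, hS⟩ := (show IsPGroup s (R.subgroupOf C) from
    hp.of_equiv (subgroupOfEquivOfLe hR).symm).exists_le_sylow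
  refine ⟨(S : Subgroup C).map C.subtype, fun x hx => ⟨⟨x, hR hx⟩, hS hx, rfl⟩, map_subtype_le _,
    S.2.map _, fun T hT hTp hle => le_antisymm (fun x hx => ?_) hle⟩
  have h1 : T.subgroupOf C = (S : Subgroup C) := S.is_maximal' (hTp.of_equiv (subgroupOfEquivOfLe hT).symm)
    fun z hz => hle ⟨z, hz, rfl⟩
  exact ⟨⟨x, hT hx⟩, h1 ▸ (hx : (⟨x, hT hx⟩ : C) ∈ T.subgroupOf C), rfl⟩

/-- **`f` outside `F = O_s(C)`.** -/
theorem Data.case_out (h : Data s C f y c) (hO : Cfsg.pPrimeCore s C = ⊥) (hfF : f ∉ coreIn s C) :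
    ∃ φ : C →* Multiplicative (ZMod s), φ ⟨f, h.mem_f⟩ ≠ 1 ∧
      ∀ m : M, φ ⟨m * f * m⁻¹, h.normal.conj_mem f h.mem_f m⟩ = φ ⟨f, h.mem_f⟩ := by
  classical
  set F := coreIn s C with hF
  haveI hFn : F.Normal := coreIn_normal h.normal
  have hFC : F ≤ C := coreIn_le
  have hFp : IsPGroup s F := coreIn_isPGroup
  have hyF : y ∈ F := mem_coreIn_of_commute h hO h.mem_y fun v hv => (h.central v (hFC hv)).symm
  have hfp : IsPGroup s (zpowers f) := IsPGroup.of_card (n := 1) (by rw [Nat.card_zpowers, h.ord_f, pow_one])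
  set E := F ⊔ zpowers f with hE
  have hEC : E ≤ C := sup_le hFC (zpowers_le.2 h.mem_f)
  have hEp : IsPGroup s E := hFp.to_sup_of_normal_left hfp
  -- `|C_F(f)| ≤ s`
  set Cf := centralizer ({f} : Set M) with hCf
  have hCF : Nat.card (F ⊓ Cf : Subgroup M) ≤ s := by
    have hb := h.bound E hEC hEp (mem_sup_right (mem_zpowers f))
    have hle : F ⊓ Cf ≤ E ⊓ Cf := inf_le_inf_right _ le_sup_left
    have hne : Nat.card (F ⊓ Cf : Subgroup M) ≠ Nat.card (E ⊓ Cf : Subgroup M) := fun e => hfF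
      ((Subgroup.eq_of_le_of_card_ge hle e.ge ▸
        (⟨mem_sup_right (mem_zpowers f), mem_centralizer_singleton_iff.2 rfl⟩ : f ∈ E ⊓ Cf) : f ∈ F ⊓ Cf)).1
    obtain ⟨a, ha⟩ := IsPGroup.iff_card.1 (hFp.to_le (inf_le_left : F ⊓ Cf ≤ F))
    obtain ⟨b, hb'⟩ := IsPGroup.iff_card.1 (hEp.to_le (inf_le_left : E ⊓ Cf ≤ E))
    have hlt : Nat.card (F ⊓ Cf : Subgroup M) < Nat.card (E ⊓ Cf : Subgroup M) :=
      lt_of_le_of_ne (Subgroup.card_le_of_le hle) hne
    rw [hb'] at hb
    rw [ha, hb'] at hlt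
    have hb2 := (Nat.pow_le_pow_iff_right hs.out.one_lt).1 hb
    have hab := (Nat.pow_lt_pow_iff_right hs.out.one_lt).1 hlt
    rw [ha]
    exact (Nat.pow_le_pow_right hs.out.pos (show a ≤ 1 by omega)).trans (pow_one s).le
  -- the Frattini quotient
  set Φ := frattini F
  let instC : CommGroup (F ⧸ Φ) :=
    { (inferInstance : Group (F ⧸ Φ)) with mul_comm := BurnsideBasis.quotient_mul_comm hFp }
  have hexp : ∀ x : F ⧸ Φ, x ^ s = 1 := fun x => by
    induction x using QuotientGroup.induction_on with | _ z => ?_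
    rw [← QuotientGroup.mk_pow, QuotientGroup.eq_one_iff]
    exact PGroup.pow_mem_frattini hFp z
  have hV1 : Nontrivial (F ⧸ Φ) := by
    rw [← Finite.one_lt_card_iff_nontrivial, ← index_eq_card]
    refine Φ.one_lt_index_of_ne_top fun e => ?_
    have h0 : (⊥ : Subgroup F) = ⊤ := frattini_nongenerating (by rw [bot_sup_eq]; exact e)
    have h1 : (⟨y, hyF⟩ : F) = 1 := Subgroup.mem_bot.1 (h0 ▸ Subgroup.mem_top _)
    have h2 := h.ord_y
    rw [show y = 1 from congrArg Subtype.val h1, orderOf_one] at h2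
    exact hs.out.one_lt.ne h2
  set α : M →* MulAut (F ⧸ Φ) := (quotAut Φ).comp MulAut.conjNormal with hα
  have hker : Nat.card (divHom (α f)).ker ≤ s := by
    set θ := divHom (α f)
    set U := θ.range.comap (QuotientGroup.mk' Φ) with hU
    set CT := Cf.subgroupOf F with hCT
    have hmem : ∀ q : F, MulAut.conjNormal f q * q⁻¹ ∈ U := fun q => by
      refine Subgroup.mem_comap.2 ⟨(q : F ⧸ Φ), ?_⟩
      rw [map_mul, map_inv, ← div_eq_mul_inv]
      rfl
    let g : F ⧸ CT → U := fun q => ⟨_, hmem q.out⟩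
    have hg : Function.Injective g := by
      intro a b hab
      refine a.out_eq'.symm.trans ((QuotientGroup.eq.2 ?_).trans b.out_eq')
      have h1 : (MulAut.conjNormal f a.out * a.out⁻¹ : F) = MulAut.conjNormal f b.out * b.out⁻¹ :=
        congrArg Subtype.val hab
      have h2 : f * (a.out : M) * f⁻¹ * (a.out : M)⁻¹ = f * (b.out : M) * f⁻¹ * (b.out : M)⁻¹ := by
        simpa using congrArg (Subtype.val : F → M) h1
      refine Subgroup.mem_subgroupOf.2 (mem_centralizer_singleton_iff.2 ?_)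
      have h3 : (a.out : M) * f⁻¹ * (a.out : M)⁻¹ = (b.out : M) * f⁻¹ * (b.out : M)⁻¹ := by
        apply mul_left_cancel (a := f)
        simpa [mul_assoc] using h2
      have h4 : Commute ((a.out : M)⁻¹ * b.out) f⁻¹ := by
        show (a.out : M)⁻¹ * b.out * f⁻¹ = f⁻¹ * ((a.out : M)⁻¹ * b.out)
        calc (a.out : M)⁻¹ * b.out * f⁻¹
            = (a.out : M)⁻¹ * ((b.out : M) * f⁻¹ * (b.out : M)⁻¹) * b.out := by group
          _ = (a.out : M)⁻¹ * ((a.out : M) * f⁻¹ * (a.out : M)⁻¹) * b.out := by rw [h3]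
          _ = f⁻¹ * ((a.out : M)⁻¹ * b.out) := by group
      simpa using h4.inv_right.eq
    have h1 : CT.index ≤ Nat.card U := by rw [index_eq_card]; exact Nat.card_le_card_of_injective g hg
    have h2 : Nat.card CT ≤ s := by
      refine le_trans (le_of_eq ?_) hCF
      rw [← Cores.card_map_subtype, hCT, subgroupOf_map_subtype, inf_comm]
    have hUc : Nat.card U = Nat.card θ.range * Nat.card Φ := by
      have e1 := U.card_mul_index
      rw [hU, index_comap_of_surjective _ (QuotientGroup.mk'_surjective Φ), ← hU] at e1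
      have e2 := Φ.card_mul_index
      have e3 := θ.range.card_mul_index
      rw [index_eq_card Φ, ← e3] at e2
      rw [← e2] at e1
      refine Nat.eq_of_mul_eq_mul_right (Nat.pos_of_ne_zero θ.range.index_ne_zero_of_finite) ?_
      rw [e1]; ring
    have h3 : Nat.card F ≤ s * (Nat.card θ.range * Nat.card Φ) := by
      rw [← CT.card_mul_index, ← hUc]; exact Nat.mul_le_mul h2 h1
    have e2 := Φ.card_mul_index
    have e4 := θ.ker.card_mul_index
    rw [Subgroup.index_ker, ← index_eq_card] at e4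
    rw [← e2, ← e4] at h3
    refine (Nat.mul_le_mul_left_iff (Nat.mul_pos (Nat.card_pos (α := Φ)) (Nat.card_pos (α := θ.range)))).1 ?_
    calc Nat.card Φ * Nat.card θ.range * Nat.card θ.ker
        = Nat.card Φ * (Nat.card θ.ker * Nat.card θ.range) := by ring
      _ ≤ s * (Nat.card θ.range * Nat.card Φ) := h3
      _ = Nat.card Φ * Nat.card θ.range * s := by ring
  obtain ⟨k, hk, hks, hck⟩ := h.pow_c
  obtain ⟨j, hj⟩ := exists_scalar hexp hV1 (φ := α f) (γ₀ := α c) (Commute.map h.comm_c.symm α)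
    ⟨1, by rw [pow_one, ← map_pow, orderOf_dvd_iff_pow_eq_one.1 h.ord_f.dvd, map_one]⟩ hker hks
    (by rw [← map_pow, hck, map_one])
  haveI := h.normal
  have hcF : ∀ a ∈ C, a * c * a⁻¹ * c⁻¹ ∈ F := by
    intro a ha
    refine mem_coreIn_of_trivial h hO ?_ (?_ : α (a * c * a⁻¹ * c⁻¹) = 1)
    · exact h.ab a
    · have hcm : α a * α c = α c * α a := MulEquiv.ext fun x => by
        rw [MulAut.mul_apply, MulAut.mul_apply, hj x, hj (α a x), map_pow]
      rw [map_mul, map_mul, map_mul, map_inv, map_inv, hcm, mul_inv_cancel_right, mul_inv_cancel]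
  obtain ⟨Q, hEQ, hQC, hQp, hQmax⟩ := exists_sylow_in hEC hEp
  have hFQ : F ≤ Q := le_sup_left.trans hEQ
  have hfQ : f ∈ Q := hEQ (mem_sup_right (mem_zpowers f))
  have hcQ : c ∈ normalizer (Q : Set M) := Coprime.mem_normalizer_of_forall fun q hq => by
    have h1 : (q * c * q⁻¹ * c⁻¹)⁻¹ * q ∈ Q := mul_mem (inv_mem (hFQ (hcF q (hQC hq)))) hq
    simpa [mul_assoc] using h1
  set Fq := F.subgroupOf Q with hFq
  haveI : Fq.Normal := hFn.subgroupOf Q
  set T' := _root_.commutator Q with hT'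
  have hd := h.derived hQC hQp hfQ (hFQ hyF) (j := 1) h.f_pow_one
  set X := Fq ⊔ T' with hX
  have hXtop : X ≠ ⊤ := fun e => by
    have h1 : Fq = ⊤ := frattini_nongenerating (top_le_iff.1 (e ▸ sup_le_sup_left (commutator_le_frattini hQp) _))
    exact hfF (Subgroup.mem_subgroupOf.1 (h1 ▸ Subgroup.mem_top (⟨f, hfQ⟩ : Q)))
  have hFqT : ¬ Fq ≤ T' := fun hle => by
    refine h.not_trivial_mod hQp (hFQ hyF) hcQ fun x => commutator_le_frattini hQp (hle ?_)
    rw [hFq, Subgroup.mem_subgroupOf]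
    have h1 := hcF _ (inv_mem (hQC x.2))
    simpa [nmh_coe, mul_assoc] using h1
  have hXs : X.index = s := by
    have h1 := Subgroup.relIndex_mul_index (le_sup_right : T' ≤ X)
    rw [hd.1] at h1
    obtain ⟨i, hi, hXi⟩ := (Nat.dvd_prime_pow hs.out).1 (Dvd.intro_left _ h1)
    interval_cases i
    · exact absurd (Subgroup.index_eq_one.1 (by rw [hXi, pow_zero])) hXtop
    · rw [hXi, pow_one]
    · exfalso
      have h2 : T'.relIndex X = 1 := by
        rw [hXi] at h1
        exact Nat.eq_of_mul_eq_mul_right (pow_pos hs.out.pos 2) (by rw [h1, one_mul])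
      exact hFqT ((le_sup_left : Fq ≤ X).trans (Subgroup.relIndex_eq_one.1 h2))
  have hTF : T' ≤ Fq := by
    have hidx : (_root_.commutator (Q ⧸ Fq)).index = s := by
      have h1 : T'.map (QuotientGroup.mk' Fq) = _root_.commutator (Q ⧸ Fq) := by
        rw [hT', _root_.commutator_def, _root_.commutator_def, Subgroup.map_commutator,
          Subgroup.map_top_of_surjective _ (QuotientGroup.mk'_surjective Fq)]
      rw [← h1, Subgroup.index_map, QuotientGroup.ker_mk', QuotientGroup.range_mk', index_top, mul_one,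
        sup_comm, ← hX, hXs]
    by_contra hne
    have h2 := PGroup.index_commutator_ge (hQp.to_quotient Fq) (fun e => hne fun x hx => by
      have hx' : (QuotientGroup.mk' Fq) x ∈ T'.map (QuotientGroup.mk' Fq) := mem_map_of_mem _ hx
      rw [hT', _root_.commutator_def, Subgroup.map_commutator,
        Subgroup.map_top_of_surjective _ (QuotientGroup.mk'_surjective Fq), ← _root_.commutator_def, e,
        Subgroup.mem_bot] at hx'
      exact (QuotientGroup.eq_one_iff x).1 hx')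
    rw [hidx] at h2
    nlinarith [hs.out.two_le]
  have hFs : Fq.index = s := by rw [← hXs, hX, sup_eq_left.2 hTF]
  have hQE : Q = F ⊔ zpowers f := by
    refine le_antisymm (fun x hx => ?_) hEQ
    have h1 := Subgroup.relIndex_mul_index (show Fq ≤ E.subgroupOf Q from fun z hz => (le_sup_left : F ≤ E) hz)
    rw [hFs] at h1
    rcases (Nat.dvd_prime hs.out).1 (Dvd.intro_left _ h1) with h2 | h2
    · exact (show (⟨x, hx⟩ : Q) ∈ E.subgroupOf Q from Subgroup.index_eq_one.1 h2 ▸ Subgroup.mem_top _)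
    · exfalso
      rw [h2] at h1
      have h3 : Fq.relIndex (E.subgroupOf Q) = 1 := Nat.eq_of_mul_eq_mul_right hs.out.pos (by rw [h1, one_mul])
      exact hfF (Subgroup.relIndex_eq_one.1 h3 (show (⟨f, hfQ⟩ : Q) ∈ E.subgroupOf Q from
        mem_sup_right (mem_zpowers f)))
  exact h.endgame hFn hFC hFp hfF hQE hQmax

/-- Coordinates. -/
theorem exists_coord {V : Type u} [CommGroup V] [Finite V] {f₀ w : V} {ρ : MulAut V →* GL (Fin 2) (ZMod s)}
    (hρ : Plane.Rep f₀ w ρ) (hcard : Nat.card V = s ^ 2) (v : V) :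
    ∃ i k : ZMod s, v = f₀ ^ i.val * w ^ k.val := by
  have hinj : Function.Injective (fun p : ZMod s × ZMod s => f₀ ^ p.1.val * w ^ p.2.val) := fun p q e =>
    Prod.ext (hρ.coord _ _ _ _ e).1 (hρ.coord _ _ _ _ e).2
  have hb : Function.Bijective (fun p : ZMod s × ZMod s => f₀ ^ p.1.val * w ^ p.2.val) :=
    (Nat.bijective_iff_injective_and_card _).2 ⟨hinj, by rw [Nat.card_prod, Nat.card_zmod, hcard, pow_two]⟩
  obtain ⟨⟨i, k⟩, e⟩ := hb.2 v
  exact ⟨i, k, e.symm⟩

set_option maxHeartbeats 1000000 in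
/-- **`f` inside `F = O_s(C)`.** -/
theorem Data.case_in (h : Data s C f y c) (hO : Cfsg.pPrimeCore s C = ⊥) (hfF : f ∈ coreIn s C) :
    ∃ φ : C →* Multiplicative (ZMod s), φ ⟨f, h.mem_f⟩ ≠ 1 ∧
      ∀ m : M, φ ⟨m * f * m⁻¹, h.normal.conj_mem f h.mem_f m⟩ = φ ⟨f, h.mem_f⟩ := by
  classical
  haveI := h.normal
  set F := coreIn s C with hF
  haveI hFn : F.Normal := coreIn_normal h.normal
  have hFC : F ≤ C := coreIn_le
  have hFp : IsPGroup s F := coreIn_isPGroup
  have hyF : y ∈ F := mem_coreIn_of_commute h hO h.mem_y fun v hv => (h.central v (hFC hv)).symm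
  have hnF : ∀ m : M, m ∈ normalizer (F : Set M) := fun m => by rw [normalizer_eq_top]; exact Subgroup.mem_top m
  have hd := h.derived hFC hFp hfF hyF (j := 1) h.f_pow_one
  set f' : F := ⟨f, hfF⟩ with hf'
  set π : F →* Abelianization F := Abelianization.of with hπ
  have hπs : ∀ v, ∃ x, π x = v := fun v => by
    induction v using QuotientGroup.induction_on with | _ x => exact ⟨x, rfl⟩
  have hker : ∀ x, π x = 1 ↔ x ∈ _root_.commutator F := fun x => by
    rw [hπ, ← MonoidHom.mem_ker, Abelianization.ker_of]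
  have hVcard : Nat.card (Abelianization F) = s ^ 2 := by
    rw [← hd.1, index_eq_card]; rfl
  have hexp : ∀ v : Abelianization F, v ^ s = 1 := by
    intro v
    obtain ⟨i, hi, hv⟩ := (Nat.dvd_prime_pow hs.out).1 (hVcard ▸ _root_.orderOf_dvd_natCard v)
    interval_cases i
    · rw [(orderOf_eq_one_iff.1 (by simpa using hv) : v = 1), one_pow]
    · exact orderOf_dvd_iff_pow_eq_one.1 (by rw [hv, pow_one])
    · exfalso
      have hcyc : IsCyclic (Abelianization F) := isCyclic_of_orderOf_eq_card v (by rw [hv, hVcard])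
      haveI := PGroup.isCyclic_of_abelianization hFp hcyc
      refine h.nmem ?_
      letI : Fintype F := Fintype.ofFinite F
      have hmem : (⟨y, hyF⟩ : F) ∈ zpowers f' := by
        have hpow : ∀ x ∈ zpowers f', x ^ s = 1 := fun x hx => by
          obtain ⟨i, rfl⟩ := mem_zpowers_iff.1 hx
          rw [← zpow_natCast, ← zpow_mul, mul_comm, zpow_mul, zpow_natCast,
            orderOf_dvd_iff_pow_eq_one.1 (Subgroup.orderOf_coe f' ▸ h.ord_f).dvd, one_zpow]
        set S := (Finset.univ : Finset F).filter fun a => a ^ s = 1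
        have hSc : S.card ≤ s := IsCyclic.card_pow_eq_one_le hs.out.pos
        set Z := (Finset.univ : Finset F).filter fun a => a ∈ zpowers f'
        have hZc : Z.card = s := by
          rw [← Fintype.card_subtype, ← Nat.card_eq_fintype_card]
          exact (Nat.card_zpowers f').trans (Subgroup.orderOf_coe f' ▸ h.ord_f)
        have hZS : Z ⊆ S := fun a ha => Finset.mem_filter.2 ⟨Finset.mem_univ _, hpow a (Finset.mem_filter.1 ha).2⟩
        have hyS : (⟨y, hyF⟩ : F) ∈ S := Finset.mem_filter.2 ⟨Finset.mem_univ _, Subtype.ext (by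
          simpa using orderOf_dvd_iff_pow_eq_one.1 h.ord_y.dvd)⟩
        rw [← Finset.eq_of_subset_of_card_le hZS (hZc ▸ hSc)] at hyS
        exact (Finset.mem_filter.1 hyS).2
      obtain ⟨i, hi⟩ := mem_zpowers_iff.1 hmem
      exact mem_zpowers_iff.2 ⟨i, by simpa using congrArg (Subtype.val : F → M) hi⟩
  set α : M →* MulAut (Abelianization F) := (quotAut (_root_.commutator F)).comp MulAut.conjNormal
  have hα : ∀ (m : M) (x : F), α m (π x) = π (MulAut.conjNormal m x) := fun m x => rfl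
  have htrivF : ∀ m ∈ F, α m = 1 := fun m hm => MulEquiv.ext fun v => by
    obtain ⟨x, rfl⟩ := hπs v
    rw [hα, MulAut.one_apply, show MulAut.conjNormal m x = (⟨m, hm⟩ : F) * x * (⟨m, hm⟩ : F)⁻¹ from
      Subtype.ext (MulAut.conjNormal_apply m x), map_mul, map_mul, map_inv, mul_comm (π ⟨m, hm⟩),
      mul_inv_cancel_right]
  have hmemF : ∀ a ∈ C, α a = 1 → a ∈ F := fun a ha he => by
    refine mem_coreIn_of_trivial h hO ha (MulEquiv.ext fun v => ?_)
    induction v using QuotientGroup.induction_on with | _ x => ?_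
    rw [quotAut_mk, MulAut.one_apply, QuotientGroup.eq]
    refine commutator_le_frattini hFp ((hker _).1 ?_)
    rw [map_mul, map_inv, ← hα, he, MulAut.one_apply, inv_mul_cancel]
  obtain ⟨k, hk, hks, hck⟩ := h.pow_c
  have hcf : α c (π f') = π f' := by
    rw [hα]; congr 1
    exact Subtype.ext (by rw [MulAut.conjNormal_apply]; exact mul_inv_eq_iff_eq_mul.2 h.comm_c.eq)
  have hc1 : α c ≠ 1 := fun e => by
    refine h.not_trivial_mod hFp hyF (hnF c) fun x => commutator_le_frattini hFp ((hker _).1 ?_)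
    rw [map_mul, map_inv, show F.normalizerMonoidHom ⟨c, hnF c⟩ x = MulAut.conjNormal c x from
      Subtype.ext (by rw [nmh_coe, MulAut.conjNormal_apply]), ← hα, e, MulAut.one_apply, inv_mul_cancel]
  have hπf : π f' ≠ 1 := fun e => hd.2.1 (by rw [pow_one]; exact (hker _).1 e)
  obtain ⟨w, ρ, hρ, hwf, hmov⟩ := Plane.exists_rep h.ne_two hVcard hexp hπf hk hks
    (c := α c) (by rw [← map_pow, hck, map_one]) hc1 hcf
  set L := ρ.comp α with hL
  set D := C.map L with hD
  haveI : Finite D := Finite.of_surjective _ (L.subgroupMap_surjective C)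
  have hDodd : Odd (Nat.card D) := h.odd.of_dvd_nat (Subgroup.card_map_dvd (H := C) L)
  have hDn : D.map (MulAut.conj (L c)).toMonoidHom = D := by
    refine Subgroup.ext fun u => ⟨?_, ?_⟩
    · rintro ⟨_, ⟨a, ha, rfl⟩, rfl⟩
      exact ⟨c * a * c⁻¹, h.normal.conj_mem a ha c, by simp⟩
    · rintro ⟨a, ha, rfl⟩
      refine ⟨L (c⁻¹ * a * c), ⟨_, ?_, rfl⟩, by simp [mul_assoc]⟩
      simpa using h.normal.conj_mem a ha c⁻¹
  have hmov' : Plane.IsMover (L c) := hmov
  have htri := Plane.triangular_of_odd hDodd hmov' hDn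
  have hcases : ∀ a : C, (L a) 0 1 = 0 ∨ (L a) 1 0 = 0 := fun a =>
    htri.imp (· _ ⟨a, a.2, rfl⟩) (· _ ⟨a, a.2, rfl⟩)
  let ψ : C →* ZMod s × ZMod s :=
    { toFun := fun a => ((L (a : M)) 0 0, (L (a : M)) 1 1)
      map_one' := by simp
      map_mul' := fun a b => by
        obtain ⟨e00, -, -, e11⟩ := Plane.mul_entries (L (a : M)) (L (b : M))
        rw [Subgroup.coe_mul, map_mul, e00, e11]
        refine Prod.ext ?_ ?_ <;> rcases htri with ht | ht <;>
          simp [ht _ ⟨(a : M), a.2, rfl⟩, ht _ ⟨(b : M), b.2, rfl⟩] }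
  have hU : ψ.ker ≤ Cfsg.pCore s C := by
    refine Cores.le_pCore inferInstance fun a => ?_
    have h1 := MonoidHom.mem_ker.1 a.2
    have h0 : (L (a.1 : M)) 0 0 = 1 ∧ (L (a.1 : M)) 1 1 = 1 := Prod.ext_iff.1 h1
    have h2 : L ((a.1 : M) ^ s) = 1 := by
      rw [map_pow]; exact Plane.pow_char_of_unip h0.1 h0.2 (hcases a.1)
    have h3 : α ((a.1 : M) ^ s) = 1 := hρ.inj (by rw [map_one]; exact h2)
    obtain ⟨e, he⟩ := hFp ⟨_, hmemF _ (pow_mem a.1.2 s) h3⟩
    refine ⟨e + 1, Subtype.ext (Subtype.ext ?_)⟩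
    have h4 : ((a.1 : M) ^ s) ^ s ^ e = 1 := congrArg Subtype.val he
    rw [pow_succ', pow_mul]
    simpa using h4
  have hdiag : ∀ a ∈ C, (L a) 0 1 = 0 ∧ (L a) 1 0 = 0 := by
    intro a ha
    refine Plane.diag_of_commute hmov' ?_
    obtain ⟨u0, u1, -, -⟩ := Plane.commutator_unip hmov' (hcases ⟨a, ha⟩)
    set u := a * c * a⁻¹ * c⁻¹ with hu
    have hLu : L u = L a * L c * (L a)⁻¹ * (L c)⁻¹ := by simp [hu]
    have huC : u ∈ C := h.ab a
    have hu' : (⟨u, huC⟩ : C) ∈ Cfsg.pCore s C := hU (MonoidHom.mem_ker.2 (by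
      show ((L u) 0 0, (L u) 1 1) = 1
      rw [hLu, u0, u1]; rfl))
    have h1 : L u = 1 := by rw [hL, MonoidHom.comp_apply, htrivF u ⟨_, hu', rfl⟩, map_one]
    rw [hLu] at h1
    exact mul_inv_eq_iff_eq_mul.1 (mul_inv_eq_one.1 h1)
  have hfix : ∀ a ∈ C, (L a) 0 0 = 1 := by
    intro a ha
    obtain ⟨j, hj⟩ := mem_powers_iff_mem_zpowers.2 ((hρ.f_mem_iff hexp _).1 (hdiag a ha).2)
    simp only at hj
    obtain ⟨r, hr⟩ := h.fix_of_line hFC hFp hfF hyF (hnF a) (j := j) ((hker _).1 (by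
      rw [map_mul, map_inv, map_pow, show F.normalizerMonoidHom ⟨a, hnF a⟩ f' = MulAut.conjNormal a f' from
        Subtype.ext (by rw [nmh_coe, MulAut.conjNormal_apply]), ← hα, hj, inv_mul_cancel]))
    refine ((hρ.fix_iff _).1 ?_).1
    have h1 : MulAut.conjNormal a f' = MulAut.conjNormal (r : M) f' :=
      Subtype.ext (by simpa [hf'] using hr)
    rw [hα, h1, ← hα, htrivF _ r.2, MulAut.one_apply]
  -- the line
  have hline : ∀ m : M, (L m) 0 1 = 0 := by
    intro m
    have hmc : m * c = (m * c * m⁻¹ * c⁻¹) * c * m := by simp [mul_assoc]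
    set a := m * c * m⁻¹ * c⁻¹
    have ha : a ∈ C := h.ab m
    have h1 : L m * L c = L a * L c * L m := by rw [← map_mul, hmc, map_mul, map_mul]
    obtain ⟨-, e01, -, -⟩ := Plane.mul_entries (L m) (L c)
    obtain ⟨-, f01, -, -⟩ := Plane.mul_entries (L a * L c) (L m)
    obtain ⟨g00, g01, -, -⟩ := Plane.mul_entries (L a) (L c)
    rw [h1, f01, g00, g01, (hdiag a ha).1, hfix a ha, hmov'.e00, hmov'.e01] at e01
    have h2 : (L m) 0 1 * ((L c) 1 1 - 1) = 0 := by linear_combination -e01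
    exact (mul_eq_zero.1 h2).resolve_right (sub_ne_zero.2 hmov'.ne_one)
  set Wb := (zpowers w).comap π with hWb
  set W := Wb.map F.subtype with hW
  have hWn : W.Normal := by
    refine ⟨?_⟩
    rintro _ ⟨x, hx, rfl⟩ m
    refine ⟨MulAut.conjNormal m x, Subgroup.mem_comap.2 ?_, MulAut.conjNormal_apply m x⟩
    rw [← hα]
    obtain ⟨i, hi⟩ := mem_zpowers_iff.1 (Subgroup.mem_comap.1 hx)
    rw [← hi, map_zpow]
    exact zpow_mem ((hρ.w_mem_iff hexp _).1 (hline m)) i
  have hfW : f ∉ W := by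
    rintro ⟨x, hx, hxe⟩
    have hxf : x = f' := Subtype.ext hxe
    rw [hxf] at hx
    obtain ⟨i, hi⟩ := mem_powers_iff_mem_zpowers.2 (Subgroup.mem_comap.1 hx)
    simp only at hi
    have h1 := (hρ.coord 1 0 0 (i : ZMod s) (by
      rw [Plane.pow_val_eq hexp, hi, ZMod.val_one, ZMod.val_zero, pow_zero, pow_zero, pow_one, one_mul,
        mul_one])).1
    exact one_ne_zero h1
  have hQ : F = W ⊔ zpowers f := by
    refine le_antisymm (fun x hx => ?_) (sup_le (map_subtype_le _) (zpowers_le.2 hfF))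
    obtain ⟨i, k', hik⟩ := exists_coord hρ hVcard (π ⟨x, hx⟩)
    have h1 : ((f' ^ i.val)⁻¹ * ⟨x, hx⟩ : F) ∈ Wb := Subgroup.mem_comap.2 (by
      rw [map_mul, map_inv, map_pow, hik, inv_mul_cancel_left]
      exact pow_mem (mem_zpowers w) _)
    have h2 : (f ^ i.val)⁻¹ * x ∈ W := ⟨_, h1, by simp [hf']⟩
    have h3 := mul_mem (mem_sup_right (pow_mem (mem_zpowers f) i.val) : f ^ i.val ∈ W ⊔ zpowers f)
      (mem_sup_left h2)
    rwa [mul_inv_cancel_left] at h3
  refine h.endgame hWn ((map_subtype_le _).trans hFC) (hFp.to_le (map_subtype_le _)) hfW hQ ?_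
  intro R hR hRp hle
  refine le_antisymm (fun x hx => hmemF x (hR hx) (hρ.inj ?_)) hle
  obtain ⟨hb, hd'⟩ := hdiag x (hR hx)
  obtain ⟨e, he⟩ := hRp ⟨x, hx⟩
  have hxe : x ^ s ^ e = 1 := congrArg Subtype.val he
  have hpow : ∀ n : ℕ, ((L x) ^ n) 1 1 = ((L x) 1 1) ^ n ∧ ((L x) ^ n) 1 0 = 0 := by
    intro n
    induction n with
    | zero => simp
    | succ n ih =>
      obtain ⟨-, -, d, e⟩ := Plane.mul_entries ((L x) ^ n) (L x)
      rw [pow_succ (L x) n]
      exact ⟨by rw [e, ih.1, ih.2, hb]; ring, by rw [d, ih.2, hd']; ring⟩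
  have hν : (L x) 1 1 = 1 := by
    have h1 := (hpow (s ^ e)).1
    rw [← map_pow, hxe, map_one, Plane.one_entries.2.2.2, ZMod.pow_card_pow] at h1
    exact h1.symm
  rw [map_one]
  exact Plane.ext_entries (by rw [Plane.one_entries.1]; exact hfix x (hR hx))
    (by rw [Plane.one_entries.2.1]; exact hb) (by rw [Plane.one_entries.2.2.1]; exact hd')
    (by rw [Plane.one_entries.2.2.2]; exact hν)

/-- The character, `O_{s'}(C) = 1`. -/
theorem Data.exists_hom_reduced (h : Data s C f y c) (hO : Cfsg.pPrimeCore s C = ⊥) :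
    ∃ φ : C →* Multiplicative (ZMod s), φ ⟨f, h.mem_f⟩ ≠ 1 ∧
      ∀ m : M, φ ⟨m * f * m⁻¹, h.normal.conj_mem f h.mem_f m⟩ = φ ⟨f, h.mem_f⟩ := by
  by_cases hfF : f ∈ coreIn s C
  · exact h.case_in hO hfF
  · exact h.case_out hO hfF

end Cfsg.Agent.AbelianSylow.Field
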