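import Cfsg.Agent.EqLemmas
import Cfsg.Agent.Lib.AbelianSylow.Cent.FieldHom

/-!
# No field automorphism: `f` survives the transfer into `C(y)` (owner: helper80)

`false_of_mover` : `G` perfect, `f, y` commuting of prime order `s`, `N(⟨f⟩) = C(f)` of even order with Sylow
`s`-subgroup `⟨f, y⟩`, `C(y)` odd, some `c` of odd order in `C(f)` normalises and moves `y`: impossible.
-/

set_option autoImplicit false
set_option linter.style.haveILetI false

namespace Cfsg.Agent.AbelianSylow.Field

open Subgroup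
open scoped Pointwise commutatorElement

universe u

section Reduce

variable {s : ℕ} [hs : Fact s.Prime] {M : Type u} [Group M] [Finite M] {C : Subgroup M} {f y c : M}

theorem pow_prime_eq_one {x : M} (hx : orderOf x = s) : x ^ s = 1 := orderOf_dvd_iff_pow_eq_one.1 hx.dvd

theorem eq_one_of_mem_coprime {O : Subgroup M} (hO : ¬ s ∣ Nat.card O) {x : M} (hx : x ∈ O) {e : ℕ}
    (hxe : x ^ s ^ e = 1) : x = 1 := by
  rw [← orderOf_eq_one_iff]
  refine Nat.eq_one_of_dvd_coprimes (((Nat.Prime.coprime_iff_not_dvd hs.out).2 hO).pow_left e)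
    (orderOf_dvd_of_pow_eq_one hxe) ?_
  rw [← Subgroup.orderOf_mk x hx]
  exact _root_.orderOf_dvd_natCard _

/-- **The character.** -/
theorem Data.exists_hom (h : Data s C f y c) :
    ∃ φ : C →* Multiplicative (ZMod s), φ ⟨f, h.mem_f⟩ ≠ 1 ∧
      ∀ m : M, φ ⟨m * f * m⁻¹, h.normal.conj_mem f h.mem_f m⟩ = φ ⟨f, h.mem_f⟩ := by
  classical
  haveI := h.normal
  set O' := Cfsg.pPrimeCore s C with hO'
  haveI : O'.Characteristic := by
    rw [characteristic_iff_map_le]
    intro e
    exact Cores.map_pPrimeCore_le e.toMonoidHom e.surjective s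
  set O := O'.map C.subtype with hOdef
  haveI hOn : O.Normal := by
    rw [← normalizer_eq_top_iff, eq_top_iff]
    have h1 := Cores.normalizer_le_normalizer_map (H := C) O'
    rwa [normalizer_eq_top] at h1
  have hOC : O ≤ C := map_subtype_le _
  have hOs : ¬ s ∣ Nat.card O := by rw [hOdef, Cores.card_map_subtype]; exact Cores.not_dvd_card_pPrimeCore
  set π := QuotientGroup.mk' O with hπ
  have hker : ∀ x : M, π x = 1 ↔ x ∈ O := fun x => QuotientGroup.eq_one_iff x
  have hπf : orderOf (π f) = s := by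
    refine orderOf_eq_prime (by rw [← map_pow, pow_prime_eq_one h.ord_f, map_one]) fun e => ?_
    have h1 := eq_one_of_mem_coprime hOs ((hker f).1 e) (e := 1) (by rw [pow_one, pow_prime_eq_one h.ord_f])
    have h2 := h.ord_f
    rw [h1, orderOf_one] at h2
    exact hs.out.one_lt.ne h2
  have hyO : ∀ i : ℤ, ∀ z : M, z = y * f ^ i → z ∈ O → z = 1 := by
    intro i z hz hzO
    refine eq_one_of_mem_coprime hOs hzO (e := 1) ?_
    rw [pow_one, hz, ((h.central f h.mem_f).symm.zpow_right i).mul_pow, pow_prime_eq_one h.ord_y, one_mul,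
      ← zpow_natCast, ← zpow_mul, mul_comm, zpow_mul, zpow_natCast, pow_prime_eq_one h.ord_f, one_zpow]
  have hπy : orderOf (π y) = s := by
    refine orderOf_eq_prime (by rw [← map_pow, pow_prime_eq_one h.ord_y, map_one]) fun e => ?_
    have h1 := hyO 0 y (by rw [zpow_zero, mul_one]) ((hker y).1 e)
    have h2 := h.ord_y
    rw [h1, orderOf_one] at h2
    exact hs.out.one_lt.ne h2
  set Cb := C.map π
  have hcard : Odd (Nat.card Cb) := h.odd.of_dvd_nat (Subgroup.card_map_dvd (H := C) π)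
  have hd : Data s Cb (π f) (π y) (π c) := by
    refine
      { normal := h.normal.map π (QuotientGroup.mk'_surjective O)
        odd := hcard
        idx := ?_
        ne_two := h.ne_two
        ord_f := hπf
        ord_y := hπy
        mem_f := mem_map_of_mem π h.mem_f
        mem_y := mem_map_of_mem π h.mem_y
        central := ?_
        nmem := ?_
        comm_c := h.comm_c.map π
        norm_c := ?_
        move := ?_
        pow_c := ?_
        ab := ?_
        rigid := ?_
        bound := ?_ }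
    · rw [Subgroup.index_map_eq (H := C) (QuotientGroup.mk'_surjective O) (by rw [QuotientGroup.ker_mk']; exact hOC)]
      exact h.idx
    · rintro _ ⟨x, hx, rfl⟩
      exact (h.central x hx).map π
    · intro hm
      obtain ⟨i, hi⟩ := mem_zpowers_iff.1 hm
      have h1 : y * f ^ (-i) = 1 := hyO (-i) _ rfl ((hker _).1 (by
        rw [map_mul, map_zpow, ← hi, ← zpow_add, add_neg_cancel, zpow_zero]))
      refine h.nmem (mem_zpowers_iff.2 ⟨i, ?_⟩)
      rw [zpow_neg, mul_inv_eq_one] at h1
      exact h1.symm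
    · obtain ⟨i, hi⟩ := mem_zpowers_iff.1 h.norm_c
      exact mem_zpowers_iff.2 ⟨i, by rw [← map_zpow, hi, map_mul, map_mul, map_inv]⟩
    · intro hcm
      obtain ⟨i, hi⟩ := mem_zpowers_iff.1 h.norm_c
      refine h.move (mul_inv_eq_iff_eq_mul.1 ?_)
      have h1 : c * y * c⁻¹ * y⁻¹ = 1 := by
        refine eq_one_of_mem_coprime hOs ((hker _).1 ?_) (e := 1) ?_
        · rw [map_mul, map_mul, map_mul, map_inv, map_inv, hcm.eq]
          group
        · rw [pow_one, ← hi, ← zpow_sub_one, ← zpow_natCast, ← zpow_mul, mul_comm, zpow_mul, zpow_natCast,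
            pow_prime_eq_one h.ord_y, one_zpow]
      exact mul_inv_eq_one.1 h1
    · obtain ⟨k, hk, hks, hck⟩ := h.pow_c
      exact ⟨k, hk, hks, by rw [← map_pow, hck, map_one]⟩
    · intro m
      obtain ⟨x, rfl⟩ := QuotientGroup.mk'_surjective O m
      exact ⟨_, h.ab x, by simp [hπ]⟩
    · intro m hm
      obtain ⟨x, rfl⟩ := QuotientGroup.mk'_surjective O m
      set g := x * f * x⁻¹ with hg
      set R := O ⊔ zpowers f with hR
      have hgR : g ∈ R := by
        obtain ⟨j, hj⟩ := mem_zpowers_iff.1 hm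
        have h1 : g * (f ^ j)⁻¹ ∈ O := (hker _).1 (by
          rw [map_mul, map_inv, map_zpow, hj, hg, map_mul, map_mul, map_inv, mul_inv_cancel])
        have h2 := mul_mem (mem_sup_left h1 : g * (f ^ j)⁻¹ ∈ R) (mem_sup_right (zpow_mem (mem_zpowers f) j))
        rwa [inv_mul_cancel_right] at h2
      have hfR : f ∈ R := mem_sup_right (mem_zpowers f)
      have hgo : orderOf g = s := by rw [hg, ← MulAut.conj_apply, MulEquiv.orderOf_eq, h.ord_f]
      -- the Sylow subgroups of `R` have order `s`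
      have hRcard : ¬ s ^ 2 ∣ Nat.card R := by
        have h1 : Nat.card R ∣ Nat.card O * s := by
          have := Cores.card_sup_dvd (zpowers f) O
          rwa [sup_comm, Nat.card_zpowers, h.ord_f, mul_comm, ← hR] at this
        intro h2
        exact hOs (Nat.dvd_of_mul_dvd_mul_right hs.out.pos (pow_two s ▸ h2.trans h1))
      have hsyl : ∀ z : R, orderOf z = s → ∃ P : Sylow s R, (P : Subgroup R) = zpowers z := by
        intro z hz
        obtain ⟨P, hP⟩ := (IsPGroup.of_card (p := s) (n := 1)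
          (by rw [Nat.card_zpowers, hz, pow_one] : Nat.card (zpowers z) = s ^ 1)).exists_le_sylow
        refine ⟨P, (Subgroup.eq_of_le_of_card_ge hP ?_).symm⟩
        obtain ⟨n, hn⟩ := IsPGroup.iff_card.1 P.2
        rw [Nat.card_zpowers, hz, hn]
        rcases Nat.lt_or_ge n 2 with h3 | h3
        · exact (Nat.pow_le_pow_right hs.out.pos (show n ≤ 1 by omega)).trans (pow_one s).le
        · exact absurd (((pow_dvd_pow s h3).trans (dvd_of_eq hn.symm)).trans (card_subgroup_dvd_card _)) hRcard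
      obtain ⟨P, hP⟩ := hsyl ⟨f, hfR⟩ (by rw [Subgroup.orderOf_mk]; exact h.ord_f)
      obtain ⟨P', hP'⟩ := hsyl ⟨g, hgR⟩ (by rw [Subgroup.orderOf_mk]; exact hgo)
      obtain ⟨r, hr⟩ := MulAction.exists_smul_eq R P' P
      have h1 : r * (⟨g, hgR⟩ : R) * r⁻¹ ∈ zpowers (⟨f, hfR⟩ : R) := by
        rw [← hP, ← hr]
        exact ⟨⟨g, hgR⟩, hP' ▸ mem_zpowers _, rfl⟩
      obtain ⟨i, hi⟩ := mem_zpowers_iff.1 h1
      have h2 : ((r : M) * x) * f * ((r : M) * x)⁻¹ = f ^ i := by
        have := congrArg (Subtype.val : R → M) hi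
        simp [hg] at this
        rw [this]; group
      have h3 := h.rigid _ (h2 ▸ zpow_mem (mem_zpowers f) i)
      have h4 : Commute (π (r : M)) (π f) := by
        obtain ⟨w, hw, v, hv, hwv⟩ := (Subgroup.mem_sup_of_normal_left).1 r.2
        obtain ⟨k, rfl⟩ := mem_zpowers_iff.1 hv
        rw [← hwv, map_mul, (hker w).2 hw, one_mul, map_zpow]
        exact (Commute.refl _).zpow_left k
      have h5 := h3.map π
      rw [map_mul] at h5
      have h6 := h4.inv_left.mul_left h5
      rwa [inv_mul_cancel_left] at h6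
    · intro Rb hRb hRp hfRb
      set Rp := Rb.comap π with hRp'
      have hORp : O ≤ Rp := fun z hz => by
        rw [hRp', Subgroup.mem_comap, (hker z).2 hz]; exact one_mem _
      have hRpC : Rp ≤ C := fun z hz => by
        obtain ⟨w, hw, hwe⟩ := hRb (Subgroup.mem_comap.1 hz)
        have h1 : w⁻¹ * z ∈ O := (hker _).1 (by rw [map_mul, map_inv, hwe, inv_mul_cancel])
        have h2 := mul_mem hw (hOC h1)
        rwa [mul_inv_cancel_left] at h2
      have hfRp : f ∈ Rp := hfRb
      obtain ⟨S, hS⟩ := (IsPGroup.of_card (p := s) (n := 1)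
        (by rw [Nat.card_zpowers, Subgroup.orderOf_mk, h.ord_f, pow_one] :
          Nat.card (zpowers (⟨f, hfRp⟩ : Rp)) = s ^ 1)).exists_le_sylow
      set S' := (S : Subgroup Rp).map Rp.subtype with hS'
      have hS'p : IsPGroup s S' := S.2.map _
      have hS'R : S' ≤ Rp := map_subtype_le _
      have hSO : ∀ z ∈ S', z ∈ O → z = 1 := fun z hz hzO => by
        obtain ⟨e, he⟩ := hS'p ⟨z, hz⟩
        exact eq_one_of_mem_coprime hOs hzO (congrArg Subtype.val he)
      let g : S' → Rb := fun z => ⟨π z, hS'R z.2⟩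
      have hginj : Function.Injective g := fun a b hab => by
        have h1 : π (a : M) = π b := congrArg Subtype.val hab
        have h2 : (b : M)⁻¹ * a = 1 := hSO _ (mul_mem (inv_mem b.2) a.2) ((hker _).1 (by
          rw [map_mul, map_inv, h1, inv_mul_cancel]))
        exact Subtype.ext (inv_mul_eq_one.1 h2).symm
      have hcardS : Nat.card Rb ≤ Nat.card S' := by
        have h1 : Nat.card Rp = Nat.card O * Nat.card Rb := by
          have h2 := Rp.card_mul_index
          have h3 := O.card_mul_index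
          have h4 := Rb.card_mul_index
          rw [hRp', index_comap_of_surjective _ (QuotientGroup.mk'_surjective O)] at h2
          rw [index_eq_card O, ← h4] at h3
          rw [← h3, ← mul_assoc] at h2
          exact Nat.eq_of_mul_eq_mul_right (Nat.pos_of_ne_zero Rb.index_ne_zero_of_finite) h2
        obtain ⟨b, hb⟩ := IsPGroup.iff_card.1 hRp
        rw [hS', Cores.card_map_subtype, hb]
        exact Nat.le_of_dvd Nat.card_pos (S.pow_dvd_card_of_pow_dvd_card (by rw [h1, hb]; exact dvd_mul_left _ _))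
      have hgsurj : Function.Surjective g :=
        ((Nat.bijective_iff_injective_and_card g).2
          ⟨hginj, le_antisymm (Nat.card_le_card_of_injective g hginj) hcardS⟩).2
      refine le_trans ?_ (h.bound S' (hS'R.trans hRpC) hS'p ⟨_, hS (mem_zpowers _), rfl⟩)
      let g' : (S' ⊓ centralizer ({f} : Set M) : Subgroup M) →
          (Rb ⊓ centralizer ({π f} : Set (M ⧸ O)) : Subgroup (M ⧸ O)) := fun z =>
        ⟨π z, hS'R z.2.1, mem_centralizer_singleton_iff.2 (by
          rw [← map_mul, ← map_mul, mem_centralizer_singleton_iff.1 z.2.2])⟩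
      refine Nat.card_le_card_of_surjective g' fun w => ?_
      obtain ⟨z, hz⟩ := hgsurj ⟨w.1, w.2.1⟩
      have hzw : π (z : M) = w.1 := congrArg Subtype.val hz
      have h1 : ⁅(z : M), f⁆ = 1 := by
        refine hSO _ ?_ ((hker _).1 ?_)
        · rw [commutatorElement_def]
          have hfS : f ∈ S' := ⟨_, hS (mem_zpowers _), rfl⟩
          exact mul_mem (mul_mem (mul_mem z.2 hfS) (inv_mem z.2)) (inv_mem hfS)
        · rw [map_commutatorElement, commutatorElement_eq_one_iff_commute, hzw]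
          exact mem_centralizer_singleton_iff.1 w.2.2
      exact ⟨⟨z, z.2, mem_centralizer_singleton_iff.2 (commutatorElement_eq_one_iff_commute.1 h1).eq⟩,
        Subtype.ext hzw⟩
  -- `O_{s'}` of the image is trivial
  let π₀ : C →* Cb := π.subgroupMap C
  have hsurj : Function.Surjective π₀ := π.subgroupMap_surjective C
  have hk0 : π₀.ker = O' := by
    ext z
    rw [MonoidHom.mem_ker]
    refine ⟨fun e => ?_, fun hz => Subtype.ext ((hker _).2 (mem_map_of_mem _ hz))⟩
    obtain ⟨z', hz', he⟩ := (hker _).1 (congrArg Subtype.val e : π (z : M) = 1)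
    rwa [← Subtype.ext he]
  have hO : Cfsg.pPrimeCore s Cb = ⊥ := by
    haveI : O'.Normal := inferInstance
    have e := QuotientGroup.quotientKerEquivOfSurjective π₀ hsurj
    rw [← Cores.pPrimeCore_map_mulEquiv e, show Cfsg.pPrimeCore s (C ⧸ π₀.ker) = ⊥ from ?_, Subgroup.map_bot]
    rw [← Cores.pPrimeCore_map_mulEquiv (QuotientGroup.quotientMulEquivOfEq hk0.symm),
      Cores.pPrimeCore_quotient_self, Subgroup.map_bot]
  obtain ⟨φ, hφ, hinv⟩ := hd.exists_hom_reduced hO
  refine ⟨φ.comp π₀, hφ, fun m => ?_⟩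
  refine Eq.trans ?_ ((hinv (π m)).trans rfl)
  exact congrArg φ (Subtype.ext (by
    show π (m * f * m⁻¹) = π m * π f * (π m)⁻¹
    rw [map_mul, map_mul, map_inv]))

end Reduce

variable {G : Type u} [Group G] [Finite G] {s : ℕ} [hs : Fact s.Prime]

/-- The action on `P = ⟨f⟩ × ⟨y⟩` only moves `y` in its line. -/
theorem line_lemma {f y c : G} (hs2 : s ≠ 2) (hf : orderOf f = s) (hy : orderOf y = s) (hfy : Commute f y)
    (hyf : y ∉ zpowers f) (hcf : Commute c f) (hcy : c * y * c⁻¹ ∈ zpowers y) (hmove : ¬ Commute c y)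
    (hck : ∃ k : ℕ, Odd k ∧ ¬ s ∣ k ∧ c ^ k = 1)
    (hN : ∀ g : G, g * f * g⁻¹ ∈ zpowers f → Commute g f)
    (h3 : ¬ s ^ 3 ∣ Nat.card (centralizer ({f} : Set G)))
    (hev : 2 ∣ Nat.card (centralizer ({f} : Set G))) (hodd : Odd (Nat.card (centralizer ({y} : Set G))))
    {g : G} (hg : g * y * g⁻¹ ∈ zpowers f ⊔ zpowers y) : g ∈ normalizer ((zpowers y : Subgroup G) : Set G) := by
  classical
  set P := zpowers f ⊔ zpowers y with hP
  have hfP : f ∈ P := mem_sup_left (mem_zpowers f)
  have hyP : y ∈ P := mem_sup_right (mem_zpowers y)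
  -- `P` is abelian of exponent `s` and order `s²`
  have hPle : ∀ z : G, Commute z f → Commute z y → P ≤ centralizer ({z} : Set G) := fun z h1 h2 =>
    sup_le (zpowers_le.2 (mem_centralizer_singleton_iff.2 h1.symm.eq))
      (zpowers_le.2 (mem_centralizer_singleton_iff.2 h2.symm.eq))
  have hPf : ∀ a ∈ P, Commute a f := fun a ha =>
    mem_centralizer_singleton_iff.1 (hPle f (Commute.refl f) hfy ha)
  have hPy : ∀ a ∈ P, Commute a y := fun a ha =>
    mem_centralizer_singleton_iff.1 (hPle y hfy.symm (Commute.refl y) ha)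
  have hPcomm : ∀ a ∈ P, ∀ b ∈ P, Commute a b := fun a ha b hb =>
    (mem_centralizer_singleton_iff.1 (hPle a (hPf a ha) (hPy a ha) hb) : Commute b a).symm
  have hnorm : zpowers f ≤ normalizer ((zpowers y : Subgroup G) : Set G) := by
    refine zpowers_le.2 (centralizer_le_normalizer _ (mem_centralizer_iff.2 fun x hx => ?_))
    obtain ⟨i, rfl⟩ := mem_zpowers_iff.1 hx
    exact (hfy.zpow_right i).symm.eq
  have hform : ∀ x ∈ P, ∃ i j : ℤ, x = f ^ i * y ^ j := fun x hx => by
    rw [hP, sup_comm] at hx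
    obtain ⟨b, hb, a, ha, rfl⟩ := (Coprime.mem_sup_iff hnorm).1 hx
    obtain ⟨i, rfl⟩ := mem_zpowers_iff.1 ha
    obtain ⟨j, rfl⟩ := mem_zpowers_iff.1 hb
    exact ⟨i, j, ((hfy.zpow_left i).zpow_right j).symm.eq⟩
  have hfs : f ^ s = 1 := pow_prime_eq_one hf
  have hys : y ^ s = 1 := pow_prime_eq_one hy
  let instP : CommGroup P := { (inferInstance : Group P) with
    mul_comm := fun a b => Subtype.ext (hPcomm a a.2 b b.2).eq }
  have hexp : ∀ x : P, x ^ s = 1 := by
    rintro ⟨x, hx⟩
    obtain ⟨i, j, rfl⟩ := hform x hx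
    refine Subtype.ext ?_
    show (f ^ i * y ^ j) ^ s = 1
    rw [((hfy.zpow_left i).zpow_right j).mul_pow, ← zpow_natCast, ← zpow_mul, mul_comm, zpow_mul,
      zpow_natCast, hfs, one_zpow, one_mul, ← zpow_natCast, ← zpow_mul, mul_comm, zpow_mul, zpow_natCast,
      hys, one_zpow]
  have hdis : Disjoint (zpowers f) (zpowers y) := by
    rw [Subgroup.disjoint_def]
    intro x hx hx'
    by_contra hx1
    have hxo : orderOf x = s := by
      refine orderOf_eq_prime ?_ hx1
      obtain ⟨i, rfl⟩ := mem_zpowers_iff.1 hx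
      rw [← zpow_natCast, ← zpow_mul, mul_comm, zpow_mul, zpow_natCast, hfs, one_zpow]
    have h1 : zpowers x = zpowers y := Subgroup.eq_of_le_of_card_ge (zpowers_le.2 hx')
      (by rw [Nat.card_zpowers, Nat.card_zpowers, hxo, hy])
    exact hyf ((zpowers_le.2 hx : zpowers x ≤ zpowers f) (h1 ▸ mem_zpowers y))
  have hPcard : Nat.card P = s ^ 2 := by
    let θ : zpowers f × zpowers y → P :=
      fun q => ⟨q.1 * q.2, mul_mem (mem_sup_left q.1.2) (mem_sup_right q.2.2)⟩
    have hθ : Function.Bijective θ := by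
      refine ⟨fun a b e => Subgroup.mul_injective_of_disjoint hdis (congrArg Subtype.val e), ?_⟩
      rintro ⟨x, hx⟩
      obtain ⟨i, j, rfl⟩ := hform x hx
      exact ⟨(⟨f ^ i, zpow_mem (mem_zpowers f) i⟩, ⟨y ^ j, zpow_mem (mem_zpowers y) j⟩), rfl⟩
    rw [← Nat.card_eq_of_bijective θ hθ, Nat.card_prod, Nat.card_zpowers, Nat.card_zpowers, hf, hy, pow_two]
  set f' : P := ⟨f, hfP⟩ with hf'
  set y' : P := ⟨y, hyP⟩ with hy'
  have hf'1 : f' ≠ 1 := fun e => by
    have h1 : f = 1 := congrArg Subtype.val e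
    rw [h1, orderOf_one] at hf
    exact hs.out.one_lt.ne hf
  have hy'f : y' ∉ zpowers f' := fun hm => by
    obtain ⟨i, hi⟩ := mem_zpowers_iff.1 hm
    exact hyf (mem_zpowers_iff.2 ⟨i, by simpa using congrArg (Subtype.val : P → G) hi⟩)
  obtain ⟨ρ, hρ⟩ := Plane.exists_pair_rep hPcard hexp hf'1 hy'f
  set N := normalizer (P : Set G)
  set L := ρ.comp P.normalizerMonoidHom with hL
  have hcoe : ∀ (n : N) (x : P), ((P.normalizerMonoidHom n x : P) : G) = (n : G) * x * (n : G)⁻¹ :=
    fun n x => rfl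
  have hact : ∀ (n : N), (n : G) * f * (n : G)⁻¹ = f ^ ((L n) 0 0).val * y ^ ((L n) 1 0).val ∧
      (n : G) * y * (n : G)⁻¹ = f ^ ((L n) 0 1).val * y ^ ((L n) 1 1).val := fun n =>
    ⟨by simpa [hcoe, hL, hf', hy'] using congrArg (Subtype.val : P → G) (hρ.apply_f (P.normalizerMonoidHom n)),
     by simpa [hcoe, hL, hf', hy'] using congrArg (Subtype.val : P → G) (hρ.apply_w (P.normalizerMonoidHom n))⟩
  have hval : ∀ z : ZMod s, z = 0 → z.val = 0 := fun z hz => by rw [hz, ZMod.val_zero]
  have hfixf : ∀ n : N, (L n) 1 0 = 0 → Commute (n : G) f := fun n hn => hN _ (by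
    rw [(hact n).1, hval _ hn, pow_zero, mul_one]
    exact pow_mem (mem_zpowers f) _)
  -- the mover
  have hcN : c ∈ N := by
    refine Coprime.mem_normalizer_of_forall fun x hx => ?_
    obtain ⟨i, j, rfl⟩ := hform x hx
    rw [← conj_mul, (hcf.zpow_right i).eq, mul_inv_cancel_right, ← conj_zpow]
    exact mul_mem (mem_sup_left (zpow_mem (mem_zpowers f) i))
      (zpow_mem (mem_sup_right hcy : c * y * c⁻¹ ∈ P) j)
  obtain ⟨k, hk, hks, hckk⟩ := hck
  have hmov : Plane.IsMover (L ⟨c, hcN⟩) := by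
    refine Plane.isMover_of hs2 hρ hk ?_ ?_ ?_ ((hρ.w_mem_iff hexp _).2 ?_)
    · rw [← map_pow, show (⟨c, hcN⟩ : N) ^ k = 1 from Subtype.ext (by simpa using hckk), map_one]
    · intro e
      exact hmove (mul_inv_eq_iff_eq_mul.1
        (congrArg (Subtype.val : P → G) (DFunLike.congr_fun e y') : c * y * c⁻¹ = y))
    · exact Subtype.ext (mul_inv_eq_iff_eq_mul.2 hcf.eq : c * f * c⁻¹ = f)
    · obtain ⟨i, hi⟩ := mem_zpowers_iff.1 hcy
      exact mem_zpowers_iff.2 ⟨i, Subtype.ext (by simpa [hcoe, hy'] using hi)⟩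
  -- parity
  have parity : ∀ a : G, ∀ i : ℤ, y = a * f ^ i * a⁻¹ → False := by
    intro a i hi
    obtain ⟨x, hx⟩ := exists_prime_orderOf_dvd_card' (G := centralizer ({f} : Set G)) 2 hev
    have hxf : Commute (x : G) f := mem_centralizer_singleton_iff.1 x.2
    have h1 : a * (x : G) * a⁻¹ ∈ centralizer ({y} : Set G) := mem_centralizer_singleton_iff.2 (by
      rw [hi, conj_mul, conj_mul, (hxf.zpow_right i).eq])
    have h2 : orderOf (⟨_, h1⟩ : centralizer ({y} : Set G)) = 2 := by
      rw [Subgroup.orderOf_mk, ← MulAut.conj_apply, MulEquiv.orderOf_eq, Subgroup.orderOf_coe, hx]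
    exact (Nat.not_even_iff_odd.2 hodd) (even_iff_two_dvd.2 (h2 ▸ _root_.orderOf_dvd_natCard _))
  -- `s`-elements outside `P` centralise neither `f` nor, unless `s³ ∣ |C(y)|`, `y`
  have hPp : IsPGroup s P := fun x => ⟨1, by rw [pow_one]; exact hexp x⟩
  have hbig : ∀ u : N, (u : G) ∉ P → ∀ e : ℕ, (u : G) ^ s ^ e = 1 → ∀ z : G, P ≤ centralizer ({z} : Set G) →
      Commute (u : G) z → s ^ 3 ∣ Nat.card (centralizer ({z} : Set G)) := by
    intro u hu e he z hPz huz
    have hup : IsPGroup s (zpowers (u : G)) := by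
      obtain ⟨l, -, hl⟩ := (Nat.dvd_prime_pow hs.out).1 (orderOf_dvd_of_pow_eq_one he)
      exact IsPGroup.of_card (n := l) (by rw [Nat.card_zpowers, hl])
    have hR := hPp.to_sup_of_normal_left' hup (zpowers_le.2 u.2)
    obtain ⟨n, hn⟩ := IsPGroup.iff_card.1 hR
    have hlt : Nat.card P < Nat.card (P ⊔ zpowers (u : G) : Subgroup G) := by
      refine lt_of_le_of_ne (Subgroup.card_le_of_le le_sup_left) fun e2 => hu ?_
      rw [Subgroup.eq_of_le_of_card_ge (le_sup_left : P ≤ P ⊔ zpowers (u : G)) e2.ge]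
      exact mem_sup_right (mem_zpowers _)
    rw [hPcard, hn, Nat.pow_lt_pow_iff_right hs.out.one_lt] at hlt
    exact ((pow_dvd_pow s hlt).trans (dvd_of_eq hn.symm)).trans
      (card_dvd_of_le (sup_le hPz (zpowers_le.2 (mem_centralizer_singleton_iff.2 huz.eq))))
  have hnf : ∀ u : N, (u : G) ∉ P → ∀ e : ℕ, (u : G) ^ s ^ e = 1 → (L u) 1 0 ≠ 0 := fun u hu e he h10 =>
    h3 (hbig u hu e he f (hPle f (Commute.refl f) hfy) (hfixf u h10))
  -- a fixed vector of an `s`-element makes it unipotent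
  have hunip : ∀ u : N, ∀ e : ℕ, (u : G) ^ s ^ e = 1 →
      ((L u) 0 0 * (L u) 1 1 - (L u) 0 1 * (L u) 1 0) = 1 := by
    intro u e he
    have h1 : Matrix.GeneralLinearGroup.det (L u) ^ s ^ e = 1 := by
      rw [← map_pow, ← map_pow, show u ^ s ^ e = 1 from Subtype.ext (by simpa using he), map_one, map_one]
    have h2 := congrArg (Units.val : (ZMod s)ˣ → ZMod s) h1
    rw [Units.val_pow_eq_pow_val, ZMod.pow_card_pow] at h2
    rwa [show ((Matrix.GeneralLinearGroup.det (L u) : (ZMod s)ˣ) : ZMod s) = Matrix.det (L u).1 from rfl,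
      Matrix.det_fin_two, Units.val_one] at h2
  have hiter : ∀ u : N, ∀ A B D : ZMod s, (L u) 0 0 = 1 + A → (L u) 0 1 = B → (L u) 1 0 = D →
      (L u) 1 1 = 1 - A → A * A + B * D = 0 → ∀ n : ℕ,
      (L (u ^ n)) 0 0 = 1 + n * A ∧ (L (u ^ n)) 0 1 = n * B ∧ (L (u ^ n)) 1 0 = n * D ∧
        (L (u ^ n)) 1 1 = 1 - n * A := by
    intro u A B D hA hB hD hE hq n
    induction n with
    | zero => simp
    | succ n ih =>
      obtain ⟨i0, i1, i2, i3⟩ := ih
      obtain ⟨a, b, d, e⟩ := Plane.mul_entries (L (u ^ n)) (L u)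
      rw [pow_succ, map_mul]
      refine ⟨?_, ?_, ?_, ?_⟩
      · rw [a, i0, i1, hA, hD]; push_cast; linear_combination (n : ZMod s) * hq
      · rw [b, i0, i1, hB, hE]; push_cast; ring
      · rw [d, i2, i3, hA, hD]; push_cast; ring
      · rw [e, i2, i3, hB, hE]; push_cast; linear_combination (n : ZMod s) * hq
  obtain ⟨i, j, hij⟩ := hform _ hg
  suffices hline : g * y * g⁻¹ ∈ zpowers y by
    refine Coprime.mem_normalizer_of_forall fun x hx => ?_
    obtain ⟨t, rfl⟩ := mem_zpowers_iff.1 hx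
    rw [← conj_zpow]
    exact zpow_mem hline t
  by_cases hB : s ^ 3 ∣ Nat.card (centralizer ({y} : Set G))
  · -- an element of `C(y)` moves `f` through `f⟨y⟩`
    set Cy := centralizer ({y} : Set G)
    have hPC : P ≤ Cy := fun a ha => mem_centralizer_singleton_iff.2 (hPy a ha).eq
    obtain ⟨S, hS⟩ := (hPp.of_equiv (subgroupOfEquivOfLe hPC).symm).exists_le_sylow
    set S' := (S : Subgroup Cy).map Cy.subtype
    have hPS : P ≤ S' := fun a ha => ⟨⟨a, hPC ha⟩, hS ha, rfl⟩
    have hlt : P < S' := by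
      refine lt_of_le_of_ne hPS fun e => ?_
      have h1 : s ^ 3 ∣ Nat.card S' := by
        rw [Cores.card_map_subtype]; exact S.pow_dvd_card_of_pow_dvd_card hB
      rw [← e, hPcard, Nat.pow_dvd_pow_iff_le_right hs.out.one_lt] at h1
      omega
    haveI : Finite S' := Finite.of_injective _ Subtype.val_injective
    haveI := (S.2.map Cy.subtype : IsPGroup s S').isNilpotent
    have hlt' : P.subgroupOf S' < ⊤ := lt_of_le_of_ne le_top fun e => by
      rw [Subgroup.subgroupOf_eq_top] at e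
      exact not_le_of_gt hlt e
    have hnc : NormalizerCondition S' := Group.normalizerCondition_of_isNilpotent
    obtain ⟨u, huN, huP⟩ := SetLike.exists_of_lt (hnc _ hlt')
    have huN' : (u : G) ∈ N := by
      refine Coprime.mem_normalizer_of_forall fun a ha => ?_
      have h1 := (Subgroup.mem_normalizer_iff.1 huN ⟨a, hPS ha⟩).1 (Subgroup.mem_subgroupOf.2 ha)
      exact h1
    have huC : Commute (u : G) y := by
      obtain ⟨z, -, hz⟩ := u.2
      exact hz ▸ mem_centralizer_singleton_iff.1 z.2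
    obtain ⟨e, he⟩ := (S.2.map Cy.subtype) u
    have he' : ((u : G)) ^ s ^ e = 1 := congrArg Subtype.val he
    set v : N := ⟨u, huN'⟩
    have hv : P.normalizerMonoidHom v y' = y' := Subtype.ext (mul_inv_eq_iff_eq_mul.2 huC.eq)
    obtain ⟨h01, h11⟩ : (L v) 0 1 = 0 ∧ (L v) 1 1 = 1 := by
      refine hρ.coord _ _ 0 1 ?_
      have h1 := hρ.apply_w (P.normalizerMonoidHom v)
      rw [hv] at h1
      rw [ZMod.val_zero, pow_zero, one_mul, ZMod.val_one, pow_one]
      exact h1.symm
    have hdet := hunip v e he'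
    rw [h01, h11, zero_mul, sub_zero, mul_one] at hdet
    have hD : (L v) 1 0 ≠ 0 := hnf v (fun h => huP h) e he'
    have hit := hiter v 0 0 ((L v) 1 0) (by rw [hdet, add_zero]) h01 rfl (by rw [h11, sub_zero]) (by ring)
    by_cases hi0 : (i : ZMod s) = 0
    · obtain ⟨t, ht⟩ := (ZMod.intCast_zmod_eq_zero_iff_dvd i s).1 hi0
      rw [hij, ht, zpow_mul, zpow_natCast, hfs, one_zpow, one_mul]
      exact zpow_mem (mem_zpowers y) j
    exfalso
    set t : ZMod s := (j : ZMod s) / ((i : ZMod s) * (L v) 1 0)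
    obtain ⟨w0, -, w2, -⟩ := hit t.val
    have hconj := (hact (v ^ t.val)).1
    rw [w0, w2, mul_zero, add_zero, ZMod.val_one, pow_one, ZMod.natCast_zmod_val] at hconj
    set a := (((v ^ t.val : N)) : G)
    have hz : (a * f * a⁻¹) ^ i = g * y * g⁻¹ := by
      rw [hconj, ((hfy.pow_right _).mul_zpow i), hij, mul_right_inj, ← zpow_natCast, ← zpow_mul,
        zpow_eq_zpow_iff_modEq, hy, ← ZMod.intCast_eq_intCast_iff]
      push_cast
      rw [ZMod.natCast_zmod_val]
      simp only [t]
      field_simp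
    refine parity (g⁻¹ * a) i ?_
    calc y = g⁻¹ * (g * y * g⁻¹) * g := by group
      _ = g⁻¹ * a * f ^ i * (g⁻¹ * a)⁻¹ := by rw [← hz, conj_zpow]; group
  · -- `P` is Sylow in `C(y)`
    set A := L.range
    haveI : Finite A := Finite.of_surjective _ L.rangeRestrict_surjective
    have hA : ¬ s ∣ Nat.card A := by
      intro hd
      obtain ⟨z, hz⟩ := exists_prime_orderOf_dvd_card' (G := A) s hd
      obtain ⟨u, hu, e, he⟩ := HallHigman.exists_pElement_preimage _ L.rangeRestrict_surjective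
        (x := z) ⟨1, by rw [pow_one]; exact orderOf_dvd_iff_pow_eq_one.1 hz.dvd⟩
      have hue : (u : G) ^ s ^ e = 1 := by simpa using congrArg (Subtype.val : N → G) he
      have huP : (u : G) ∉ P := fun huP => by
        have h1 : L u = 1 := by
          rw [hL, MonoidHom.comp_apply, show P.normalizerMonoidHom u = 1 from MulEquiv.ext fun x =>
            Subtype.ext (mul_inv_eq_iff_eq_mul.2 (hPcomm u huP x x.2).eq), map_one]
        have h2 : z = 1 := by rw [← hu]; exact Subtype.ext h1
        rw [h2, orderOf_one] at hz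
        exact hs.out.one_lt.ne hz
      -- a fixed vector
      obtain ⟨p, hp, hp1⟩ : ∃ p : P, P.normalizerMonoidHom u p = p ∧ p ≠ 1 := by
        have hzp : IsPGroup s (zpowers u) := by
          obtain ⟨l, -, hl⟩ := (Nat.dvd_prime_pow hs.out).1 (orderOf_dvd_of_pow_eq_one he)
          exact IsPGroup.of_card (n := l) (by rw [Nat.card_zpowers, hl])
        letI : MulAction (zpowers u) P := MulAction.compHom P (P.normalizerMonoidHom.comp (zpowers u).subtype)
        obtain ⟨b, hb, hb1⟩ := hzp.exists_fixed_point_of_prime_dvd_card_of_fixed_point P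
          (hPcard ▸ dvd_pow_self s two_ne_zero) (a := 1) (fun σ => map_one (P.normalizerMonoidHom (σ : N)))
        exact ⟨b, hb ⟨u, mem_zpowers u⟩, hb1.symm⟩
      obtain ⟨a, b, rfl⟩ := exists_coord hρ hPcard p
      obtain ⟨E1, E2⟩ : (L u) 0 0 * a + (L u) 0 1 * b = a ∧ (L u) 1 0 * a + (L u) 1 1 * b = b := by
        refine hρ.coord _ _ _ _ ?_
        refine Eq.trans ?_ hp
        rw [map_mul, map_pow, map_pow, hρ.apply_f, hρ.apply_w, mul_pow, mul_pow, ← pow_mul, ← pow_mul,
          ← pow_mul, ← pow_mul, mul_mul_mul_comm, ← pow_add, ← pow_add]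
        simp only [hL, MonoidHom.comp_apply]
        rw [← Plane.pow_val_eq hexp f' (_ + _), ← Plane.pow_val_eq hexp y' (_ + _)]
        push_cast
        simp only [ZMod.natCast_zmod_val]
      have hdet := hunip u e hue
      have hD := hnf u huP e hue
      set A' := (L u) 0 0 - 1
      set B := (L u) 0 1
      set D := (L u) 1 0
      set A'' := (L u) 1 1 - 1
      have hab : a ≠ 0 ∨ b ≠ 0 := by
        by_contra hc0
        push Not at hc0
        exact hp1 (by rw [hc0.1, hc0.2, ZMod.val_zero, pow_zero, pow_zero, one_mul])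
      have k1 : A' * a + B * b = 0 := by simp only [A', B]; linear_combination E1
      have k2 : D * a + A'' * b = 0 := by simp only [A'', D]; linear_combination E2
      have hdetN : A' * A'' - B * D = 0 := by
        rcases hab with h1 | h1
        · refine (mul_eq_zero.1 (?_ : (A' * A'' - B * D) * a = 0)).resolve_right h1
          linear_combination A'' * k1 - B * k2
        · refine (mul_eq_zero.1 (?_ : (A' * A'' - B * D) * b = 0)).resolve_right h1
          linear_combination A' * k2 - D * k1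
      have htr : A'' = -A' := by
        have : A' + A'' = 0 := by
          simp only [A', A'', B, D] at hdetN ⊢
          linear_combination hdet - hdetN
        linear_combination this
      have hq : A' * A' + B * D = 0 := by rw [htr] at hdetN; linear_combination -hdetN
      have hA0 : A' ≠ 0 := fun e0 => by
        rw [htr, e0, neg_zero, zero_mul, add_zero] at k2
        rw [e0, zero_mul, zero_add] at k1 hq
        have ha : a = 0 := (mul_eq_zero.1 k2).resolve_left hD
        have hb : b ≠ 0 := hab.resolve_left (not_not.2 ha)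
        have hB0 : B = 0 := (mul_eq_zero.1 k1).resolve_right hb
        refine hB (hbig u huP e hue y (hPle y hfy.symm (Commute.refl y)) (mul_inv_eq_iff_eq_mul.1 ?_))
        rw [(hact u).2]
        have h11 : (L u) 1 1 = 1 := by
          have h0 : A'' = 0 := by rw [htr, e0, neg_zero]
          exact sub_eq_zero.1 h0
        rw [show (L u) 0 1 = 0 from hB0, h11, ZMod.val_zero, pow_zero, one_mul, ZMod.val_one, pow_one]
      have hit := hiter u A' B D (by simp [A']) rfl rfl (by
        have : (L u) 1 1 - 1 = -A' := htr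
        linear_combination this) hq (A'⁻¹).val
      obtain ⟨-, w1, -, w3⟩ := hit
      have hconj := (hact (u ^ (A'⁻¹).val)).2
      have h3' : (L (u ^ (A'⁻¹).val)) 1 1 = 0 := by
        rw [w3, ZMod.natCast_zmod_val, inv_mul_cancel₀ hA0, sub_self]
      rw [h3', ZMod.val_zero, pow_zero, mul_one] at hconj
      set v := ((u ^ (A'⁻¹).val : N) : G)
      refine parity v⁻¹ (((L (u ^ (A'⁻¹).val)) 0 1).val : ℤ) ?_
      rw [zpow_natCast, ← hconj]
      group
    have hstab : ∀ a ∈ A, a 1 0 = 0 → a 0 0 = 1 := by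
      rintro _ ⟨n, rfl⟩ hn
      refine ((hρ.fix_iff (P.normalizerMonoidHom n)).1 (Subtype.ext ?_)).1
      exact mul_inv_eq_iff_eq_mul.2 (hfixf n hn).eq
    have hline := Plane.stab_line hA (A := A) ⟨⟨c, hcN⟩, rfl⟩ hmov hstab
    -- Sylow conjugation in `C(g y g⁻¹)`
    set z := g * y * g⁻¹ with hzdef
    set Cz := centralizer ({z} : Set G) with hCz
    have hPz : P ≤ Cz := fun a ha => mem_centralizer_singleton_iff.2 (hPcomm a ha z hg).eq
    set P2 := P.map (MulAut.conj g).toMonoidHom with hP2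
    have hP2z : P2 ≤ Cz := by
      rintro _ ⟨a, ha, rfl⟩
      refine mem_centralizer_singleton_iff.2 ?_
      simp only [MulEquiv.coe_toMonoidHom, MulAut.conj_apply, hzdef]
      rw [conj_mul, conj_mul, (hPy a ha).eq]
    have hzc : Nat.card Cz = Nat.card (centralizer ({y} : Set G)) := by
      refine (Nat.card_congr ((MulAut.conj g).toEquiv.subtypeEquiv fun a => ?_)).symm
      simp only [MulEquiv.toEquiv_eq_coe, EquivLike.coe_coe, MulAut.conj_apply, hCz,
        mem_centralizer_singleton_iff, hzdef]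
      constructor
      · intro h1; rw [conj_mul, conj_mul, h1]
      · intro h1; rw [conj_mul, conj_mul] at h1; exact mul_left_cancel (mul_right_cancel h1)
    have hsyl : ∀ R : Subgroup G, R ≤ Cz → Nat.card R = s ^ 2 →
        ∃ S : Sylow s Cz, (S : Subgroup Cz) = R.subgroupOf Cz := by
      intro R hR hRc
      have hc : Nat.card (R.subgroupOf Cz) = s ^ 2 := by rw [Cores.card_subgroupOf hR, hRc]
      obtain ⟨S, hS⟩ := (IsPGroup.of_card hc).exists_le_sylow
      refine ⟨S, (Subgroup.eq_of_le_of_card_ge hS ?_).symm⟩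
      obtain ⟨n, hn⟩ := IsPGroup.iff_card.1 S.2
      rw [hc, hn]
      refine Nat.pow_le_pow_right hs.out.pos (not_lt.1 fun h4 => hB ?_)
      rw [← hzc]
      exact ((pow_dvd_pow s h4).trans (dvd_of_eq hn.symm)).trans (card_subgroup_dvd_card _)
    obtain ⟨S1, hS1⟩ := hsyl P hPz hPcard
    obtain ⟨S2, hS2⟩ := hsyl P2 hP2z (by
      rw [hP2, Subgroup.card_map_of_injective (MulAut.conj g).injective, hPcard])
    obtain ⟨q, hq⟩ := MulAction.exists_smul_eq Cz S2 S1
    have hn : (q : G) * g ∈ N := by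
      refine Coprime.mem_normalizer_of_forall fun a ha => ?_
      have h1 : (⟨g * a * g⁻¹, hP2z ⟨a, ha, rfl⟩⟩ : Cz) ∈ (S2 : Subgroup Cz) := by
        rw [hS2]; exact ⟨a, ha, rfl⟩
      have h2 : q * ⟨g * a * g⁻¹, hP2z ⟨a, ha, rfl⟩⟩ * q⁻¹ ∈ (S1 : Subgroup Cz) := by
        rw [← hq]; exact ⟨_, h1, rfl⟩
      rw [hS1, Subgroup.mem_subgroupOf] at h2
      simpa [mul_assoc] using h2
    have h01 := hline _ ⟨⟨_, hn⟩, rfl⟩
    have h1 := (hact ⟨_, hn⟩).2
    rw [hval _ h01, pow_zero, one_mul] at h1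
    have h2 : (q : G) * g * y * ((q : G) * g)⁻¹ = z := by
      have hqz : Commute (q : G) z := mem_centralizer_singleton_iff.1 q.2
      calc (q : G) * g * y * ((q : G) * g)⁻¹ = q * z * (q : G)⁻¹ := by rw [hzdef]; group
        _ = z := mul_inv_eq_iff_eq_mul.2 hqz.eq
    rw [← h2]
    exact h1 ▸ pow_mem (mem_zpowers y) _

theorem natCard_modEq_fixed {α : Type*} [Finite α] [MulAction G α] {P : Subgroup G} (hP : IsPGroup s P) :
    Nat.card α ≡ Nat.card {a : α // ∀ p ∈ P, p • a = a} [MOD s] := by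
  refine (hP.card_modEq_card_fixedPoints α).trans (congrArg (· % s) (Nat.card_congr ?_))
  exact
    { toFun := fun a => ⟨a.1, fun p hp => a.2 ⟨p, hp⟩⟩
      invFun := fun a => ⟨a.1, fun p => a.2 p p.2⟩
      left_inv := fun _ => rfl
      right_inv := fun _ => rfl }

/-- **No field automorphism with a moved torus element.** -/
theorem false_of_mover {f y c : G} (hperf : _root_.commutator G = ⊤) (hs2 : s ≠ 2) (hf : orderOf f = s)
    (hy : orderOf y = s) (hfy : Commute f y) (hyf : y ∉ zpowers f) (hcf : Commute c f)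
    (hcy : c * y * c⁻¹ ∈ zpowers y) (hmove : ¬ Commute c y) (hco : Odd (orderOf c))
    (hN : ∀ g : G, g * f * g⁻¹ ∈ zpowers f → Commute g f)
    (h3 : ¬ s ^ 3 ∣ Nat.card (centralizer ({f} : Set G)))
    (hev : 2 ∣ Nat.card (centralizer ({f} : Set G))) (hodd : Odd (Nat.card (centralizer ({y} : Set G)))) :
    False := by
  classical
  set Y : Subgroup G := zpowers y with hY
  set M := normalizer (Y : Set G) with hM
  set Cy := centralizer ({y} : Set G) with hCy
  have hCM : Cy ≤ M := by
    intro x hx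
    refine centralizer_le_normalizer _ (mem_centralizer_iff.2 fun z hz => ?_)
    obtain ⟨i, rfl⟩ := mem_zpowers_iff.1 hz
    exact ((show Commute x y from mem_centralizer_singleton_iff.1 hx).zpow_right i).symm.eq
  have hact : ∀ m : M, ∃ b : ℕ, (m : G) * y * (m : G)⁻¹ = y ^ b := fun m => by
    obtain ⟨b, hb⟩ := mem_powers_iff_mem_zpowers.2
      ((Subgroup.mem_normalizer_iff.1 m.2 y).1 (mem_zpowers y))
    exact ⟨b, hb.symm⟩
  have hcomp : ∀ (m n : M) (a b : ℕ), (m : G) * y * (m : G)⁻¹ = y ^ a → (n : G) * y * (n : G)⁻¹ = y ^ b →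
      ((m * n : M) : G) * y * ((m * n : M) : G)⁻¹ = y ^ (a * b) := by
    intro m n a b ha hb
    calc ((m * n : M) : G) * y * ((m * n : M) : G)⁻¹ = m * ((n : G) * y * (n : G)⁻¹) * (m : G)⁻¹ := by
          simp [mul_assoc]
      _ = y ^ (a * b) := by rw [hb, ← conj_pow, ha, pow_mul]
  -- an element of order prime to `s` that moves `y`
  obtain ⟨c', hc'f, hc'y, hc'm, hc'k⟩ : ∃ c' : G, Commute c' f ∧ c' * y * c'⁻¹ ∈ zpowers y ∧
      ¬ Commute c' y ∧ ∃ k : ℕ, Odd k ∧ ¬ s ∣ k ∧ c' ^ k = 1 := by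
    obtain ⟨e, r, hr, her⟩ := Nat.exists_eq_pow_mul_and_not_dvd (orderOf_pos c).ne' s hs.out.ne_one
    have hodd' : Odd r := (her ▸ hco).of_dvd_nat (dvd_mul_left _ _)
    obtain ⟨b, hb⟩ := mem_powers_iff_mem_zpowers.2 hcy
    simp only at hb
    have hpow : ∀ n : ℕ, c ^ n * y * (c ^ n)⁻¹ = y ^ (b ^ n) := by
      intro n
      induction n with
      | zero => simp
      | succ n ih =>
        rw [pow_succ c n]
        calc c ^ n * c * y * (c ^ n * c)⁻¹ = c ^ n * (c * y * c⁻¹) * (c ^ n)⁻¹ := by group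
          _ = y ^ (b ^ (n + 1)) := by rw [← hb, ← conj_pow, ih, ← pow_mul, ← pow_succ]
    refine ⟨c ^ s ^ e, hcf.pow_left _, ?_, fun hcm => hmove ?_, r, hodd', hr, by
      rw [← pow_mul, ← her, pow_orderOf_eq_one]⟩
    · rw [hpow]; exact pow_mem (mem_zpowers y) _
    · have h1 : y ^ (b ^ s ^ e) = y ^ 1 := by rw [← hpow, pow_one]; exact mul_inv_eq_iff_eq_mul.2 hcm.eq
      rw [pow_eq_pow_iff_modEq, hy, ← ZMod.natCast_eq_natCast_iff, Nat.cast_pow, ZMod.pow_card_pow,
        Nat.cast_one] at h1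
      have h2 : y ^ b = y ^ 1 := by
        rw [pow_eq_pow_iff_modEq, hy, ← ZMod.natCast_eq_natCast_iff, Nat.cast_one]; exact h1
      rw [pow_one, hb] at h2
      exact mul_inv_eq_iff_eq_mul.1 h2
  have hfM : f ∈ M := hCM (mem_centralizer_singleton_iff.2 hfy.eq)
  have hyM : y ∈ M := hCM (mem_centralizer_singleton_iff.2 rfl)
  have hcM : c' ∈ M := by
    refine Coprime.mem_normalizer_of_forall fun x hx => ?_
    obtain ⟨i, rfl⟩ := mem_zpowers_iff.1 hx
    rw [← conj_zpow]
    exact zpow_mem hc'y i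
  set C := Cy.subgroupOf M with hC
  haveI hCn : C.Normal := ⟨fun x hx m => by
    rw [hC, Subgroup.mem_subgroupOf, hCy, mem_centralizer_singleton_iff]
    obtain ⟨b, hb⟩ := hact m⁻¹
    have hxy : Commute (x : G) y := mem_centralizer_singleton_iff.1 (Subgroup.mem_subgroupOf.1 hx)
    have h2 : Commute (x : G) (((m⁻¹ : M) : G) * y * ((m⁻¹ : M) : G)⁻¹) := hb ▸ hxy.pow_right b
    have h3 := (Commute.conj_iff (m : G)).2 h2
    simpa [mul_assoc] using h3.eq⟩
  set f0 : M := ⟨f, hfM⟩
  have hd : Data s C f0 (⟨y, hyM⟩ : M) (⟨c', hcM⟩ : M) := by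
    refine
      { normal := hCn
        odd := ?_
        idx := ?_
        ne_two := hs2
        ord_f := by rw [Subgroup.orderOf_mk]; exact hf
        ord_y := by rw [Subgroup.orderOf_mk]; exact hy
        mem_f := Subgroup.mem_subgroupOf.2 (mem_centralizer_singleton_iff.2 hfy.eq)
        mem_y := Subgroup.mem_subgroupOf.2 (mem_centralizer_singleton_iff.2 rfl)
        central := fun x hx => Subtype.ext (mem_centralizer_singleton_iff.1 (Subgroup.mem_subgroupOf.1 hx))
        nmem := ?_
        comm_c := Subtype.ext hc'f.eq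
        norm_c := ?_
        move := fun h => hc'm (congrArg Subtype.val h)
        pow_c := ?_
        ab := ?_
        rigid := ?_
        bound := ?_ }
    · rw [hC, Cores.card_subgroupOf hCM]; exact hodd
    · intro hd'
      rw [index_eq_card] at hd'
      obtain ⟨q, hq⟩ := exists_prime_orderOf_dvd_card' (G := M ⧸ C) s hd'
      obtain ⟨m, rfl⟩ := QuotientGroup.mk'_surjective C q
      obtain ⟨b, hb⟩ := hact m
      have hpow : ∀ n : ℕ, ((m ^ n : M) : G) * y * ((m ^ n : M) : G)⁻¹ = y ^ (b ^ n) := by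
        intro n
        induction n with
        | zero => simp
        | succ n ih => rw [pow_succ m n, hcomp _ _ _ _ ih hb, ← pow_succ]
      have h1 : QuotientGroup.mk' C m ^ s = 1 := orderOf_dvd_iff_pow_eq_one.1 hq.dvd
      rw [← map_pow, QuotientGroup.mk'_apply, QuotientGroup.eq_one_iff, hC, Subgroup.mem_subgroupOf, hCy,
        mem_centralizer_singleton_iff] at h1
      have h2 : y ^ (b ^ s) = y ^ 1 := by rw [← hpow, pow_one]; exact mul_inv_eq_iff_eq_mul.2 h1
      rw [pow_eq_pow_iff_modEq, hy, ← ZMod.natCast_eq_natCast_iff, Nat.cast_pow, ZMod.pow_card,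
        Nat.cast_one] at h2
      have h3 : y ^ b = y ^ 1 := by
        rw [pow_eq_pow_iff_modEq, hy, ← ZMod.natCast_eq_natCast_iff, Nat.cast_one]; exact h2
      rw [pow_one, ← hb] at h3
      have h4 : QuotientGroup.mk' C m = 1 := by
        rw [QuotientGroup.mk'_apply, QuotientGroup.eq_one_iff, hC, Subgroup.mem_subgroupOf, hCy,
          mem_centralizer_singleton_iff]
        exact mul_inv_eq_iff_eq_mul.1 h3
      rw [h4, orderOf_one] at hq
      exact hs.out.one_lt.ne hq
    · intro h
      obtain ⟨i, hi⟩ := mem_zpowers_iff.1 h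
      exact hyf (mem_zpowers_iff.2 ⟨i, by simpa [f0] using congrArg (Subtype.val : M → G) hi⟩)
    · obtain ⟨i, hi⟩ := mem_zpowers_iff.1 hc'y
      exact mem_zpowers_iff.2 ⟨i, Subtype.ext (by simpa using hi)⟩
    · obtain ⟨k, hk, hks, hck⟩ := hc'k
      exact ⟨k, hk, hks, Subtype.ext (by simpa using hck)⟩
    · intro m
      set c0 : M := ⟨c', hcM⟩
      rw [hC, Subgroup.mem_subgroupOf, hCy, mem_centralizer_singleton_iff]
      obtain ⟨a, ha⟩ := hact m
      obtain ⟨b, hb⟩ := hact c0
      have h1 := hcomp m c0 a b ha hb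
      have h2 := hcomp c0 m b a hb ha
      rw [mul_comm b a] at h2
      obtain ⟨e, he⟩ := hact (c0 * m)⁻¹
      have h3 : ((m * c0 : M) : G) * (((c0 * m)⁻¹ : M) : G) * y *
          (((m * c0 : M) : G) * (((c0 * m)⁻¹ : M) : G))⁻¹ = y := by
        calc _ = ((m * c0 : M) : G) * ((((c0 * m)⁻¹ : M) : G) * y * (((c0 * m)⁻¹ : M) : G)⁻¹) *
              ((m * c0 : M) : G)⁻¹ := by group
          _ = ((c0 * m : M) : G) * ((((c0 * m)⁻¹ : M) : G) * y * (((c0 * m)⁻¹ : M) : G)⁻¹) *
              ((c0 * m : M) : G)⁻¹ := by rw [he, ← conj_pow, ← conj_pow, h1, h2]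
          _ = y := by push_cast; group
      have h4 := mul_inv_eq_iff_eq_mul.1 h3
      simpa [mul_assoc] using h4
    · intro m hm
      obtain ⟨i, hi⟩ := mem_zpowers_iff.1 hm
      exact Subtype.ext (hN _ (mem_zpowers_iff.2 ⟨i, by
        simpa [f0] using congrArg (Subtype.val : M → G) hi⟩)).eq
    · intro R hR hRp hfR
      set T : Subgroup M := R ⊓ centralizer ({f0} : Set M)
      obtain ⟨n, hn⟩ := IsPGroup.iff_card.1 (hRp.to_le (inf_le_left : T ≤ R))
      rw [hn]
      refine Nat.pow_le_pow_right hs.out.pos (not_lt.1 fun h4 => h3 ?_)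
      refine ((pow_dvd_pow s h4).trans (dvd_of_eq ?_)).trans
        (card_dvd_of_le (show T.map M.subtype ≤ centralizer ({f} : Set G) from ?_))
      · rw [Cores.card_map_subtype, hn]
      · rintro _ ⟨z, hz, rfl⟩
        exact mem_centralizer_singleton_iff.2 (congrArg Subtype.val (mem_centralizer_singleton_iff.1 hz.2))
  obtain ⟨φ, hφ, hinv⟩ := hd.exists_hom
  let ι : Cy →* C := (subgroupOfEquivOfLe hCM).symm.toMonoidHom
  let ψ : Cy →* Multiplicative (ZMod s) := φ.comp ι
  set τ := MonoidHom.transfer ψ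
  have hτ : τ f = 1 := by
    have h1 : (⊤ : Subgroup G) ≤ τ.ker := by
      rw [← hperf, _root_.commutator_def, Subgroup.commutator_le]
      intro a _ b _
      rw [MonoidHom.mem_ker, map_commutatorElement, commutatorElement_eq_one_iff_commute]
      exact Commute.all _ _
    exact MonoidHom.mem_ker.1 (h1 (Subgroup.mem_top f))
  haveI : Fintype (Quotient (MulAction.orbitRel (zpowers f) (G ⧸ Cy))) := Fintype.ofFinite _
  rw [MonoidHom.transfer_eq_prod_quotient_orbitRel_zpowers_quot] at hτ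
  set φf := φ ⟨f0, hd.mem_f⟩
  -- fixed cosets
  have hfix : ∀ g : G, g⁻¹ * f * g ∈ Cy → ∀ hh : g⁻¹ * f * g ∈ Cy, ψ ⟨g⁻¹ * f * g, hh⟩ = φf := by
    intro g hg hh
    set z := g * y * g⁻¹ with hz
    have hzf : Commute f z := by
      have h1 : Commute (g⁻¹ * f * g) y := mem_centralizer_singleton_iff.1 hg
      have h2 := (Commute.conj_iff g).2 h1
      simpa [hz, mul_assoc] using h2
    set X := centralizer ({f} : Set G)
    set P := zpowers f ⊔ zpowers y
    have hPX : P ≤ X := sup_le (zpowers_le.2 (mem_centralizer_singleton_iff.2 rfl))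
      (zpowers_le.2 (mem_centralizer_singleton_iff.2 hfy.symm.eq))
    have hdvd : ∀ w : G, orderOf w = s → w ∈ X → w ∉ zpowers f →
        IsPGroup s (zpowers f ⊔ zpowers w : Subgroup G) ∧
        s ^ 2 ∣ Nat.card (zpowers f ⊔ zpowers w : Subgroup G) := by
      intro w hw hwX hwf
      have hfn : zpowers w ≤ normalizer ((zpowers f : Subgroup G) : Set G) := by
        refine zpowers_le.2 (centralizer_le_normalizer _ (mem_centralizer_iff.2 fun x hx => ?_))
        obtain ⟨i, rfl⟩ := mem_zpowers_iff.1 hx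
        exact ((show Commute w f from mem_centralizer_singleton_iff.1 hwX).zpow_right i).symm.eq
      have hp : IsPGroup s (zpowers f ⊔ zpowers w : Subgroup G) :=
        (IsPGroup.of_card (n := 1) (by rw [Nat.card_zpowers, hf, pow_one])).to_sup_of_normal_left'
          (IsPGroup.of_card (n := 1) (by rw [Nat.card_zpowers, hw, pow_one])) hfn
      refine ⟨hp, ?_⟩
      obtain ⟨n, hn⟩ := IsPGroup.iff_card.1 hp
      rw [hn]
      refine pow_dvd_pow s (not_lt.1 fun h1 => hwf ?_)
      have h2 : zpowers f = zpowers f ⊔ zpowers w := Subgroup.eq_of_le_of_card_ge le_sup_left (by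
        rw [hn, Nat.card_zpowers, hf]
        exact (Nat.pow_le_pow_right hs.out.pos (show n ≤ 1 by omega)).trans (pow_one s).le)
      rw [h2]; exact mem_sup_right (mem_zpowers w)
    have hzo : orderOf z = s := by rw [hz, ← MulAut.conj_apply, MulEquiv.orderOf_eq, hy]
    have hzX : z ∈ X := mem_centralizer_singleton_iff.2 hzf.symm.eq
    have hznf : z ∉ zpowers f := fun hm => by
      obtain ⟨i, hi⟩ := mem_zpowers_iff.1 hm
      obtain ⟨x, hx⟩ := exists_prime_orderOf_dvd_card' (G := X) 2 hev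
      have h1 : g⁻¹ * (x : G) * g ∈ Cy := mem_centralizer_singleton_iff.2 (by
        have hxz : Commute (x : G) z :=
          hi ▸ (show Commute (x : G) f from mem_centralizer_singleton_iff.1 x.2).zpow_right i
        have := (Commute.conj_iff g⁻¹).2 hxz
        simpa [hz, mul_assoc] using this.eq)
      have h2 : orderOf (⟨_, h1⟩ : Cy) = 2 := by
        rw [Subgroup.orderOf_mk,
          show g⁻¹ * (x : G) * g = MulAut.conj g⁻¹ (x : G) by simp, MulEquiv.orderOf_eq,
          Subgroup.orderOf_coe, hx]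
      exact (Nat.not_even_iff_odd.2 hodd) (even_iff_two_dvd.2 (h2 ▸ _root_.orderOf_dvd_natCard _))
    obtain ⟨hp1, hd1⟩ := hdvd y hy (mem_centralizer_singleton_iff.2 hfy.symm.eq) hyf
    obtain ⟨hp2, hd2⟩ := hdvd z hzo hzX hznf
    have hP2X : zpowers f ⊔ zpowers z ≤ X :=
      sup_le (zpowers_le.2 (mem_centralizer_singleton_iff.2 rfl)) (zpowers_le.2 hzX)
    have hsyl : ∀ R : Subgroup G, R ≤ X → IsPGroup s R → s ^ 2 ∣ Nat.card R →
        ∃ S : Sylow s X, (S : Subgroup X) = R.subgroupOf X := by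
      intro R hR hRp hRd
      obtain ⟨S, hS⟩ := (hRp.of_equiv (subgroupOfEquivOfLe hR).symm).exists_le_sylow
      refine ⟨S, (Subgroup.eq_of_le_of_card_ge hS ?_).symm⟩
      obtain ⟨n, hn⟩ := IsPGroup.iff_card.1 S.2
      rw [Cores.card_subgroupOf hR, hn]
      refine le_trans (Nat.pow_le_pow_right hs.out.pos (not_lt.1 fun h4 => h3 ?_)) (Nat.le_of_dvd Nat.card_pos hRd)
      exact ((pow_dvd_pow s h4).trans (dvd_of_eq hn.symm)).trans (card_subgroup_dvd_card _)
    obtain ⟨S1, hS1⟩ := hsyl _ hPX hp1 hd1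
    obtain ⟨S2, hS2⟩ := hsyl _ hP2X hp2 hd2
    obtain ⟨q, hq⟩ := MulAction.exists_smul_eq X S2 S1
    have hqz : (q : G) * g * y * ((q : G) * g)⁻¹ ∈ P := by
      have h1 : (⟨z, hzX⟩ : X) ∈ (S2 : Subgroup X) := by
        rw [hS2]; exact mem_sup_right (mem_zpowers z)
      have h2 : q * ⟨z, hzX⟩ * q⁻¹ ∈ (S1 : Subgroup X) := by rw [← hq]; exact ⟨_, h1, rfl⟩
      rw [hS1, Subgroup.mem_subgroupOf] at h2
      simpa [hz, mul_assoc] using h2
    have hn : (q : G) * g ∈ M := line_lemma hs2 hf hy hfy hyf hc'f hc'y hc'm hc'k hN h3 hev hodd hqz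
    have hqf : Commute (q : G) f := mem_centralizer_singleton_iff.1 q.2
    set n : M := ⟨_, hn⟩
    have e1 : g⁻¹ * f * g = ((q : G) * g)⁻¹ * f * ((q : G) * g) := by
      calc g⁻¹ * f * g = g⁻¹ * ((q : G)⁻¹ * ((q : G) * f)) * g := by group
        _ = g⁻¹ * ((q : G)⁻¹ * (f * (q : G))) * g := by rw [hqf.eq]
        _ = _ := by group
    show φ (ι ⟨g⁻¹ * f * g, hh⟩) = φf
    refine Eq.trans (congrArg φ (Subtype.ext (Subtype.ext ?_))) (hinv n⁻¹)
    simpa [ι, n, f0, mul_assoc] using e1
  -- all factors are `φf` or `1`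
  have hper : ∀ q : Quotient (MulAction.orbitRel (zpowers f) (G ⧸ Cy)),
      Function.minimalPeriod (f • ·) q.out = 1 ∨ Function.minimalPeriod (f • ·) q.out = s := fun q =>
    (Nat.dvd_prime hs.out).1 (Function.IsPeriodicPt.minimalPeriod_dvd (by
      show (f • ·)^[s] q.out = q.out
      simp [smul_iterate, pow_prime_eq_one hf]))
  have hprod : φf ^ Nat.card {q : Quotient (MulAction.orbitRel (zpowers f) (G ⧸ Cy)) //
      Function.minimalPeriod (f • ·) q.out = 1} = 1 := by
    rw [Nat.card_eq_fintype_card, Fintype.card_subtype, ← Finset.prod_const, ← hτ, Finset.prod_filter]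
    refine Finset.prod_congr rfl fun q _ => ?_
    by_cases h1 : Function.minimalPeriod (f • ·) q.out = 1
    · rw [if_pos h1]
      have hmem := QuotientGroup.out_conj_pow_minimalPeriod_mem Cy f q.out
      rw [h1, pow_one] at hmem
      refine (hfix _ hmem hmem).symm.trans (congrArg ψ (Subtype.ext ?_))
      show q.out.out⁻¹ * f * q.out.out = q.out.out⁻¹ * f ^ Function.minimalPeriod (f • ·) q.out * q.out.out
      rw [h1, pow_one]
    · rw [if_neg h1, eq_comm]
      refine (congrArg ψ (Subtype.ext ?_)).trans (map_one ψ)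
      show q.out.out⁻¹ * f ^ Function.minimalPeriod (f • ·) q.out * q.out.out = 1
      rw [(hper q).resolve_left h1, pow_prime_eq_one hf, mul_one, inv_mul_cancel]
  -- the number of fixed cosets is prime to `s`
  have horb : Nat.card {q : Quotient (MulAction.orbitRel (zpowers f) (G ⧸ Cy)) //
      Function.minimalPeriod (f • ·) q.out = 1} = Nat.card {a : G ⧸ Cy // f • a = a} := by
    refine Nat.card_congr
      { toFun := fun q => ⟨q.1.out, Function.minimalPeriod_eq_one_iff_isFixedPt.1 q.2⟩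
        invFun := fun a => ⟨⟦a.1⟧, ?_⟩
        left_inv := fun q => Subtype.ext q.1.out_eq
        right_inv := fun a => Subtype.ext ?_ }
    · obtain ⟨⟨z, hz⟩, hza⟩ := Quotient.mk_out (s := MulAction.orbitRel (zpowers f) (G ⧸ Cy)) a.1
      obtain ⟨i, rfl⟩ := mem_zpowers_iff.1 hz
      have hfa : f ^ i • a.1 = a.1 := MulAction.mem_stabilizer_iff.1 (zpow_mem (MulAction.mem_stabilizer_iff.2 a.2) i)
      rw [← hza, Function.minimalPeriod_eq_one_iff_isFixedPt]
      show f • (f ^ i • a.1) = f ^ i • a.1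
      rw [hfa]; exact a.2
    · obtain ⟨⟨z, hz⟩, hza⟩ := Quotient.mk_out (s := MulAction.orbitRel (zpowers f) (G ⧸ Cy)) a.1
      obtain ⟨i, rfl⟩ := mem_zpowers_iff.1 hz
      exact hza.symm.trans (MulAction.mem_stabilizer_iff.1 (zpow_mem (MulAction.mem_stabilizer_iff.2 a.2) i))
  set P := zpowers f ⊔ zpowers y with hP
  have hyc : P ≤ centralizer ({f} : Set G) := sup_le (zpowers_le.2 (mem_centralizer_singleton_iff.2 rfl))
    (zpowers_le.2 (mem_centralizer_singleton_iff.2 hfy.symm.eq))
  have hPy : P ≤ Cy := sup_le (zpowers_le.2 (mem_centralizer_singleton_iff.2 hfy.eq))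
    (zpowers_le.2 (mem_centralizer_singleton_iff.2 rfl))
  have hPp : IsPGroup s P := (IsPGroup.of_card (n := 1) (by rw [Nat.card_zpowers, hf, pow_one])).to_sup_of_normal_left'
    (IsPGroup.of_card (n := 1) (by rw [Nat.card_zpowers, hy, pow_one])) (zpowers_le.2
      (centralizer_le_normalizer _ (mem_centralizer_iff.2 fun x hx => by
        obtain ⟨i, rfl⟩ := mem_zpowers_iff.1 hx
        exact (hfy.symm.zpow_right i).symm.eq)))
  have hP2 : s ^ 2 ≤ Nat.card P := by
    obtain ⟨n, hn⟩ := IsPGroup.iff_card.1 hPp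
    rw [hn]
    refine Nat.pow_le_pow_right hs.out.pos (not_lt.1 fun h1 => hyf ?_)
    have h2 : zpowers f = P := Subgroup.eq_of_le_of_card_ge le_sup_left (by
      rw [hn, Nat.card_zpowers, hf]
      exact (Nat.pow_le_pow_right hs.out.pos (show n ≤ 1 by omega)).trans (pow_one s).le)
    exact h2 ▸ mem_sup_right (mem_zpowers y)
  -- `P` acts on the fixed cosets
  letI : MulAction (centralizer ({f} : Set G)) {a : G ⧸ Cy // f • a = a} :=
    { smul := fun x a => ⟨(x : G) • a.1, by
        rw [smul_smul, ← mem_centralizer_singleton_iff.1 x.2, mul_smul, a.2]⟩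
      one_smul := fun a => Subtype.ext (one_smul _ _)
      mul_smul := fun x x' a => Subtype.ext (mul_smul (x : G) (x' : G) a.1) }
  have hmod := natCard_modEq_fixed (G := centralizer ({f} : Set G)) (s := s)
    (α := {a : G ⧸ Cy // f • a = a}) (hPp.of_equiv (subgroupOfEquivOfLe hyc).symm)
  have hfixN : Nat.card {a : {a : G ⧸ Cy // f • a = a} //
      ∀ p ∈ P.subgroupOf (centralizer ({f} : Set G)), p • a = a} = C.index := by
    rw [index_eq_card]
    have hback : ∀ g : G, (∀ p ∈ P, g⁻¹ * p * g ∈ Cy) → g ∈ M := by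
      intro g hg
      have hz : ∀ p ∈ P, Commute p (g * y * g⁻¹) := fun p hp => by
        have h1 : Commute (g⁻¹ * p * g) y := mem_centralizer_singleton_iff.1 (hg p hp)
        have h2 := (Commute.conj_iff g).2 h1
        simpa [mul_assoc] using h2
      refine line_lemma hs2 hf hy hfy hyf hc'f hc'y hc'm hc'k hN h3 hev hodd ?_
      by_contra hnot
      have hzo : orderOf (g * y * g⁻¹) = s := by rw [← MulAut.conj_apply, MulEquiv.orderOf_eq, hy]
      have hn : zpowers (g * y * g⁻¹) ≤ normalizer (P : Set G) := by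
        refine zpowers_le.2 (centralizer_le_normalizer _ (mem_centralizer_iff.2 fun x hx => ?_))
        exact (hz x hx).eq
      obtain ⟨n, hn'⟩ := IsPGroup.iff_card.1 (hPp.to_sup_of_normal_left'
        (IsPGroup.of_card (n := 1) (by rw [Nat.card_zpowers, hzo, pow_one])) hn)
      have hlt : Nat.card P < Nat.card (P ⊔ zpowers (g * y * g⁻¹) : Subgroup G) := by
        refine lt_of_le_of_ne (Subgroup.card_le_of_le le_sup_left) fun e => hnot ?_
        show g * y * g⁻¹ ∈ P
        rw [Subgroup.eq_of_le_of_card_ge (le_sup_left : P ≤ P ⊔ zpowers (g * y * g⁻¹)) e.ge]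
        exact mem_sup_right (mem_zpowers _)
      have hlt' := lt_of_le_of_lt hP2 (hn' ▸ hlt)
      rw [Nat.pow_lt_pow_iff_right hs.out.one_lt] at hlt'
      refine h3 (((pow_dvd_pow s hlt').trans (dvd_of_eq hn'.symm)).trans (card_dvd_of_le (sup_le hyc ?_)))
      exact zpowers_le.2 (mem_centralizer_singleton_iff.2 (hz f (mem_sup_left (mem_zpowers f))).symm.eq)
    have hmem : ∀ (m : M) (p : G), p ∈ P → (m : G)⁻¹ * p * (m : G) ∈ Cy := fun m p hp => by
      have h1 : (⟨p, hCM (hPy hp)⟩ : M) ∈ C := hPy hp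
      simpa [hC, Subgroup.mem_subgroupOf] using hCn.conj_mem _ h1 m⁻¹
    refine (Nat.card_eq_of_bijective (fun q : M ⧸ C => ?_) ⟨?_, ?_⟩).symm
    · refine ⟨⟨((q.out : M) : G), ?_⟩, ?_⟩
      · show ((f * ((q.out : M) : G) : G) : G ⧸ Cy) = _
        rw [QuotientGroup.eq]
        have := inv_mem (hmem q.out f (mem_sup_left (mem_zpowers f)))
        simpa [mul_assoc] using this
      · intro p hp
        refine Subtype.ext ?_
        show (((p : G) * ((q.out : M) : G) : G) : G ⧸ Cy) = _
        rw [QuotientGroup.eq]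
        have := inv_mem (hmem q.out p hp)
        simpa [mul_assoc] using this
    · intro a b hab
      have h1 := QuotientGroup.eq.1 (congrArg (fun z => z.1.1) hab : ((a.out : M) : G ⧸ Cy) = ((b.out : M) : G))
      exact a.out_eq'.symm.trans ((QuotientGroup.eq.2 (Subgroup.mem_subgroupOf.2 (by simpa using h1))).trans b.out_eq')
    · rintro ⟨⟨a, ha⟩, hP'⟩
      induction a using QuotientGroup.induction_on with | _ g => ?_
      have hg : g ∈ M := hback g fun p hp => by
        have h1 : (((p * g : G)) : G ⧸ Cy) = (g : G ⧸ Cy) :=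
          congrArg Subtype.val (hP' ⟨p, hyc hp⟩ hp)
        have h2 := inv_mem (QuotientGroup.eq.1 h1)
        simpa [mul_assoc] using h2
      refine ⟨((⟨g, hg⟩ : M) : M ⧸ C), Subtype.ext (Subtype.ext (QuotientGroup.eq.2 ?_))⟩
      obtain ⟨z, hz⟩ := QuotientGroup.mk_out_eq_mul C ⟨g, hg⟩
      rw [hz]
      simp only [Subgroup.coe_mul, mul_inv_rev]
      have := inv_mem (Subgroup.mem_subgroupOf.1 z.2)
      simpa [mul_assoc] using this
  rw [hfixN] at hmod
  rw [horb] at hprod
  have hns : ¬ s ∣ Nat.card {a : G ⧸ Cy // f • a = a} := fun hd' =>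
    hd.idx (Nat.modEq_zero_iff_dvd.1 (hmod.symm.trans (Nat.modEq_zero_iff_dvd.2 hd')))
  have hdv := orderOf_dvd_of_pow_eq_one hprod
  have ho : orderOf φf = s := by
    refine orderOf_eq_prime ?_ hφ
    rw [← map_pow, show (⟨f0, hd.mem_f⟩ : C) ^ s = 1 from Subtype.ext (Subtype.ext (by
      simpa [f0] using pow_prime_eq_one hf)), map_one]
  exact hns (ho ▸ hdv)

end Cfsg.Agent.AbelianSylow.Field
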