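import Cfsg.Agent.Lib.AbelianSylow.Cent.FieldAut
import Cfsg.Agent.Lib.AbelianSylow.Cent.FieldTransfer
import Cfsg.Agent.Lib.AbelianSylow.Cent.FieldSmallCount
import Cfsg.Agent.Lib.PSL2.Centralizers

/-!
# Part (a), field automorphisms with `q₀ = 3` (owner: helper80)

`f ∈ D`, `C_L(f) ≅ L₂(3)`.

* `FieldFrame.small_card`, `small_zpowers`, `small_commute`
* `FieldFrame.small_order`  : `|C(f)|` is `168 |f|` or `1512 |f|`
* `FieldFrame.small_mover`  : a 3-element of `C(f)` moves a 7-element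
* `FieldFrame.small_false`  : a prime `l ∉ {3, 7}` does not divide `|f|`, and `|f| ≠ 7`
-/

set_option autoImplicit false
set_option linter.style.haveILetI false
set_option linter.unusedSectionVars false

namespace Cfsg.Agent.AbelianSylow.Field

open Subgroup

universe u

variable {G : Type u} [Group G] [Finite G] {t : G} {F : Type} [Field F] [Fintype F] {E L : Subgroup G}
  {A : Sylow 2 G} {V D : Subgroup G}

/-- The automiser of a subgroup of `D` is trivial. -/
theorem FieldFrame.small_commute (fr : FieldFrame G t F E L A V D) {d g : G} (hd : d ∈ D)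
    (hg : g * d * g⁻¹ ∈ zpowers d) : Commute g d := by
  haveI : Fact (Nat.Prime 2) := ⟨Nat.prime_two⟩
  set X := centralizer ({d} : Set G) with hX
  have hAX : (A : Subgroup G) ≤ X := fun a ha =>
    mem_centralizer_singleton_iff.2 (mem_centralizer_iff.1 (fr.cent_A hd) a ha)
  -- `g` normalises `X`
  have hpow : zpowers (g * d * g⁻¹) = zpowers d := eq_of_le_of_card_ge (zpowers_le.2 hg) (by
    rw [Nat.card_zpowers, Nat.card_zpowers, show g * d * g⁻¹ = MulAut.conj g d from rfl, MulEquiv.orderOf_eq])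
  have hgX : ∀ a ∈ X, g * a * g⁻¹ ∈ X := by
    intro a ha
    have h1 : zpowers (g * d * g⁻¹) ≤ centralizer ({g * a * g⁻¹} : Set G) := by
      refine zpowers_le.2 (mem_centralizer_singleton_iff.2 ?_)
      have h2 := (show Commute d a from (show Commute a d from mem_centralizer_singleton_iff.1 ha).symm).map
        (MulAut.conj g).toMonoidHom
      exact h2.eq
    rw [hpow] at h1
    exact mem_centralizer_singleton_iff.2 (mem_centralizer_singleton_iff.1 (h1 (mem_zpowers d))).symm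
  have hAg : ((g • A : Sylow 2 G) : Subgroup G) ≤ X := by
    rintro _ ⟨a, ha, rfl⟩
    exact hgX a (hAX ha)
  obtain ⟨⟨x, hx⟩, hxA⟩ := MulAction.exists_smul_eq X ((g • A : Sylow 2 G).subtype hAg) (A.subtype hAX)
  have hn : x * g ∈ normalizer ((A : Subgroup G) : Set G) := by
    refine Cfsg.Agent.Coprime.mem_normalizer_of_forall fun a ha => ?_
    have h1 : (⟨x, hx⟩ : X) * ⟨g * a * g⁻¹, hgX a (hAX ha)⟩ * (⟨x, hx⟩ : X)⁻¹ ∈
        ((A.subtype hAX : Sylow 2 X) : Subgroup X) := by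
      rw [← hxA]
      refine ⟨⟨g * a * g⁻¹, hgX a (hAX ha)⟩, ?_, rfl⟩
      rw [Sylow.coe_subtype]
      exact ⟨a, ha, rfl⟩
    rw [Sylow.coe_subtype] at h1
    have h2 : x * (g * a * g⁻¹) * x⁻¹ ∈ (A : Subgroup G) := h1
    rwa [show x * g * a * (x * g)⁻¹ = x * (g * a * g⁻¹) * x⁻¹ by group]
  have h1 : Commute (x * g) d := (mem_centralizer_iff.1 (fr.norm_A hn) d hd).symm
  have h2 : Commute x⁻¹ d := (show Commute x d from mem_centralizer_singleton_iff.1 hx).inv_left
  have h3 := h2.mul_left h1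
  rwa [show x⁻¹ * (x * g) = g by group] at h3

section Three

variable {F₀ : Type} [Field F₀] [Fintype F₀] {f : G}

theorem FieldFrame.small_card (fr : FieldFrame G t F E L A V D) (hf : f ∈ D)
    (e₀ : ↥(L ⊓ centralizer ({f} : Set G)) ≃* PSL2.PSL2 F₀) (h3 : Fintype.card F₀ = 3) :
    Fintype.card F = 3 ^ orderOf f := by
  obtain ⟨F₁, _, _, hF₁, ⟨e₁⟩⟩ := fr.exists_field hf
  have hodd : Odd (Fintype.card F) := by
    rw [Nat.odd_iff]
    have := fr.shape.mod8
    omega
  have h1 : Odd (Fintype.card F₁) := (Nat.odd_pow_iff (orderOf_pos f).ne').1 (hF₁ ▸ hodd)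
  have h0 : Odd (Fintype.card F₀) := by rw [h3]; decide
  have he : Nat.card (PSL2.PSL2 F₀) = Nat.card (PSL2.PSL2 F₁) :=
    (Nat.card_congr e₀.toEquiv).symm.trans (Nat.card_congr e₁.toEquiv)
  rcases lt_trichotomy (Fintype.card F₀) (Fintype.card F₁) with h | h | h
  · exact absurd he (psl_card_lt h0 h1 h).ne
  · rw [← hF₁, ← h, h3]
  · exact absurd he.symm (psl_card_lt h1 h0 h).ne

theorem FieldFrame.small_zpowers (fr : FieldFrame G t F E L A V D) (hf : f ∈ D)
    (e₀ : ↥(L ⊓ centralizer ({f} : Set G)) ≃* PSL2.PSL2 F₀) (h3 : Fintype.card F₀ = 3) :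
    D = zpowers f := by
  haveI := fr.D_cyclic
  obtain ⟨d, hd⟩ := IsCyclic.exists_ofOrder_eq_natCard (α := D)
  rw [← Subgroup.orderOf_coe] at hd
  obtain ⟨F₁, _, _, hF₁, -⟩ := fr.exists_field d.2
  have h2 : 2 ≤ Fintype.card F₁ := Fintype.one_lt_card
  have hne : Fintype.card F₁ ≠ 2 := fun e => by
    have := fr.shape.mod8
    have h0 : Fintype.card F % 2 = 0 := by
      rw [← hF₁, e, Nat.pow_mod]
      simp [zero_pow (orderOf_pos d).ne']
    omega
  refine (eq_of_le_of_card_ge (zpowers_le.2 hf) ?_).symm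
  rw [Nat.card_zpowers, ← hd]
  refine (Nat.pow_le_pow_iff_right (by norm_num : 1 < 3)).1 ?_
  rw [← fr.small_card hf e₀ h3, ← hF₁]
  exact Nat.pow_le_pow_left (by omega) _

theorem card_three (e₀ : ↥(L ⊓ centralizer ({f} : Set G)) ≃* PSL2.PSL2 F₀) (h3 : Fintype.card F₀ = 3) :
    Nat.card ↥(L ⊓ centralizer ({f} : Set G)) = 12 := by
  have h := card_psl_odd (F := F₀) (by rw [h3]; decide)
  rw [h3, ← Nat.card_congr e₀.toEquiv] at h
  omega

theorem FieldFrame.commute_D (fr : FieldFrame G t F E L A V D) {d : G} (hd : d ∈ D) : Commute t d :=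
  (fr.frame.comm d (fr.D_le hd)).symm

theorem FieldFrame.small_mem (fr : FieldFrame G t F E L A V D) (hf : f ∈ D) {n : G}
    (hn : n ∈ normalizer ((A : Subgroup G) : Set G)) : n ∈ centralizer ({f} : Set G) :=
  mem_centralizer_singleton_iff.2 (mem_centralizer_iff.1 (fr.norm_A hn) f hf).symm

/-- `C(f) / ⟨f⟩` is in the situation of `Small.Hyp`. -/
theorem FieldFrame.small_hyp (fr : FieldFrame G t F E L A V D) (hf : f ∈ D)
    (e₀ : ↥(L ⊓ centralizer ({f} : Set G)) ≃* PSL2.PSL2 F₀) (h3 : Fintype.card F₀ = 3) :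
    ∃ (Q : Type u) (_ : Group Q) (_ : Finite Q) (π : ↥(centralizer ({f} : Set G)) →* Q) (B : Subgroup Q) (b : Q),
      Function.Surjective π ∧ (∀ x : ↥(centralizer ({f} : Set G)), π x = 1 ↔ (x : G) ∈ zpowers f) ∧
      Nat.card Q * orderOf f = Nat.card (centralizer ({f} : Set G)) ∧ Small.Hyp B b := by
  classical
  haveI : Fact (Nat.Prime 2) := ⟨Nat.prime_two⟩
  set X := centralizer ({f} : Set G) with hX
  have hfodd : Odd (orderOf f) := fr.D_odd.of_dvd_nat (Subgroup.orderOf_dvd_natCard D hf)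
  have hcent : ∀ z : G, z ∈ zpowers f → ∀ x : X, Commute z (x : G) := by
    rintro z hz x
    obtain ⟨i, rfl⟩ := mem_zpowers_iff.1 hz
    exact ((show Commute (x : G) f from mem_centralizer_singleton_iff.1 x.2).zpow_right i).symm
  have hzX : zpowers f ≤ X := zpowers_le.2 (mem_centralizer_singleton_iff.2 rfl)
  set Z := (zpowers f).subgroupOf X with hZ
  haveI hZn : Z.Normal := ⟨fun z hz g => mem_subgroupOf.2 (by
    show (g : G) * z * (g : G)⁻¹ ∈ zpowers f
    rw [((hcent _ (mem_subgroupOf.1 hz) g).symm).eq, mul_inv_cancel_right]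
    exact mem_subgroupOf.1 hz)⟩
  set π := QuotientGroup.mk' Z with hπ
  have hsurj : Function.Surjective π := QuotientGroup.mk'_surjective Z
  have hker : ∀ x : X, π x = 1 ↔ (x : G) ∈ zpowers f := fun x => by
    rw [hπ, QuotientGroup.mk'_apply, QuotientGroup.eq_one_iff, mem_subgroupOf]
  have hcardZ : Nat.card Z = orderOf f := by
    rw [hZ, Nat.card_congr (subgroupOfEquivOfLe hzX).toEquiv, Nat.card_zpowers]
  have hQcard : Nat.card (X ⧸ Z) * orderOf f = Nat.card X := by
    rw [← hcardZ]; exact (Subgroup.card_eq_card_quotient_mul_card_subgroup Z).symm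
  have hone : ∀ z : G, z ∈ zpowers f → z * z = 1 → z = 1 := by
    intro z hz h2
    have h1 : orderOf z ∣ 2 := orderOf_dvd_of_pow_eq_one (by rw [pow_two, h2])
    have h2' : orderOf z ∣ orderOf f := by
      rw [← Nat.card_zpowers f]; exact Subgroup.orderOf_dvd_natCard _ hz
    exact orderOf_eq_one_iff.1 (Nat.eq_one_of_dvd_coprimes
      (Nat.prime_two.coprime_iff_not_dvd.2 fun h => Nat.not_even_iff_odd.2 hfodd (even_iff_two_dvd.2 h)) h1 h2')
  have hinj : ∀ a b : X, (a : G) * a = 1 → (b : G) * b = 1 → π a = π b → a = b := by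
    intro a b ha hb e
    have hc : ((a * b⁻¹ : X) : G) ∈ zpowers f := (hker _).1 (by rw [map_mul, map_inv, e, mul_inv_cancel])
    have hcb := hcent _ hc b
    refine mul_inv_eq_one.1 (Subtype.ext (hone _ hc ?_))
    have ea : ((a * b⁻¹ : X) : G) * b = a := by simp [mul_assoc]
    calc ((a * b⁻¹ : X) : G) * ((a * b⁻¹ : X) : G)
        = ((a * b⁻¹ : X) : G) * ((a * b⁻¹ : X) : G) * ((b : G) * b) := by rw [hb, mul_one]
      _ = ((a * b⁻¹ : X) : G) * (((a * b⁻¹ : X) : G) * b) * b := by group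
      _ = ((a * b⁻¹ : X) : G) * (b * ((a * b⁻¹ : X) : G)) * b := by rw [hcb.eq]
      _ = (((a * b⁻¹ : X) : G) * b) * (((a * b⁻¹ : X) : G) * b) := by group
      _ = 1 := by rw [ea, ha]
  have hAX : (A : Subgroup G) ≤ X := fun a ha =>
    mem_centralizer_singleton_iff.2 (mem_centralizer_iff.1 (fr.cent_A hf) a ha)
  have htX : t ∈ X := hAX fr.frame.htA
  have htt : t * t = 1 := Involution.mul_self fr.frame.ht
  set AX := (A : Subgroup G).subgroupOf X with hAXdef
  set B := AX.map π with hB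
  have hnorm : ∀ (n : G) (hn : n ∈ normalizer ((A : Subgroup G) : Set G)),
      π ⟨n, fr.small_mem hf hn⟩ ∈ normalizer (B : Set (X ⧸ Z)) := by
    intro n hn
    refine Cfsg.Agent.Coprime.mem_normalizer_of_forall ?_
    rintro _ ⟨a, ha, rfl⟩
    exact ⟨⟨n, fr.small_mem hf hn⟩ * a * ⟨n, fr.small_mem hf hn⟩⁻¹,
      mem_subgroupOf.2 ((mem_normalizer_iff.1 hn _).1 (mem_subgroupOf.1 ha)), by simp⟩
  refine ⟨X ⧸ Z, inferInstance, inferInstance, π, B, π ⟨t, htX⟩, hsurj, hker, hQcard, ?_⟩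
  constructor
  case cardA =>
    rw [← (fr.shape.elem.sylow A).2, ← Nat.card_congr (subgroupOfEquivOfLe hAX).toEquiv]
    refine (Nat.card_congr (Equiv.ofBijective (fun a : AX => (⟨π a, a, a.2, rfl⟩ : B)) ⟨?_, ?_⟩)).symm
    · intro a b e
      exact Subtype.ext (hinj a b (fr.shape.elem.sq A (mem_subgroupOf.1 a.2))
        (fr.shape.elem.sq A (mem_subgroupOf.1 b.2)) (congrArg Subtype.val e))
    · rintro ⟨_, a, ha, rfl⟩
      exact ⟨⟨a, ha⟩, rfl⟩
  case sq =>
    rintro _ ⟨a, ha, rfl⟩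
    rw [← map_mul, show a * a = 1 from Subtype.ext (fr.shape.elem.sq A (mem_subgroupOf.1 ha)), map_one]
  case mem => exact ⟨⟨t, htX⟩, mem_subgroupOf.2 fr.frame.htA, rfl⟩
  case ne =>
    intro e
    exact Involution.ne_one fr.frame.ht (hone t ((hker _).1 e) htt)
  case trans =>
    rintro _ ⟨a, ha, rfl⟩ ha1
    obtain ⟨n, hn, hna⟩ := fr.shape.elem.normalizer_transitive A fr.frame.htA (Involution.ne_one fr.frame.ht)
      (mem_subgroupOf.1 ha) fun e => ha1 (by rw [show a = 1 from Subtype.ext e, map_one])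
    refine ⟨_, hnorm n hn, ?_⟩
    rw [← map_inv, ← map_mul, ← map_mul]
    exact congrArg π (Subtype.ext hna)
  case card =>
    set K := (centralizer ({t} : Set G)).subgroupOf X with hK
    have hcomap : (centralizer ({π ⟨t, htX⟩} : Set (X ⧸ Z))).comap π = K := by
      ext x
      rw [mem_comap, mem_centralizer_singleton_iff, hK, mem_subgroupOf, mem_centralizer_singleton_iff]
      constructor
      · intro e
        have hxt : ((x * ⟨t, htX⟩ * x⁻¹ : X) : G) = t := by
          refine congrArg Subtype.val (hinj (x * ⟨t, htX⟩ * x⁻¹) ⟨t, htX⟩ ?_ htt ?_)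
          · show ((x : G) * t * (x : G)⁻¹) * ((x : G) * t * (x : G)⁻¹) = 1
            calc ((x : G) * t * (x : G)⁻¹) * ((x : G) * t * (x : G)⁻¹) = (x : G) * (t * t) * (x : G)⁻¹ := by group
              _ = 1 := by rw [htt, mul_one, mul_inv_cancel]
          · rw [map_mul, map_mul, map_inv, e, mul_inv_cancel_right]
        exact mul_inv_eq_iff_eq_mul.1 hxt
      · intro e
        rw [← map_mul, ← map_mul]
        exact congrArg π (Subtype.ext e)
    have hKc : Nat.card K = 24 * orderOf f := by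
      rw [hK, ← inf_subgroupOf_right, Nat.card_congr (subgroupOfEquivOfLe inf_le_right).toEquiv, hX,
        fr.card_cent_inf hf, card_three e₀ h3, fr.small_zpowers hf e₀ h3, Nat.card_zpowers]
    have e1 := (centralizer ({π ⟨t, htX⟩} : Set (X ⧸ Z))).card_mul_index
    have e2 := ((centralizer ({π ⟨t, htX⟩} : Set (X ⧸ Z))).comap π).card_mul_index
    rw [index_comap_of_surjective _ hsurj, hcomap, hKc, ← hQcard] at e2
    rw [← e1] at e2
    have hi : 0 < (centralizer ({π ⟨t, htX⟩} : Set (X ⧸ Z))).index := Nat.pos_of_ne_zero index_ne_zero_of_finite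
    exact Nat.eq_of_mul_eq_mul_right (Nat.mul_pos (orderOf_pos f) hi) (by rw [← mul_assoc, ← mul_assoc] at *; linarith)
  case mover =>
    have hV4 := fr.frame.card_V
    obtain ⟨u, hu, hu1⟩ : ∃ u ∈ V, u ≠ 1 := by
      by_contra hc
      push Not at hc
      have : V = ⊥ := (eq_bot_iff_forall V).2 hc
      rw [this, card_bot] at hV4
      omega
    obtain ⟨w, hw, hw1, hwu⟩ : ∃ w ∈ V, w ≠ 1 ∧ w ≠ u := by
      by_contra hc
      push Not at hc
      have hle : V ≤ zpowers u := fun w hw => by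
        by_cases h : w = 1
        · rw [h]; exact one_mem _
        · rw [hc w hw h]; exact mem_zpowers u
      have := card_le_of_le hle
      rw [hV4, Nat.card_zpowers, fr.frame.orderOf_V hu hu1] at this
      omega
    obtain ⟨n, hnL, hn, hnu⟩ := fr.frame.exists_normalizer hu hu1 hw hw1
    refine ⟨_, hnorm n hn, ?_, π ⟨u, hAX (fr.frame.memA hu)⟩,
      ⟨⟨u, hAX (fr.frame.memA hu)⟩, mem_subgroupOf.2 (fr.frame.memA hu), rfl⟩, fun e => hwu ?_⟩
    · exact (show Commute (⟨n, fr.small_mem hf hn⟩ : X) ⟨t, htX⟩ from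
        Subtype.ext (fr.frame.commute_of_mem hnL).eq).map π
    · have e' : π (⟨n, fr.small_mem hf hn⟩ * ⟨u, hAX (fr.frame.memA hu)⟩ * ⟨n, fr.small_mem hf hn⟩⁻¹)
          = π ⟨u, hAX (fr.frame.memA hu)⟩ := by
        rw [map_mul, map_mul, map_inv, e.eq, mul_inv_cancel_right]
      have h' := congrArg Subtype.val (hinj _ _ (by
        show (n * u * n⁻¹) * (n * u * n⁻¹) = 1
        rw [hnu]; exact fr.frame.sq_V hw) (fr.frame.sq_V hu) e')
      exact hnu.symm.trans h'
  case one =>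
    intro u hu
    obtain ⟨v, rfl⟩ := hsurj u
    have hv2 : ((v * v : X) : G) ∈ zpowers f := (hker _).1 (by
      rw [map_mul]; exact Involution.mul_self hu)
    obtain ⟨i, hi⟩ := mem_zpowers_iff.1 hv2
    set n := orderOf f with hn
    have hv' : ((v ^ n : X) : G) * ((v ^ n : X) : G) = 1 := by
      show ((v : G)) ^ n * (v : G) ^ n = 1
      rw [← (Commute.refl (v : G)).mul_pow, show (v : G) * v = f ^ i from hi.symm, ← zpow_natCast, ← zpow_mul,
        mul_comm, zpow_mul, zpow_natCast, pow_orderOf_eq_one, one_zpow]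
    have hπv : π (v ^ n) = π v := by
      obtain ⟨j, hj⟩ := hfodd
      rw [map_pow, hj, pow_succ, pow_mul, pow_two, Involution.mul_self hu, one_pow, one_mul]
    have hv1 : ((v ^ n : X) : G) ≠ 1 := fun e => Involution.ne_one hu (by
      rw [← hπv, show v ^ n = 1 from Subtype.ext e, map_one])
    obtain ⟨x, hxf, hxt⟩ := fr.one_class hf (orderOf_eq_prime (by rw [pow_two]; exact hv') hv1)
      (show Commute ((v ^ n : X) : G) f from mem_centralizer_singleton_iff.1 (v ^ n).2)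
    refine ⟨π ⟨x, mem_centralizer_singleton_iff.2 hxf.eq⟩, ?_⟩
    rw [← hπv, ← map_inv, ← map_mul, ← map_mul]
    exact congrArg π (Subtype.ext hxt)

/-- **The order of `C(f)`.** -/
theorem FieldFrame.small_order (fr : FieldFrame G t F E L A V D) (hf : f ∈ D)
    (e₀ : ↥(L ⊓ centralizer ({f} : Set G)) ≃* PSL2.PSL2 F₀) (h3 : Fintype.card F₀ = 3) :
    Nat.card (centralizer ({f} : Set G)) = 168 * orderOf f ∨
      Nat.card (centralizer ({f} : Set G)) = 1512 * orderOf f := by
  obtain ⟨Q, _, _, π, B, b, -, -, hQ, h⟩ := fr.small_hyp hf e₀ h3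
  rcases h.card_cases with e | e
  · left; rw [← hQ, e]
  · right; rw [← hQ, e]

/-- The involutions of `C(f)`: 7 or 63. -/
theorem FieldFrame.small_invol (fr : FieldFrame G t F E L A V D) (hf : f ∈ D)
    (e₀ : ↥(L ⊓ centralizer ({f} : Set G)) ≃* PSL2.PSL2 F₀) (h3 : Fintype.card F₀ = 3) :
    Nat.card {u : G // orderOf u = 2 ∧ Commute u f} = 7 ∨
      Nat.card {u : G // orderOf u = 2 ∧ Commute u f} = 63 := by
  set X := centralizer ({f} : Set G) with hX
  have e := Small.card_eq_class_mul X t (P := fun u => orderOf u = 2 ∧ Commute u f)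
    (fun x hx => ⟨by rw [show x * t * x⁻¹ = MulAut.conj x t from rfl, MulEquiv.orderOf_eq]; exact fr.frame.ht, by
      have hxf : Commute x f := mem_centralizer_singleton_iff.1 hx
      exact (hxf.mul_left (fr.commute_D hf)).mul_left hxf.inv_left⟩)
    (fun u hu => by
      obtain ⟨x, hxf, hxt⟩ := fr.one_class hf hu.1 hu.2
      exact ⟨x, mem_centralizer_singleton_iff.2 hxf.eq, hxt⟩)
  rw [inf_comm, hX, fr.card_cent_inf hf, card_three e₀ h3, fr.small_zpowers hf e₀ h3, Nat.card_zpowers] at e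
  have hpos := orderOf_pos f
  rcases fr.small_order hf e₀ h3 with h | h <;> rw [h] at e
  · left
    exact (Nat.eq_of_mul_eq_mul_right (by omega : 0 < 24 * orderOf f) (by linarith)).symm
  · right
    exact (Nat.eq_of_mul_eq_mul_right (by omega : 0 < 24 * orderOf f) (by linarith)).symm

/-- **A 3-element moves a 7-element.** -/
theorem FieldFrame.small_mover (fr : FieldFrame G t F E L A V D) (hf : f ∈ D)
    (e₀ : ↥(L ⊓ centralizer ({f} : Set G)) ≃* PSL2.PSL2 F₀) (h3 : Fintype.card F₀ = 3) {k : ℕ}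
    (hord : orderOf f = 7 ^ k) :
    ∃ y c : G, orderOf y = 7 ∧ Commute y f ∧ y ∉ zpowers f ∧ orderOf c = 3 ∧ Commute c f ∧
      c * y * c⁻¹ ∈ zpowers y ∧ ¬ Commute c y := by
  classical
  haveI : Fact (Nat.Prime 3) := ⟨Nat.prime_three⟩
  haveI : Fact (Nat.Prime 7) := ⟨by norm_num⟩
  obtain ⟨Q, _, _, π, B, b, hsurj, hker, -, h⟩ := fr.small_hyp hf e₀ h3
  obtain ⟨k₀, b₀, hk₀, hb₀, hbk, hnc⟩ := h.exists_mover
  obtain ⟨K, rfl⟩ := hsurj k₀
  obtain ⟨b₁, rfl⟩ := hsurj b₀
  set n := orderOf f with hn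
  have hfn : ∀ z : ↥(centralizer ({f} : Set G)), (z : G) ∈ zpowers f → z ^ n = 1 := fun z hz => by
    obtain ⟨i, hi⟩ := mem_zpowers_iff.1 hz
    exact Subtype.ext (show (z : G) ^ n = 1 by
      rw [← hi, ← zpow_natCast, ← zpow_mul, mul_comm, zpow_mul, zpow_natCast, hn, pow_orderOf_eq_one, one_zpow])
  -- an element of order 3 above `b₀`
  set c := b₁ ^ n with hc
  have hn3 : n % 3 = 1 := by rw [hord, Nat.pow_mod]; simp
  have hπc : π c = π b₁ := by
    rw [hc, map_pow, pow_eq_pow_mod n (show π b₁ ^ 3 = 1 by rw [← hb₀]; exact pow_orderOf_eq_one _), hn3, pow_one]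
  have hc3 : orderOf c = 3 := by
    refine orderOf_eq_prime ?_ fun e => ?_
    · rw [hc, ← pow_mul, mul_comm, pow_mul]
      exact hfn _ ((hker _).1 (by rw [map_pow, ← hb₀]; exact pow_orderOf_eq_one _))
    · rw [← hπc, e, map_one, orderOf_one] at hb₀
      omega
  have hcG : orderOf (c : G) = 3 := by rw [Subgroup.orderOf_coe, hc3]
  -- the exponent
  obtain ⟨r, hr⟩ := mem_zpowers_iff.1 hbk
  have hz : ((c * K * c⁻¹ * (K ^ r)⁻¹ : ↥(centralizer ({f} : Set G))) : G) ∈ zpowers f := (hker _).1 (by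
    rw [map_mul, map_mul, map_mul, map_inv, map_inv, map_zpow, hπc, hr, mul_inv_cancel])
  obtain ⟨i, hi⟩ := mem_zpowers_iff.1 hz
  have hcf : Commute (c : G) f := mem_centralizer_singleton_iff.1 c.2
  have hKf : Commute (K : G) f := mem_centralizer_singleton_iff.1 K.2
  have hcK : (c : G) * K * (c : G)⁻¹ = f ^ i * (K : G) ^ r := by rw [hi]; simp [mul_assoc]
  set y : G := f ^ i * (K : G) ^ (r - 1) with hy
  have hyf : Commute y f := ((Commute.refl f).zpow_left i).mul_left (hKf.zpow_left (r - 1))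
  have hcy : (c : G) * y * (c : G)⁻¹ = y ^ r := by
    rw [hy, ((hKf.zpow_left (r - 1)).symm.zpow_left i).mul_zpow, ← zpow_mul, ← zpow_mul,
      show (c : G) * (f ^ i * (K : G) ^ (r - 1)) * (c : G)⁻¹
        = ((c : G) * f ^ i * (c : G)⁻¹) * ((c : G) * (K : G) ^ (r - 1) * (c : G)⁻¹) by group,
      (hcf.zpow_right i).eq, mul_inv_cancel_right, ← conj_zpow, hcK,
      ((hKf.zpow_left r).symm.zpow_left i).mul_zpow, ← zpow_mul, ← zpow_mul, ← mul_assoc, ← zpow_add]
    congr 1 <;> congr 1 <;> ring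
  have hr7 : ¬ (7 : ℤ) ∣ r - 1 := fun hdvd => hnc (mul_inv_eq_iff_eq_mul.1 (by
    obtain ⟨j, hj⟩ := hdvd
    rw [← hr, show r = 7 * j + 1 by omega, zpow_add, zpow_mul, zpow_one, show (7 : ℤ) = ((7 : ℕ) : ℤ) from rfl,
      zpow_natCast, ← hk₀, pow_orderOf_eq_one, one_zpow, one_mul]))
  have hynz : y ∉ zpowers f := fun hyz => hr7 (by
    have h1 : π (K ^ (r - 1)) = 1 := (hker _).2 (by
      have h2 := mul_mem (inv_mem (zpow_mem (mem_zpowers f) i)) hyz
      rw [hy, inv_mul_cancel_left] at h2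
      simpa using h2)
    rw [map_zpow] at h1
    have := orderOf_dvd_iff_zpow_eq_one.2 h1
    rwa [hk₀] at this)
  -- `y` has order 7
  have hw : y ^ (7 : ℤ) ∈ zpowers f := by
    rw [hy, ((hKf.zpow_left (r - 1)).symm.zpow_left i).mul_zpow, ← zpow_mul, ← zpow_mul, mul_comm (r - 1),
      zpow_mul (K : G)]
    refine mul_mem (zpow_mem (mem_zpowers f) _) (zpow_mem ?_ _)
    have := (hker (K ^ (7 : ℤ))).1 (by rw [map_zpow, show (7 : ℤ) = ((7 : ℕ) : ℤ) from rfl, zpow_natCast, ← hk₀,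
      pow_orderOf_eq_one])
    simpa using this
  have hy7 : y ^ (7 : ℤ) = 1 := by
    obtain ⟨j, hj⟩ := mem_zpowers_iff.1 hw
    have hfix : (y ^ (7 : ℤ)) ^ r = y ^ (7 : ℤ) := by
      rw [← zpow_mul, mul_comm, zpow_mul, ← hcy, conj_zpow, ← hj, (hcf.zpow_right j).eq, mul_inv_cancel_right]
    have h1 : (y ^ (7 : ℤ)) ^ (r - 1) = 1 := by rw [zpow_sub, hfix, zpow_one, mul_inv_cancel]
    have h2 : (y ^ (7 : ℤ)) ^ ((n : ℕ) : ℤ) = 1 := by
      rw [← hj, ← zpow_mul, mul_comm, zpow_mul, zpow_natCast, hn, pow_orderOf_eq_one, one_zpow]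
    have hco : IsCoprime (r - 1) ((n : ℕ) : ℤ) := by
      rw [hord, Nat.cast_pow]
      exact IsCoprime.pow_right ((Int.prime_iff_natAbs_prime.2 (by norm_num : Nat.Prime (7 : ℤ).natAbs)
        : Prime (7 : ℤ)).coprime_iff_not_dvd.2 hr7).symm
    obtain ⟨a, b', hab⟩ := hco
    rw [← zpow_one (y ^ (7 : ℤ)), ← hab, zpow_add, mul_comm a, mul_comm b', zpow_mul, zpow_mul, h1, h2,
      one_zpow, one_zpow, one_mul]
  have hyo : orderOf y = 7 := orderOf_eq_prime (by rw [← zpow_natCast]; exact hy7)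
    fun e => hynz (e ▸ one_mem _)
  refine ⟨y, c, hyo, hyf, hynz, hcG, hcf, hcy ▸ zpow_mem (mem_zpowers y) r, fun e => hr7 ?_⟩
  rw [show (7 : ℤ) = ((orderOf y : ℕ) : ℤ) by rw [hyo]; rfl]
  refine orderOf_dvd_iff_zpow_eq_one.2 ?_
  rw [zpow_sub, zpow_one, ← hcy, e.eq, mul_inv_cancel_right, mul_inv_cancel]

theorem seven_pow_mod : ∀ k : ℕ, 3 ^ 7 ^ k % 7 = 3
  | 0 => by norm_num
  | k + 1 => by rw [pow_succ, pow_mul, Nat.pow_mod, seven_pow_mod k]

/-- **No field automorphism with `q₀ = 3`**, for the primes other than 3 and 7 and for order 7. -/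
theorem FieldFrame.small_false (fr : FieldFrame G t F E L A V D) (hf : f ∈ D)
    (e₀ : ↥(L ⊓ centralizer ({f} : Set G)) ≃* PSL2.PSL2 F₀) (h3 : Fintype.card F₀ = 3) {l : ℕ} [Fact l.Prime]
    {k : ℕ} (hl : l ≠ 3) (hord : orderOf f = l ^ (k + 1)) (hk : l = 7 → k = 0) : False := by
  classical
  have hl7 : l = 7 := by
    have hd := fr.prime_dvd hf hord
    rcases fr.small_invol hf e₀ h3 with h | h <;> rw [h] at hd
    · exact (Nat.prime_dvd_prime_iff_eq (Fact.out) (by norm_num)).1 hd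
    · rcases (Fact.out : l.Prime).dvd_mul.1 (show l ∣ 3 ^ 2 * 7 by simpa using hd) with h1 | h1
      · exact absurd ((Nat.prime_dvd_prime_iff_eq (Fact.out) Nat.prime_three).1
          ((Fact.out : l.Prime).dvd_of_dvd_pow h1)) hl
      · exact (Nat.prime_dvd_prime_iff_eq (Fact.out) (by norm_num)).1 h1
  obtain rfl := hk hl7
  subst hl7
  rw [zero_add, pow_one] at hord
  haveI : Fact (Nat.Prime 2) := ⟨Nat.prime_two⟩
  obtain ⟨y, c, hy, hyf, hynz, hc, hcf, hcy, hnc⟩ := fr.small_mover hf e₀ h3 (k := 1) (by rw [hord, pow_one])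
  have hD : D = zpowers f := fr.small_zpowers hf e₀ h3
  have hN : ∀ g : G, g * f * g⁻¹ ∈ zpowers f → Commute g f := fun g => fr.small_commute hf
  have hperf : _root_.commutator G = ⊤ := by
    haveI := fr.shape.elem.simple
    have hnrm : (_root_.commutator G).Normal := inferInstance
    refine hnrm.eq_bot_or_eq_top.resolve_left fun hb => ?_
    exact fr.shape.elem.nonab ⟨⟨fun a b => commutatorElement_eq_one_iff_commute.1 ((mem_bot (G := G)).1
      (hb ▸ commutator_mem_commutator (mem_top a) (mem_top b)))⟩⟩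
  -- `|L|` is prime to 7
  have hcard := fr.small_card hf e₀ h3
  rw [hord] at hcard
  have hL : ¬ 7 ∣ 2 * Nat.card L := by
    obtain ⟨e⟩ := fr.shape.iso
    rw [Nat.card_congr e.toEquiv, card_psl_odd (by rw [hcard]; decide), hcard]
    norm_num
  refine false_of_mover (s := 7) hperf (by norm_num) hord hy hyf.symm hynz hcf hcy hnc
    (by rw [hc]; decide) hN ?_ ?_ ?_
  · rcases fr.small_order hf e₀ h3 with h | h <;> rw [h, hord] <;> norm_num
  · rcases fr.small_order hf e₀ h3 with h | h <;> rw [h, hord] <;> norm_num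
  · -- an involution centralising `y` would put `y` into a conjugate of `D`
    rw [← Nat.not_even_iff_odd, even_iff_two_dvd]
    intro h2
    obtain ⟨u, hu⟩ := exists_prime_orderOf_dvd_card' (G := centralizer ({y} : Set G)) 2 h2
    rw [← Subgroup.orderOf_coe] at hu
    have huy : Commute (u : G) y := mem_centralizer_singleton_iff.1 u.2
    obtain ⟨g, hg⟩ := fr.shape.elem.one_class fr.frame.ht hu
    set C := centralizer ({t} : Set G) with hC
    have hy' : g⁻¹ * y * g ∈ C := mem_centralizer_singleton_iff.2 (by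
      calc g⁻¹ * y * g * t = g⁻¹ * (y * (g * t * g⁻¹)) * g := by group
        _ = g⁻¹ * ((g * t * g⁻¹) * y) * g := by rw [hg, huy.symm.eq]
        _ = t * (g⁻¹ * y * g) := by group)
    have hDC : D ≤ C := fun d hd => mem_centralizer_singleton_iff.2 (fr.commute_D hd).symm.eq
    have hD7 : Nat.card D = 7 := by rw [hD, Nat.card_zpowers, hord]
    have hpD : IsPGroup 7 (D.subgroupOf C) := IsPGroup.of_card (n := 1)
      (by rw [Nat.card_congr (subgroupOfEquivOfLe hDC).toEquiv, hD7, pow_one])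
    have hidx : ¬ 7 ∣ (D.subgroupOf C).index := by
      have h' := (D.subgroupOf C).card_mul_index
      rw [Nat.card_congr (subgroupOfEquivOfLe hDC).toEquiv, fr.card_cent, hD7] at h'
      rwa [show (D.subgroupOf C).index = 2 * Nat.card L by omega]
    obtain ⟨P, hP⟩ := (IsPGroup.of_card (G := zpowers (⟨_, hy'⟩ : C)) (p := 7) (n := 1) (by
      rw [Nat.card_zpowers, Subgroup.orderOf_mk, pow_one,
        show g⁻¹ * y * g = MulAut.conj g⁻¹ y by simp, MulEquiv.orderOf_eq, hy])).exists_le_sylow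
    obtain ⟨⟨h, hh⟩, hhP⟩ := MulAction.exists_smul_eq C P (hpD.toSylow hidx)
    set g' := h * g⁻¹ with hg'
    have hy'' : g' * y * g'⁻¹ ∈ D := by
      have h1 : (⟨h, hh⟩ : C) * ⟨_, hy'⟩ * (⟨h, hh⟩ : C)⁻¹ ∈ (hpD.toSylow hidx : Subgroup C) := by
        rw [← hhP]; exact ⟨_, hP (mem_zpowers _), rfl⟩
      have h2 : h * (g⁻¹ * y * g) * h⁻¹ ∈ D := h1
      rwa [hg', show h * g⁻¹ * y * (h * g⁻¹)⁻¹ = h * (g⁻¹ * y * g) * h⁻¹ by group]
    have hzp : zpowers (g' * y * g'⁻¹) = zpowers f := by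
      rw [← hD]
      refine eq_of_le_of_card_ge (zpowers_le.2 hy'') ?_
      rw [Nat.card_zpowers, hD7, show g' * y * g'⁻¹ = MulAut.conj g' y from rfl, MulEquiv.orderOf_eq, hy]
    refine hnc ?_
    have hcy' : (g' * c * g'⁻¹) * (g' * y * g'⁻¹) * (g' * c * g'⁻¹)⁻¹ ∈ zpowers (g' * y * g'⁻¹) := by
      obtain ⟨j, hj⟩ := mem_zpowers_iff.1 hcy
      refine mem_zpowers_iff.2 ⟨j, ?_⟩
      rw [conj_zpow, hj]; group
    have h4 := fr.small_commute hy'' hcy'
    have h5 := h4.map (MulAut.conj g'⁻¹).toMonoidHom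
    simpa [mul_assoc] using h5

end Three

end Cfsg.Agent.AbelianSylow.Field
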