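import Cfsg.Agent.EqLemmas
import Cfsg.Agent.Lib.Coprime.Basic
import Cfsg.Agent.Lib.Cores.Basic
import Mathlib

/-!
# No field automorphism: complements under a fixed-point-free Frobenius group (owner: helper82; `FIELD.md` step 2)

* `mem_range_sub` : if `Y` of prime order `l` acts without fixed points and `F Y = Y ^ m F` with `F ^ 3 = 1`,
  `m ≢ 1 (mod l)`, then the kernel of `1 + F + F²` lies in the image of `F - 1`
* `exists_conj_of_fpf` : in a `3`-group normalised by such `y`, `f` all `r f` of order dividing `3` are conjugate to `f`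
-/

set_option autoImplicit false
set_option linter.style.haveILetI false

namespace Cfsg.Agent.AbelianSylow.Field

open Subgroup
open scoped commutatorElement

/-- Vanishing of `H¹` of the cyclic group on a fixed-point-free module. -/
theorem mem_range_sub {V : Type*} [AddCommGroup V] (Y F : V →+ V) {l m : ℕ} [Fact l.Prime]
    (hY : ∀ v, Y^[l] v = v) (hF : ∀ v, F (F (F v)) = v) (hFY : ∀ v, F (Y v) = Y^[m] (F v))
    (hm : (m : ZMod l) ≠ 1) (hm3 : (m : ZMod l) ^ 3 = 1) (hfix : ∀ v, Y v = v → v = 0)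
    {N : ℕ} (h3 : ∀ v : V, (3 ^ N) • v = 0) (hl : l ≠ 3)
    {v : V} (hv : v + F v + F (F v) = 0) : ∃ w, F w - w = v := by
  classical
  -- powers of `Y`, indexed by `ZMod l`
  have hmul : ∀ (k : ℕ) (w : V), Y^[l * k] w = w := by
    intro k w
    induction k with
    | zero => rfl
    | succ k ih => rw [Nat.mul_succ, Function.iterate_add_apply, hY, ih]
  have hper : ∀ (i : ℕ) (w : V), Y^[i % l] w = Y^[i] w := by
    intro i w
    conv_rhs => rw [← Nat.mod_add_div i l, Function.iterate_add_apply, hmul]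
  let P : ZMod l → V → V := fun j => Y^[j.val]
  have Padd : ∀ i j w, P (i + j) w = P i (P j w) := fun i j w => by
    show Y^[(i + j).val] w = Y^[i.val] (Y^[j.val] w)
    rw [ZMod.val_add, hper, Function.iterate_add_apply]
  have Pzero : ∀ w, P 0 w = w := fun w => by simp [P]
  have Plin : ∀ j (a b : V), P j (a + b) = P j a + P j b := fun j a b => iterate_map_add Y _ a b
  have hFPn : ∀ (n : ℕ) (w : V), F (Y^[n] w) = Y^[m * n] (F w) := by
    intro n w
    induction n with
    | zero => simp
    | succ n ih => rw [Function.iterate_succ_apply', hFY, ih, ← Function.iterate_add_apply, Nat.mul_succ, add_comm]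
  have hFP : ∀ j w, F (P j w) = P ((m : ZMod l) * j) (F w) := fun j w => by
    show F (Y^[j.val] w) = Y^[((m : ZMod l) * j).val] (F w)
    rw [hFPn, show (m : ZMod l) * j = ((m * j.val : ℕ) : ZMod l) by rw [Nat.cast_mul, ZMod.natCast_zmod_val],
      ZMod.val_natCast, hper]
  -- the sum over all powers vanishes
  have hsum : ∀ w, ∑ j : ZMod l, P j w = 0 := fun w => by
    refine hfix _ ?_
    rw [map_sum]
    calc ∑ j : ZMod l, Y (P j w) = ∑ j : ZMod l, P (1 + j) w :=
          Finset.sum_congr rfl fun j _ => by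
            rw [Padd]
            show _ = Y^[(1 : ZMod l).val] _
            rw [ZMod.val_one]; rfl
      _ = ∑ j : ZMod l, P j w := Fintype.sum_equiv (Equiv.addLeft 1) _ _ fun j => rfl
  have hbij : ∀ c : ZMod l, c ≠ 0 → ∀ w, ∑ j : ZMod l, P (j * c) w = 0 := fun c hc w =>
    (Fintype.sum_equiv (Equiv.mulRight₀ c hc) (fun j => P (j * c) w) (fun j => P j w) fun _ => rfl).trans
      (hsum w)
  -- `T j = Y^j (1 + F + F²) Y^-j`
  let T : ZMod l → V → V := fun j w => P j (P (-j) w + F (P (-j) w) + F (F (P (-j) w)))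
  have hT : ∀ j w, T j w =
      w + P (j * (1 - (m : ZMod l))) (F w) + P (j * (1 - (m : ZMod l) ^ 2)) (F (F w)) := fun j w => by
    show P j _ = _
    rw [Plin, Plin, hFP, hFP, ← Padd, ← Padd, ← Padd, add_neg_cancel, Pzero]
    congr 2 <;> congr 1 <;> ring
  have hm2 : (m : ZMod l) ^ 2 ≠ 1 := fun e => hm (by
    calc (m : ZMod l) = m ^ 3 := by rw [pow_succ, e, one_mul]
      _ = 1 := hm3)
  have hlv : ∀ w, ∑ j : ZMod l, T j w = l • w := fun w => by
    simp only [hT, Finset.sum_add_distrib]
    rw [hbij _ (sub_ne_zero.2 hm.symm), hbij _ (sub_ne_zero.2 hm2.symm), Finset.sum_const, Finset.card_univ,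
      ZMod.card, add_zero, add_zero]
  -- modulo the image of `F - 1`
  let R : AddSubgroup V := (F - AddMonoidHom.id V).range
  have hR : ∀ w, F w - w ∈ R := fun w => ⟨w, by simp⟩
  have hFT : ∀ j w, F (T j w) = T ((m : ZMod l) * j) (F w) := fun j w => by
    show F (P j _) = P _ _
    rw [hFP, map_add, map_add, hFP, mul_neg]
  have hTlin : ∀ j (a b : V), T j (a + b) = T j a + T j b := fun j a b => by
    simp only [T, Plin, map_add]; abel
  have horb : ∀ j, T j v + T ((m : ZMod l) * j) v + T ((m : ZMod l) * ((m : ZMod l) * j)) v ∈ R := by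
    intro j
    have h1 : ∀ i w, T ((m : ZMod l) * i) (F w) - T i w ∈ R := fun i w => hFT i w ▸ hR (T i w)
    have e1 : T ((m : ZMod l) * j) v - T j (F (F v)) ∈ R := by
      have := h1 j (F (F v)); rwa [hF] at this
    have e2 : T ((m : ZMod l) * ((m : ZMod l) * j)) v - T j (F v) ∈ R := by
      have h2 := h1 ((m : ZMod l) * j) (F (F v))
      rw [hF] at h2
      have h3 := R.add_mem h2 (h1 j (F v))
      rwa [sub_add_sub_cancel] at h3
    have h0 : T j (v + F v + F (F v)) = 0 := by
      rw [hv]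
      have := hTlin j 0 0
      simpa using this
    rw [hTlin, hTlin] at h0
    have := R.add_mem (R.add_mem e1 e2) R.zero_mem
    rw [show T j v + T ((m : ZMod l) * j) v + T ((m : ZMod l) * ((m : ZMod l) * j)) v =
      (T ((m : ZMod l) * j) v - T j (F (F v))) + (T ((m : ZMod l) * ((m : ZMod l) * j)) v - T j (F v)) +
        (T j v + T j (F v) + T j (F (F v))) by abel, h0, add_zero]
    exact R.add_mem e1 e2
  -- one representative in each orbit of `j ↦ m j` on the non-zero residues
  have h0v : T 0 v = 0 := by rw [hT, zero_mul, zero_mul, Pzero, Pzero, hv]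
  set c : ZMod l := (m : ZMod l)
  let J : Finset (ZMod l) := Finset.univ.filter fun j => j.val < (c * j).val ∧ j.val < (c * (c * j)).val
  have hcc : ∀ j, c * (c * (c * j)) = j := fun j => by
    rw [← mul_assoc, ← mul_assoc, show c * c * c = c ^ 3 by ring, hm3, one_mul]
  have hone : ∀ k : ZMod l, k ≠ 0 →
      (if k ∈ J then 1 else 0) + (if c * (c * k) ∈ J then 1 else 0) + (if c * k ∈ J then 1 else 0) = 1 := by
    intro k hk
    have h1 : k.val ≠ (c * k).val := fun e =>
      hm (mul_right_cancel₀ hk (by rw [one_mul]; exact (ZMod.val_injective l e).symm))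
    have h2 : k.val ≠ (c * (c * k)).val := fun e =>
      hm2 (mul_right_cancel₀ hk (by rw [one_mul, pow_two, mul_assoc]; exact (ZMod.val_injective l e).symm))
    have h3 : (c * k).val ≠ (c * (c * k)).val := fun e =>
      h1 (congrArg ZMod.val (mul_left_cancel₀ (fun e0 => by rw [e0, zero_pow three_ne_zero] at hm3; exact zero_ne_one hm3)
        (ZMod.val_injective l e)))
    simp only [J, Finset.mem_filter, Finset.mem_univ, true_and, hcc]
    split_ifs <;> omega
  have htot : ∑ k : ZMod l, T k v = ∑ j ∈ J, (T j v + T (c * j) v + T (c * (c * j)) v) := by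
    have hc0 : c ≠ 0 := fun e0 => by rw [e0, zero_pow three_ne_zero] at hm3; exact zero_ne_one hm3
    have hJ0 : (0 : ZMod l) ∉ J := by simp [J]
    rw [Finset.sum_add_distrib, Finset.sum_add_distrib]
    have r0 : ∑ j ∈ J, T j v = ∑ k : ZMod l, (if k ∈ J then T k v else 0) := by
      rw [Finset.sum_ite_mem, Finset.univ_inter]
    have r1 : ∑ j ∈ J, T (c * j) v = ∑ k : ZMod l, (if c * (c * k) ∈ J then T k v else 0) := by
      rw [Fintype.sum_equiv ((Equiv.mulLeft₀ (c * c) (mul_ne_zero hc0 hc0)))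
        (fun k => if c * (c * k) ∈ J then T k v else 0) (fun j => if j ∈ J then T (c * j) v else 0)
        (fun k => by simp [mul_assoc, hcc]), Finset.sum_ite_mem, Finset.univ_inter]
    have r2 : ∑ j ∈ J, T (c * (c * j)) v = ∑ k : ZMod l, (if c * k ∈ J then T k v else 0) := by
      rw [Fintype.sum_equiv ((Equiv.mulLeft₀ c hc0))
        (fun k => if c * k ∈ J then T k v else 0) (fun j => if j ∈ J then T (c * (c * j)) v else 0)
        (fun k => by simp [hcc]), Finset.sum_ite_mem, Finset.univ_inter]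
    rw [r0, r1, r2, ← Finset.sum_add_distrib, ← Finset.sum_add_distrib]
    refine Finset.sum_congr rfl fun k _ => ?_
    rcases eq_or_ne k 0 with rfl | hk
    · simp [h0v]
    · have := hone k hk
      split_ifs at this ⊢ <;> first | omega | simp
  have hlvR : l • v ∈ R := by
    rw [← hlv, htot]
    exact R.sum_mem fun j _ => horb j
  -- divide by `l`
  obtain ⟨a, b, hab⟩ := Nat.isCoprime_iff_coprime.2
    (((Nat.coprime_primes (Fact.out : l.Prime) Nat.prime_three).2 hl).pow_right N)
  have hv' : v = a • (l • v) := by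
    conv_lhs => rw [← one_zsmul v, ← hab, add_zsmul, mul_zsmul, mul_zsmul, natCast_zsmul, natCast_zsmul, h3,
      smul_zero, add_zero]
  obtain ⟨w, hw⟩ : v ∈ R := hv' ▸ R.zsmul_mem hlvR a
  exact ⟨w, by simpa using hw⟩

/-- In a `3`-group on which a Frobenius group `⟨y⟩⟨f⟩` acts with `y` fixed-point-free, all `r * f` whose
cube is trivial are conjugate to `f`. -/
theorem exists_conj_of_fpf {G : Type*} [Group G] [Finite G] {l m : ℕ} [Fact l.Prime] (hl : l ≠ 3)
    (hm : (m : ZMod l) ≠ 1) {y f : G} (hy : orderOf y = l) (hf : f ^ 3 = 1) (hfy : f * y * f⁻¹ = y ^ m)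
    (R : Subgroup G) (hR : IsPGroup 3 R) (hyR : y ∈ normalizer (R : Set G)) (hfR : f ∈ normalizer (R : Set G))
    (hC : ∀ r ∈ R, Commute y r → r = 1) {r : G} (hr : r ∈ R) (hrf : (r * f) ^ 3 = 1) :
    ∃ c ∈ R, c * f * c⁻¹ = r * f := by
  haveI : Fact (Nat.Prime 3) := ⟨Nat.prime_three⟩
  have hm3 : (m : ZMod l) ^ 3 = 1 := by
    have h1 : ∀ k : ℕ, f ^ k * y * (f ^ k)⁻¹ = y ^ (m ^ k) := by
      intro k
      induction k with
      | zero => simp
      | succ k ih =>
        calc f ^ (k + 1) * y * (f ^ (k + 1))⁻¹ = f * (f ^ k * y * (f ^ k)⁻¹) * f⁻¹ := by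
              rw [pow_succ']; group
          _ = (f * y * f⁻¹) ^ (m ^ k) := by rw [ih, conj_pow]
          _ = y ^ (m ^ (k + 1)) := by rw [hfy, ← pow_mul, pow_succ']
    have h3 := h1 3
    rw [hf, one_mul, inv_one, mul_one] at h3
    have h4 : (m ^ 3) ≡ 1 [MOD l] := hy ▸ pow_eq_pow_iff_modEq.1 (by rw [pow_one]; exact h3.symm)
    have := (ZMod.natCast_eq_natCast_iff _ _ _).2 h4
    simpa using this
  induction hn : Nat.card R using Nat.strong_induction_on generalizing R r with
  | _ n ih =>
    rcases eq_or_ne R ⊥ with rfl | hne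
    · rw [mem_bot] at hr
      exact ⟨1, one_mem _, by simp [hr]⟩
    subst hn
    set D := (commutator R).map R.subtype with hD
    haveI := hR.isNilpotent
    haveI : Nontrivial R := (R.nontrivial_iff_ne_bot).2 hne
    have hDR : D ≤ R := map_subtype_le _
    have hlt : Nat.card D < Nat.card R := by
      rw [hD, Cores.card_map_subtype]
      refine lt_of_le_of_ne (card_le_card_group _) fun e =>
        (Group.IsSolvable.commutator_lt_top_of_nontrivial R).ne (eq_top_of_card_eq _ e)
    have hnD : normalizer (R : Set G) ≤ normalizer (D : Set G) := Cores.normalizer_le_normalizer_map _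
    -- conjugation on the abelianisation
    let cj : ∀ g ∈ normalizer (R : Set G), Additive (Abelianization R) →+ Additive (Abelianization R) :=
      fun g hg => MonoidHom.toAdditive (Abelianization.map (R.normalizerMonoidHom ⟨g, hg⟩).toMonoidHom)
    have hcj : ∀ g hg x, cj g hg (Additive.ofMul (Abelianization.of x)) =
        Additive.ofMul (Abelianization.of ⟨g * x * g⁻¹, (mem_normalizer_iff.1 hg x).1 x.2⟩) := fun g hg x => rfl
    have hof : ∀ v : Additive (Abelianization R), ∃ x : R, v = Additive.ofMul (Abelianization.of x) :=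
      fun v => by
        obtain ⟨x, hx⟩ := QuotientGroup.mk'_surjective (commutator R) v.toMul
        exact ⟨x, hx.symm⟩
    have hiter : ∀ (k : ℕ) (x : R), (cj y hyR)^[k] (Additive.ofMul (Abelianization.of x)) =
        Additive.ofMul (Abelianization.of ⟨y ^ k * x * (y ^ k)⁻¹,
          (mem_normalizer_iff.1 (pow_mem hyR k) x).1 x.2⟩) := by
      intro k x
      induction k with
      | zero => simp
      | succ k ih =>
        rw [Function.iterate_succ_apply', ih, hcj]
        congr 2
        exact Subtype.ext (show y * (y ^ k * x * (y ^ k)⁻¹) * y⁻¹ = y ^ (k + 1) * x * (y ^ (k + 1))⁻¹ by rw [pow_succ']; group)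
    obtain ⟨N, hN⟩ := IsPGroup.iff_card.1 hR
    have hzero : ∀ x : R, Additive.ofMul (Abelianization.of x) = 0 → (x : G) ∈ D := fun x hx =>
      ⟨x, (QuotientGroup.eq_one_iff x).1 hx, rfl⟩
    have hyl : y ^ l = 1 := hy ▸ pow_orderOf_eq_one y
    obtain ⟨w, hw⟩ := mem_range_sub (cj y hyR) (cj f hfR) (l := l) (m := m) (N := N)
      (fun v => by
        obtain ⟨x, rfl⟩ := hof v
        rw [hiter]; congr 2; exact Subtype.ext (by simp [hyl]))
      (fun v => by
        obtain ⟨x, rfl⟩ := hof v
        rw [hcj, hcj, hcj]; congr 2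
        refine Subtype.ext (show f * (f * (f * x * f⁻¹) * f⁻¹) * f⁻¹ = x from ?_)
        calc _ = f ^ 3 * (x : G) * (f ^ 3)⁻¹ := by rw [pow_three']; group
          _ = x := by rw [hf]; group)
      (fun v => by
        obtain ⟨x, rfl⟩ := hof v
        rw [hcj, hcj, hcj, hiter]; congr 2
        refine Subtype.ext (show f * (y * x * y⁻¹) * f⁻¹ = y ^ m * (f * x * f⁻¹) * (y ^ m)⁻¹ from ?_)
        rw [← hfy]; group)
      hm hm3
      (fun v hv => by
        obtain ⟨x, rfl⟩ := hof v
        rw [hcj] at hv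
        -- a fixed coset has a fixed point
        have hz : y * x * y⁻¹ * (x : G)⁻¹ ∈ D := by
          refine hzero (⟨y * x * y⁻¹, (mem_normalizer_iff.1 hyR x).1 x.2⟩ * x⁻¹) ?_
          rw [map_mul, ofMul_mul, hv, map_inv, ofMul_inv, add_neg_cancel]
        have hz' : (x : G)⁻¹ * y * x ∈ D ⊔ zpowers y := by
          have e : (x : G)⁻¹ * y * x = (x : G)⁻¹ * (y * x * y⁻¹ * (x : G)⁻¹) * x * y := by group
          rw [e]
          refine mul_mem_sup ?_ (mem_zpowers y)
          simpa using (mem_normalizer_iff.1 (hnD (le_normalizer (inv_mem x.2))) _).1 hz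
        obtain ⟨k, hk⟩ := IsPGroup.iff_card.1 hR
        obtain ⟨d, hd, hxd⟩ := Coprime.exists_mem_centralizer_mul (A := zpowers y) (K := R)
          (zpowers_le.2 hyR) (by
            rw [Nat.card_zpowers, hy, hk]
            exact ((Nat.coprime_primes Fact.out Nat.prime_three).2 hl).pow_right k)
          (Or.inr inferInstance) (D ⊔ zpowers y) le_sup_right x.2 (by
            rintro _ ⟨b, hb, rfl⟩
            obtain ⟨i, rfl⟩ := mem_zpowers_iff.1 hb
            show (x : G)⁻¹ * y ^ i * (x : G)⁻¹⁻¹ ∈ D ⊔ zpowers y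
            rw [show (x : G)⁻¹ * y ^ i * (x : G)⁻¹⁻¹ = ((x : G)⁻¹ * y * (x : G)⁻¹⁻¹) ^ i from conj_zpow.symm,
              inv_inv]
            exact zpow_mem hz' i)
        have h1 : (x : G) * d = 1 := hC _ hxd.1 (mem_centralizer_iff.1 hxd.2 y (mem_zpowers y))
        obtain ⟨e, he, b, hb, heb⟩ := (Coprime.mem_sup_iff (zpowers_le.2 (hnD hyR))).1 hd.2
        have hbR : b ∈ R := by
          have : b = e⁻¹ * d := by rw [← heb]; group
          rw [this]; exact R.mul_mem (R.inv_mem (hDR he)) hd.1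
        have hb1 : b = 1 := Coprime.eq_one_of_mem_of_mem (A := zpowers y) (K := R) (by
            rw [Nat.card_zpowers, hy, hk]
            exact ((Nat.coprime_primes Fact.out Nat.prime_three).2 hl).pow_right k) hb hbR
        have hxD : (x : G) ∈ D := by
          have : (x : G) = d⁻¹ := mul_eq_one_iff_eq_inv.1 h1
          rw [this, ← heb, hb1, mul_one]; exact D.inv_mem he
        obtain ⟨x', hx', hxe⟩ := hxD
        show Abelianization.of x = 1
        exact (QuotientGroup.eq_one_iff x).2 (Subtype.ext hxe ▸ hx'))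
      (fun v => by
        obtain ⟨x, rfl⟩ := hof v
        rw [← ofMul_pow, ← map_pow, ← hN, pow_card_eq_one']; rfl)
      hl (v := Additive.ofMul (Abelianization.of (⟨r, hr⟩ : R))) (by
        rw [hcj, hcj, ← ofMul_mul, ← ofMul_mul, ← map_mul, ← map_mul]
        convert ofMul_one
        convert map_one Abelianization.of
        refine Subtype.ext (show r * (f * r * f⁻¹) * (f * (f * r * f⁻¹) * f⁻¹) = 1 from ?_)
        calc _ = (r * f) ^ 3 * (f ^ 3)⁻¹ := by rw [pow_succ, pow_succ, pow_one, pow_succ f 2, pow_two]; group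
          _ = 1 := by rw [hrf, hf, inv_one, one_mul])
    obtain ⟨x, rfl⟩ := hof w
    rw [hcj] at hw
    -- `r` is `[x⁻¹, f]` modulo `D`
    set c : G := (x : G)⁻¹ with hc
    have hcR : c ∈ R := R.inv_mem x.2
    have hcf : f * (x : G) * f⁻¹ ∈ R := (mem_normalizer_iff.1 hfR x).1 x.2
    have hd : c⁻¹ * (r * f) * c * f⁻¹ ∈ D := by
      have h := hzero (x * ⟨r, hr⟩ * ⟨f * c * f⁻¹, (mem_normalizer_iff.1 hfR c).1 hcR⟩) (by
        have e : (⟨f * c * f⁻¹, (mem_normalizer_iff.1 hfR c).1 hcR⟩ : R) = (⟨f * x * f⁻¹, hcf⟩ : R)⁻¹ :=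
          Subtype.ext (show f * c * f⁻¹ = (f * x * f⁻¹)⁻¹ by rw [hc]; group)
        rw [MonoidHom.map_mul, MonoidHom.map_mul, e, MonoidHom.map_inv, ofMul_mul, ofMul_mul, ofMul_inv, ← hw]
        abel)
      rw [show c⁻¹ * (r * f) * c * f⁻¹ = x * r * (f * c * f⁻¹) by rw [hc]; group]
      exact h
    have hcube : (c⁻¹ * (r * f) * c * f⁻¹ * f) ^ 3 = 1 := by
      rw [show c⁻¹ * (r * f) * c * f⁻¹ * f = c⁻¹ * (r * f) * c⁻¹⁻¹ by group, conj_pow, hrf]; group
    obtain ⟨c', hc', he⟩ := ih _ hlt D (hR.to_le hDR) (hnD hyR) (hnD hfR) (fun z hz => hC z (hDR hz)) hd hcube rfl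
    exact ⟨c * c', R.mul_mem hcR (hDR hc'), by
      rw [show c * c' * f * (c * c')⁻¹ = c * (c' * f * c'⁻¹) * c⁻¹ by group, he]; group⟩

end Cfsg.Agent.AbelianSylow.Field
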