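import Cfsg.Agent.Lib.AbelianSylow.Cent.FieldLine
import Cfsg.Agent.Lib.Coprime.Frattini
import Cfsg.Agent.Lib.Coprime.Invariant
import Cfsg.Agent.Lib.Solvable.Fitting
import Cfsg.Agent.Lib.Cores.Frattini
import Cfsg.Agent.Lib.RankTwo.Derived
import Cfsg.Agent.Lib.OddOrderTheorem.Basic

/-!
# No field automorphism: the image of the `3`-local (owner: helper82; `FIELD.md` steps 5, 6)

`K` normal of odd order, `τ` an involution, `B = K ⊓ C(τ)`.

* `exists_fixed_mul` : a fixed coset of a `τ`-invariant subgroup of odd order has a fixed point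
* `Gamma.not_mem_commutator` : with trivial fixed points on the Fitting subgroup, the abelianisation of `B` survives
* `Gamma.centralizes_fixed_line` : the rotation step on a minimal invariant `l`-subgroup
-/

set_option autoImplicit false
set_option linter.style.haveILetI false

namespace Cfsg.Agent.AbelianSylow.Field

open Subgroup
open scoped commutatorElement

variable {Γ : Type*} [Group Γ] [Finite Γ]

theorem exists_fixed_mul {E : Subgroup Γ} (hE : Odd (Nat.card E)) {τ k : Γ} (hτ : τ * τ = 1)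
    (hEτ : τ ∈ normalizer (E : Set Γ)) (hk : τ * k * τ⁻¹ * k⁻¹ ∈ E) :
    ∃ e ∈ E, Commute (e * k) τ := by
  obtain ⟨m, hm⟩ := hE
  set z := τ * k * τ⁻¹ * k⁻¹ with hz
  have hti : τ⁻¹ = τ := inv_eq_of_mul_eq_one_right hτ
  have hzi : τ * z * τ⁻¹ = z⁻¹ := by
    have hkk : τ * τ * k * τ⁻¹ * τ⁻¹ = k := by rw [hτ, one_mul, hti, mul_assoc, hτ, mul_one]
    calc τ * z * τ⁻¹ = τ * τ * k * τ⁻¹ * τ⁻¹ * (τ * k⁻¹ * τ⁻¹) := by rw [hz]; group
      _ = k * (τ * k⁻¹ * τ⁻¹) := by rw [hkk]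
      _ = z⁻¹ := by rw [hz]; group
  -- half of `z`
  set e := z ^ (m + 1) with he
  have hzm : z ^ (2 * m + 1) = 1 := by
    have := pow_card_eq_one' (x := (⟨z, hk⟩ : E))
    rw [hm] at this
    exact congrArg Subtype.val this
  have he2 : e * e = z := by
    rw [he, ← pow_add, show m + 1 + (m + 1) = (2 * m + 1) + 1 by omega, pow_succ, hzm, one_mul]
  refine ⟨e, E.pow_mem hk _, ?_⟩
  have hei : τ * e * τ⁻¹ = e⁻¹ := by rw [he, ← conj_pow, hzi, inv_pow]
  have h1 : τ * k * τ⁻¹ = z * k := by rw [hz]; group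
  have h2 : τ * (e * k) * τ⁻¹ = e * k := by
    rw [show τ * (e * k) * τ⁻¹ = (τ * e * τ⁻¹) * (τ * k * τ⁻¹) by group, hei, h1, ← he2]; group
  exact ((mul_inv_eq_iff_eq_mul).1 h2).symm

/-- `F(K)` inside `Γ`. -/
abbrev fitOf (K : Subgroup Γ) : Subgroup Γ := (Cfsg.fittingSubgroup K).map K.subtype

theorem mem_fixed_iff {τ x : Γ} {X : Subgroup Γ} :
    x ∈ X ⊓ centralizer ({τ} : Set Γ) ↔ x ∈ X ∧ Commute x τ :=
  ⟨fun h => ⟨h.1, mem_centralizer_singleton_iff.1 h.2⟩, fun h => ⟨h.1, mem_centralizer_singleton_iff.2 h.2.eq⟩⟩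

theorem normalizer_le_fitOf (K : Subgroup Γ) : normalizer (K : Set Γ) ≤ normalizer (fitOf K : Set Γ) := by
  haveI : (Cfsg.fittingSubgroup K).Characteristic := Cores.fittingSubgroup_characteristic K
  exact Cores.normalizer_le_normalizer_map _

/-- **The abelianisation survives.** -/
theorem not_mem_commutator {K : Subgroup Γ} [K.Normal] (hK : Odd (Nat.card K)) {τ : Γ} (hτ : τ * τ = 1)
    (hgen : K ⊔ zpowers τ = ⊤) (hfix : fitOf K ⊓ centralizer ({τ} : Set Γ) = ⊥) {B0 : Subgroup Γ}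
    (hB0 : B0 ≤ K ⊓ centralizer ({τ} : Set Γ))
    (hBB : ∀ a ∈ K ⊓ centralizer ({τ} : Set Γ), ∀ b ∈ K ⊓ centralizer ({τ} : Set Γ), a * b * a⁻¹ * b⁻¹ ∈ B0)
    {f : Γ} (hf : f ∈ K ⊓ centralizer ({τ} : Set Γ)) (hf0 : f ∉ B0) : f ∉ commutator Γ := by
  set F := fitOf K with hF
  set B := K ⊓ centralizer ({τ} : Set Γ)
  haveI : Group.IsSolvable K := OddOrderTheorem.solvable hK
  have hKn : normalizer (K : Set Γ) = ⊤ := normalizer_eq_top K
  haveI hFn : F.Normal := normalizer_eq_top_iff.1 (top_le_iff.1 (hKn.ge.trans (normalizer_le_fitOf K)))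
  have hFK : F ≤ K := map_subtype_le _
  have hFodd : Odd (Nat.card F) := hK.of_dvd_nat (card_dvd_of_le hFK)
  -- `τ` inverts `F`
  have hinv : ∀ x ∈ F, τ * x * τ⁻¹ = x⁻¹ := by
    intro x hx
    set z := x * (τ * x * τ⁻¹) with hz
    have hzF : z ∈ F := F.mul_mem hx (hFn.conj_mem x hx τ)
    have h2 : τ * z * τ⁻¹ = τ * x * τ⁻¹ * x := by
      have hti : τ⁻¹ = τ := inv_eq_of_mul_eq_one_right hτ
      rw [hz, show τ * (x * (τ * x * τ⁻¹)) * τ⁻¹ = τ * x * τ⁻¹ * (τ * τ * x * τ⁻¹ * τ⁻¹) by group, hτ,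
        one_mul, hti, mul_assoc x τ τ, hτ, mul_one]
    obtain ⟨e, he, hec⟩ := exists_fixed_mul hFodd hτ (hKn.ge.trans (normalizer_le_fitOf K) (mem_top τ))
      (show τ * x * τ⁻¹ * x⁻¹ ∈ F from F.mul_mem (hFn.conj_mem x hx τ) (F.inv_mem hx))
    have hex : e * x = 1 := by
      have : e * x ∈ F ⊓ centralizer ({τ} : Set Γ) := mem_fixed_iff.2 ⟨F.mul_mem he hx, hec⟩
      rwa [hfix, mem_bot] at this
    -- `x = e⁻¹` with `e` inverted by construction
    by_contra hne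
    exact hne (eq_inv_of_mul_eq_one_left (by
      have h3 : ∀ y ∈ F, Commute y τ → y = 1 := fun y hy hc => by
        have : y ∈ F ⊓ centralizer ({τ} : Set Γ) := mem_fixed_iff.2 ⟨hy, hc⟩
        rwa [hfix, mem_bot] at this
      -- commutativity of `y ↦ y τ y⁻¹ τ` forces inversion
      have hsurj : Function.Surjective fun y : F => (⟨(y : Γ)⁻¹ * (τ * y * τ⁻¹),
          F.mul_mem (F.inv_mem y.2) (hFn.conj_mem _ y.2 τ)⟩ : F) := by
        refine Finite.injective_iff_surjective.1 fun a b hab => ?_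
        have hab' : (a : Γ)⁻¹ * (τ * a * τ⁻¹) = (b : Γ)⁻¹ * (τ * b * τ⁻¹) := congrArg Subtype.val hab
        refine Subtype.ext (mul_inv_eq_one.1 (h3 _ (F.mul_mem a.2 (F.inv_mem b.2)) ?_))
        have h4 : τ * ((a : Γ) * (b : Γ)⁻¹) * τ⁻¹ = a * (b : Γ)⁻¹ := by
          calc τ * ((a : Γ) * (b : Γ)⁻¹) * τ⁻¹
              = a * ((a : Γ)⁻¹ * (τ * a * τ⁻¹)) * ((b : Γ)⁻¹ * (τ * b * τ⁻¹))⁻¹ * (b : Γ)⁻¹ := by group
            _ = a * (b : Γ)⁻¹ := by rw [hab']; group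
        exact ((mul_inv_eq_iff_eq_mul).1 h4).symm
      obtain ⟨y, hy⟩ := hsurj ⟨x, hx⟩
      have hy' : (y : Γ)⁻¹ * (τ * y * τ⁻¹) = x := congrArg Subtype.val hy
      rw [← hy']
      have hti : τ⁻¹ = τ := inv_eq_of_mul_eq_one_right hτ
      rw [show τ * ((y : Γ)⁻¹ * (τ * y * τ⁻¹)) * τ⁻¹ = τ * (y : Γ)⁻¹ * τ⁻¹ * (τ * τ * y * τ⁻¹ * τ⁻¹) by group,
        hτ, one_mul, hti, mul_assoc (y : Γ) τ τ, hτ, mul_one,
        show τ * (y : Γ)⁻¹ * τ * y * ((y : Γ)⁻¹ * (τ * y * τ)) = τ * ((y : Γ)⁻¹ * (τ * τ) * y) * τ by group,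
        hτ, mul_one, inv_mul_cancel, mul_one, hτ]))
  -- `K = F B`
  have hdec : ∀ k ∈ K, ∃ e ∈ F, e * k ∈ B := by
    intro k hk
    set z := τ * k * τ⁻¹ * k⁻¹ with hz
    have hzK : z ∈ K := K.mul_mem ((inferInstance : K.Normal).conj_mem k hk τ) (K.inv_mem hk)
    have hzc : ∀ x ∈ F, z * x * z⁻¹ = x := by
      intro x hx
      have h1 : k⁻¹ * x * k ∈ F := by simpa using hFn.conj_mem x hx k⁻¹
      have h2 := hinv _ h1
      have h4 : τ⁻¹ * (k⁻¹ * x * k)⁻¹ * τ = k⁻¹ * x * k := by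
        rw [← h2]; group
      calc z * x * z⁻¹ = τ * k * (τ⁻¹ * ((k⁻¹ * x * k)) * τ) * k⁻¹ * τ⁻¹ := by rw [hz]; group
        _ = τ * k * (τ⁻¹ * (k⁻¹ * x * k)⁻¹ * τ)⁻¹ * k⁻¹ * τ⁻¹ := by group
        _ = τ * k * (k⁻¹ * x * k)⁻¹ * k⁻¹ * τ⁻¹ := by rw [h4]
        _ = (τ * x * τ⁻¹)⁻¹ := by group
        _ = x := by rw [hinv x hx, inv_inv]
    have hzF : z ∈ F := by
      refine ⟨⟨z, hzK⟩, Solvable.centralizer_fitting_le K (mem_centralizer_iff.2 fun v hv => Subtype.ext ?_), rfl⟩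
      exact (mul_inv_eq_iff_eq_mul.1 (hzc v ⟨v, hv, rfl⟩)).symm
    obtain ⟨e, he, hec⟩ := exists_fixed_mul hFodd hτ (hKn.ge.trans (normalizer_le_fitOf K) (mem_top τ)) hzF
    exact ⟨e, he, mem_fixed_iff.2 ⟨K.mul_mem (hFK he) hk, hec⟩⟩
  -- the quotient by `F B0`
  set C0 := F ⊔ B0 with hC0
  have hBn : ∀ b ∈ B, ∀ x ∈ B0, b * x * b⁻¹ ∈ B0 := fun b hb x hx => by
    have := B0.mul_mem (hBB b hb x (hB0 hx)) hx
    rwa [show b * x * b⁻¹ * x⁻¹ * x = b * x * b⁻¹ by group] at this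
  have htB : ∀ x ∈ B0, τ * x * τ⁻¹ = x := fun x hx => by
    rw [← (mem_fixed_iff.1 (hB0 hx)).2.eq, mul_inv_cancel_right]
  haveI hC0n : C0.Normal := by
    refine normalizer_eq_top_iff.1 (top_le_iff.1 ?_)
    have hFle : F ≤ normalizer (C0 : Set Γ) := le_sup_left.trans le_normalizer
    rw [← hgen]
    refine sup_le (fun k hk => ?_) (zpowers_le.2 ?_)
    · obtain ⟨e, he, hb⟩ := hdec k hk
      have hb' : e * k ∈ normalizer (C0 : Set Γ) := Coprime.mem_normalizer_of_forall fun x hx => by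
        obtain ⟨u, hu, v, hv, rfl⟩ := mem_sup_of_normal_left.1 hx
        rw [show e * k * (u * v) * (e * k)⁻¹ = (e * k * u * (e * k)⁻¹) * (e * k * v * (e * k)⁻¹) by group]
        exact mul_mem_sup (hFn.conj_mem u hu _) (hBn _ hb v hv)
      have := mul_mem (inv_mem (hFle he)) hb'
      rwa [inv_mul_cancel_left] at this
    · refine Coprime.mem_normalizer_of_forall fun x hx => ?_
      obtain ⟨u, hu, v, hv, rfl⟩ := mem_sup_of_normal_left.1 hx
      rw [show τ * (u * v) * τ⁻¹ = (τ * u * τ⁻¹) * (τ * v * τ⁻¹) by group, htB v hv]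
      exact mul_mem_sup (hFn.conj_mem u hu _) hv
  set q := QuotientGroup.mk' C0
  -- the quotient is abelian
  have hrep : ∀ g : Γ, ∃ b ∈ B, ∃ i : ℤ, q g = q b * q τ ^ i := by
    intro g
    obtain ⟨k, hk, w, hw, rfl⟩ := mem_sup_of_normal_left.1 (hgen ▸ mem_top g : g ∈ K ⊔ zpowers τ)
    obtain ⟨i, rfl⟩ := mem_zpowers_iff.1 hw
    obtain ⟨e, he, hb⟩ := hdec k hk
    refine ⟨e * k, hb, i, ?_⟩
    rw [map_mul, map_zpow, map_mul, show q e = 1 from (QuotientGroup.eq_one_iff e).2 (mem_sup_left he), one_mul]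
  have hcomm : ∀ g₁ g₂ : Γ, q g₁ * q g₂ = q g₂ * q g₁ := by
    intro g₁ g₂
    obtain ⟨a, ha, i, h1⟩ := hrep g₁
    obtain ⟨b, hb, j, h2⟩ := hrep g₂
    have hab : Commute (q a) (q b) := by
      have : q (a * b * a⁻¹ * b⁻¹) = 1 := (QuotientGroup.eq_one_iff _).2 (mem_sup_right (hBB a ha b hb))
      rw [map_mul, map_mul, map_mul, map_inv, map_inv] at this
      exact (mul_inv_eq_iff_eq_mul.1 (mul_inv_eq_one.1 this))
    have hc : ∀ x ∈ B, ∀ n : ℤ, Commute (q x) (q τ ^ n) := fun x hx n =>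
      ((mem_fixed_iff.1 hx).2.map q).zpow_right n
    rw [h1, h2]
    exact ((hab.mul_right (hc a ha j)).mul_left
      (((hc b hb i).symm).mul_right ((Commute.refl (q τ)).zpow_zpow i j))).eq
  intro hfc
  have hle : commutator Γ ≤ C0 := by
    rw [_root_.commutator_def, commutator_le]
    intro a _ b _
    rw [← QuotientGroup.eq_one_iff, ← QuotientGroup.mk'_apply, map_commutatorElement,
      commutatorElement_eq_one_iff_mul_comm]
    exact hcomm a b
  obtain ⟨e, he, v, hv, hev⟩ := mem_sup_of_normal_left.1 (hle hfc)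
  have he1 : e = 1 := by
    have h1 : e = f * v⁻¹ := by rw [← hev]; group
    have : e ∈ F ⊓ centralizer ({τ} : Set Γ) := mem_fixed_iff.2 ⟨he, by
      rw [h1]; exact (mem_fixed_iff.1 hf).2.mul_left (mem_fixed_iff.1 (hB0 hv)).2.inv_left⟩
    rwa [hfix, mem_bot] at this
  rw [he1, one_mul] at hev
  exact hf0 (hev ▸ hv)

/-- Conjugation of the normaliser on the Frattini quotient. -/
@[instance_reducible] noncomputable def frattiniAct (W : Subgroup Γ) :
    MulDistribMulAction ↥(normalizer (W : Set Γ)) (W ⧸ frattini W) where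
  smul g := QuotientGroup.map (frattini W) (frattini W) (W.normalizerMonoidHom g).toMonoidHom
    (characteristic_iff_le_comap.1 inferInstance _)
  one_smul v := by
    obtain ⟨x, rfl⟩ := QuotientGroup.mk_surjective v
    show (QuotientGroup.mk ((W.normalizerMonoidHom 1) x) : W ⧸ frattini W) = _
    rw [map_one]; rfl
  mul_smul a b v := by
    obtain ⟨x, rfl⟩ := QuotientGroup.mk_surjective v
    show (QuotientGroup.mk ((W.normalizerMonoidHom (a * b)) x) : W ⧸ frattini W) = _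
    rw [map_mul]; rfl
  smul_one _ := map_one _
  smul_mul _ := map_mul _

/-- **Rotation step.** -/
theorem centralizes_fixed_line {l : ℕ} [Fact l.Prime] (hl2 : l ≠ 2) (hl3 : l ≠ 3) {τ h x : Γ}
    (hτ : τ * τ = 1) (hh : Odd (orderOf h)) (hhτ : Commute h τ) (hhx : Commute h x) (hxτ : Commute x τ)
    (hxl : orderOf x = l) (O : Subgroup Γ) [O.Normal] (hO : IsPGroup l O) (hxO : x ∈ O)
    (hline : ∀ w ∈ O, Commute w τ → w ^ l = 1 → w ∈ zpowers x)
    {D : Subgroup Γ} (hD : IsPGroup 3 D) (hinv : ∀ d ∈ D, τ * d * τ⁻¹ = d⁻¹)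
    (hhD : ∀ d ∈ D, h * d * h⁻¹ ∈ D) :
    ∀ d ∈ D, Commute (h * d * h⁻¹ * d⁻¹) x := by
  classical
  set A := D ⊔ zpowers τ ⊔ zpowers h with hA
  obtain ⟨W, ⟨hWO, hWA, hxW⟩, hmin⟩ := Set.Finite.exists_minimal
    (s := {W : Subgroup Γ | W ≤ O ∧ A ≤ normalizer (W : Set Γ) ∧ x ∈ W}) (Set.toFinite _)
    ⟨O, le_rfl, by rw [normalizer_eq_top O]; exact le_top, hxO⟩
  have hWl : IsPGroup l W := hO.to_le hWO
  have hτA : τ ∈ A := mem_sup_left (mem_sup_right (mem_zpowers τ))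
  have hhA : h ∈ A := mem_sup_right (mem_zpowers h)
  have hDA : D ≤ A := le_sup_left.trans le_sup_left
  set Φ := (frattini W).map W.subtype with hΦ
  have hΦn : normalizer (W : Set Γ) ≤ normalizer (Φ : Set Γ) := Cores.normalizer_le_normalizer_map _
  -- `x` is outside the Frattini subgroup
  have hxΦ : x ∉ Φ := by
    intro hxΦ
    have hWΦ : W ≤ Φ := hmin ⟨(map_subtype_le _).trans hWO, hWA.trans hΦn, hxΦ⟩ (map_subtype_le _)
    have htop : frattini W = ⊤ := by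
      refine eq_top_iff.2 fun w _ => ?_
      obtain ⟨v, hv, hve⟩ := hWΦ w.2
      exact (Subtype.ext hve : v = w) ▸ hv
    have hWb : (⊥ : Subgroup W) = ⊤ := frattini_nongenerating (by rw [htop, sup_top_eq])
    have : (⟨x, hxW⟩ : W) ∈ (⊥ : Subgroup W) := hWb ▸ mem_top _
    rw [mem_bot, ← orderOf_eq_one_iff, Subgroup.orderOf_mk, hxl] at this
    exact (Fact.out : l.Prime).ne_one this
  letI := frattiniAct W
  haveI : IsMulCommutative (W ⧸ frattini W) := ⟨⟨fun a b => by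
    obtain ⟨a, rfl⟩ := QuotientGroup.mk'_surjective _ a
    obtain ⟨b, rfl⟩ := QuotientGroup.mk'_surjective _ b
    rw [← map_mul, ← map_mul, QuotientGroup.mk'_apply, QuotientGroup.mk'_apply, QuotientGroup.eq]
    haveI := hWl.isNilpotent
    refine Cores.commutator_le_frattini (G := W) ?_
    have : (a * b)⁻¹ * (b * a) = ⁅b⁻¹, a⁻¹⁆ := by rw [commutatorElement_def]; group
    rw [this]
    exact commutator_mem_commutator (mem_top _) (mem_top _)⟩⟩
  letI : CommGroup (W ⧸ frattini W) := { (inferInstance : Group (W ⧸ frattini W)) with mul_comm := mul_comm' }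
  let V := Additive (W ⧸ frattini W)
  letI actV : DistribMulAction ↥(normalizer (W : Set Γ)) V :=
    { smul := fun g v => Additive.ofMul (g • v.toMul)
      one_smul := fun v => one_smul _ v.toMul
      mul_smul := fun a b v => mul_smul a b v.toMul
      smul_zero := fun g => (smul_one g : g • (1 : W ⧸ frattini W) = 1)
      smul_add := fun g a b => (smul_mul' g a.toMul b.toMul) }
  let mk : W → V := fun w => Additive.ofMul (QuotientGroup.mk' _ w)
  have hsmul : ∀ (g : ↥(normalizer (W : Set Γ))) (w : W),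
      g • mk w = mk ⟨g * w * (g : Γ)⁻¹, (mem_normalizer_iff.1 g.2 w).1 w.2⟩ := fun g w => rfl
  have hmk : ∀ v : V, ∃ w : W, v = mk w := fun v => by
    obtain ⟨w, hw⟩ := QuotientGroup.mk'_surjective (frattini W) v.toMul
    exact ⟨w, hw.symm⟩
  have hmk_eq : ∀ a b : W, mk a = mk b ↔ (a : Γ)⁻¹ * b ∈ Φ := fun a b => by
    show QuotientGroup.mk' _ a = QuotientGroup.mk' _ b ↔ _
    rw [QuotientGroup.mk'_apply, QuotientGroup.mk'_apply, QuotientGroup.eq]
    refine ⟨fun h => ⟨_, h, rfl⟩, ?_⟩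
    rintro ⟨v, hv, hve⟩
    exact (Subtype.ext hve : v = a⁻¹ * b) ▸ hv
  set τ' : ↥(normalizer (W : Set Γ)) := ⟨τ, hWA hτA⟩
  set h' : ↥(normalizer (W : Set Γ)) := ⟨h, hWA hhA⟩
  set D' := D.subgroupOf (normalizer (W : Set Γ))
  set y : V := mk ⟨x, hxW⟩
  have hΦodd : Odd (Nat.card Φ) := by
    obtain ⟨n, hn⟩ := IsPGroup.iff_card.1 (hWl.to_le (show Φ ≤ W from map_subtype_le _))
    rw [hn]; exact ((Fact.out : l.Prime).odd_of_ne_two hl2).pow
  have hΦfix : ∀ w ∈ Φ, Commute w τ → w = 1 := by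
    intro w hw hc
    by_contra hw1
    have hwW : w ∈ W := map_subtype_le _ hw
    obtain ⟨k, hk⟩ := hWl ⟨w, hwW⟩
    have hk' : w ^ (l ^ k) = 1 := congrArg Subtype.val hk
    obtain ⟨j, -, hjo⟩ := (Nat.dvd_prime_pow Fact.out).1 (orderOf_dvd_of_pow_eq_one hk')
    obtain ⟨j, rfl⟩ : ∃ i, j = i + 1 := Nat.exists_eq_add_one.2 (Nat.pos_of_ne_zero fun e => hw1
      (orderOf_eq_one_iff.1 (by rw [hjo, e, pow_zero])))
    have ho : orderOf (w ^ (l ^ j)) = l := by
      rw [orderOf_pow' _ (pow_ne_zero _ (Fact.out : l.Prime).ne_zero), hjo,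
        Nat.gcd_eq_right (pow_dvd_pow l (Nat.le_succ j)), pow_succ,
        Nat.mul_div_cancel_left _ (pow_pos (Fact.out : l.Prime).pos j)]
    have hmem := hline _ (hWO (W.pow_mem hwW _)) (hc.pow_left _)
      (by rw [← ho]; exact pow_orderOf_eq_one _)
    have heq : zpowers (w ^ (l ^ j)) = zpowers x := eq_of_le_of_card_ge (zpowers_le.2 hmem)
      (by rw [Nat.card_zpowers, Nat.card_zpowers, ho, hxl])
    exact hxΦ ((zpowers_le.2 (Φ.pow_mem hw _)) (heq ▸ mem_zpowers x))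
  intro d hd
  have hdN : d ∈ normalizer (W : Set Γ) := hWA (hDA hd)
  have key := smul_conj_eq (V := V) (l := l) (τ := τ') (h := h') (y := y) hl3 (fun v => by
      obtain ⟨w, rfl⟩ := hmk v
      show l • Additive.ofMul (QuotientGroup.mk' (frattini W) w) = 0
      rw [← ofMul_pow, ← map_pow, QuotientGroup.mk'_apply, (QuotientGroup.eq_one_iff _).2
        (Cores.pow_mem_frattini hWl w)]; rfl)
    (Subtype.ext hτ) (by rwa [← Subgroup.orderOf_coe h'] at *) D'
    (hD.comap_subtype) (fun e he => Subtype.ext (hinv _ (mem_subgroupOf.1 he)))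
    (fun e he => mem_subgroupOf.2 (hhD _ (mem_subgroupOf.1 he)))
    (by rw [hsmul]; congr 1; exact Subtype.ext (show τ * x * τ⁻¹ = x by rw [← hxτ.eq, mul_inv_cancel_right]))
    (by rw [hsmul]; congr 1; exact Subtype.ext (show h * x * h⁻¹ = x by rw [hhx.eq, mul_inv_cancel_right]))
    (by
      intro v hv
      obtain ⟨w, rfl⟩ := hmk v
      rw [hsmul] at hv
      have hz : τ * (w : Γ) * τ⁻¹ * (w : Γ)⁻¹ ∈ Φ := by
        have h1 := (hmk_eq _ _).1 hv.symm
        have h2 := (mem_normalizer_iff.1 (hΦn (le_normalizer w.2)) _).1 h1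
        rwa [show (w : Γ) * ((w : Γ)⁻¹ * (τ * w * τ⁻¹)) * (w : Γ)⁻¹ = τ * w * τ⁻¹ * (w : Γ)⁻¹ by group] at h2
      obtain ⟨e, he, hec⟩ := exists_fixed_mul hΦodd hτ (hΦn (hWA hτA)) hz
      have heW : e * w ∈ W := W.mul_mem (map_subtype_le _ he) w.2
      have heq : mk ⟨e * w, heW⟩ = mk w := by
        rw [hmk_eq]
        show (e * w)⁻¹ * (w : Γ) ∈ Φ
        have := (mem_normalizer_iff.1 (hΦn (le_normalizer (inv_mem w.2))) _).1 (Φ.inv_mem he)
        rwa [inv_inv, show (w : Γ)⁻¹ * e⁻¹ * w = (e * w)⁻¹ * w by group] at this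
      have hp : (e * (w : Γ)) ^ l = 1 := by
        refine hΦfix _ ?_ (hec.pow_left l)
        exact ⟨_, Cores.pow_mem_frattini hWl ⟨e * w, heW⟩, rfl⟩
      obtain ⟨i, hi⟩ := mem_zpowers_iff.1 (hline _ (hWO heW) hec hp)
      refine ⟨i, ?_⟩
      show i • y = mk w
      rw [← heq]
      show Additive.ofMul (QuotientGroup.mk' (frattini W) ⟨x, hxW⟩ ^ i) = _
      rw [← map_zpow]; congr 2; exact Subtype.ext hi)
    (by
      -- minimality
      set M' : Subgroup Γ := closure ((fun e => e * x * e⁻¹) '' (D : Set Γ)) with hM'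
      have hM'W : M' ≤ W := by
        rw [hM', closure_le]; rintro _ ⟨e, he, rfl⟩
        exact (mem_normalizer_iff.1 (hWA (hDA he)) x).1 hxW
      have hconj : ∀ a : Γ, (∀ e ∈ D, ∃ e' ∈ D, a * (e * x * e⁻¹) * a⁻¹ = e' * x * e'⁻¹) →
          ∀ z ∈ M', a * z * a⁻¹ ∈ M' := by
        intro a ha z hz
        induction hz using closure_induction with
        | mem u hu =>
          obtain ⟨e, he, rfl⟩ := hu
          obtain ⟨e', he', h1⟩ := ha e he
          exact subset_closure ⟨e', he', h1.symm⟩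
        | one => simp
        | mul u v _ _ h1 h2 =>
          rw [show a * (u * v) * a⁻¹ = (a * u * a⁻¹) * (a * v * a⁻¹) by group]; exact mul_mem h1 h2
        | inv u _ h1 => rw [show a * u⁻¹ * a⁻¹ = (a * u * a⁻¹)⁻¹ by group]; exact inv_mem h1
      have hDn : D ≤ normalizer (M' : Set Γ) := fun a ha => Coprime.mem_normalizer_of_forall
        (hconj a fun e he => ⟨a * e, D.mul_mem ha he, by group⟩)
      have hτn : τ ∈ normalizer (M' : Set Γ) := Coprime.mem_normalizer_of_forall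
        (hconj τ fun e he => ⟨e⁻¹, D.inv_mem he, by
          rw [show τ * (e * x * e⁻¹) * τ⁻¹ = (τ * e * τ⁻¹) * (τ * x * τ⁻¹) * (τ * e * τ⁻¹)⁻¹ by group,
            hinv e he, show τ * x * τ⁻¹ = x by rw [← hxτ.eq, mul_inv_cancel_right]]⟩)
      have hhn : h ∈ normalizer (M' : Set Γ) := Coprime.mem_normalizer_of_forall
        (hconj h fun e he => ⟨h * e * h⁻¹, hhD e he, by
          rw [show h * (e * x * e⁻¹) * h⁻¹ = (h * e * h⁻¹) * (h * x * h⁻¹) * (h * e * h⁻¹)⁻¹ by group,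
            show h * x * h⁻¹ = x by rw [hhx.eq, mul_inv_cancel_right]]⟩)
      have hWM : W ≤ M' := hmin ⟨hM'W.trans hWO,
        sup_le (sup_le hDn (zpowers_le.2 hτn)) (zpowers_le.2 hhn),
        subset_closure ⟨1, D.one_mem, by group⟩⟩ hM'W
      refine eq_top_iff.2 fun v _ => ?_
      obtain ⟨⟨w, hwW⟩, rfl⟩ := hmk v
      have hwM := hWM hwW
      induction hwM using closure_induction with
      | mem u hu =>
        obtain ⟨e, he, rfl⟩ := hu
        exact AddSubgroup.subset_closure ⟨⟨e, hWA (hDA he)⟩, mem_subgroupOf.2 he, rfl⟩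
      | one =>
        have : mk ⟨1, W.one_mem⟩ = 0 := congrArg Additive.ofMul (map_one (QuotientGroup.mk' (frattini W)))
        exact this ▸ zero_mem _
      | mul u v hu hv h1 h2 =>
        have : mk ⟨u * v, hwW⟩ = mk ⟨u, hM'W hu⟩ + mk ⟨v, hM'W hv⟩ :=
          congrArg Additive.ofMul (map_mul (QuotientGroup.mk' (frattini W)) ⟨u, hM'W hu⟩ ⟨v, hM'W hv⟩)
        exact this ▸ add_mem (h1 (hM'W hu) trivial) (h2 (hM'W hv) trivial)
      | inv u hu h1 =>
        have : mk ⟨u⁻¹, hwW⟩ = -mk ⟨u, hM'W hu⟩ :=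
          congrArg Additive.ofMul (map_inv (QuotientGroup.mk' (frattini W)) ⟨u, hM'W hu⟩)
        exact this ▸ neg_mem (h1 (hM'W hu) trivial))
    ⟨d, hdN⟩ (mem_subgroupOf.2 hd)
  -- the commutator acts trivially on the Frattini quotient
  set c := h * d * h⁻¹ * d⁻¹ with hc
  have hcD : c ∈ D := D.mul_mem (hhD d hd) (D.inv_mem hd)
  have hcN : c ∈ normalizer (W : Set Γ) := hWA (hDA hcD)
  have hle : zpowers c ≤ centralizer (W : Set Γ) := by
    refine Coprime.le_centralizer_of_forall_mem_frattini (zpowers_le.2 hcN) ?_ ?_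
    · obtain ⟨i, hi⟩ := IsPGroup.iff_card.1 (hD.to_le (zpowers_le.2 hcD))
      obtain ⟨j, hj⟩ := IsPGroup.iff_card.1 (hWl.to_subgroup (frattini W))
      rw [hi, hj]
      exact Nat.Coprime.pow _ _ ((Nat.coprime_primes Nat.prime_three Fact.out).2 (Ne.symm hl3))
    · -- generated case
      have htriv : ∀ w : W, (⟨c, hcN⟩ : ↥(normalizer (W : Set Γ))) • mk w = mk w := by
        intro w
        have hc' : (⟨c, hcN⟩ : ↥(normalizer (W : Set Γ))) = (h' * ⟨d, hdN⟩ * h'⁻¹) * (⟨d, hdN⟩)⁻¹ := Subtype.ext rfl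
        rw [hc', mul_smul, key, smul_inv_smul]
      intro a ha k hk
      have hfixa : ∀ w : W, (⟨a, (zpowers_le.2 hcN) ha⟩ : ↥(normalizer (W : Set Γ))) • mk w = mk w := by
        intro w
        obtain ⟨i, rfl⟩ := mem_zpowers_iff.1 ha
        have hmem : (⟨c, hcN⟩ : ↥(normalizer (W : Set Γ))) ∈ MulAction.stabilizer _ (mk w) := htriv w
        have := Subgroup.zpow_mem _ hmem i
        exact (show (⟨c ^ i, _⟩ : ↥(normalizer (W : Set Γ))) = (⟨c, hcN⟩ : ↥(normalizer (W : Set Γ))) ^ i from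
          Subtype.ext (by simp)) ▸ this
      have h1 := hfixa ⟨k, hk⟩
      rw [hsmul, hmk_eq] at h1
      have h2 := Φ.inv_mem ((mem_normalizer_iff.1 (hΦn (le_normalizer hk)) _).1 h1)
      have h3 : a * k * a⁻¹ * k⁻¹ = (k * ((a * k * a⁻¹)⁻¹ * k) * k⁻¹)⁻¹ := by group
      rw [h3]; exact h2
  exact (mem_centralizer_iff.1 (hle (mem_zpowers c)) x hxW).symm

end Cfsg.Agent.AbelianSylow.Field
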