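import Cfsg.Agent.Lib.AbelianSylow.Cent.FieldPairs
import Cfsg.Agent.Lib.AbelianSylow.Cent.FieldCohom
import Cfsg.Agent.Lib.AbelianSylow.Cent.FieldGamma
import Cfsg.Agent.Lib.Transfer.Focal
import Cfsg.Agent.Lib.ConjPSubgroups.Normal
import Cfsg.Agent.Lib.Frobenius.Complement

/-!
# No field automorphism: the `3`-local modulo `O_{3',3}` (owner: helper82; `FIELD.md` step 4)

* `ThreeCtx`       : what is used of `C(t) = ⟨t⟩ × L F` in case `(A)`
* `LocalData`      : a subgroup `N = K⟨t⟩` with `B ≤ K`, and `W = O_{3',3}(K)`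
* `exists_local`   : it exists with `f ∈ ⁅N, N⁆`
* `LocalData.lift_cent`   : centralisers of `f` modulo `W` lift
* `LocalData.no_inverted` : modulo `W`, good torus elements centralise no inverted 3-element
-/

set_option autoImplicit false
set_option linter.style.haveILetI false

namespace Cfsg.Agent.AbelianSylow.Field

open Subgroup
open scoped Pointwise commutatorElement

universe u

variable {G : Type u} [Group G] [Finite G]

/-- What is used of the centraliser of `t`: `B = U ⋊ (H F)` is the odd part of the normaliser of `U`,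
`F₃` the Sylow `3`-subgroup of `F`, `f ∈ F₃` of order `3`, `y ∈ H` of prime order `l` moved by `f`. -/
structure ThreeCtx (t f y : G) (U F₃ B H : Subgroup G) (l m : ℕ) : Prop where
  elem : Elem8 G
  invol : orderOf t = 2
  B_cent : B ≤ centralizer ({t} : Set G)
  B_odd : Odd (Nat.card B)
  U_le : U ≤ B
  U_three : IsPGroup 3 U
  U_ne : U ≠ ⊥
  U_normal : B ≤ normalizer (U : Set G)
  B_max : ∀ X : Subgroup G, B ≤ X → X ≤ centralizer ({t} : Set G) → Odd (Nat.card X) → X ≤ B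
  small : ∀ Z : Subgroup G, Z ≠ ⊥ → IsPGroup 3 Z → t ∈ normalizer (Z : Set G) →
    B ≤ normalizer (Z : Set G) → ¬ 4 ∣ Nat.card (normalizer (Z : Set G))
  normal_three : ∀ X : Subgroup G, X ≤ B → B ≤ normalizer (X : Set G) → IsPGroup 3 X → X = ⊥ ∨ X = U
  normal_prime : ∀ X : Subgroup G, X ≤ B → B ≤ normalizer (X : Set G) → ¬ 3 ∣ Nat.card X → X = ⊥
  normal_fit : ∀ X : Subgroup G, X ≤ B → B ≤ normalizer (X : Set G) → U ≤ X → ¬ 3 ∣ U.relIndex X →
    (∀ a ∈ X, ∀ b ∈ X, (orderOf a).Coprime (orderOf b) → a * b * a⁻¹ * b⁻¹ ∈ U) → X ≤ U ⊔ H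
  H_le : H ≤ B
  H_cyclic : IsCyclic H
  H_three : ¬ 3 ∣ Nat.card H
  B_comm : ∀ a ∈ B, ∀ b ∈ B, a * b * a⁻¹ * b⁻¹ ∈ U ⊔ H
  cent_H : ∀ x ∈ H, (orderOf x).Prime → ∀ W : Subgroup G, IsPGroup 3 W → (∀ w ∈ W, Commute w x) →
    t ∈ normalizer (W : Set G) → ∀ w ∈ W, Commute w t
  F_le : F₃ ≤ B
  F_cyclic : IsCyclic F₃
  F_three : IsPGroup 3 F₃
  F_sylow : ¬ 3 ∣ (U ⊔ F₃).relIndex B
  f_mem : f ∈ F₃
  f_cube : f ^ 3 = 1
  f_not : f ∉ U ⊔ H
  y_mem : y ∈ H
  y_order : orderOf y = l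
  l_prime : l.Prime
  y_moved : f * y * f⁻¹ = y ^ m
  m_ne : (m : ZMod l) ≠ 1
  y_free : ∀ x ∈ B, ∀ k : ℕ, x ^ (3 ^ k) = 1 → Commute x y → x = 1

/-- A `3`-local `N = K ⟨t⟩` with `W = O_{3',3}(K)`. -/
structure LocalData (t : G) (U B N K W : Subgroup G) : Prop where
  K_odd : Odd (Nat.card K)
  K_le : K ≤ N
  K_normal : N ≤ normalizer (K : Set G)
  W_normal : N ≤ normalizer (W : Set G)
  W_le : W ≤ K
  t_mem : t ∈ N
  gen : N = K ⊔ zpowers t
  B_le : B ≤ K
  fix : ∀ x ∈ K, Commute x t → x ∈ B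
  inter : W ⊓ B = U
  top : ∀ X : Subgroup G, W ≤ X → X ≤ K → K ≤ normalizer (X : Set G) → (∃ k, W.relIndex X = 3 ^ k) → X = W
  frat : ∃ W₁ : Subgroup G, W₁ ≤ W ∧ N ≤ normalizer (W₁ : Set G) ∧ (∀ a ∈ W, a ^ 3 ∈ W₁) ∧
    (∀ a ∈ W, ∀ b ∈ W, a * b * a⁻¹ * b⁻¹ ∈ W₁) ∧ ∀ x ∈ K, (∀ w ∈ W, x * w * x⁻¹ * w⁻¹ ∈ W₁) → x ∈ W

variable {t f y : G} {U F₃ B H N K W : Subgroup G} {l m : ℕ}

theorem ThreeCtx.commute_t (c : ThreeCtx t f y U F₃ B H l m) {x : G} (hx : x ∈ B) : Commute x t :=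
  mem_centralizer_singleton_iff.1 (c.B_cent hx)

theorem ThreeCtx.l_ne_three (c : ThreeCtx t f y U F₃ B H l m) : l ≠ 3 := fun e => c.H_three (by
  have := Subgroup.orderOf_dvd_natCard H c.y_mem
  rwa [c.y_order, e] at this)

theorem ThreeCtx.t_inv (c : ThreeCtx t f y U F₃ B H l m) : t⁻¹ = t :=
  inv_eq_of_mul_eq_one_right (Involution.mul_self c.invol)

/-- An element inverted and fixed of odd order is trivial. -/
theorem eq_one_of_inv_eq {x : G} {X : Subgroup G} (hX : Odd (Nat.card X)) (hx : x ∈ X) (h : x = x⁻¹) :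
    x = 1 := by
  have h2 : x ^ 2 = 1 := by rw [pow_two]; nth_rewrite 2 [h]; exact mul_inv_cancel x
  exact orderOf_eq_one_iff.1 (Nat.eq_one_of_dvd_coprimes (Nat.coprime_two_left.2 hX)
    (orderOf_dvd_of_pow_eq_one h2) (Subgroup.orderOf_dvd_natCard X hx))

theorem relIndex_sup_norm' {W D : Subgroup G} (h : D ≤ normalizer (W : Set G)) :
    W.relIndex (W ⊔ D) = W.relIndex D := by
  haveI : (W.subgroupOf (normalizer (W : Set G))).Normal := inferInstance
  rw [← relIndex_subgroupOf (sup_le le_normalizer h), subgroupOf_sup le_normalizer h, sup_comm,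
    relIndex_sup_right, relIndex_subgroupOf h]

omit [Finite G] in
theorem map_conj_le {N : Subgroup G} {g : G} (hg : g ∈ N) : N.map (MulAut.conj g).toMonoidHom ≤ N := by
  rintro _ ⟨x, hx, rfl⟩
  exact N.mul_mem (N.mul_mem hg hx) (N.inv_mem hg)

theorem inverted_of_fixed_trivial {W : Subgroup G} (hW : Odd (Nat.card W)) {t : G} (htt : t * t = 1)
    (htW : t ∈ normalizer (W : Set G)) (h : ∀ w ∈ W, Commute w t → w = 1) :
    ∀ w ∈ W, t * w * t⁻¹ = w⁻¹ := by
  intro w hw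
  have hti : t⁻¹ = t := inv_eq_of_mul_eq_one_right htt
  have hmem : ∀ v ∈ W, t * v * t⁻¹ ∈ W := fun v hv => (mem_normalizer_iff.1 htW v).1 hv
  have hsurj : Function.Surjective fun v : W => (⟨(v : G)⁻¹ * (t * v * t⁻¹),
      W.mul_mem (W.inv_mem v.2) (hmem _ v.2)⟩ : W) := by
    refine Finite.injective_iff_surjective.1 fun a b hab => ?_
    have hab' : (a : G)⁻¹ * (t * a * t⁻¹) = (b : G)⁻¹ * (t * b * t⁻¹) := congrArg Subtype.val hab
    refine Subtype.ext (mul_inv_eq_one.1 (h _ (W.mul_mem a.2 (W.inv_mem b.2)) ?_))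
    have h4 : t * ((a : G) * (b : G)⁻¹) * t⁻¹ = a * (b : G)⁻¹ := by
      calc t * ((a : G) * (b : G)⁻¹) * t⁻¹
          = a * ((a : G)⁻¹ * (t * a * t⁻¹)) * ((b : G)⁻¹ * (t * b * t⁻¹))⁻¹ * (b : G)⁻¹ := by group
        _ = a * (b : G)⁻¹ := by rw [hab']; group
    exact ((mul_inv_eq_iff_eq_mul).1 h4).symm
  obtain ⟨v, hv⟩ := hsurj ⟨w, hw⟩
  have hv' : (v : G)⁻¹ * (t * v * t⁻¹) = w := congrArg Subtype.val hv
  rw [← hv']
  calc t * ((v : G)⁻¹ * (t * v * t⁻¹)) * t⁻¹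
      = t * (v : G)⁻¹ * t⁻¹ * (t * t * v * (t * t)⁻¹) := by group
    _ = t * (v : G)⁻¹ * t⁻¹ * v := by rw [htt]; group
    _ = ((v : G)⁻¹ * (t * v * t⁻¹))⁻¹ := by group

theorem zj_fusion (c : ThreeCtx t f y U F₃ B H l m) [Fact (Nat.Prime 3)] (P : Sylow 3 G) {x g : G}
    (hx : x ∈ (P : Subgroup G)) (hg : g * x * g⁻¹ ∈ (P : Subgroup G)) :
    ∃ n ∈ normalizer (Cfsg.centerThompsonAOf (P : Subgroup G) : Set G), n * x * n⁻¹ = g * x * g⁻¹ := by
  obtain ⟨n, hn, hne⟩ := Cent.zj_realized (p := 3) (by decide) c.elem.abelian P (zpowers x) (zpowers_le.2 hx) g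
    (by rw [MonoidHom.map_zpowers]; exact zpowers_le.2 hg)
  exact ⟨n, hn, hne x (mem_zpowers x)⟩

theorem LocalData.exists_fixed (D : LocalData t U B N K W) (c : ThreeCtx t f y U F₃ B H l m) {x : G}
    (hx : x ∈ K) (hfix : t * x * t⁻¹ * x⁻¹ ∈ W) : ∃ w ∈ W, w * x ∈ B := by
  obtain ⟨w, hw, hc⟩ := exists_fixed_mul (D.K_odd.of_dvd_nat (card_dvd_of_le D.W_le))
    (Involution.mul_self c.invol) (D.W_normal D.t_mem) hfix
  exact ⟨w, hw, D.fix _ (K.mul_mem (D.W_le hw) hx) hc⟩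

/-- The `t`-invariant Sylow `3`-subgroup of a `t`-invariant subgroup `Z ⊇ W` of `K` whose fixed points lie
in `U`: unique, normalised by the elements of `B` normalising `Z`. -/
theorem LocalData.exists_sylow (D : LocalData t U B N K W) (c : ThreeCtx t f y U F₃ B H l m) {Z : Subgroup G}
    (hUZ : U ≤ Z) (hZK : Z ≤ K) (htZ : t ∈ normalizer (Z : Set G)) (hfixZ : ∀ z ∈ Z, Commute z t → z ∈ U) :
    ∃ Q : Subgroup G, Q ≤ Z ∧ IsPGroup 3 Q ∧ t ∈ normalizer (Q : Set G) ∧ U ≤ Q ∧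
      Nat.card Q = 3 ^ (Nat.card Z).factorization 3 ∧
      ∀ x ∈ B, x ∈ normalizer (Z : Set G) → x ∈ normalizer (Q : Set G) := by
  haveI : Fact (Nat.Prime 3) := ⟨Nat.prime_three⟩
  have hZo : Odd (Nat.card Z) := D.K_odd.of_dvd_nat (card_dvd_of_le hZK)
  have hcop : (Nat.card (zpowers t)).Coprime (Nat.card Z) := by
    rw [Nat.card_zpowers, c.invol]; exact Nat.coprime_two_left.2 hZo
  have hsol : Group.IsSolvable Z := OddOrderTheorem.solvable hZo
  have htU : t ∈ normalizer (U : Set G) := centralizer_le_normalizer _ (mem_centralizer_iff.2 fun x hx =>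
    (c.commute_t (c.U_le hx)).eq)
  obtain ⟨Q, hUQ, hQZ, hQt, hQc⟩ := Coprime.exists_invariant_card (zpowers_le.2 htZ) hcop (Or.inr hsol) 3
    hUZ c.U_three (zpowers_le.2 htU)
  refine ⟨Q, hQZ, Coprime.isPGroup_of_card hQc, hQt (mem_zpowers t), hUQ, hQc, fun x hx hxZ => ?_⟩
  have hQxZ : MulAut.conj x • Q ≤ Z := by
    rw [← Coprime.conj_eq_of_mem_normalizer hxZ]; exact pointwise_smul_le_pointwise_smul_iff.2 hQZ
  have hQxt : zpowers t ≤ normalizer ((MulAut.conj x • Q : Subgroup G) : Set G) := by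
    refine zpowers_le.2 (Coprime.mem_normalizer_of_conj_eq ?_)
    rw [← mul_smul, ← map_mul, ← (c.commute_t hx).eq, map_mul, mul_smul,
      Coprime.conj_eq_of_mem_normalizer (hQt (mem_zpowers t))]
  obtain ⟨e, he, hee⟩ := Coprime.exists_mem_centralizer_conj_of_card (zpowers_le.2 htZ) hcop (Or.inr hsol)
    hQxZ hQZ hQxt hQt (by rw [Coprime.card_conj]; exact hQc) hQc
  have heQ : e ∈ Q := hUQ (hfixZ e he.1 (mem_centralizer_iff.1 he.2 t (mem_zpowers t)).symm)
  refine Coprime.mem_normalizer_of_conj_eq ?_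
  rw [← hee, Coprime.conj_eq_of_mem_normalizer (le_normalizer heQ)]

theorem LocalData.fixed_W (D : LocalData t U B N K W) {z : G} (hz : z ∈ W) (hc : Commute z t) : z ∈ U :=
  D.inter ▸ ⟨hz, D.fix z (D.W_le hz) hc⟩

theorem LocalData.f_not_mem (D : LocalData t U B N K W) (c : ThreeCtx t f y U F₃ B H l m) : f ∉ W :=
  fun hf => c.f_not (mem_sup_left (D.inter ▸ ⟨hf, c.F_le c.f_mem⟩ : f ∈ U))

/-- Centralisers of `f` modulo `W` lift. -/
theorem LocalData.lift_cent (D : LocalData t U B N K W) (c : ThreeCtx t f y U F₃ B H l m) {x : G}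
    (hx : x ∈ K) (hxf : x * f * x⁻¹ * f⁻¹ ∈ W) : ∃ w ∈ W, Commute (w * x) f := by
  haveI : Fact (Nat.Prime 3) := ⟨Nat.prime_three⟩
  haveI : Fact l.Prime := ⟨c.l_prime⟩
  have hUW : U ≤ W := D.inter ▸ inf_le_left
  obtain ⟨R, hRW, hR3, hRt, hUR, hRc, hRB⟩ := D.exists_sylow c hUW D.W_le (D.W_normal D.t_mem)
    fun z hz hc => D.fixed_W hz hc
  have hfB : f ∈ B := c.F_le c.f_mem
  have hfN : f ∈ N := D.K_le (D.B_le hfB)
  have hfR : f ∈ normalizer (R : Set G) := hRB f hfB (D.W_normal hfN)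
  have hyR : y ∈ normalizer (R : Set G) :=
    hRB y (c.H_le c.y_mem) (D.W_normal (D.K_le (D.B_le (c.H_le c.y_mem))))
  have hC : ∀ r ∈ R, Commute y r → r = 1 := by
    intro r hr hc
    obtain ⟨k, hk⟩ := hR3 ⟨r, hr⟩
    set C := R ⊓ centralizer ({y} : Set G)
    have hC3 : IsPGroup 3 C := hR3.to_le inf_le_left
    have htC : t ∈ normalizer (C : Set G) := Coprime.mem_normalizer_of_forall fun z hz =>
      ⟨(mem_normalizer_iff.1 hRt z).1 hz.1, mem_centralizer_singleton_iff.2 (by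
        have h1 : Commute z y := mem_centralizer_singleton_iff.1 hz.2
        have h2 : Commute y t := c.commute_t (c.H_le c.y_mem)
        exact ((h2.symm.mul_left h1).mul_left h2.symm.inv_left).eq)⟩
    have hct := c.cent_H y c.y_mem (c.y_order ▸ c.l_prime) C hC3
      (fun w hw => mem_centralizer_singleton_iff.1 hw.2) htC r ⟨hr, mem_centralizer_singleton_iff.2 hc.symm.eq⟩
    exact c.y_free r (D.fix r (D.W_le (hRW hr)) hct) k (congrArg (Subtype.val : R → G) hk) hc.symm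
  -- `f' = x f x⁻¹` is moved by `W` into the Sylow subgroup `R ⟨f⟩` of `W ⟨f⟩`
  have hfW : zpowers f ≤ normalizer (W : Set G) := zpowers_le.2 (D.W_normal hfN)
  set Z := W ⊔ zpowers f with hZ
  set R0 := R ⊔ zpowers f with hR0
  have hfo : orderOf f = 3 := by
    refine orderOf_eq_prime c.f_cube fun e => c.f_not ?_
    rw [e]; exact one_mem _
  have hfp : IsPGroup 3 (zpowers f) := IsPGroup.of_card (n := 1) (by rw [Nat.card_zpowers, hfo, pow_one])
  have hR03 : IsPGroup 3 R0 := IsPGroup.to_sup_of_normal_left' hR3 hfp (zpowers_le.2 hfR)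
  have hfR0 : f ∈ R0 := mem_sup_right (mem_zpowers f)
  have hR0Z : R0 ≤ Z := sup_le_sup_right hRW _
  have hinfW : W ⊓ zpowers f = ⊥ := by
    rw [eq_bot_iff]
    intro z hz
    rw [mem_bot]
    obtain ⟨i, rfl⟩ := mem_zpowers_iff.1 hz.2
    by_contra hne
    refine D.f_not_mem c ?_
    have h3 : zpowers (f ^ i) = zpowers f := eq_of_le_of_card_ge (zpowers_le.2 (zpow_mem (mem_zpowers f) i)) (by
      rw [Nat.card_zpowers, Nat.card_zpowers, hfo]
      have := orderOf_dvd_natCard (G := zpowers f) ⟨f ^ i, zpow_mem (mem_zpowers f) i⟩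
      rw [Nat.card_zpowers, hfo, Subgroup.orderOf_mk] at this
      rcases (Nat.dvd_prime Nat.prime_three).1 this with h1 | h1
      · exact absurd (orderOf_eq_one_iff.1 h1) hne
      · exact h1.ge)
    exact (zpowers_le.2 hz.1) (h3 ▸ mem_zpowers f)
  have hR0c : Nat.card R0 = 3 ^ (Nat.card Z).factorization 3 := by
    have hW0 : Nat.card W ≠ 0 := Nat.card_pos.ne'
    have h1 : Nat.card Z = Nat.card W * 3 := by
      rw [hZ, sup_comm, Frobenius.card_sup_of_disjoint hfW (disjoint_iff.2 (by rw [inf_comm]; exact hinfW)),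
        Nat.card_zpowers, hfo, mul_comm]
    have h4 : Nat.card R0 = Nat.card R * 3 := by
      rw [hR0, sup_comm, Frobenius.card_sup_of_disjoint (zpowers_le.2 hfR) (disjoint_iff.2 (by
        rw [inf_comm]; exact le_bot_iff.1 ((inf_le_inf_right _ hRW).trans hinfW.le))), Nat.card_zpowers, hfo, mul_comm]
    rw [h4, hRc, h1, Nat.factorization_mul hW0 (by norm_num), Finsupp.add_apply,
      Nat.Prime.factorization_self Nat.prime_three, pow_succ]
  obtain ⟨S0, hS0⟩ := Coprime.exists_sylow_map_eq hR0Z hR0c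
  have hf'Z : x * f * x⁻¹ ∈ Z := by
    have := mul_mem_sup hxf (mem_zpowers f)
    rwa [inv_mul_cancel_right] at this
  have hf'3 : IsPGroup 3 (zpowers (⟨x * f * x⁻¹, hf'Z⟩ : Z)) := by
    refine IsPGroup.of_card (n := 1) ?_
    rw [Nat.card_zpowers, Subgroup.orderOf_mk, pow_one]
    exact (orderOf_injective (MulAut.conj x).toMonoidHom (MulAut.conj x).injective f).trans hfo
  obtain ⟨S1, hS1⟩ := hf'3.exists_le_sylow
  obtain ⟨g, hg⟩ := MulAction.exists_smul_eq Z S1 S0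
  have hgf : (g : G) * (x * f * x⁻¹) * (g : G)⁻¹ ∈ R0 := by
    rw [← hS0]
    refine ⟨g * ⟨x * f * x⁻¹, hf'Z⟩ * g⁻¹, ?_, rfl⟩
    rw [← hg, Sylow.coe_subgroup_smul]
    exact ⟨⟨x * f * x⁻¹, hf'Z⟩, hS1 (mem_zpowers _), rfl⟩
  -- absorb the power of `f`
  obtain ⟨z, hz, w, hw, hzw⟩ : ∃ z ∈ zpowers f, ∃ w ∈ W, (g : G) = z * w := by
    obtain ⟨w, hw, z, hz, hwz⟩ := (Coprime.mem_sup_iff hfW).1 g.2
    refine ⟨z, hz, z⁻¹ * w * z, ?_, by rw [← hwz]; group⟩
    simpa using (mem_normalizer_iff.1 (hfW (inv_mem hz)) w).1 hw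
  have hzR0 : z ∈ R0 := mem_sup_right hz
  have hwf : w * (x * f * x⁻¹) * w⁻¹ ∈ R0 := by
    have := R0.mul_mem (R0.mul_mem (R0.inv_mem hzR0) hgf) hzR0
    rwa [hzw, show z⁻¹ * (z * w * (x * f * x⁻¹) * (z * w)⁻¹) * z = w * (x * f * x⁻¹) * w⁻¹ by group] at this
  -- its `R`-part
  have hrW : w * (x * f * x⁻¹) * w⁻¹ * f⁻¹ ∈ W := by
    have e : w * (x * f * x⁻¹) * w⁻¹ * f⁻¹ = w * (x * f * x⁻¹ * f⁻¹) * (f * w⁻¹ * f⁻¹) := by group
    rw [e]
    exact W.mul_mem (W.mul_mem hw hxf) ((mem_normalizer_iff.1 (D.W_normal hfN) _).1 (W.inv_mem hw))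
  have hrR : w * (x * f * x⁻¹) * w⁻¹ * f⁻¹ ∈ R := by
    obtain ⟨r, hr, z', hz', hrz⟩ := (Coprime.mem_sup_iff (zpowers_le.2 hfR)).1 (R0.mul_mem hwf (R0.inv_mem hfR0))
    have hz1 : z' = 1 := by
      have : z' ∈ W ⊓ zpowers f := ⟨by
        have : z' = r⁻¹ * (w * (x * f * x⁻¹) * w⁻¹ * f⁻¹) := by rw [← hrz]; group
        rw [this]; exact W.mul_mem (W.inv_mem (hRW hr)) hrW, hz'⟩
      rwa [hinfW, mem_bot] at this
    rw [← hrz, hz1, mul_one]; exact hr
  set r := w * (x * f * x⁻¹) * w⁻¹ * f⁻¹ with hr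
  have hrf : r * f = (w * x) * f * (w * x)⁻¹ := by rw [hr]; group
  have hcube : (r * f) ^ 3 = 1 := by rw [hrf, conj_pow, c.f_cube]; group
  obtain ⟨e, he, hee⟩ := exists_conj_of_fpf c.l_ne_three c.m_ne c.y_order c.f_cube c.y_moved R hR3 hyR hfR hC
    hrR hcube
  refine ⟨e⁻¹ * w, W.mul_mem (W.inv_mem (hRW he)) hw, ?_⟩
  have h1 : (e⁻¹ * w * x) * f * (e⁻¹ * w * x)⁻¹ = f := by
    calc (e⁻¹ * w * x) * f * (e⁻¹ * w * x)⁻¹ = e⁻¹ * ((w * x) * f * (w * x)⁻¹) * e := by group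
      _ = e⁻¹ * (e * f * e⁻¹) * e := by rw [← hrf, hee]
      _ = f := by group
  exact mul_inv_eq_iff_eq_mul.1 h1

/-- Modulo `W`, an element of prime order of `H` centralises no inverted `3`-element. -/
theorem LocalData.no_inverted (D : LocalData t U B N K W) (c : ThreeCtx t f y U F₃ B H l m) {x : G}
    (hx : x ∈ H) (hxp : (orderOf x).Prime) {d : G} (hd : d ∈ K) {k : ℕ} (hd3 : d ^ (3 ^ k) ∈ W)
    (hdt : t * d * t⁻¹ * d ∈ W) (hdx : x * d * x⁻¹ * d⁻¹ ∈ W) : d ∈ W := by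
  haveI : Fact (Nat.Prime 3) := ⟨Nat.prime_three⟩
  have hxB : x ∈ B := c.H_le hx
  have hxN : x ∈ N := D.K_le (D.B_le hxB)
  have hdN : d ∈ N := D.K_le hd
  have hdW : zpowers d ≤ normalizer (W : Set G) := zpowers_le.2 (D.W_normal hdN)
  set Z := W ⊔ zpowers d with hZ
  have hZK : Z ≤ K := sup_le D.W_le (zpowers_le.2 hd)
  have hnorm : ∀ a : G, a ∈ N → (∃ e ∈ zpowers d, a * d * a⁻¹ * e⁻¹ ∈ W) → a ∈ normalizer (Z : Set G) := by
    intro a ha ⟨e, he, hae⟩
    refine Coprime.mem_normalizer_of_forall fun z hz => ?_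
    rw [hZ, sup_eq_closure] at hz
    induction hz using closure_induction with
    | mem w hw =>
      rcases hw with hw | hw
      · exact mem_sup_left ((mem_normalizer_iff.1 (D.W_normal ha) w).1 hw)
      obtain ⟨i, rfl⟩ := mem_zpowers_iff.1 hw
      rw [← conj_zpow]
      refine zpow_mem ?_ i
      have := mul_mem_sup hae he
      rwa [inv_mul_cancel_right] at this
    | inv u _ h1 => rw [show a * u⁻¹ * a⁻¹ = (a * u * a⁻¹)⁻¹ by group]; exact inv_mem h1
    | one => simp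
    | mul u v _ _ h1 h2 =>
      rw [show a * (u * v) * a⁻¹ = (a * u * a⁻¹) * (a * v * a⁻¹) by group]; exact mul_mem h1 h2
  have htd : t * d * t⁻¹ * d⁻¹⁻¹ ∈ W := by rwa [inv_inv]
  have htZ : t ∈ normalizer (Z : Set G) := hnorm t D.t_mem ⟨d⁻¹, inv_mem (mem_zpowers d), htd⟩
  have hxZ : x ∈ normalizer (Z : Set G) := hnorm x hxN ⟨d, mem_zpowers d, hdx⟩
  -- the fixed points of `Z`
  haveI : (W.subgroupOf N).Normal := Cores.subgroupOf_normal_of_le_normalizer D.W_normal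
  set q := QuotientGroup.mk' (W.subgroupOf N) with hq
  have hmemW : ∀ a : N, q a = 1 ↔ (a : G) ∈ W := fun a => QuotientGroup.eq_one_iff a
  have hfixZ : ∀ z ∈ Z, Commute z t → z ∈ U := by
    intro z hz hzt
    obtain ⟨w, hw, e, he, rfl⟩ := (Coprime.mem_sup_iff hdW).1 hz
    obtain ⟨i, rfl⟩ := mem_zpowers_iff.1 he
    have hdiN : d ^ i ∈ N := N.zpow_mem hdN i
    set T : N := ⟨t, D.t_mem⟩
    set E : N := ⟨d, hdN⟩
    have hqE : q T * q E * (q T)⁻¹ = (q E)⁻¹ := by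
      rw [eq_inv_iff_mul_eq_one, ← map_inv, ← map_mul, ← map_mul, ← map_mul, hmemW]
      exact hdt
    have hzq : q (⟨w * d ^ i, N.mul_mem (D.K_le (D.W_le hw)) hdiN⟩ : N) = q E ^ i := by
      rw [← map_zpow]
      refine (QuotientGroup.mk'_eq_mk' _).2 ⟨⟨(w * d ^ i)⁻¹ * d ^ i, N.mul_mem (N.inv_mem (N.mul_mem (D.K_le (D.W_le hw)) hdiN)) hdiN⟩, ?_, Subtype.ext (by simp [E]; group)⟩
      rw [mem_subgroupOf]
      have h2 := (mem_normalizer_iff.1 (D.W_normal (N.inv_mem hdiN)) _).1 (W.inv_mem hw)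
      simp only [inv_inv] at h2
      show (w * d ^ i)⁻¹ * d ^ i ∈ W
      rw [show (w * d ^ i)⁻¹ * d ^ i = (d ^ i)⁻¹ * w⁻¹ * d ^ i by group]
      exact h2
    have h1 : q E ^ i = (q E ^ i)⁻¹ := by
      conv_rhs => rw [← inv_zpow, ← hqE, conj_zpow, ← hzq, ← map_inv, ← map_mul, ← map_mul]
      rw [← hzq]
      congr 1
      exact Subtype.ext (show w * d ^ i = t * (w * d ^ i) * t⁻¹ by rw [← hzt.eq, mul_inv_cancel_right])
    have h2 : q E ^ i = 1 := by
      have hp : ((q E) ^ i) ^ (3 ^ k) = 1 := by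
        have h3 : (q E) ^ (3 ^ k) = 1 := by rw [← map_pow, hmemW]; exact hd3
        rw [← zpow_natCast, ← zpow_mul, mul_comm, zpow_mul, zpow_natCast, h3, one_zpow]
      have hsq : ((q E) ^ i) ^ 2 = 1 := by rw [pow_two]; nth_rewrite 2 [h1]; rw [mul_inv_cancel]
      exact orderOf_eq_one_iff.1 (Nat.eq_one_of_dvd_coprimes
        (((Nat.coprime_primes Nat.prime_two Nat.prime_three).2 (by decide)).pow_right k)
        (orderOf_dvd_of_pow_eq_one hsq) (orderOf_dvd_of_pow_eq_one hp))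
    refine D.fixed_W ?_ hzt
    exact (hmemW _).1 (hzq.trans h2)
  obtain ⟨Q, hQZ, hQ3, hQt, hUQ, hQc, hQB⟩ := D.exists_sylow c ((D.inter ▸ inf_le_left : U ≤ W).trans le_sup_left)
    hZK htZ hfixZ
  have hxQ : x ∈ normalizer (Q : Set G) := hQB x hxB hxZ
  -- `Q` covers `Z` modulo `W`
  have hQW : Q ≤ normalizer (W : Set G) := (hQZ.trans (hZK.trans D.K_le)).trans D.W_normal
  have hcover : d ∈ W ⊔ Q := by
    have hle : W ⊔ Q ≤ Z := sup_le le_sup_left hQZ
    set q' := (W ⊔ Q).relIndex Z with hq'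
    have h1 : q' ∣ Q.relIndex Z := relIndex_dvd_of_le_left Z le_sup_right
    have h3 : ¬ 3 ∣ q' := fun e => by
      have h4 := e.trans h1
      have h5 : Nat.card Q * Q.relIndex Z = Nat.card Z := by
        rw [← Cores.card_subgroupOf hQZ]; exact card_mul_index _
      refine Nat.pow_succ_factorization_not_dvd (Nat.card_pos (α := Z)).ne' Nat.prime_three ?_
      rw [pow_succ, ← hQc]
      exact (mul_dvd_mul_left (Nat.card Q) h4).trans h5.dvd
    have h6 : q' ∣ W.relIndex Z := relIndex_dvd_of_le_left Z le_sup_left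
    have h7 : W.relIndex Z ∣ 3 ^ k := by
      rw [hZ]
      have hN : zpowers d ≤ normalizer (W : Set G) := hdW
      rw [relIndex_sup_right_of_normalizes hN]
      refine (dvd_orderOf_coset hdN hdW hd3)
    obtain ⟨j, -, hj⟩ := (Nat.dvd_prime_pow Nat.prime_three).1 (h6.trans h7)
    have hj0 : j = 0 := by
      by_contra h8
      exact h3 (hj ▸ dvd_pow_self 3 h8)
    rw [hj0, pow_zero] at hj
    exact relIndex_eq_one.1 hj (mem_sup_right (mem_zpowers d))
  obtain ⟨w, hw, a, ha, hwa⟩ := (Coprime.mem_sup_iff hQW).1 hcover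
  -- a fixed point in the coset
  have hxZp : zpowers x ≤ normalizer (Q : Set G) := zpowers_le.2 hxQ
  have hcop : (Nat.card (zpowers x)).Coprime (Nat.card Q) := by
    obtain ⟨n, hn⟩ := IsPGroup.iff_card.1 hQ3
    rw [Nat.card_zpowers, hn]
    exact ((Nat.coprime_primes hxp Nat.prime_three).2 fun e => c.H_three
      (e ▸ Subgroup.orderOf_dvd_natCard H hx)).pow_right n
  have hxWn : zpowers x ≤ normalizer ((Q ⊓ W : Subgroup G) : Set G) := le_trans
    (le_inf hxZp (zpowers_le.2 (D.W_normal hxN))) inf_normalizer_le_normalizer_inf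
  obtain ⟨a', ha', haW⟩ := Coprime.exists_mem_centralizer_of_coset (A := zpowers x) hxZp hcop
    (Or.inr (haveI := hQ3.isNilpotent; inferInstance)) (N := Q ⊓ W) inf_le_left hxWn ha (by
      intro b hb
      have hbQ : b * a * b⁻¹ * a⁻¹ ∈ Q := Q.mul_mem ((mem_normalizer_iff.1 (hxZp hb) a).1 ha) (Q.inv_mem ha)
      refine ⟨hbQ, ?_⟩
      obtain ⟨i, rfl⟩ := mem_zpowers_iff.1 hb
      have haN : a ∈ N := D.K_le (hZK (hQZ ha))
      have hcomm : Commute (q ⟨x, hxN⟩) (q ⟨a, haN⟩) := by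
        have e1 : q ⟨a, haN⟩ = q ⟨d, hdN⟩ := by
          refine (QuotientGroup.mk'_eq_mk' _).2 ⟨⟨a⁻¹ * w * a, N.mul_mem (N.mul_mem (N.inv_mem haN) (D.K_le (D.W_le hw))) haN⟩,
            mem_subgroupOf.2 ?_, Subtype.ext (show a * (a⁻¹ * w * a) = d by rw [← hwa]; group)⟩
          simpa using (mem_normalizer_iff.1 (hQW (Q.inv_mem ha)) w).1 hw
        rw [e1]
        have : q ⟨x, hxN⟩ * q ⟨d, hdN⟩ * (q ⟨x, hxN⟩)⁻¹ * (q ⟨d, hdN⟩)⁻¹ = 1 := by
          rw [← map_inv, ← map_inv, ← map_mul, ← map_mul, ← map_mul, hmemW]; exact hdx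
        exact mul_inv_eq_iff_eq_mul.1 (mul_inv_eq_one.1 this)
      have hfin := (hmemW (⟨x, hxN⟩ ^ i * ⟨a, haN⟩ * (⟨x, hxN⟩ ^ i)⁻¹ * ⟨a, haN⟩⁻¹)).1 (by
        rw [map_mul, map_mul, map_mul, map_inv, map_inv, map_zpow, (hcomm.zpow_left i).eq,
          mul_inv_cancel_right, mul_inv_cancel])
      simpa using hfin)
  set C := Q ⊓ centralizer ({x} : Set G)
  have htC : t ∈ normalizer (C : Set G) := Coprime.mem_normalizer_of_forall fun z hz =>
    ⟨(mem_normalizer_iff.1 hQt z).1 hz.1, mem_centralizer_singleton_iff.2 (by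
      have h1 : Commute z x := mem_centralizer_singleton_iff.1 hz.2
      have h2 : Commute x t := c.commute_t hxB
      exact ((h2.symm.mul_left h1).mul_left h2.symm.inv_left).eq)⟩
  have hct : Commute a' t := c.cent_H x hx hxp C (hQ3.to_le inf_le_left)
    (fun v hv => mem_centralizer_singleton_iff.1 hv.2) htC a'
    ⟨ha'.1, mem_centralizer_singleton_iff.2 (mem_centralizer_iff.1 ha'.2 x (mem_zpowers x)).symm⟩
  have ha'U : a' ∈ U := hfixZ a' (hQZ ha'.1) hct
  have haW' : a ∈ W := by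
    have : a = (a' * a⁻¹)⁻¹ * a' := by group
    rw [this]; exact W.mul_mem (W.inv_mem haW.2) ((D.inter ▸ inf_le_left : U ≤ W) ha'U)
  rw [← hwa]; exact W.mul_mem hw haW'
where
  relIndex_sup_right_of_normalizes {d : G} {W : Subgroup G} (h : zpowers d ≤ normalizer (W : Set G)) :
      W.relIndex (W ⊔ zpowers d) = W.relIndex (zpowers d) := by
    haveI : (W.subgroupOf (normalizer (W : Set G))).Normal := inferInstance
    rw [← relIndex_subgroupOf (sup_le le_normalizer h), subgroupOf_sup le_normalizer h, sup_comm,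
      relIndex_sup_right, relIndex_subgroupOf h]
  dvd_orderOf_coset {d : G} {N W : Subgroup G} {n : ℕ} (_hd : d ∈ N) (hdW : zpowers d ≤ normalizer (W : Set G))
      (h : d ^ n ∈ W) : W.relIndex (zpowers d) ∣ n := by
    haveI : (W.subgroupOf (zpowers d)).Normal := Cores.subgroupOf_normal_of_le_normalizer hdW
    rw [relIndex, index_eq_card]
    haveI hc : IsCyclic (zpowers d ⧸ W.subgroupOf (zpowers d)) :=
      isCyclic_of_surjective (QuotientGroup.mk' _) (QuotientGroup.mk'_surjective _)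
    rw [← IsCyclic.exponent_eq_card]
    refine Monoid.exponent_dvd_of_forall_pow_eq_one fun v => ?_
    obtain ⟨⟨v, hv⟩, rfl⟩ := QuotientGroup.mk'_surjective _ v
    rw [← map_pow, QuotientGroup.mk'_apply, QuotientGroup.eq_one_iff, mem_subgroupOf]
    obtain ⟨i, rfl⟩ := mem_zpowers_iff.1 hv
    show (d ^ i) ^ n ∈ W
    rw [← zpow_natCast, ← zpow_mul, mul_comm, zpow_mul, zpow_natCast]
    exact W.zpow_mem h i

/-- `O_{3',3}(K)` has an `N`-invariant elementary abelian section on which `K / O_{3',3}(K)` is faithful. -/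
theorem exists_frat [Fact (Nat.Prime 3)] {N K : Subgroup G} (hK : Odd (Nat.card K)) (hKn : N ≤ normalizer (K : Set G)) :
    ∃ W₁ : Subgroup G, W₁ ≤ (Cfsg.pPrimePCore 3 K).map K.subtype ∧ N ≤ normalizer (W₁ : Set G) ∧
      (∀ a ∈ (Cfsg.pPrimePCore 3 K).map K.subtype, a ^ 3 ∈ W₁) ∧
      (∀ a ∈ (Cfsg.pPrimePCore 3 K).map K.subtype, ∀ b ∈ (Cfsg.pPrimePCore 3 K).map K.subtype,
        a * b * a⁻¹ * b⁻¹ ∈ W₁) ∧
      ∀ x ∈ K, (∀ w ∈ (Cfsg.pPrimePCore 3 K).map K.subtype, x * w * x⁻¹ * w⁻¹ ∈ W₁) →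
        x ∈ (Cfsg.pPrimePCore 3 K).map K.subtype := by
  haveI : Group.IsSolvable K := OddOrderTheorem.solvable hK
  set M0 := Cfsg.pPrimeCore 3 K
  haveI : M0.Normal := Cores.pPrimeCore_normal 3 K
  haveI : M0.Characteristic := Cores.pPrimeCore_characteristic 3 K
  set W := (Cfsg.pPrimePCore 3 K).map K.subtype with hW
  set M := M0.map K.subtype with hM
  haveI : (Cfsg.pPrimePCore 3 K).Characteristic := ConjPSub.pPrimePCore_char 3 K
  have hWn : N ≤ normalizer (W : Set G) := hKn.trans (Cores.normalizer_le_normalizer_map _)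
  have hMn : N ≤ normalizer (M : Set G) := hKn.trans (Cores.normalizer_le_normalizer_map _)
  set S : Set G := {z | z ∈ M ∨ (∃ a ∈ W, a ^ 3 = z) ∨ ∃ a ∈ W, ∃ b ∈ W, a * b * a⁻¹ * b⁻¹ = z} with hS
  have hMW : M ≤ W := map_mono fun z hz => by
    show QuotientGroup.mk' M0 z ∈ Cfsg.pCore 3 (K ⧸ M0)
    rw [show QuotientGroup.mk' M0 z = 1 from (QuotientGroup.eq_one_iff z).2 hz]; exact one_mem _
  refine ⟨closure S, (closure_le _).2 ?_, fun n hn => Coprime.mem_normalizer_of_forall ?_,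
    fun a ha => subset_closure (Or.inr (Or.inl ⟨a, ha, rfl⟩)),
    fun a ha b hb => subset_closure (Or.inr (Or.inr ⟨a, ha, b, hb, rfl⟩)), ?_⟩
  · rintro z (hz | ⟨a, ha, rfl⟩ | ⟨a, ha, b, hb, rfl⟩)
    · exact hMW hz
    · exact W.pow_mem ha 3
    · exact W.mul_mem (W.mul_mem (W.mul_mem ha hb) (W.inv_mem ha)) (W.inv_mem hb)
  · intro z hz
    induction hz using closure_induction with
    | mem z hz =>
      refine subset_closure ?_
      rcases hz with hz | ⟨a, ha, rfl⟩ | ⟨a, ha, b, hb, rfl⟩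
      · exact Or.inl ((mem_normalizer_iff.1 (hMn hn) z).1 hz)
      · exact Or.inr (Or.inl ⟨n * a * n⁻¹, (mem_normalizer_iff.1 (hWn hn) a).1 ha, conj_pow⟩)
      · exact Or.inr (Or.inr ⟨n * a * n⁻¹, (mem_normalizer_iff.1 (hWn hn) a).1 ha, n * b * n⁻¹,
          (mem_normalizer_iff.1 (hWn hn) b).1 hb, by group⟩)
    | one => simp
    | inv u _ h => rw [show n * u⁻¹ * n⁻¹ = (n * u * n⁻¹)⁻¹ by group]; exact inv_mem h
    | mul u v _ _ h1 h2 =>
      rw [show n * (u * v) * n⁻¹ = (n * u * n⁻¹) * (n * v * n⁻¹) by group]; exact mul_mem h1 h2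
  intro x hx hact
  -- in `K ⧸ O_{3'}` the elements trivial on the Frattini quotient of `O₃` form a normal 3-subgroup
  set q := QuotientGroup.mk' M0 with hq
  set Q := Cfsg.pCore 3 (K ⧸ M0) with hQ
  haveI : Q.Normal := Cores.pCore_normal 3 _
  set Φ := (frattini Q).map Q.subtype with hΦ
  haveI : (frattini Q).Characteristic := inferInstance
  haveI hΦn : Φ.Normal := normalizer_eq_top_iff.1 (top_le_iff.1
    ((normalizer_eq_top Q).ge.trans (Cores.normalizer_le_normalizer_map _)))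
  have hQp : IsPGroup 3 Q := Cores.isPGroup_pCore 3 _
  haveI : Group.IsNilpotent Q := hQp.isNilpotent
  have hWq : ∀ z : K, (z : G) ∈ W ↔ q z ∈ Q := fun z =>
    ⟨fun ⟨v, hv, hvz⟩ => (Subtype.ext hvz : v = z) ▸ hv, fun h => ⟨z, h, rfl⟩⟩
  have hSΦ : ∀ z : K, (z : G) ∈ closure S → q z ∈ Φ := by
    intro z hz
    have hle : closure S ≤ (Φ.comap q).map K.subtype := by
      refine (closure_le _).2 ?_
      rintro v (⟨v', hv', rfl⟩ | ⟨a, ⟨a', ha, rfl⟩, rfl⟩ | ⟨a, ⟨a', ha, rfl⟩, b, ⟨b', hb, rfl⟩, rfl⟩)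
      · refine ⟨v', ?_, rfl⟩
        show q v' ∈ Φ
        rw [show q v' = 1 from (QuotientGroup.eq_one_iff v').2 hv']; exact one_mem _
      · refine ⟨a' ^ 3, ?_, map_pow _ _ _⟩
        show q (a' ^ 3) ∈ Φ
        rw [map_pow]
        exact ⟨⟨q a', ha⟩ ^ 3, Cores.pow_mem_frattini hQp _, rfl⟩
      · refine ⟨a' * b' * a'⁻¹ * b'⁻¹, ?_, by simp only [map_mul, map_inv]⟩
        show q (a' * b' * a'⁻¹ * b'⁻¹) ∈ Φ
        rw [map_mul, map_mul, map_mul, map_inv, map_inv]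
        exact ⟨⁅(⟨q a', ha⟩ : Q), ⟨q b', hb⟩⁆,
          Cores.commutator_le_frattini (commutator_mem_commutator (mem_top _) (mem_top _)), rfl⟩
    obtain ⟨v, hv, hvz⟩ := hle hz
    exact (Subtype.ext hvz : v = z) ▸ hv
  let C1 : Subgroup (K ⧸ M0) :=
    { carrier := {g | ∀ v ∈ Q, g * v * g⁻¹ * v⁻¹ ∈ Φ}
      one_mem' := fun v _ => by simp
      mul_mem' := fun {a b} ha hb v hv => by
        have h1 := ha _ ((inferInstance : Q.Normal).conj_mem v hv b)
        have h2 := hb v hv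
        rw [show a * b * v * (a * b)⁻¹ * v⁻¹ = (a * (b * v * b⁻¹) * a⁻¹ * (b * v * b⁻¹)⁻¹) * (b * v * b⁻¹ * v⁻¹) by
          group]
        exact mul_mem h1 h2
      inv_mem' := fun {a} ha v hv => by
        have h1 := inv_mem (ha _ ((inferInstance : Q.Normal).conj_mem v hv a⁻¹))
        rw [show a⁻¹ * v * a⁻¹⁻¹ * v⁻¹ = (a * (a⁻¹ * v * a⁻¹⁻¹) * a⁻¹ * (a⁻¹ * v * a⁻¹⁻¹)⁻¹)⁻¹ by group]
        exact h1 }
  haveI : C1.Normal := ⟨fun a ha g v hv => by
    have h1 := hΦn.conj_mem _ (ha _ ((inferInstance : Q.Normal).conj_mem v hv g⁻¹)) g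
    rw [show g * a * g⁻¹ * v * (g * a * g⁻¹)⁻¹ * v⁻¹ =
      g * (a * (g⁻¹ * v * g⁻¹⁻¹) * a⁻¹ * (g⁻¹ * v * g⁻¹⁻¹)⁻¹) * g⁻¹ by group]
    exact h1⟩
  have hcen : centralizer (Q : Set (K ⧸ M0)) ≤ Q := by
    refine Solvable.centralizer_pCore_le_of_isSolvable ?_
    exact Cores.pPrimeCore_quotient_self 3
  have hC13 : IsPGroup 3 C1 := by
    rintro ⟨g, hg⟩
    obtain ⟨e, n, hn, he⟩ := Nat.exists_eq_pow_mul_and_not_dvd (orderOf_pos g).ne' 3 (by norm_num)
    refine ⟨e, Subtype.ext ?_⟩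
    show g ^ (3 ^ e) = 1
    set a := g ^ (3 ^ e) with ha
    have han : a ^ n = 1 := by rw [ha, ← pow_mul, ← he, pow_orderOf_eq_one]
    have haC : a ∈ C1 := C1.pow_mem hg _
    have hcent := Coprime.le_centralizer_of_forall_mem_frattini (A := zpowers a) (K := Q)
      (le_normalizer_of_normal) (by
        obtain ⟨j, hj⟩ := IsPGroup.iff_card.1 (hQp.to_subgroup (frattini Q))
        rw [Nat.card_zpowers, hj]
        exact ((Nat.prime_three.coprime_iff_not_dvd.2 hn).symm.coprime_dvd_left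
          (orderOf_dvd_of_pow_eq_one han)).pow_right j)
      (fun b hb v hv => (zpowers_le.2 haC hb) v hv)
    obtain ⟨i, hi⟩ := hQp ⟨a, hcen (hcent (mem_zpowers a))⟩
    exact orderOf_eq_one_iff.1 (Nat.eq_one_of_dvd_coprimes
      ((Nat.prime_three.coprime_iff_not_dvd.2 hn).symm.pow_right i) (orderOf_dvd_of_pow_eq_one han)
      (orderOf_dvd_of_pow_eq_one (congrArg Subtype.val hi)))
  have hC1Q : C1 ≤ Q := le_sSup ⟨inferInstance, hC13⟩
  refine (hWq ⟨x, hx⟩).2 (hC1Q fun v hv => ?_)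
  obtain ⟨v, rfl⟩ := QuotientGroup.mk'_surjective M0 v
  rw [← map_inv, ← map_inv, ← map_mul, ← map_mul, ← map_mul]
  exact hSΦ _ (hact (v : G) ((hWq v).2 hv))

/-- The 3-local exists and has `f` among its commutators. -/
theorem exists_local (c : ThreeCtx t f y U F₃ B H l m) :
    ∃ N K W : Subgroup G, LocalData t U B N K W ∧ f ∈ ⁅N, N⁆ := by
  haveI : Fact (Nat.Prime 2) := ⟨Nat.prime_two⟩
  haveI : Fact (Nat.Prime 3) := ⟨Nat.prime_three⟩
  haveI := c.elem.simple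
  obtain ⟨P, -, -, hBN, htN, h4⟩ := three_local c.elem c.invol c.B_cent c.B_odd c.U_le c.U_three c.U_ne
    c.U_normal c.normal_prime c.small c.B_max
  set N := normalizer (Cfsg.centerThompsonAOf (P : Subgroup G) : Set G) with hN
  -- `f` is a commutator
  have hPN : (P : Subgroup G) ≤ N := le_normalizer.trans (GWKlein.normalizer_le_normalizer_zj _)
  have hfN : f ∈ ⁅N, N⁆ := by
    have hctl := Transfer.commutator_inf_eq_of_control P N hPN fun x hx g hg => by
      obtain ⟨n, hn, hne⟩ := zj_fusion c P hx hg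
      exact ⟨n, hn, hne⟩
    have htop : commutator G = ⊤ := by
      rcases (inferInstance : (commutator G).Normal).eq_bot_or_eq_top with h | h
      · exfalso
        refine c.elem.nonab ⟨⟨fun a b => ?_⟩⟩
        have : ⁅a, b⁆ = 1 := mem_bot.1 (h ▸ commutator_mem_commutator (mem_top a) (mem_top b))
        exact commutatorElement_eq_one_iff_mul_comm.1 this
      · exact h
    rw [htop, top_inf_eq] at hctl
    have hPle : (P : Subgroup G) ≤ ⁅N, N⁆ := hctl.le.trans inf_le_left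
    have hfB : f ∈ N := hBN (c.F_le c.f_mem)
    have hfp : IsPGroup 3 (zpowers (⟨f, hfB⟩ : N)) := by
      rintro ⟨z, i, rfl⟩
      refine ⟨1, Subtype.ext (Subtype.ext ?_)⟩
      show (f ^ i) ^ (3 ^ 1) = 1
      rw [pow_one, ← zpow_natCast, ← zpow_mul, mul_comm, zpow_mul, zpow_natCast, c.f_cube, one_zpow]
    obtain ⟨Q, hQ⟩ := hfp.exists_le_sylow
    obtain ⟨n, hn⟩ := MulAction.exists_smul_eq N Q (P.subtype hPN)
    have hmem : (n : G) * f * (n : G)⁻¹ ∈ (P : Subgroup G) := by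
      have h1 : n * ⟨f, hfB⟩ * n⁻¹ ∈ (P.subtype hPN : Subgroup N) := by
        rw [← hn, Sylow.coe_subgroup_smul]
        exact ⟨⟨f, hfB⟩, hQ (mem_zpowers _), rfl⟩
      exact h1
    have hnn : (n : G) ∈ normalizer ((⁅N, N⁆ : Subgroup G) : Set G) := Coprime.mem_normalizer_of_forall fun z hz => by
      have hle : (⁅N, N⁆).map (MulAut.conj (n : G)).toMonoidHom ≤ ⁅N, N⁆ := by
        rw [map_commutator]
        exact commutator_mono (map_conj_le n.2) (map_conj_le n.2)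
      exact hle ⟨z, hz, rfl⟩
    exact (mem_normalizer_iff.1 hnn f).2 (hPle hmem)
  -- the odd core and `O_{3',3}`
  set K0 := Cfsg.pPrimeCore 2 N
  set K := K0.map N.subtype with hK
  set W := (Cfsg.pPrimePCore 3 K).map K.subtype with hW
  have hKodd : Odd (Nat.card K) := by
    rw [hK, Cores.card_map_subtype, ← Nat.not_even_iff_odd, even_iff_two_dvd]
    exact Cores.not_dvd_card_pPrimeCore
  have hKn : N ≤ normalizer (K : Set G) := le_normalizer.trans (Cores.normalizer_le_normalizer_map _)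
  haveI : (Cfsg.pPrimePCore 3 K).Characteristic := ConjPSub.pPrimePCore_char 3 K
  have hWn : N ≤ normalizer (W : Set G) := hKn.trans (Cores.normalizer_le_normalizer_map _)
  have heven : 2 ∣ Nat.card N := by
    rw [← c.invol, ← Subgroup.orderOf_mk t htN]; exact _root_.orderOf_dvd_natCard _
  obtain ⟨S0⟩ : Nonempty (Sylow 2 N) := inferInstance
  have hS0 : Nat.card (S0 : Subgroup N) = 2 := by
    obtain ⟨k, hk⟩ := IsPGroup.iff_card.1 S0.2
    have h2d := S0.dvd_card_of_dvd_card heven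
    rcases k with _ | _ | k
    · rw [hk] at h2d; norm_num at h2d
    · simpa using hk
    · exact absurd ((show (4 : ℕ) ∣ 2 ^ (k + 2) from ⟨2 ^ k, by ring⟩).trans
        (hk ▸ card_subgroup_dvd_card _)) h4
  have h2i : K0.index = 2 := by
    have hidx := KleinOrder.card_pPrimeCore_of_cyclic S0 (isCyclic_of_prime_card hS0) heven
    have h1 := K0.card_mul_index
    have h3 := (S0 : Subgroup N).card_mul_index
    rw [hidx] at h1
    rw [hS0, ← h1, mul_comm 2] at h3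
    exact (Nat.eq_of_mul_eq_mul_left (Nat.pos_of_ne_zero index_ne_zero_of_finite) h3).symm
  haveI : K0.Normal := Cores.pPrimeCore_normal 2 N
  have hoddK : ∀ x : N, Odd (orderOf x) → x ∈ K0 := fun x hx => by
    refine (QuotientGroup.eq_one_iff x).1 (orderOf_eq_one_iff.1 ?_)
    exact Nat.eq_one_of_dvd_coprimes (Nat.coprime_two_left.2 hx)
      ((_root_.orderOf_dvd_natCard _).trans (by rw [← index_eq_card, h2i]))
      (orderOf_map_dvd (QuotientGroup.mk' K0) x)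
  have hBK : B ≤ K := fun x hx => ⟨⟨x, hBN hx⟩, hoddK _ (by
    rw [Subgroup.orderOf_mk]; exact c.B_odd.of_dvd_nat (Subgroup.orderOf_dvd_natCard B hx)), rfl⟩
  have hgen : N = K ⊔ zpowers t := by
    refine le_antisymm (fun x hx => ?_) (sup_le (map_subtype_le _) (zpowers_le.2 htN))
    by_cases hxK : (⟨x, hx⟩ : N) ∈ K0
    · exact mem_sup_left ⟨_, hxK, rfl⟩
    · have htK : (⟨t, htN⟩ : N) ∉ K0 := fun h => by
        have h1 := Subgroup.orderOf_dvd_natCard K0 h
        rw [Subgroup.orderOf_mk, c.invol] at h1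
        exact Cores.not_dvd_card_pPrimeCore h1
      have hm : (⟨x, hx⟩ : N) * ⟨t, htN⟩ ∈ K0 := (mul_mem_iff_of_index_two h2i).2 ⟨fun h => absurd h hxK,
        fun h => absurd h htK⟩
      have hxt : x * t ∈ K := ⟨_, hm, rfl⟩
      have := mul_mem_sup hxt (inv_mem (mem_zpowers t))
      rwa [mul_inv_cancel_right] at this
  have hfix : ∀ x ∈ K, Commute x t → x ∈ B := by
    intro x hx hc
    have hle : K ⊓ centralizer ({t} : Set G) ≤ B := c.B_max _ (le_inf hBK c.B_cent) inf_le_right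
      (hKodd.of_dvd_nat (card_dvd_of_le inf_le_left))
    exact hle ⟨hx, mem_centralizer_singleton_iff.2 hc.eq⟩
  -- `O_{3',3}` absorbs normal 3-sections
  set M0 := Cfsg.pPrimeCore 3 K
  set q := QuotientGroup.mk' M0
  have htop : ∀ X : Subgroup G, W ≤ X → X ≤ K → K ≤ normalizer (X : Set G) → (∃ k, W.relIndex X = 3 ^ k) →
      X = W := by
    intro X hWX hXK hKX ⟨k, hk⟩
    refine le_antisymm (fun x hx => ⟨⟨x, hXK hx⟩, ?_, rfl⟩) hWX
    haveI : (X.subgroupOf K).Normal := Cores.subgroupOf_normal_of_le_normalizer hKX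
    haveI : ((X.subgroupOf K).map q).Normal := Normal.map inferInstance q (QuotientGroup.mk'_surjective M0)
    have hp : IsPGroup 3 ((X.subgroupOf K).map q) := by
      rintro ⟨_, z, hz, rfl⟩
      haveI : (W.subgroupOf X).Normal := Cores.subgroupOf_normal_of_le_normalizer
        ((hXK.trans (map_subtype_le _)).trans hWn)
      have h1 : (⟨(z : G), mem_subgroupOf.1 hz⟩ : X) ^ (3 ^ k) ∈ W.subgroupOf X := by
        rw [← hk]; exact pow_index_mem _ _
      obtain ⟨w, hw, hwe⟩ := (mem_subgroupOf.1 h1)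
      have hzc : q (z ^ (3 ^ k)) ∈ Cfsg.pCore 3 (K ⧸ M0) := by
        rw [show z ^ (3 ^ k) = w from (Subtype.ext hwe).symm]
        exact hw
      obtain ⟨j, hj⟩ := Cores.isPGroup_pCore 3 (K ⧸ M0) ⟨_, hzc⟩
      refine ⟨k + j, Subtype.ext ?_⟩
      have := congrArg Subtype.val hj
      simp only [SubmonoidClass.coe_pow, OneMemClass.coe_one, map_pow] at this ⊢
      rw [pow_add, pow_mul]; exact this
    exact Cores.le_pCore inferInstance hp ⟨⟨x, hXK hx⟩, mem_subgroupOf.2 hx, rfl⟩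
  -- fixed points of `O_{3'}`
  set M := M0.map K.subtype with hM
  have hMn : N ≤ normalizer (M : Set G) := hKn.trans (Cores.normalizer_le_normalizer_map _)
  have hMW : M ≤ W := map_mono fun x hx => by
    show q x ∈ Cfsg.pCore 3 (K ⧸ M0)
    rw [(QuotientGroup.eq_one_iff x).2 hx |> fun h => (show q x = 1 from h)]
    exact one_mem _
  have hMB : M ⊓ B = ⊥ := by
    refine c.normal_prime _ inf_le_right (le_trans (le_inf ((hBK.trans (map_subtype_le _)).trans hMn) le_normalizer)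
      inf_normalizer_le_normalizer_inf) fun h3 => ?_
    have h1 := h3.trans (card_dvd_of_le (inf_le_left : M ⊓ B ≤ M))
    rw [hM, Cores.card_map_subtype] at h1
    exact Cores.not_dvd_card_pPrimeCore h1
  have hX3 : IsPGroup 3 (W ⊓ B : Subgroup G) := by
    rintro ⟨x, hxW, hxB⟩
    obtain ⟨z, hz, rfl⟩ := hxW
    obtain ⟨k, hk⟩ := Cores.isPGroup_pCore 3 (K ⧸ M0) ⟨q z, hz⟩
    refine ⟨k, Subtype.ext ?_⟩
    have h1 : z ^ (3 ^ k) ∈ M0 := (QuotientGroup.eq_one_iff _).1 (by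
      have := congrArg Subtype.val hk
      show q (z ^ (3 ^ k)) = 1
      rw [map_pow]
      simpa using this)
    have h2 : ((z : G) ^ (3 ^ k)) ∈ M ⊓ B := ⟨⟨_, h1, rfl⟩, B.pow_mem hxB _⟩
    rw [hMB, mem_bot] at h2
    simpa using h2
  have hBWB : B ≤ normalizer ((W ⊓ B : Subgroup G) : Set G) :=
    le_trans (le_inf ((hBK.trans (map_subtype_le _)).trans hWn) le_normalizer) inf_normalizer_le_normalizer_inf
  have hinter : W ⊓ B = U := by
    refine (c.normal_three _ inf_le_right hBWB hX3).resolve_left fun hbot => ?_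
    -- otherwise `t` inverts `W` and `U` would be normal in `K` modulo `W`
    have hWodd : Odd (Nat.card W) := hKodd.of_dvd_nat (card_dvd_of_le (map_subtype_le _))
    have htt := Involution.mul_self c.invol
    have hinv : ∀ w ∈ W, t * w * t⁻¹ = w⁻¹ := inverted_of_fixed_trivial hWodd htt (hWn htN) fun w hw hc => by
      have : w ∈ W ⊓ B := ⟨hw, hfix w (map_subtype_le _ hw) hc⟩
      rwa [hbot, mem_bot] at this
    have hdec : ∀ k ∈ K, ∃ w ∈ W, w * k ∈ B := by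
      intro k hk
      have hzK : t * k * t⁻¹ * k⁻¹ ∈ K :=
        K.mul_mem ((mem_normalizer_iff.1 (hKn htN) k).1 hk) (K.inv_mem hk)
      have hzW : t * k * t⁻¹ * k⁻¹ ∈ W := by
        refine ⟨⟨_, hzK⟩, ?_, rfl⟩
        show q ⟨_, hzK⟩ ∈ Cfsg.pCore 3 (K ⧸ M0)
        haveI : Group.IsSolvable K := OddOrderTheorem.solvable hKodd
        refine Constrained.isPConstrained_iff.1 HallHigman.isPConstrained_of_isSolvable ?_
        refine mem_centralizer_iff.2 fun v hv => ?_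
        obtain ⟨v, rfl⟩ := QuotientGroup.mk'_surjective M0 v
        have hvW : (v : G) ∈ W := ⟨v, hv, rfl⟩
        have hkv : k⁻¹ * (v : G) * k ∈ W := by
          simpa using (mem_normalizer_iff.1 (hWn (N.inv_mem (map_subtype_le _ hk))) _).1 hvW
        have hcm : Commute (t * k * t⁻¹ * k⁻¹) (v : G) := by
          refine mul_inv_eq_iff_eq_mul.1 ?_
          have h4 : t⁻¹ * (k⁻¹ * v * k)⁻¹ * t = k⁻¹ * v * k := by rw [← hinv _ hkv]; group
          calc t * k * t⁻¹ * k⁻¹ * v * (t * k * t⁻¹ * k⁻¹)⁻¹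
              = t * k * (t⁻¹ * (k⁻¹ * v * k)⁻¹ * t)⁻¹ * k⁻¹ * t⁻¹ := by group
            _ = t * k * (k⁻¹ * v * k)⁻¹ * k⁻¹ * t⁻¹ := by rw [h4]
            _ = (t * v * t⁻¹)⁻¹ := by group
            _ = v := by rw [hinv _ hvW, inv_inv]
        show q v * q ⟨_, hzK⟩ = q ⟨_, hzK⟩ * q v
        rw [← map_mul, ← map_mul]
        exact congrArg q (Subtype.ext hcm.symm.eq)
      obtain ⟨w, hw, hc⟩ := exists_fixed_mul hWodd htt (hWn htN) hzW
      exact ⟨w, hw, hfix _ (K.mul_mem (map_subtype_le _ hw) hk) hc⟩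
    have hUW : U ≤ normalizer (W : Set G) := ((c.U_le.trans hBK).trans (map_subtype_le _)).trans hWn
    have hX : W ⊔ U = W := by
      refine htop _ le_sup_left (sup_le (map_subtype_le _) (c.U_le.trans hBK)) (fun k hk => ?_) ?_
      · obtain ⟨w, hw, hb⟩ := hdec k hk
        refine Coprime.mem_normalizer_of_forall fun z hz => ?_
        obtain ⟨v, hv, u, hu, rfl⟩ := (Coprime.mem_sup_iff hUW).1 hz
        have hkN : k ∈ N := map_subtype_le _ hk
        have h1 : k * v * k⁻¹ ∈ W := (mem_normalizer_iff.1 (hWn hkN) v).1 hv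
        have h2 : (w * k) * u * (w * k)⁻¹ ∈ U := (mem_normalizer_iff.1 (c.U_normal hb) u).1 hu
        rw [show k * (v * u) * k⁻¹ = (k * v * k⁻¹ * w⁻¹) * ((w * k) * u * (w * k)⁻¹) * w by group]
        exact mul_mem (mul_mem_sup (W.mul_mem h1 (W.inv_mem hw)) h2) (mem_sup_left hw)
      · rw [relIndex_sup_norm' hUW]
        obtain ⟨j, hj⟩ := IsPGroup.iff_card.1 c.U_three
        obtain ⟨i, -, hi⟩ := (Nat.dvd_prime_pow Nat.prime_three).1 (hj ▸ relIndex_dvd_card W U)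
        exact ⟨i, hi⟩
    refine c.U_ne (le_bot_iff.1 ?_)
    rw [← hbot]
    exact le_inf (le_sup_right.trans hX.le) c.U_le
  exact ⟨N, K, W, ⟨hKodd, map_subtype_le _, hKn, hWn, map_subtype_le _, htN, hgen, hBK, hfix, hinter, htop,
    exists_frat hKodd hKn⟩, hfN⟩

end Cfsg.Agent.AbelianSylow.Field
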