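import Cfsg.Agent.EqLemmas
import Mathlib.Data.Fintype.Option
import Mathlib.Data.Fintype.Prod
import Mathlib.Data.Fintype.Sigma
import Mathlib.Data.Fintype.BigOperators
import Mathlib.Data.Fin.Basic
import Mathlib.Logic.Function.Iterate

/-!
# Part (a), `q₀ = 3`: the permutations of nine points (owner: helper82)

Vectors of `𝔽₂³`, `lin m` the linear map `e₀ ↦ e₁ ↦ e₂ ↦ m`; the nine points are `Option V`.
* `exists_nine` : some translate of the inversion has order `9`
-/

set_option autoImplicit false

namespace Cfsg.Agent.AbelianSylow.Field.Small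

/-- Vectors over `𝔽₂`. -/
abbrev Vec := Bool × Bool × Bool

/-- Addition. -/
def vadd (x y : Vec) : Vec := (Bool.xor x.1 y.1, Bool.xor x.2.1 y.2.1, Bool.xor x.2.2 y.2.2)

/-- The first basis vector. -/
def e0 : Vec := (true, false, false)

/-- The linear map with last column `m`. -/
def lin (m x : Vec) : Vec :=
  (x.2.2 && m.1, Bool.xor x.1 (x.2.2 && m.2.1), Bool.xor x.2.1 (x.2.2 && m.2.2))

/-- The index of a vector in the orbit of `e₀`. -/
def idx (m x : Vec) : ℕ := ((List.range 7).find? fun i => (lin m)^[i] e0 == x).getD 0

/-- The inversion. -/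
def zmap (m c : Vec) : Option Vec → Option Vec
  | none => some (false, false, false)
  | some x => if x = (false, false, false) then none else some ((lin m)^[7 - idx m x] c)

/-- The translate. -/
def gmap (m c e : Vec) (p : Option Vec) : Option Vec := (zmap m c p).map (vadd e)

/-- `lin m` permutes the seven nonzero vectors cyclically. -/
def Good (m : Vec) : Prop :=
  (lin m)^[7] e0 = e0 ∧ ∀ i : Fin 7, ∀ j : Fin 7, (lin m)^[i.1] e0 = (lin m)^[j.1] e0 → i = j

instance (m : Vec) : Decidable (Good m) := by unfold Good; exact inferInstance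

/-- The translate by `e` has order nine. -/
def Nine (m c e : Vec) : Prop :=
  (∃ p : Option Vec, (gmap m c e)^[3] p ≠ p) ∧ ∀ p : Option Vec, (gmap m c e)^[9] p = p

instance (m c e : Vec) : Decidable (Nine m c e) := by unfold Nine; exact inferInstance

set_option synthInstance.maxSize 2000 in
set_option maxRecDepth 100000 in
set_option maxHeartbeats 4000000 in
/-- Some translate of the inversion has order nine. -/
theorem exists_nine : ∀ m : Vec, ∀ c : Vec, Good m → c ≠ (false, false, false) →
    ∃ e : Vec, Nine m c e := by
  decide +kernel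

end Cfsg.Agent.AbelianSylow.Field.Small
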