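import Cfsg.Agent.Lib.AbelianSylow.Cent.FieldSmallCount
import Cfsg.Agent.Lib.AbelianSylow.Cent.FieldSmallPerm
import Cfsg.Agent.Lib.AbelianSylow.Cent.FieldLocal

/-!
# Part (a), `q₀ = 3`, order 1512: the Sylow 3-subgroup (owner: helper82)

The group acts on the nine cosets of `N(A)`.
* `Hyp.exists_orderNine`  : there is an element of order 9
* `Hyp.inverted_cyclic`   : in a `t`-invariant 3-subgroup the inverted elements lie in one cyclic group
* `Hyp.not_commute_nine`  : an inverted element of order 9 commutes with no fixed element of order 3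
-/

set_option autoImplicit false
set_option linter.style.haveILetI false
set_option linter.unusedSectionVars false

namespace Cfsg.Agent.AbelianSylow.Field.Small

open Subgroup

universe u

variable {X : Type u} [Group X] [Finite X] {A : Subgroup X} {t : X}

local notation "𝐇" => normalizer (A : Set X)

theorem Hyp.index_eq (h : Hyp A t) (hX : Nat.card X = 1512) : (𝐇).index = 9 := by
  have := (𝐇).card_mul_index
  rw [h.card_H, hX] at this
  omega

theorem Hyp.exists_outside (h : Hyp A t) (hX : Nat.card X = 1512) : ∃ z : X, orderOf z = 2 ∧ z ∉ 𝐇 := by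
  by_contra hc
  push Not at hc
  have hn := h.card_inv
  rw [hX] at hn
  have h7 : Nat.card {u : X // orderOf u = 2} ≤ 7 := by
    rw [← h.card_inv_A]
    refine Nat.card_le_card_of_injective (fun u => ⟨u.1, h.invol_mem (hc u.1 u.2) (Involution.mul_self u.2),
      Involution.ne_one u.2⟩) fun u v e => Subtype.ext (congrArg Subtype.val e :)
  omega

/-- `N(A)` has trivial core. -/
theorem Hyp.core_eq_one (h : Hyp A t) (hX : Nat.card X = 1512) {x : X} (hx : ∀ g : X, g⁻¹ * x * g ∈ 𝐇) :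
    x = 1 := by
  set N := (𝐇).normalCore
  have hxN : x ∈ N := fun b => by simpa using hx b⁻¹
  have hNA : ∀ a ∈ A, a ∈ N → a = 1 := by
    intro a ha haN
    by_contra ha1
    obtain ⟨n, -, hn⟩ := h.trans a ha ha1
    have htN : t ∈ N := by
      have := (normalCore_normal 𝐇).conj_mem a haN n⁻¹
      rwa [← hn, show n⁻¹ * (n * t * n⁻¹) * n⁻¹⁻¹ = t by group] at this
    obtain ⟨z, hz, hzH⟩ := h.exists_outside hX
    obtain ⟨y, rfl⟩ := h.one z hz
    exact hzH (normalCore_le 𝐇 ((normalCore_normal 𝐇).conj_mem t htN y))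
  refine hNA x (h.selfcent fun a ha => mul_inv_eq_iff_eq_mul.1 (mul_inv_eq_one.1 (hNA _ ?_ ?_))) hxN
  · exact A.mul_mem ((mem_normalizer_iff.1 (normalCore_le 𝐇 hxN) a).1 ha) (A.inv_mem ha)
  · rw [show x * a * x⁻¹ * a⁻¹ = x * (a * x⁻¹ * a⁻¹) by group]
    exact N.mul_mem hxN ((normalCore_normal 𝐇).conj_mem _ (N.inv_mem hxN) a)

theorem Hyp.seven_not_commute (h : Hyp A t) {z k : X} (hz : orderOf z = 2) (hk : orderOf k = 7) :
    ¬ Commute k z := by
  intro hc
  obtain ⟨y, rfl⟩ := h.one z hz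
  have h1 : y⁻¹ * k * y ∈ centralizer ({t} : Set X) := mem_centralizer_singleton_iff.2 (by
    calc y⁻¹ * k * y * t = y⁻¹ * (k * (y * t * y⁻¹)) * y := by group
      _ = y⁻¹ * ((y * t * y⁻¹) * k) * y := by rw [hc.eq]
      _ = t * (y⁻¹ * k * y) := by group)
  have h2 := Subgroup.orderOf_dvd_natCard _ h1
  rw [show y⁻¹ * k * y = MulAut.conj y⁻¹ k by simp, MulEquiv.orderOf_eq, hk, h.card] at h2
  norm_num at h2

/-- The meet with a conjugate: order 21, its elements of order 7 inverted. -/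
theorem Hyp.meet (h : Hyp A t) (hX : Nat.card X = 1512) {z : X} (hz : orderOf z = 2) (hzH : z ∉ 𝐇) :
    (∀ x ∈ A, z * x * z⁻¹ ∈ 𝐇 → x = 1) ∧
    ∃ k : X, orderOf k = 7 ∧ k ∈ 𝐇 ∧ z * k * z⁻¹ = k⁻¹ ∧
      ∀ y ∈ 𝐇, z * y * z⁻¹ ∈ 𝐇 → orderOf y = 7 → y ∈ zpowers k := by
  classical
  haveI : Fact (Nat.Prime 7) := ⟨by norm_num⟩
  have hzz := Involution.mul_self hz
  have hzi : z⁻¹ = z := inv_eq_of_mul_eq_one_right hzz
  set K := (𝐇).map (MulAut.conj z).toMonoidHom
  set D := K ⊓ 𝐇 with hD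
  have hmem : ∀ x, x ∈ D ↔ x ∈ 𝐇 ∧ z * x * z⁻¹ ∈ 𝐇 := fun x => by
    rw [hD, mem_inf, mem_map_equiv, MulAut.conj_symm_apply, hzi, and_comm]
  have h21 : Nat.card D ∣ 21 := h.dvd_meet hzH fun x hx => by
    have := (hmem x).1 hx
    rw [hzi] at this ⊢
    exact this
  have hidx : K.index = 9 := by
    rw [← h.index_eq hX]
    exact index_map_equiv _ (MulAut.conj z)
  have hmul : Nat.card D * K.relIndex 𝐇 = 168 := by
    have h1 := relIndex_mul_relIndex ⊥ D 𝐇 bot_le inf_le_right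
    rwa [relIndex_bot_left, relIndex_bot_left, h.card_H, hD, inf_relIndex_right] at h1
  have hle : K.relIndex 𝐇 ≤ 9 := by
    rw [← hidx, ← relIndex_top_right]
    exact relIndex_le_of_le_right le_top (by rw [relIndex_top_right, hidx]; norm_num)
  have hcard : Nat.card D = 21 := by
    have := Nat.le_of_dvd (by norm_num) h21
    by_contra hne
    have h7 : Nat.card D ≤ 7 := by
      obtain ⟨c, hc⟩ := h21
      rcases Nat.lt_or_ge c 3 with h3 | h3
      · interval_cases c <;> omega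
      · nlinarith
    have := Nat.mul_le_mul h7 hle
    omega
  refine ⟨fun x hx hzx => ?_, ?_⟩
  · by_contra hx1
    have := Subgroup.orderOf_dvd_natCard D ((hmem x).2 ⟨le_normalizer hx, hzx⟩)
    rw [h.orderA hx hx1, hcard] at this
    norm_num at this
  obtain ⟨⟨k, hk⟩, hko⟩ := exists_prime_orderOf_dvd_card' (G := D) 7 (by rw [hcard]; norm_num)
  rw [Subgroup.orderOf_mk] at hko
  have huniq : ∀ y ∈ D, orderOf y = 7 → y ∈ zpowers k := fun y hy hyo => by
    rw [eq_of_le_card hcard.dvd (zpowers_le.2 hk) (zpowers_le.2 hy) (by rw [Nat.card_zpowers, hko])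
      (by rw [Nat.card_zpowers, hyo])]
    exact mem_zpowers y
  have hkD := (hmem k).1 hk
  have hzk : z * k * z⁻¹ ∈ D := (hmem _).2 ⟨hkD.2, by
    rw [show z * (z * k * z⁻¹) * z⁻¹ = z * z * k * (z * z)⁻¹ by group, hzz]; simpa using hkD.1⟩
  obtain ⟨j, hj⟩ := mem_zpowers_iff.1 (huniq _ hzk (by
    rw [show z * k * z⁻¹ = MulAut.conj z k from rfl, MulEquiv.orderOf_eq, hko]))
  have hj2 : k ^ (j * j) = k := by
    rw [zpow_mul, hj, conj_zpow, hj, show z * (z * k * z⁻¹) * z⁻¹ = z * z * k * (z * z)⁻¹ by group, hzz]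
    group
  have hd : ((7 : ℕ) : ℤ) ∣ (j - 1) * (j + 1) := by
    rw [← hko, orderOf_dvd_iff_zpow_eq_one, show (j - 1) * (j + 1) = j * j - 1 by ring, zpow_sub, hj2, zpow_one,
      mul_inv_cancel]
  refine ⟨k, hko, hkD.1, ?_, fun y hy hzy hyo => huniq y ((hmem y).2 ⟨hy, hzy⟩) hyo⟩
  rcases (Nat.prime_iff_prime_int.1 (Fact.out : Nat.Prime 7)).dvd_mul.1 hd with h1 | h1
  · exfalso
    refine h.seven_not_commute hz hko ?_
    rw [← hko, orderOf_dvd_iff_zpow_eq_one, zpow_sub, hj, zpow_one, mul_inv_eq_one] at h1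
    exact (mul_inv_eq_iff_eq_mul.1 h1).symm
  · rw [← hko, orderOf_dvd_iff_zpow_eq_one, zpow_add, hj, zpow_one] at h1
    exact eq_inv_of_mul_eq_one_left h1

/-- An inverted element of order 3 fixes no point. -/
theorem Hyp.inverted_no_point (h : Hyp A t) (hX : Nat.card X = 1512) {x g : X} (hx : orderOf x = 3)
    (hinv : t * x * t⁻¹ = x⁻¹) (hg : g⁻¹ * x * g ∈ 𝐇) : False := by
  set x' := g⁻¹ * x * g
  set z := g⁻¹ * t * g
  have hx' : orderOf x' = 3 := by
    rw [show x' = MulAut.conj g⁻¹ x by simp [x'], MulEquiv.orderOf_eq, hx]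
  have hz : orderOf z = 2 := by
    rw [show z = MulAut.conj g⁻¹ t by simp [z], MulEquiv.orderOf_eq, h.orderA h.mem h.ne]
  have hzx : z * x' * z⁻¹ = x'⁻¹ := by
    calc z * x' * z⁻¹ = g⁻¹ * (t * x * t⁻¹) * g := by simp only [z, x']; group
      _ = x'⁻¹ := by rw [hinv]; simp only [x']; group
  by_cases hzH : z ∈ 𝐇
  · have hzA : z ∈ A := h.invol_mem hzH (Involution.mul_self hz)
    have h1 : z * x' * z⁻¹ * x'⁻¹ ∈ A := by
      rw [show z * x' * z⁻¹ * x'⁻¹ = z * (x' * z⁻¹ * x'⁻¹) by group]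
      exact A.mul_mem hzA ((mem_normalizer_iff.1 hg _).1 (A.inv_mem hzA))
    have e : x'⁻¹ * x'⁻¹ = x' := by
      have h3 : x' ^ 3 = 1 := hx' ▸ pow_orderOf_eq_one x'
      rw [← mul_inv_rev, inv_eq_iff_mul_eq_one, ← h3, pow_succ, pow_two]
    rw [hzx, e] at h1
    have := h.orderA h1 (fun e => by rw [e, orderOf_one] at hx'; omega)
    omega
  · obtain ⟨-, k, hko, hk, hzk, huniq⟩ := h.meet hX hz hzH
    have hconj : x' * k * x'⁻¹ ∈ zpowers k := by
      refine huniq _ ((𝐇).mul_mem ((𝐇).mul_mem hg hk) ((𝐇).inv_mem hg)) ?_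
        (by rw [show x' * k * x'⁻¹ = MulAut.conj x' k from rfl, MulEquiv.orderOf_eq, hko])
      rw [show z * (x' * k * x'⁻¹) * z⁻¹ = (z * x' * z⁻¹) * (z * k * z⁻¹) * (z * x' * z⁻¹)⁻¹ by group, hzx, hzk]
      exact (𝐇).mul_mem ((𝐇).mul_mem ((𝐇).inv_mem hg) ((𝐇).inv_mem hk)) ((𝐇).inv_mem ((𝐇).inv_mem hg))
    obtain ⟨r, hr⟩ := mem_zpowers_iff.1 hconj
    have h1 : x'⁻¹ * k * x' = x' * k * x'⁻¹ := by
      have e1 : x'⁻¹ * k⁻¹ * x' = (k⁻¹) ^ r := by
        calc x'⁻¹ * k⁻¹ * x' = (z * x' * z⁻¹) * (z * k * z⁻¹) * (z * x' * z⁻¹)⁻¹ := by rw [hzx, hzk, inv_inv]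
          _ = z * (x' * k * x'⁻¹) * z⁻¹ := by group
          _ = z * k ^ r * z⁻¹ := by rw [hr]
          _ = (z * k * z⁻¹) ^ r := by rw [conj_zpow]
          _ = (k⁻¹) ^ r := by rw [hzk]
      rw [inv_zpow, hr] at e1
      calc x'⁻¹ * k * x' = (x'⁻¹ * k⁻¹ * x')⁻¹ := by group
        _ = x' * k * x'⁻¹ := by rw [e1, inv_inv]
    have h2 : Commute (x' * x') k := mul_inv_eq_iff_eq_mul.1 (by
      calc x' * x' * k * (x' * x')⁻¹ = x' * (x' * k * x'⁻¹) * x'⁻¹ := by group
        _ = k := by rw [← h1]; group)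
    refine h.not_commute hk hg hko hx' ?_
    have e : x' = (x' * x') ^ 2 := by
      rw [← pow_two, ← pow_mul, show 2 * 2 = orderOf x' + 1 by rw [hx'], pow_succ, pow_orderOf_eq_one, one_mul]
    exact e ▸ (h2.pow_left 2).symm

/-- **An element of order 9.** -/
theorem Hyp.exists_orderNine (h : Hyp A t) (hX : Nat.card X = 1512) : ∃ g : X, orderOf g = 9 := by
  classical
  haveI : Fact (Nat.Prime 3) := ⟨Nat.prime_three⟩
  obtain ⟨z, hz, hzH⟩ := h.exists_outside hX
  obtain ⟨hfree, k, hko, hk, hzk, -⟩ := h.meet hX hz hzH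
  have hzz := Involution.mul_self hz
  have hzi : z⁻¹ = z := inv_eq_of_mul_eq_one_right hzz
  have hk7 : k ^ 7 = 1 := hko ▸ pow_orderOf_eq_one k
  -- the orbit of `t`
  set a : ℕ → X := fun i => k ^ i * t * (k ^ i)⁻¹ with ha
  have haA : ∀ i, a i ∈ A := fun i => (mem_normalizer_iff.1 ((𝐇).pow_mem hk i) t).1 h.mem
  have ha1 : ∀ i, a i ≠ 1 := fun i e => h.ne (conj_eq_one_iff.1 e)
  have hastep : ∀ i, k * a i * k⁻¹ = a (i + 1) := fun i => by simp only [ha, pow_succ']; group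
  have hinj : ∀ i j, i < 7 → j < 7 → a i = a j → i = j := by
    suffices hs : ∀ i j, i < j → j < 7 → a i ≠ a j by
      intro i j hi hj e
      rcases lt_trichotomy i j with h' | h' | h'
      · exact absurd e (hs i j h' hj)
      · exact h'
      · exact absurd e.symm (hs j i h' hi)
    intro i j hij hj e
    obtain ⟨d, rfl⟩ : ∃ d, j = i + d := ⟨j - i, by omega⟩
    have hd : k ^ d * t * (k ^ d)⁻¹ = t := by
      calc k ^ d * t * (k ^ d)⁻¹ = (k ^ i)⁻¹ * a (i + d) * k ^ i := by simp only [ha, pow_add]; group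
        _ = t := by rw [← e]; simp only [ha]; group
    have hdo : orderOf (k ^ d) = 7 := by
      rw [Nat.Coprime.orderOf_pow (hko ▸ ((Nat.Prime.coprime_iff_not_dvd (by norm_num)).2
        fun hdd => by have := Nat.le_of_dvd (by omega) hdd; omega)), hko]
    exact h.seven_not_commute (h.orderA h.mem h.ne) hdo (mul_inv_eq_iff_eq_mul.1 hd)
  have hsq : ∀ x ∈ A, x⁻¹ = x := fun x hx => inv_eq_of_mul_eq_one_right (h.sq x hx)
  have hne2 : ∀ i j, a i * a j = 1 → a i = a j := fun i j e =>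
    (eq_inv_of_mul_eq_one_left e).trans (hsq _ (haA j))
  -- coordinates
  set φ : Vec → X := fun x => cond x.1 (a 0) 1 * cond x.2.1 (a 1) 1 * cond x.2.2 (a 2) 1 with hφ
  have hφA : ∀ x, φ x ∈ A := fun ⟨b0, b1, b2⟩ => A.mul_mem (A.mul_mem
    (by cases b0 <;> first | exact A.one_mem | exact haA 0) (by cases b1 <;> first | exact A.one_mem | exact haA 1))
    (by cases b2 <;> first | exact A.one_mem | exact haA 2)
  have hφmul : ∀ x y, φ (vadd x y) = φ x * φ y := by
    have key : ∀ (b c : Bool) (i : ℕ), cond (Bool.xor b c) (a i) 1 = cond b (a i) 1 * cond c (a i) 1 := by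
      intro b c i; cases b <;> cases c <;> simp [h.sq _ (haA i)]
    have hm : ∀ (b : Bool) (i : ℕ), cond b (a i) 1 ∈ A := fun b i => by
      cases b <;> first | exact A.one_mem | exact haA i
    rintro ⟨x0, x1, x2⟩ ⟨y0, y1, y2⟩
    simp only [hφ, vadd, key]
    set p0 := cond x0 (a 0) 1; set q0 := cond y0 (a 0) 1
    set p1 := cond x1 (a 1) 1; set q1 := cond y1 (a 1) 1
    set p2 := cond x2 (a 2) 1; set q2 := cond y2 (a 2) 1
    rw [(h.comm (hm y0 0) (hm x1 1)).mul_mul_mul_comm, (h.comm (A.mul_mem (hm y0 0) (hm y1 1)) (hm x2 2)).mul_mul_mul_comm]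
  have hφ0 : φ (false, false, false) = 1 := by simp [hφ]
  have hφe0 : φ e0 = a 0 := by simp [hφ, e0]
  have hker : ∀ x, φ x = 1 → x = (false, false, false) := by
    rintro ⟨b0, b1, b2⟩ e
    have h012 : a 0 * a 1 * a 2 ≠ 1 := fun e => by
      have e2 : a 2 = a 0 * a 1 := by
        rw [← hsq _ (haA 2)]; exact (eq_inv_of_mul_eq_one_left e).symm
      have e3 : a 3 = a 0 := by
        rw [← hastep 2, e2, show k * (a 0 * a 1) * k⁻¹ = (k * a 0 * k⁻¹) * (k * a 1 * k⁻¹) by group, hastep,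
          hastep, e2, (h.comm (haA 0) (haA 1)).eq, ← mul_assoc, h.sq _ (haA 1), one_mul]
      exact absurd (hinj 3 0 (by norm_num) (by norm_num) e3) (by norm_num)
    cases b0 <;> cases b1 <;> cases b2 <;> simp [hφ] at e ⊢
    · exact ha1 2 e
    · exact ha1 1 e
    · exact absurd (hinj 1 2 (by norm_num) (by norm_num) (hne2 _ _ e)) (by norm_num)
    · exact ha1 0 e
    · exact absurd (hinj 0 2 (by norm_num) (by norm_num) (hne2 _ _ e)) (by norm_num)
    · exact absurd (hinj 0 1 (by norm_num) (by norm_num) (hne2 _ _ e)) (by norm_num)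
    · exact h012 e
  have hφinj : Function.Injective φ := fun x y e => by
    have h1 : φ (vadd x y) = 1 := by rw [hφmul, e, h.sq _ (hφA y)]
    exact (show ∀ x y : Vec, vadd x y = (false, false, false) → x = y by decide) x y (hker _ h1)
  have hφsurj : ∀ x ∈ A, ∃ v, φ v = x := fun x hx => by
    have hb : Function.Bijective (fun v => (⟨φ v, hφA v⟩ : A)) := (Nat.bijective_iff_injective_and_card _).2
      ⟨fun v w e => hφinj (congrArg Subtype.val e), by rw [h.cardA, Nat.card_eq_fintype_card]; rfl⟩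
    obtain ⟨v, hv⟩ := hb.2 ⟨x, hx⟩
    exact ⟨v, congrArg Subtype.val hv⟩
  obtain ⟨m, hm⟩ := hφsurj _ (haA 3)
  have hlin : ∀ x, φ (lin m x) = k * φ x * k⁻¹ := by
    have e1 : φ (lin m e0) = a 1 := by
      rw [show lin m e0 = (false, true, false) from (by decide : ∀ m : Vec, lin m e0 = (false, true, false)) m]; simp [hφ]
    have e2 : φ (lin m (false, true, false)) = a 2 := by
      rw [show lin m (false, true, false) = (false, false, true) from (by decide : ∀ m : Vec, lin m (false, true, false) = (false, false, true)) m]; simp [hφ]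
    have e3 : φ (lin m (false, false, true)) = a 3 := by
      rw [show lin m (false, false, true) = m from (by decide : ∀ m : Vec, lin m (false, false, true) = m) m, hm]
    have hadd : ∀ x y, lin m (vadd x y) = vadd (lin m x) (lin m y) :=
      (by decide : ∀ m x y : Vec, lin m (vadd x y) = vadd (lin m x) (lin m y)) m
    have hz0 : φ (lin m (false, false, false)) = 1 := by
      rw [show lin m (false, false, false) = (false, false, false) from (by decide : ∀ m : Vec, lin m (false, false, false) = (false, false, false)) m, hφ0]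
    intro x
    obtain ⟨b0, b1, b2⟩ := x
    rw [show ((b0, b1, b2) : Vec) = vadd (vadd (cond b0 e0 (false, false, false))
      (cond b1 (false, true, false) (false, false, false))) (cond b2 (false, false, true) (false, false, false))
      from (by decide : ∀ b0 b1 b2 : Bool, ((b0, b1, b2) : Vec) = vadd (vadd (cond b0 e0 (false, false, false))
        (cond b1 (false, true, false) (false, false, false))) (cond b2 (false, false, true) (false, false, false)))
        b0 b1 b2]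
    have c : ∀ p q : X, k * (p * q) * k⁻¹ = (k * p * k⁻¹) * (k * q * k⁻¹) := fun p q => by group
    rw [hadd, hadd, hφmul, hφmul, hφmul, hφmul, c, c]
    congr 1
    · congr 1
      · cases b0
        · simp only [cond_false]; rw [hz0, hφ0]; group
        · simp only [cond_true]; rw [e1, hφe0, hastep]
      · cases b1
        · simp only [cond_false]; rw [hz0, hφ0]; group
        · simp only [cond_true]; rw [e2, ← hastep 1]; simp [hφ]
    · cases b2
      · simp only [cond_false]; rw [hz0, hφ0]; group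
      · simp only [cond_true]; rw [e3, ← hastep 2]; simp [hφ]
  have hiter : ∀ (i : ℕ) x, φ ((lin m)^[i] x) = k ^ i * φ x * (k ^ i)⁻¹ := by
    intro i
    induction i with
    | zero => intro x; simp
    | succ i ih => intro x; rw [Function.iterate_succ', Function.comp_apply, hlin, ih, pow_succ']; group
  have hgood : Good m := by
    refine ⟨hφinj ?_, fun i j e => Fin.ext (hinj i j i.2 j.2 ?_)⟩
    · rw [hiter, hk7]; group
    · have := congrArg φ e
      rwa [hiter, hiter, hφe0, show a 0 = t by simp [ha]] at this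
  -- the nine points
  set ι : Option Vec → X ⧸ 𝐇 := fun p => p.elim ((1 : X) : X ⧸ 𝐇) fun x => ((φ x * z : X) : X ⧸ 𝐇) with hι
  have hφH : ∀ x, φ x ∈ 𝐇 := fun x => le_normalizer (hφA x)
  have hιinj : Function.Injective ι := by
    rintro (_ | x) (_ | y) e <;> simp only [hι, Option.elim] at e
    · rfl
    · exfalso
      rw [QuotientGroup.eq, inv_one, one_mul] at e
      exact hzH (((𝐇).mul_mem_cancel_left (hφH y)).1 e)
    · exfalso
      rw [eq_comm, QuotientGroup.eq, inv_one, one_mul] at e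
      exact hzH (((𝐇).mul_mem_cancel_left (hφH x)).1 e)
    · rw [QuotientGroup.eq] at e
      have h1 : (φ x)⁻¹ * φ y = 1 := hfree _ (A.mul_mem (A.inv_mem (hφA x)) (hφA y)) (by
        rw [show (φ x * z)⁻¹ * (φ y * z) = z⁻¹ * ((φ x)⁻¹ * φ y) * z by group] at e
        rw [hzi] at e ⊢; exact e)
      rw [hφinj (inv_mul_eq_one.1 h1)]
  have hιsurj : Function.Surjective ι := ((Nat.bijective_iff_injective_and_card ι).2
    ⟨hιinj, by rw [← Subgroup.index_eq_card, h.index_eq hX, Nat.card_eq_fintype_card]; rfl⟩).2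
  -- the image of `z t z`
  obtain ⟨c, hc0, hc⟩ : ∃ c, c ≠ (false, false, false) ∧ ((z * t * z : X) : X ⧸ 𝐇) = ι (some c) := by
    obtain ⟨_ | c, hp⟩ := hιsurj ((z * t * z : X) : X ⧸ 𝐇)
    · exfalso
      simp only [hι, Option.elim] at hp
      rw [QuotientGroup.eq, inv_one, one_mul] at hp
      exact h.ne (hfree t h.mem (by rwa [hzi]))
    · refine ⟨c, fun e0 => ?_, hp.symm⟩
      subst e0
      simp only [hι, Option.elim, hφ0, one_mul] at hp
      rw [QuotientGroup.eq, hzi, show z * (z * t * z) = z * z * (t * z) by group, hzz, one_mul] at hp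
      exact hzH (((𝐇).mul_mem_cancel_left (le_normalizer h.mem)).1 hp)
  have hkz : ∀ i : ℕ, z * k ^ i = (k ^ i)⁻¹ * z := fun i => by
    rw [← inv_pow, ← hzk, conj_pow, inv_mul_cancel_right]
  have hzmap : ∀ p, z • ι p = ι (zmap m c p) := by
    rintro (_ | x) <;> simp only [hι, Option.elim, MulAction.Quotient.smul_coe, smul_eq_mul, mul_one]
    · simp [zmap, hφ0]
    rw [zmap]
    split_ifs with hx
    · rw [hx, hφ0, one_mul, hzz]
    -- `x` is in the orbit
    obtain ⟨i, hi⟩ : ∃ i : Fin 7, (lin m)^[i.1] e0 = x := by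
      have key : ∀ m : Vec, Good m → ∀ x : Vec, x ≠ (false, false, false) → ∃ i : Fin 7, (lin m)^[i.1] e0 = x := by
        decide +kernel
      exact key m hgood x hx
    have hid : (lin m)^[idx m x] e0 = x ∧ idx m x < 7 := by
      unfold idx
      rcases hf : (List.range 7).find? (fun i => (lin m)^[i] e0 == x) with _ | j
      · have := List.find?_eq_none.1 hf i (List.mem_range.2 i.2)
        simp [hi] at this
      · exact ⟨by simpa using List.find?_some hf, List.mem_range.1 (List.mem_of_find?_eq_some hf)⟩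
    set j := idx m x
    obtain ⟨hxe, hj7⟩ := hid
    have hx' : φ x = k ^ j * t * (k ^ j)⁻¹ := by rw [← hxe, hiter, hφe0]; simp [ha]
    have hkj : k ^ (7 - j) = (k ^ j)⁻¹ := eq_inv_of_mul_eq_one_left (by
      rw [← pow_add, Nat.sub_add_cancel hj7.le, hk7])
    simp only [hι, Option.elim]
    rw [hiter, hkj, inv_inv, hx', QuotientGroup.eq]
    have hc' : (z * t * z)⁻¹ * (φ c * z) ∈ 𝐇 := by
      simp only [hι, Option.elim] at hc
      exact QuotientGroup.eq.1 hc
    have e1 : z * (k ^ j * t * (k ^ j)⁻¹ * z) = (k ^ j)⁻¹ * (z * t * z) * k ^ j := by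
      calc z * (k ^ j * t * (k ^ j)⁻¹ * z) = (z * k ^ j) * t * ((k ^ j)⁻¹ * z) := by group
        _ = ((k ^ j)⁻¹ * z) * t * (z * k ^ j) := by rw [← hkz]
        _ = (k ^ j)⁻¹ * (z * t * z) * k ^ j := by group
    have e2 : (k ^ j)⁻¹ * φ c * k ^ j * z = (k ^ j)⁻¹ * (φ c * z) * (k ^ j)⁻¹ := by
      have : k ^ j * z = z * (k ^ j)⁻¹ := by
        rw [← inv_pow, ← hzk, conj_pow, show z * (z * k ^ j * z⁻¹) = z * z * k ^ j * z⁻¹ by group, hzz, one_mul, hzi]
      rw [mul_assoc _ (k ^ j) z, this]; group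
    rw [e1, e2, show ((k ^ j)⁻¹ * (z * t * z) * k ^ j)⁻¹ * ((k ^ j)⁻¹ * (φ c * z) * (k ^ j)⁻¹)
      = (k ^ j)⁻¹ * ((z * t * z)⁻¹ * (φ c * z)) * (k ^ j)⁻¹ by group]
    exact (𝐇).mul_mem ((𝐇).mul_mem ((𝐇).inv_mem ((𝐇).pow_mem hk j)) hc') ((𝐇).inv_mem ((𝐇).pow_mem hk j))
  obtain ⟨e, hne3, h9⟩ := exists_nine m c hgood hc0
  set g := φ e * z with hg
  have hgmap : ∀ p, g • ι p = ι (gmap m c e p) := fun p => by
    rw [hg, mul_smul, hzmap, gmap]
    rcases zmap m c p with _ | y <;>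
      simp only [hι, Option.elim, Option.map, MulAction.Quotient.smul_coe, smul_eq_mul, mul_one]
    · rw [QuotientGroup.eq]; simpa using (𝐇).inv_mem (hφH e)
    · show ((φ e * (φ y * z) : X) : X ⧸ 𝐇) = ((φ (vadd e y) * z : X) : X ⧸ 𝐇)
      rw [hφmul, mul_assoc (φ e) (φ y) z]
  have hgiter : ∀ (n : ℕ) p, g ^ n • ι p = ι ((gmap m c e)^[n] p) := by
    intro n
    induction n with
    | zero => intro p; simp
    | succ n ih => intro p; rw [pow_succ', mul_smul, ih, hgmap, Function.iterate_succ', Function.comp_apply]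
  have hg9 : g ^ 9 = 1 := h.core_eq_one hX fun b => by
    obtain ⟨p, hp⟩ := hιsurj (b : X ⧸ 𝐇)
    have h1 := hgiter 9 p
    rw [h9, hp, MulAction.Quotient.smul_coe, smul_eq_mul, eq_comm, QuotientGroup.eq] at h1
    rwa [← mul_assoc] at h1
  refine ⟨g, orderOf_eq_prime_pow (p := 3) (n := 1) (fun e3 => ?_) hg9⟩
  rw [pow_one] at e3
  obtain ⟨p, hp⟩ := hne3
  refine hp (hιinj ?_)
  rw [← hgiter, e3, one_smul]

/-! ## The Sylow subgroup -/

variable {S : Subgroup X}

theorem Hyp.sylow_point (h : Hyp A t) (hX : Nat.card X = 1512) (hS : Nat.card S = 27) :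
    ∃ s ∈ S, s ∈ 𝐇 ∧ orderOf s = 3 ∧ ∀ g : X, ∃ a ∈ S, ∃ b ∈ 𝐇, a * b = g := by
  classical
  haveI : Fact (Nat.Prime 3) := ⟨Nat.prime_three⟩
  have h1 := relIndex_mul_relIndex ⊥ (𝐇 ⊓ S) S bot_le inf_le_right
  rw [relIndex_bot_left, relIndex_bot_left, hS, inf_relIndex_right] at h1
  have hle : (𝐇).relIndex S ≤ 9 := by
    rw [← h.index_eq hX, ← relIndex_top_right]
    exact relIndex_le_of_le_right le_top (by rw [relIndex_top_right, h.index_eq hX]; norm_num)
  have hd : Nat.card (𝐇 ⊓ S : Subgroup X) ∣ Nat.gcd 168 27 :=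
    Nat.dvd_gcd (h.card_H ▸ card_dvd_of_le inf_le_left) (hS ▸ card_dvd_of_le inf_le_right)
  have h3 : Nat.card (𝐇 ⊓ S : Subgroup X) = 3 := by
    have h3' : Nat.gcd 168 27 = 3 := by decide
    rw [h3'] at hd
    rcases (Nat.dvd_prime Nat.prime_three).1 hd with e | e
    · rw [e] at h1; omega
    · exact e
  obtain ⟨⟨s, hs⟩, hso⟩ := exists_prime_orderOf_dvd_card' (G := ↥(𝐇 ⊓ S)) 3 (by rw [h3])
  rw [Subgroup.orderOf_mk] at hso
  refine ⟨s, hs.2, hs.1, hso, fun g => ?_⟩
  rw [h3] at h1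
  let ψ : ↥S ⧸ (𝐇).subgroupOf S → X ⧸ 𝐇 := fun q => (((q.out : ↥S) : X) : X ⧸ 𝐇)
  have hψ : Function.Injective ψ := fun q q' e => by
    rw [← q.out_eq, ← q'.out_eq]
    exact QuotientGroup.eq.2 (mem_subgroupOf.2 (QuotientGroup.eq.1 e))
  obtain ⟨q, hq⟩ := ((Nat.bijective_iff_injective_and_card ψ).2 ⟨hψ, by
    rw [← Subgroup.index_eq_card, ← Subgroup.index_eq_card, h.index_eq hX]
    show (𝐇).relIndex S = 9
    omega⟩).2 (g : X ⧸ 𝐇)
  exact ⟨_, (q.out).2, _, QuotientGroup.eq.1 hq, mul_inv_cancel_left _ _⟩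

theorem Hyp.sylow_not_comm (h : Hyp A t) (hX : Nat.card X = 1512) (hS : Nat.card S = 27) :
    ∃ a ∈ S, ∃ b ∈ S, ¬ Commute a b := by
  by_contra hc
  push Not at hc
  obtain ⟨s, hs, hsH, hso, hprod⟩ := h.sylow_point hX hS
  have hs1 : s = 1 := h.core_eq_one hX fun g => by
    obtain ⟨a, ha, b, hb, rfl⟩ := hprod g
    rw [show (a * b)⁻¹ * s * (a * b) = b⁻¹ * (a⁻¹ * (s * a)) * b by group, (hc s hs a ha).eq, inv_mul_cancel_left]
    exact (𝐇).mul_mem ((𝐇).mul_mem ((𝐇).inv_mem hb) hsH) hb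
  rw [hs1, orderOf_one] at hso
  omega

/-- The cube map of a Sylow 3-subgroup. -/
theorem Hyp.cube_mul (h : Hyp A t) (hX : Nat.card X = 1512) (hS : Nat.card S = 27) {x y : X} (hx : x ∈ S)
    (hy : y ∈ S) : (x * y) ^ 3 = x ^ 3 * y ^ 3 ∧ x ^ 9 = 1 := by
  classical
  haveI : Fact (Nat.Prime 3) := ⟨Nat.prime_three⟩
  have hp : IsPGroup 3 S := IsPGroup.of_card (n := 3) (by rw [hS]; norm_num)
  haveI : Nontrivial S := Finite.one_lt_card_iff_nontrivial.1 (by rw [hS]; norm_num)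
  set Z := center S with hZ
  have hZ1 : 1 < Nat.card Z := Finite.one_lt_card_iff_nontrivial.2 hp.center_nontrivial
  have hcomm : ∃ a b : S, ¬ Commute a b := by
    obtain ⟨a, ha, b, hb, hab⟩ := h.sylow_not_comm hX hS
    exact ⟨⟨a, ha⟩, ⟨b, hb⟩, fun e => hab (congrArg Subtype.val e)⟩
  have hZS : Z.index ≠ 1 ∧ ¬ IsCyclic (S ⧸ Z) := by
    constructor
    · intro e
      obtain ⟨a, b, hab⟩ := hcomm
      exact hab ((mem_center_iff.1 ((index_eq_one.1 e).ge (mem_top a)) b).symm)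
    · intro hcy
      obtain ⟨a, b, hab⟩ := hcomm
      exact hab (commutative_of_cyclic_center_quotient (QuotientGroup.mk' Z) (QuotientGroup.ker_mk' Z).le a b)
  have hprod := Z.card_mul_index
  rw [hS] at hprod
  obtain ⟨i, hi, hZc⟩ := (Nat.dvd_prime_pow Nat.prime_three (m := 3)).1
    (show Nat.card Z ∣ 3 ^ 3 from ⟨Z.index, by rw [hprod]; norm_num⟩)
  have hi1 : i = 1 := by
    rw [hZc] at hprod hZ1
    interval_cases i
    · norm_num at hZ1
    · rfl
    · exfalso
      refine hZS.2 (isCyclic_of_prime_card (p := 3) ?_)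
      rw [← Subgroup.index_eq_card]; omega
    · exfalso
      exact hZS.1 (by omega)
  rw [hi1, pow_one] at hZc
  have hidx : Nat.card (S ⧸ Z) = 3 ^ 2 := by rw [← Subgroup.index_eq_card]; rw [hZc] at hprod; omega
  letI : CommGroup (S ⧸ Z) := IsPGroup.commGroupOfCardEqPrimeSq hidx
  have hZ3 : ∀ c : S, c ∈ Z → c ^ 3 = 1 := fun c hc => by
    have := Subgroup.orderOf_dvd_natCard Z hc
    rw [hZc] at this
    exact orderOf_dvd_iff_pow_eq_one.1 this
  have hcube : ∀ a : S, a ^ 3 ∈ Z := fun a => by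
    refine (QuotientGroup.eq_one_iff _).1 ?_
    rw [QuotientGroup.mk_pow]
    by_contra hne
    refine hZS.2 (isCyclic_of_orderOf_eq_card (a : S ⧸ Z) ?_)
    rw [hidx]
    exact orderOf_eq_prime_pow (n := 1) (by rwa [pow_one]) (hidx ▸ pow_card_eq_one')
  constructor
  · set a : S := ⟨x, hx⟩
    set b : S := ⟨y, hy⟩
    obtain ⟨c, hc, hba⟩ : ∃ c ∈ Z, b * a = c * (a * b) := ⟨b * a * (a * b)⁻¹, (QuotientGroup.eq_one_iff _).1 (by
      rw [QuotientGroup.mk_mul, QuotientGroup.mk_inv, QuotientGroup.mk_mul, QuotientGroup.mk_mul,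
        mul_comm (b : S ⧸ Z), mul_inv_cancel]), by group⟩
    have hcc : ∀ w : S, w * c = c * w := fun w => mem_center_iff.1 hc w
    have e2 : (a * b) ^ 2 = c * (a * a * (b * b)) := by
      calc (a * b) ^ 2 = a * (b * a) * b := by rw [pow_two]; group
        _ = (a * c) * (a * b) * b := by rw [hba]; group
        _ = c * (a * a * (b * b)) := by rw [hcc a]; group
    have e3 : b * b * a = c * c * (a * (b * b)) := by
      calc b * b * a = b * (b * a) := by group
        _ = (b * c) * (a * b) := by rw [hba]; group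
        _ = c * (b * a) * b := by rw [hcc b]; group
        _ = c * c * (a * (b * b)) := by rw [hba]; group
    have e : (a * b) ^ 3 = a ^ 3 * b ^ 3 := by
      calc (a * b) ^ 3 = (a * b) ^ 2 * (a * b) := pow_succ _ _
        _ = c * (a * a * ((b * b) * a) * b) := by rw [e2]; group
        _ = c * ((a * a) * (c * c) * (a * (b * b)) * b) := by rw [e3]; group
        _ = c * ((c * c) * (a * a) * (a * (b * b)) * b) := by
            have hac : Commute a c := hcc a
            rw [((hac.mul_right hac).mul_left (hac.mul_right hac)).eq]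
        _ = c ^ 3 * (a ^ 3 * b ^ 3) := by simp only [pow_succ, pow_zero, one_mul, mul_assoc]
        _ = a ^ 3 * b ^ 3 := by rw [hZ3 c hc, one_mul]
    exact congrArg Subtype.val e
  · have := hZ3 _ (hcube ⟨x, hx⟩)
    rw [← pow_mul] at this
    exact congrArg Subtype.val this

theorem Hyp.exists_sylow (h : Hyp A t) (hX : Nat.card X = 1512) {P : Subgroup X} (hP : IsPGroup 3 P) :
    ∃ S : Subgroup X, P ≤ S ∧ Nat.card S = 27 ∧ ∃ g ∈ S, g ^ 3 ≠ 1 := by
  haveI : Fact (Nat.Prime 3) := ⟨Nat.prime_three⟩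
  obtain ⟨S, hS⟩ := hP.exists_le_sylow
  have hcard : ∀ T : Sylow 3 X, Nat.card (T : Subgroup X) = 27 := fun T => by
    rw [T.card_eq_multiplicity, hX, show (1512 : ℕ) = 3 ^ 3 * 56 by norm_num,
      Nat.factorization_mul_apply_of_coprime (by norm_num), Nat.prime_three.factorization_pow,
      Nat.factorization_eq_zero_of_not_dvd (show ¬ 3 ∣ 56 by norm_num)]
    simp
  obtain ⟨g, hg⟩ := h.exists_orderNine hX
  have hgp : IsPGroup 3 (zpowers g) := IsPGroup.of_card (n := 2) (by rw [Nat.card_zpowers, hg]; norm_num)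
  obtain ⟨T, hT⟩ := hgp.exists_le_sylow
  obtain ⟨x, hx⟩ := MulAction.exists_smul_eq X T S
  refine ⟨S, hS, hcard S, x * g * x⁻¹, ?_, fun e => ?_⟩
  · rw [← hx]; exact ⟨g, hT (mem_zpowers g), rfl⟩
  · rw [conj_pow, conj_eq_one_iff] at e
    have := orderOf_dvd_of_pow_eq_one e
    rw [hg] at this
    norm_num at this

theorem commute_of_inverted {x y : X} (hx : t * x * t⁻¹ = x⁻¹) (hy : t * y * t⁻¹ = y⁻¹)
    (hxy : t * (x * y) * t⁻¹ = (x * y)⁻¹) : Commute x y := by
  have h1 : x⁻¹ * y⁻¹ = (x * y)⁻¹ := by rw [← hxy, ← hx, ← hy]; group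
  have h2 := congrArg (fun w => w⁻¹) h1
  simp only [mul_inv_rev, inv_inv] at h2
  exact h2.symm

/-- **The inverted elements of a 3-subgroup lie in one cyclic group.** -/
theorem Hyp.inverted_cyclic (h : Hyp A t) (hX : Nat.card X = 1512) {P : Subgroup X} (hP : IsPGroup 3 P)
    (htP : ∀ x ∈ P, t * x * t⁻¹ ∈ P) :
    ∃ a ∈ P, t * a * t⁻¹ = a⁻¹ ∧ ∀ x ∈ P, t * x * t⁻¹ = x⁻¹ → x ∈ zpowers a := by
  classical
  haveI : Fact (Nat.Prime 3) := ⟨Nat.prime_three⟩
  have htt : t * t = 1 := h.sq t h.mem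
  obtain ⟨S, hPS, hS, g₀, hg₀, hg₀3⟩ := h.exists_sylow hX hP
  by_cases hbig : ∃ x ∈ P, t * x * t⁻¹ = x⁻¹ ∧ x ^ 3 ≠ 1
  · obtain ⟨x, hx, hxt, hx3⟩ := hbig
    refine ⟨x, hx, hxt, fun y hy hyt => ?_⟩
    by_contra hyx
    have hx9 : orderOf x = 9 := orderOf_eq_prime_pow (p := 3) (n := 1) (by rwa [pow_one])
      (h.cube_mul hX hS (hPS hx) (hPS hx)).2
    -- `P = S`
    have hcP : Nat.card P = 27 := by
      have hd : Nat.card P ∣ 3 ^ 3 := by norm_num; exact hS ▸ card_dvd_of_le hPS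
      obtain ⟨i, hi, hPc⟩ := (Nat.dvd_prime_pow Nat.prime_three).1 hd
      have h9 : Nat.card (zpowers x) < Nat.card P := by
        refine lt_of_le_of_ne (card_le_of_le (zpowers_le.2 hx)) fun e => hyx ?_
        exact (eq_of_le_of_card_ge (zpowers_le.2 hx) e.ge).ge hy
      rw [Nat.card_zpowers, hx9, hPc] at h9
      interval_cases i <;> omega
    have hPS' : P = S := eq_of_le_of_card_ge hPS (by rw [hcP, hS])
    by_cases hfix : ∀ w ∈ P, Commute w t → w = 1
    · have hinv := inverted_of_fixed_trivial (W := P) (by rw [hcP]; decide) htt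
        (Coprime.mem_normalizer_of_forall htP) hfix
      obtain ⟨a, ha, b, hb, hab⟩ := h.sylow_not_comm hX hS
      exact hab (commute_of_inverted (hinv a (hPS'.ge ha)) (hinv b (hPS'.ge hb))
        (hinv _ (hPS'.ge (S.mul_mem ha hb))))
    push Not at hfix
    obtain ⟨w, hw, hwt, hw1⟩ := hfix
    have hzinv : ∀ i : ℤ, t * x ^ i * t⁻¹ = (x ^ i)⁻¹ := fun i => by rw [← conj_zpow, hxt, inv_zpow]
    have hodd : ∀ z ∈ P, z = z⁻¹ → z = 1 := fun z hz e => eq_one_of_inv_eq (by rw [hcP]; decide) hz e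
    have hwx : w ∉ zpowers x := fun hwx => by
      obtain ⟨i, rfl⟩ := mem_zpowers_iff.1 hwx
      exact hw1 (hodd _ hw (by rw [← hzinv i, ← hwt.eq, mul_inv_cancel_right]))
    set Q := (zpowers x).subgroupOf P with hQ
    have hQi : Q.index = 3 := by
      have := Q.card_mul_index
      rw [Cores.card_subgroupOf (zpowers_le.2 hx), Nat.card_zpowers, hx9, hcP] at this
      omega
    haveI : Q.Normal := Subgroup.normal_of_index_eq_minFac_card (by rw [hQi, hcP]; norm_num)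
    set π := QuotientGroup.mk' Q
    have hmemQ : ∀ z : P, π z = 1 ↔ (z : X) ∈ zpowers x := fun z =>
      (QuotientGroup.eq_one_iff z).trans mem_subgroupOf
    have hQc : Nat.card (P ⧸ Q) = 3 := by rw [← Subgroup.index_eq_card, hQi]
    have hgen : π ⟨y, hy⟩ ∈ zpowers (π ⟨w, hw⟩) := by
      rw [zpowers_eq_top_of_prime_card hQc fun e => hwx ((hmemQ _).1 e)]; exact mem_top _
    obtain ⟨j, hj⟩ := mem_zpowers_iff.1 hgen
    have hq : y * (w ^ j)⁻¹ ∈ zpowers x := (hmemQ (⟨y, hy⟩ * (⟨w, hw⟩ ^ j)⁻¹)).1 (by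
      rw [map_mul, map_inv, map_zpow, hj, mul_inv_cancel])
    obtain ⟨i, hi⟩ := mem_zpowers_iff.1 hq
    have hy' : y = x ^ i * w ^ j := by rw [hi, inv_mul_cancel_right]
    have hwj : t * w ^ j * t⁻¹ = w ^ j := by rw [← (hwt.zpow_left j).eq, mul_inv_cancel_right]
    have h1 : x ^ (-i) * w ^ j = (x ^ i * w ^ j)⁻¹ := by
      rw [zpow_neg, ← hzinv i, ← hy', ← hyt, hy', show t * (x ^ i * w ^ j) * t⁻¹
        = t * x ^ i * t⁻¹ * (t * w ^ j * t⁻¹) by group, hwj]
    have hxQ : ∀ i : ℤ, π (⟨x, hx⟩ ^ i) = 1 := fun i => by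
      rw [map_zpow, (hmemQ ⟨x, hx⟩).2 (mem_zpowers x), one_zpow]
    have h2 : π (⟨x, hx⟩ ^ (-i) * ⟨w, hw⟩ ^ j) = π ((⟨x, hx⟩ ^ i * ⟨w, hw⟩ ^ j)⁻¹) :=
      congrArg π (Subtype.ext (by simpa using h1))
    rw [map_mul, map_inv, map_mul, hxQ, hxQ, one_mul] at h2
    have h3 : π (⟨w, hw⟩ ^ j) = 1 := by
      by_contra hne
      have h4 : π (⟨w, hw⟩ ^ j) ^ 2 = 1 := by rw [pow_two]; nth_rewrite 1 [h2]; exact inv_mul_cancel _
      have h5 := orderOf_dvd_of_pow_eq_one h4
      have h6 := _root_.orderOf_dvd_natCard (π (⟨w, hw⟩ ^ j))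
      rw [hQc] at h6
      exact hne (orderOf_eq_one_iff.1 (Nat.eq_one_of_dvd_coprimes (by norm_num : Nat.Coprime 2 3) h5 h6))
    have hwjQ : w ^ j ∈ zpowers x := by simpa using (hmemQ _).1 h3
    exact hyx (hy' ▸ mul_mem (zpow_mem (mem_zpowers x) i) hwjQ)
  push Not at hbig
  by_cases htriv : ∀ x ∈ P, t * x * t⁻¹ = x⁻¹ → x = 1
  · exact ⟨1, P.one_mem, by group, fun x hx hxt => by rw [htriv x hx hxt]; exact one_mem _⟩
  push Not at htriv
  obtain ⟨x, hx, hxt, hx1⟩ := htriv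
  refine ⟨x, hx, hxt, fun y hy hyt => ?_⟩
  by_contra hyx
  -- the elements of cube one
  let Ω : Subgroup X :=
    { carrier := {z | z ∈ S ∧ z ^ 3 = 1}
      one_mem' := ⟨S.one_mem, one_pow 3⟩
      mul_mem' := fun {a b} ha hb => ⟨S.mul_mem ha.1 hb.1, by
        rw [(h.cube_mul hX hS ha.1 hb.1).1, ha.2, hb.2, one_mul]⟩
      inv_mem' := fun {a} ha => ⟨S.inv_mem ha.1, by rw [inv_pow, ha.2, inv_one]⟩ }
  have hxΩ : x ∈ Ω := ⟨hPS hx, hbig x hx hxt⟩
  have hyΩ : y ∈ Ω := ⟨hPS hy, hbig y hy hyt⟩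
  obtain ⟨i, hi, hΩc⟩ := (Nat.dvd_prime_pow Nat.prime_three (m := 3)).1
    (show Nat.card Ω ∣ 3 ^ 3 by norm_num; exact hS ▸ card_dvd_of_le fun z hz => hz.1)
  have hxo : orderOf x = 3 := orderOf_eq_prime (hbig x hx hxt) hx1
  have hgt : 3 < Nat.card Ω := by
    refine lt_of_le_of_ne ?_ fun e => hyx ?_
    · rw [← hxo, ← Nat.card_zpowers]; exact card_le_of_le (zpowers_le.2 hxΩ)
    · exact (eq_of_le_of_card_ge (zpowers_le.2 hxΩ) (by rw [Nat.card_zpowers, hxo, ← e])).ge hyΩ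
  have hlt : Nat.card Ω < 27 := by
    refine lt_of_le_of_ne (hS ▸ card_le_of_le fun z hz => hz.1) fun e => hg₀3 ?_
    exact ((eq_of_le_of_card_ge (show Ω ≤ S from fun z hz => hz.1) (by rw [e, hS])).ge hg₀).2
  have hΩ9 : Nat.card Ω = 3 ^ 2 := by
    rw [hΩc] at hgt hlt ⊢
    interval_cases i <;> omega
  have hΩcomm : ∀ a ∈ Ω, ∀ b ∈ Ω, Commute a b := fun a ha b hb =>
    congrArg Subtype.val ((IsPGroup.commGroupOfCardEqPrimeSq (p := 3) (G := Ω) hΩ9).mul_comm ⟨a, ha⟩ ⟨b, hb⟩)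
  -- all of it is inverted
  let I : Subgroup X :=
    { carrier := {z | z ∈ Ω ∧ t * z * t⁻¹ = z⁻¹}
      one_mem' := ⟨Ω.one_mem, by group⟩
      mul_mem' := fun {a b} ha hb => ⟨Ω.mul_mem ha.1 hb.1, by
        rw [show t * (a * b) * t⁻¹ = t * a * t⁻¹ * (t * b * t⁻¹) by group, ha.2, hb.2, mul_inv_rev,
          ((hΩcomm a ha.1 b hb.1).inv_inv).eq]⟩
      inv_mem' := fun {a} ha => ⟨Ω.inv_mem ha.1, by rw [← conj_inv, ha.2]⟩ }
  have hI : I = Ω := by
    refine eq_of_le_of_card_ge (fun z hz => hz.1) ?_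
    obtain ⟨j, -, hIc⟩ := (Nat.dvd_prime_pow Nat.prime_three (m := 2)).1
      (hΩ9 ▸ card_dvd_of_le (show I ≤ Ω from fun z hz => hz.1))
    have h3 : 3 < Nat.card I := by
      refine lt_of_le_of_ne ?_ fun e => hyx ?_
      · rw [← hxo, ← Nat.card_zpowers]; exact card_le_of_le (zpowers_le.2 (show x ∈ I from ⟨hxΩ, hxt⟩))
      · exact (eq_of_le_of_card_ge (zpowers_le.2 (show x ∈ I from ⟨hxΩ, hxt⟩))
          (by rw [Nat.card_zpowers, hxo, ← e])).ge (show y ∈ I from ⟨hyΩ, hyt⟩)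
    rw [hΩ9, hIc]
    rw [hIc] at h3
    refine Nat.pow_le_pow_right (by norm_num) ?_
    by_contra hj
    interval_cases j <;> norm_num at h3
  obtain ⟨s, hs, hsH, hso, -⟩ := h.sylow_point hX hS
  have hsI : s ∈ I := hI.ge ⟨hs, hso ▸ pow_orderOf_eq_one s⟩
  exact h.inverted_no_point hX hso hsI.2 (g := 1) (by simpa using hsH)

/-- **An inverted element of order 9 commutes with no fixed element of order 3.** -/
theorem Hyp.not_commute_nine (h : Hyp A t) (hX : Nat.card X = 1512) {d w : X} (hd : orderOf d = 9)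
    (hdt : t * d * t⁻¹ = d⁻¹) (hw : orderOf w = 3) (hwt : Commute w t) : ¬ Commute d w := by
  classical
  intro hc
  haveI : Fact (Nat.Prime 3) := ⟨Nat.prime_three⟩
  have hwd : Disjoint (zpowers w) (zpowers d) := by
    rw [disjoint_iff, eq_bot_iff]
    rintro z ⟨hz1, hz2⟩
    obtain ⟨i, rfl⟩ := mem_zpowers_iff.1 hz1
    obtain ⟨j, hj⟩ := mem_zpowers_iff.1 hz2
    rw [mem_bot, ← hj]
    refine eq_one_of_inv_eq (X := zpowers d) (by rw [Nat.card_zpowers, hd]; decide) (zpow_mem (mem_zpowers d) j) ?_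
    calc d ^ j = t * d ^ j * t⁻¹ := by rw [hj, ← (hwt.zpow_left i).eq, mul_inv_cancel_right]
      _ = (d ^ j)⁻¹ := by rw [← conj_zpow, hdt, inv_zpow]
  have hn : zpowers w ≤ normalizer (zpowers d : Set X) :=
    zpowers_le.2 (Coprime.mem_normalizer_of_forall fun z hz => by
      obtain ⟨i, rfl⟩ := mem_zpowers_iff.1 hz
      rw [← ((hc.zpow_left i)).eq, mul_inv_cancel_right]
      exact zpow_mem (mem_zpowers d) i)
  obtain ⟨a, ha, b, hb, hab⟩ := h.sylow_not_comm hX (S := zpowers w ⊔ zpowers d) (by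
    rw [Frobenius.card_sup_of_disjoint hn hwd, Nat.card_zpowers, Nat.card_zpowers, hd, hw])
  rw [sup_eq_closure] at ha hb
  refine hab ?_
  clear hab
  induction ha, hb using closure_induction₂ with
  | mem p q hp hq =>
    rcases hp with hp | hp <;> rcases hq with hq | hq <;>
      obtain ⟨i, rfl⟩ := mem_zpowers_iff.1 hp <;> obtain ⟨j, rfl⟩ := mem_zpowers_iff.1 hq
    · exact Commute.zpow_zpow_self w i j
    · exact (hc.symm.zpow_left i).zpow_right j
    · exact (hc.zpow_left i).zpow_right j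
    · exact Commute.zpow_zpow_self d i j
  | one_left p _ => exact Commute.one_left p
  | one_right p _ => exact Commute.one_right p
  | mul_left p q r _ _ _ h1 h2 => exact h1.mul_left h2
  | mul_right p q r _ _ _ h1 h2 => exact h1.mul_right h2
  | inv_left p q _ _ h1 => exact h1.inv_left
  | inv_right p q _ _ h1 => exact h1.inv_right

end Cfsg.Agent.AbelianSylow.Field.Small
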