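import Cfsg.Agent.Lib.AbelianSylow.Cent.FieldScalarOdd
import Cfsg.Agent.Lib.AbelianSylow.Cent.Growth
import Cfsg.Agent.Lib.Coprime.Factorization
import Cfsg.Agent.Lib.Coprime.Invariant

/-!
# No field automorphism, case (B): the transfer (owner: helper88)

* `Setting.exists_core`      : the normaliser of an abelian `s`-group with an inverted element is covered by `C(t)` and
  a normal subgroup of odd order
* `Setting.exists_sylow`     : a Sylow `s`-subgroup over `⟨f⟩ P` normalised by `t` and `y`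
* `Setting.false_of_simple`  : `Setting` is impossible in a simple group
-/

set_option autoImplicit false
set_option linter.style.haveILetI false
set_option linter.unusedSectionVars false

namespace Cfsg.Agent.AbelianSylow.Scalar

open Subgroup
open scoped Pointwise

universe u v

/-- Two elements of prime order in a cyclic group generate the same subgroup. -/
theorem mem_zpowers_of_cyclic {C : Type*} [Group C] [Finite C] [IsCyclic C] {s : ℕ} [Fact s.Prime] {a b : C}
    (ha : orderOf a = s) (hb : b ^ s = 1) : b ∈ zpowers a := by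
  classical
  let := Fintype.ofFinite C
  have hle : (Finset.univ.filter fun x : C => x ^ s = 1).card ≤ s :=
    IsCyclic.card_pow_eq_one_le (Fact.out : s.Prime).pos
  have hsub : (Finset.univ.filter fun x : C => x ∈ zpowers a) ⊆ Finset.univ.filter fun x : C => x ^ s = 1 := by
    intro x hx
    simp only [Finset.mem_filter, Finset.mem_univ, true_and] at hx ⊢
    exact orderOf_dvd_iff_pow_eq_one.1 (ha ▸ orderOf_dvd_of_mem_zpowers hx)
  have hcard : (Finset.univ.filter fun x : C => x ∈ zpowers a).card = s := by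
    rw [← Fintype.card_subtype, ← Nat.card_eq_fintype_card]
    exact (Nat.card_zpowers a).trans ha
  have h := Finset.eq_of_subset_of_card_le hsub (by rw [hcard]; exact hle)
  have hbmem : b ∈ Finset.univ.filter fun x : C => x ^ s = 1 := by simp [hb]
  rw [← h] at hbmem
  simpa using hbmem

variable {G : Type u} [Group G] [Finite G]

/-- An element with `s`-power and `s'`-power in a subgroup lies in it. -/
theorem mem_of_two_powers {H : Subgroup G} {x : G} {a b : ℕ} (hab : a.Coprime b) (ha : x ^ a ∈ H)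
    (hb : x ^ b ∈ H) : x ∈ H := by
  obtain ⟨i, j, hij⟩ := Nat.isCoprime_iff_coprime.2 hab
  have h := H.mul_mem (H.zpow_mem ha i) (H.zpow_mem hb j)
  rwa [← zpow_natCast, ← zpow_natCast, ← zpow_mul, ← zpow_mul, ← zpow_add, mul_comm (a : ℤ), mul_comm (b : ℤ), hij,
    zpow_one] at h

namespace Setting

variable {A : Type v} [CommGroup A] {s : ℕ} [Fact s.Prime] {t f y : G} {P : Subgroup G} {ω : ℕ}
  {ρ : ↥(centralizer ({t} : Set G)) →* A}

theorem ty_comm (h : Setting s t f y P ω ρ) : Commute t y := h.y_cent.symm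

/-- An `s`-subgroup over the base meets `C(f)` in the base. -/
theorem inter_le (h : Setting s t f y P ω ρ) {R : Subgroup G} (hR : IsPGroup s R) (hbase : zpowers f ⊔ P ≤ R) :
    R ⊓ centralizer ({f} : Set G) ≤ zpowers f ⊔ P := by
  set X := R ⊓ centralizer ({f} : Set G)
  obtain ⟨c, hc, hle⟩ := Transfer.exists_conj_le_of_not_dvd_relIndex h.P_le_centralizer h.isPGroup_base
    h.P_max inf_le_right (hR.to_le (inf_le_left : X ≤ R))
  have h3 : Nat.card X ≤ Nat.card (zpowers f ⊔ P : Subgroup G) := by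
    rw [← card_map_of_injective (K := X) (f := (MulAut.conj c).toMonoidHom)
      (show Function.Injective (MulAut.conj c).toMonoidHom from (MulAut.conj c).injective)]
    exact card_le_of_le hle
  exact (eq_of_le_of_card_ge (le_inf hbase h.P_le_centralizer) h3).ge

/-- **The core of a normaliser.** -/
theorem exists_core (h : Setting s t f y P ω ρ) {W : Subgroup G} (hW : IsPGroup s W)
    (hWc : ∀ a ∈ W, ∀ b ∈ W, a * b = b * a) (htW : t ∈ normalizer (W : Set G)) {z : G} (hz : z ∈ W) (hz1 : z ≠ 1)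
    (hzi : t * z * t⁻¹ = z⁻¹) :
    ∃ O : Subgroup G, O ≤ normalizer (W : Set G) ∧ Odd (Nat.card O) ∧
      (∀ g ∈ normalizer (W : Set G), ∀ x ∈ O, g * x * g⁻¹ ∈ O) ∧
      ∀ g ∈ normalizer (W : Set G), t * g * t⁻¹ * g⁻¹ ∈ O := by
  haveI : Fact (Nat.Prime 2) := ⟨Nat.prime_two⟩
  have ht := h.sq
  have hti : t⁻¹ = t := inv_eq_of_mul_eq_one_right ht
  have hzp : ∀ {x : G}, x ∈ W → IsPGroup s (zpowers x) := fun hx => hW.to_le (zpowers_le.2 hx)
  set N := normalizer (W : Set G) with hN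
  by_cases hA : ∀ w ∈ W, Commute w t → w = 1
  · refine ⟨centralizer (W : Set G), fun g hg => Coprime.mem_normalizer_of_forall fun w hw => (by
      rwa [← mem_centralizer_iff.1 hg w hw, mul_inv_cancel_right]), ?_, ?_, ?_⟩
    · refine Nat.not_even_iff_odd.1 fun he => ?_
      obtain ⟨i, hi⟩ := exists_prime_orderOf_dvd_card' (G := centralizer (W : Set G)) 2 (even_iff_two_dvd.1 he)
      exact hz1 (h.eq_one_of_inverted (hzp hz) (i := (i : G)) (by rw [orderOf_coe, hi])
        (mem_centralizer_iff.1 i.2 z hz) h.invol hzi)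
    · intro g hg x hx
      refine mem_centralizer_iff.2 fun w hw => ?_
      have hw' : g⁻¹ * w * g ∈ W := by
        have := (mem_normalizer_iff.1 (N.inv_mem hg) w).1 hw
        rwa [inv_inv] at this
      have := (Commute.conj_iff g).2 (mem_centralizer_iff.1 hx _ hw' : Commute (g⁻¹ * w * g) x)
      rw [show g * (g⁻¹ * w * g) * g⁻¹ = w by group] at this
      exact this.eq
    · intro g hg
      have hinv : ∀ w ∈ W, t * w * t⁻¹ = w⁻¹ := fun w hw => by
        have hw' : t * w * t⁻¹ ∈ W := (mem_normalizer_iff.1 htW w).1 hw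
        refine eq_inv_of_mul_eq_one_left (hA _ (W.mul_mem hw' hw) ?_)
        have e : t * (t * w * t⁻¹ * w) * t⁻¹ = t * w * t⁻¹ * w := by
          calc t * (t * w * t⁻¹ * w) * t⁻¹ = t * t * w * t⁻¹ * t⁻¹ * (t * w * t⁻¹) := by group
            _ = w * (t * w * t⁻¹) := by rw [ht, one_mul, hti, mul_assoc w t t, ht, mul_one]
            _ = t * w * t⁻¹ * w := hWc _ hw _ hw'
        exact (mul_inv_eq_iff_eq_mul.1 e).symm
      refine mem_centralizer_iff.2 fun w hw => ?_
      set v := t⁻¹ * w * t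
      have hv : v ∈ W := by
        have := (mem_normalizer_iff.1 (N.inv_mem htW) w).1 hw
        rwa [inv_inv] at this
      have hv' : g⁻¹ * v⁻¹ * g ∈ W := by
        have := (mem_normalizer_iff.1 (N.inv_mem hg) v⁻¹).1 (W.inv_mem hv)
        rwa [inv_inv] at this
      have e1 : v = w⁻¹ := by
        show t⁻¹ * w * t = w⁻¹
        have h1 := hinv w hw
        rwa [hti] at h1 ⊢
      have h1 : t * g * t⁻¹ * g⁻¹ * w * (t * g * t⁻¹ * g⁻¹)⁻¹ = w := by
        have hw2 : g⁻¹ * w * g ∈ W := by rw [e1, inv_inv] at hv'; exact hv'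
        calc t * g * t⁻¹ * g⁻¹ * w * (t * g * t⁻¹ * g⁻¹)⁻¹
            = t * (g * (t⁻¹ * (g⁻¹ * w * g) * t) * g⁻¹) * t⁻¹ := by group
          _ = t * (g * (g⁻¹ * w * g)⁻¹ * g⁻¹) * t⁻¹ := by
              have h2 := hinv _ hw2
              rw [hti] at h2
              rw [hti, h2]
          _ = t * w⁻¹ * t⁻¹ := by group
          _ = w := by rw [hinv _ (W.inv_mem hw), inv_inv]
      exact (mul_inv_eq_iff_eq_mul.1 h1).symm
  push Not at hA
  obtain ⟨w0, hw0, hw0t, hw01⟩ := hA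
  -- elements of order `s`
  have hord : ∀ {x : G}, x ∈ W → x ≠ 1 → ∃ k : ℕ, orderOf (x ^ k) = s := fun {x} hx hx1 => by
    obtain ⟨k, hk⟩ := hW.exists_orderOf_eq_pow ⟨x, hx⟩
    rw [← orderOf_coe] at hk
    rcases k with _ | k
    · exact absurd (orderOf_eq_one_iff.1 (by simpa using hk)) hx1
    refine ⟨s ^ k, ?_⟩
    rw [orderOf_pow' _ (pow_ne_zero k (Fact.out : s.Prime).ne_zero), hk, Nat.gcd_eq_right (pow_dvd_pow s k.le_succ),
      pow_succ, Nat.mul_div_cancel_left _ (pow_pos (Fact.out : s.Prime).pos k)]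
  obtain ⟨k1, hk1⟩ := hord hw0 hw01
  obtain ⟨k2, hk2⟩ := hord hz hz1
  set f1 := w0 ^ k1 with hf1def
  set z1 := z ^ k2 with hz1def
  have hf1 : f1 ∈ W := W.pow_mem hw0 _
  have hz1' : z1 ∈ W := W.pow_mem hz _
  have hf1t : Commute f1 t := hw0t.pow_left _
  have hz1i : t * z1 * t⁻¹ = z1⁻¹ := by rw [hz1def, ← conj_pow, hzi, inv_pow]
  -- `t` is the only involution of `C(t)` in `N`
  have huniq : ∀ i ∈ N, Commute i t → i * i = 1 → i = 1 ∨ i = t := by
    intro i hi hit hii
    by_contra hne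
    push Not at hne
    have hio : orderOf i = 2 := orderOf_eq_prime (by rw [pow_two, hii]) hne.1
    have hii' : i⁻¹ = i := inv_eq_of_mul_eq_one_right hii
    have hconj : ∀ x, i * (i * x * i⁻¹) * i⁻¹ = x := fun x => by
      rw [show i * (i * x * i⁻¹) * i⁻¹ = i * i * x * (i * i)⁻¹ by group, hii]; group
    -- `i` centralises `f1`
    have ha : f1 * (i * f1 * i⁻¹)⁻¹ = 1 := by
      have hmem : i * f1 * i⁻¹ ∈ W := (mem_normalizer_iff.1 hi f1).1 hf1
      refine h.eq_one_of_inverted (hzp (W.mul_mem hf1 (W.inv_mem hmem))) h.invol ?_ hio ?_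
      · exact hf1t.mul_left ((hit.mul_left hf1t).mul_left hit.inv_left).inv_left
      · have e1 : i * (i * f1 * i⁻¹)⁻¹ * i⁻¹ = f1⁻¹ := by rw [← conj_inv, hconj]
        calc i * (f1 * (i * f1 * i⁻¹)⁻¹) * i⁻¹ = i * f1 * i⁻¹ * (i * (i * f1 * i⁻¹)⁻¹ * i⁻¹) := by group
          _ = i * f1 * i⁻¹ * f1⁻¹ := by rw [e1]
          _ = (f1 * (i * f1 * i⁻¹)⁻¹)⁻¹ := by group
    have hif : Commute i f1 := (mul_inv_eq_iff_eq_mul.1 (mul_inv_eq_one.1 ha).symm)
    -- `i` inverts `z1`
    have hb : z1 * (i * z1 * i⁻¹) = 1 := by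
      have hmem : i * z1 * i⁻¹ ∈ W := (mem_normalizer_iff.1 hi z1).1 hz1'
      refine h.eq_one_of_inverted (hzp (W.mul_mem hz1' hmem)) hio ?_ h.invol ?_
      · refine (mul_inv_eq_iff_eq_mul.1 ?_).symm
        calc i * (z1 * (i * z1 * i⁻¹)) * i⁻¹ = i * z1 * i⁻¹ * (i * (i * z1 * i⁻¹) * i⁻¹) := by group
          _ = i * z1 * i⁻¹ * z1 := by rw [hconj]
          _ = z1 * (i * z1 * i⁻¹) := hWc _ hmem _ hz1'
      · calc t * (z1 * (i * z1 * i⁻¹)) * t⁻¹ = t * z1 * t⁻¹ * ((t * i) * z1 * (t * i)⁻¹) := by group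
          _ = t * z1 * t⁻¹ * ((i * t) * z1 * (i * t)⁻¹) := by rw [hit.eq]
          _ = z1⁻¹ * (i * (t * z1 * t⁻¹) * i⁻¹) := by
              rw [show (i * t) * z1 * (i * t)⁻¹ = i * (t * z1 * t⁻¹) * i⁻¹ by group, hz1i]
          _ = (z1 * (i * z1 * i⁻¹))⁻¹ := by
              rw [hz1i, mul_inv_rev, ← hWc _ (W.inv_mem hz1') _ (W.inv_mem hmem), conj_inv]
    set j := t * i with hjdef
    have hjo : orderOf j = 2 := by
      refine orderOf_eq_prime ?_ ?_
      · rw [hjdef, pow_two, show t * i * (t * i) = t * (i * t) * i by group, hit.eq, ← mul_assoc, ht, one_mul, hii]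
      · intro e
        exact hne.2 ((eq_inv_of_mul_eq_one_right (hjdef ▸ e)).trans hti)
    have hjf : Commute f1 j := hf1t.mul_right hif.symm
    have hjz : Commute z1 j := by
      refine (mul_inv_eq_iff_eq_mul.1 ?_).symm
      calc j * z1 * j⁻¹ = t * (i * z1 * i⁻¹) * t⁻¹ := by rw [hjdef]; group
        _ = z1 := by rw [eq_inv_of_mul_eq_one_right hb, ← conj_inv, hz1i, inv_inv]
    obtain ⟨g, hg⟩ := isConj_iff.1 (h.one_class j hjo)
    have hg' : g⁻¹ * j * g = t := by rw [← hg]; group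
    set X := (zpowers f1 ⊔ zpowers z1).map (MulAut.conj g⁻¹).toMonoidHom with hX
    have hXp : IsPGroup s X := (hW.to_le (sup_le (zpowers_le.2 hf1) (zpowers_le.2 hz1'))).map _
    have hXt : ∀ x ∈ X, Commute x t := by
      rintro _ ⟨x, hx, rfl⟩
      have hxj : Commute x j := by
        have hle : zpowers f1 ⊔ zpowers z1 ≤ centralizer ({j} : Set G) :=
          sup_le (zpowers_le.2 (mem_centralizer_singleton_iff.2 hjf.eq))
            (zpowers_le.2 (mem_centralizer_singleton_iff.2 hjz.eq))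
        exact mem_centralizer_singleton_iff.1 (hle hx)
      have := (Commute.conj_iff g⁻¹).2 hxj
      rw [inv_inv, hg'] at this
      show Commute (g⁻¹ * x * g⁻¹⁻¹) t
      rwa [inv_inv]
    obtain ⟨c, -, hle⟩ := h.exists_conj hXp hXt
    set φ : G →* G := (MulAut.conj (c * g⁻¹)).toMonoidHom
    have hφ : Function.Injective φ := (MulAut.conj (c * g⁻¹)).injective
    have hmem : ∀ {x : G}, x ∈ zpowers f1 ⊔ zpowers z1 → φ x ∈ zpowers f := fun {x} hx => by
      have := hle _ ⟨x, hx, rfl⟩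
      show c * g⁻¹ * x * (c * g⁻¹)⁻¹ ∈ zpowers f
      rw [show c * g⁻¹ * x * (c * g⁻¹)⁻¹ = c * (g⁻¹ * x * g⁻¹⁻¹) * c⁻¹ by group]
      exact this
    have hab := mem_zpowers_of_cyclic (s := s)
      (a := (⟨φ f1, hmem (mem_sup_left (mem_zpowers f1))⟩ : zpowers f))
      (b := ⟨φ z1, hmem (mem_sup_right (mem_zpowers z1))⟩)
      (by rw [← Subgroup.orderOf_coe]; exact (orderOf_injective φ hφ f1).trans hk1)
      (Subtype.ext (by
        rw [SubgroupClass.coe_pow]
        show φ z1 ^ s = 1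
        rw [← map_pow, ← hk2, hz1def, pow_orderOf_eq_one, map_one]))
    obtain ⟨n, hn⟩ := mem_zpowers_iff.1 hab
    have hzf : z1 = f1 ^ n := hφ (by
      rw [map_zpow]
      have e := congrArg Subtype.val hn
      rw [SubgroupClass.coe_zpow] at e
      exact e.symm)
    have hzt : Commute z1 t := hzf ▸ hf1t.zpow_left n
    rw [← hzt.eq, mul_inv_cancel_right] at hz1i
    have h1 := h.eq_one_of_sq_eq hW hz1' hz1i
    rw [h1, orderOf_one] at hk2
    exact (Fact.out : s.Prime).one_lt.ne hk2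
  -- so the Sylow 2-subgroup of `N` is cyclic
  have hpT : IsPGroup 2 (zpowers (⟨t, htW⟩ : N)) :=
    IsPGroup.of_card (n := 1) (by rw [Nat.card_zpowers, Subgroup.orderOf_mk, h.invol, pow_one])
  obtain ⟨T, hT⟩ := hpT.exists_le_sylow
  obtain ⟨S, hS⟩ := (T.2.map N.subtype).exists_le_sylow
  haveI := h.sylow_two S
  have hTc : ∀ a b : (T : Subgroup N), a * b = b * a := fun a b => Subtype.ext (Subtype.ext (by
    show ((a : N) : G) * ((b : N) : G) = ((b : N) : G) * ((a : N) : G)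
    exact (congrArg Subtype.val (mul_comm' (⟨((a : N) : G), hS ⟨_, a.2, rfl⟩⟩ : (S : Subgroup G))
      ⟨((b : N) : G), hS ⟨_, b.2, rfl⟩⟩) : _)))
  have htT : (⟨t, htW⟩ : N) ∈ (T : Subgroup N) := hT (mem_zpowers _)
  have hTt : ∀ a : (T : Subgroup N), Commute ((a : N) : G) t := fun a =>
    congrArg Subtype.val (congrArg Subtype.val (hTc a ⟨_, htT⟩))
  have hcyc : IsCyclic (T : Subgroup N) :=
    AbelianTwoFactor.isCyclic_of_unique_involution T.2 hTc (v := ⟨_, htT⟩) fun a ha => by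
      have e : ((a : N) : G) * ((a : N) : G) = 1 := congrArg Subtype.val (congrArg Subtype.val ha)
      rcases huniq _ (a : N).2 (hTt a) e with h1 | h1
      · exact Or.inl (Subtype.ext (Subtype.ext h1))
      · exact Or.inr (Subtype.ext (Subtype.ext h1))
  have heven : 2 ∣ Nat.card N := by
    have : orderOf (⟨t, htW⟩ : N) = 2 := by rw [Subgroup.orderOf_mk, h.invol]
    exact this ▸ orderOf_dvd_natCard _
  have hidx := KleinOrder.card_pPrimeCore_of_cyclic T hcyc heven
  set O' := Cfsg.pPrimeCore 2 N with hO'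
  haveI : O'.Normal := Cores.pPrimeCore_normal 2 N
  refine ⟨O'.map N.subtype, map_subtype_le _, ?_, ?_, ?_⟩
  · rw [Cores.card_map_subtype]
    exact Nat.not_even_iff_odd.1 fun e => Cores.not_dvd_card_pPrimeCore (even_iff_two_dvd.1 e)
  · rintro g hg _ ⟨x, hx, rfl⟩
    exact ⟨_, (inferInstance : O'.Normal).conj_mem x hx ⟨g, hg⟩, rfl⟩
  · intro g hg
    have hTO : (T : Subgroup N).map (QuotientGroup.mk' O') = ⊤ := by
      refine eq_top_of_card_eq _ ?_
      have hdisj : ∀ x ∈ (T : Subgroup N), x ∈ O' → x = 1 := fun x hxT hxO => by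
        obtain ⟨a, ha⟩ := IsPGroup.iff_card.1 T.2
        refine orderOf_eq_one_iff.1 (Nat.eq_one_of_dvd_coprimes
          ((Nat.prime_two.coprime_iff_not_dvd.2
            (show ¬ 2 ∣ Nat.card O' from Cores.not_dvd_card_pPrimeCore)).pow_left a)
          (ha ▸ (orderOf_mk x hxT ▸ orderOf_dvd_natCard (⟨x, hxT⟩ : (T : Subgroup N)))) ?_)
        exact orderOf_mk x hxO ▸ orderOf_dvd_natCard (⟨x, hxO⟩ : O')
      have hinj : Set.InjOn (QuotientGroup.mk' O') (T : Subgroup N) := fun a ha b hb e => by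
        have h1 : a⁻¹ * b ∈ O' := QuotientGroup.eq.1 e
        exact inv_mul_eq_one.1 (hdisj _ (mul_mem (inv_mem ha) hb) h1)
      have hc : Nat.card ((T : Subgroup N).map (QuotientGroup.mk' O')) = Nat.card (T : Subgroup N) := by
        show Nat.card ↥((QuotientGroup.mk' O') '' ((T : Subgroup N) : Set N)) = _
        exact Nat.card_image_of_injOn hinj
      rw [hc]
      refine Nat.eq_of_mul_eq_mul_right (Nat.card_pos (α := O')) ?_
      rw [← card_eq_card_quotient_mul_card_subgroup, hidx, card_mul_index]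
    obtain ⟨τ', hτ', e⟩ : QuotientGroup.mk' O' (⟨g, hg⟩ : N) ∈ (T : Subgroup N).map (QuotientGroup.mk' O') :=
      hTO ▸ mem_top _
    have ho : (⟨g, hg⟩ : N) * τ'⁻¹ ∈ O' := (QuotientGroup.eq_one_iff _).1 (by
      rw [QuotientGroup.mk_mul, QuotientGroup.mk_inv]; exact mul_inv_eq_one.2 e.symm)
    have hc : (⟨t, htW⟩ : N) * τ' = τ' * ⟨t, htW⟩ := Subtype.ext (hTt ⟨τ', hτ'⟩).eq.symm
    have hfin : (⟨t, htW⟩ : N) * ⟨g, hg⟩ * (⟨t, htW⟩ : N)⁻¹ * (⟨g, hg⟩ : N)⁻¹ ∈ O' := by
      have h1 := O'.mul_mem ((inferInstance : O'.Normal).conj_mem _ ho ⟨t, htW⟩) (O'.inv_mem ho)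
      have e1 : (⟨t, htW⟩ : N) * (⟨g, hg⟩ * τ'⁻¹) * (⟨t, htW⟩ : N)⁻¹
          = ⟨t, htW⟩ * ⟨g, hg⟩ * (⟨t, htW⟩ : N)⁻¹ * τ'⁻¹ := by
        rw [mul_assoc (⟨t, htW⟩ : N) ⟨g, hg⟩, mul_assoc (⟨t, htW⟩ : N), mul_assoc (⟨t, htW⟩ : N),
          mul_assoc (⟨g, hg⟩ : N), mul_assoc (⟨g, hg⟩ : N) _ τ'⁻¹, ← mul_inv_rev, ← mul_inv_rev, hc]
      rw [e1, mul_inv_rev, inv_inv, ← mul_assoc, inv_mul_cancel_right] at h1
      exact h1
    exact ⟨_, hfin, rfl⟩

/-- **An invariant Sylow subgroup over the base.** -/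
theorem exists_sylow (h : Setting s t f y P ω ρ) :
    ∃ (R : Sylow s G) (ω' : ℕ), OnR s ω' t y f (R : Subgroup G) ∧ zpowers f ⊔ P ≤ (R : Subgroup G) := by
  classical
  have ht := h.sq
  have hs := (Fact.out : s.Prime)
  obtain ⟨ω', hω, hroot, hω1, hP⟩ := h.exists_lift (Nat.card G)
  have hbase_norm : ∀ g : G, (∀ x ∈ P, g * x * g⁻¹ ∈ P) → g * f * g⁻¹ = f →
      (g ^ 6 = 1) → g ∈ normalizer ((zpowers f ⊔ P : Subgroup G) : Set G) := by
    intro g hgP hgf _
    refine Coprime.mem_normalizer_of_forall fun x hx => ?_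
    have hle : (zpowers f ⊔ P).map (MulAut.conj g).toMonoidHom ≤ zpowers f ⊔ P := by
      rw [Subgroup.map_sup, MonoidHom.map_zpowers]
      refine sup_le_sup (le_of_eq (by show zpowers (g * f * g⁻¹) = _; rw [hgf])) ?_
      rintro _ ⟨x, hx, rfl⟩; exact hgP x hx
    exact hle ⟨x, hx, rfl⟩
  obtain ⟨R, ⟨hR, hbase, htR, hyR⟩, hmax⟩ := Set.Finite.exists_maximal
    (s := {R : Subgroup G | IsPGroup s R ∧ zpowers f ⊔ P ≤ R ∧ t ∈ normalizer (R : Set G) ∧
      y ∈ normalizer (R : Set G)}) (Set.toFinite _)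
    ⟨zpowers f ⊔ P, h.isPGroup_base, le_rfl,
      hbase_norm t (fun x hx => by rw [h.P_inv x hx]; exact P.inv_mem hx)
        (by rw [← h.f_cent.eq, mul_inv_cancel_right]) (by rw [show (6 : ℕ) = 2 * 3 from rfl, pow_mul, pow_two, ht, one_pow]),
      hbase_norm y (fun x hx => by rw [h.omega x hx]; exact P.pow_mem hx _)
        (by rw [h.y_f.eq, mul_inv_cancel_right]) (by rw [show (6 : ℕ) = 3 * 2 from rfl, pow_mul, h.y_cube, one_pow])⟩
  have hm : Nat.card R ∣ s ^ Nat.card G := by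
    obtain ⟨k, hk⟩ := IsPGroup.iff_card.1 hR
    rw [hk]
    exact pow_dvd_pow s ((Nat.lt_pow_self hs.one_lt).le.trans
      (hk ▸ Nat.le_of_dvd Nat.card_pos (card_subgroup_dvd_card R)))
  have hOn := h.onR hω hroot hω1 hP hR hbase htR hyR hm
  have hfR : f ∈ R := hOn.f_mem
  obtain ⟨x0, hx0, hx01⟩ := h.exists_P_inverted
  obtain ⟨z, hzR, hzo, hzi, hzc⟩ := hOn.exists_central_inverted ht h.y_cube h.ty_comm h.f_cent h.y_f.symm
    (hbase (mem_sup_right hx0)) hx01 (h.P_inv x0 hx0)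
  have hz1 : z ≠ 1 := fun e => by rw [e, orderOf_one] at hzo; exact hs.one_lt.ne hzo
  let W : Subgroup G :=
    { carrier := {x | x ∈ R ∧ x ^ s = 1 ∧ ∀ g ∈ R, Commute x g}
      one_mem' := ⟨one_mem _, one_pow _, fun g _ => Commute.one_left g⟩
      mul_mem' := fun {a b} ha hb => ⟨R.mul_mem ha.1 hb.1,
        by rw [(ha.2.2 b hb.1).mul_pow, ha.2.1, hb.2.1, one_mul], fun g hg => (ha.2.2 g hg).mul_left (hb.2.2 g hg)⟩
      inv_mem' := fun {a} ha => ⟨R.inv_mem ha.1, by rw [inv_pow, ha.2.1, inv_one], fun g hg =>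
        (ha.2.2 g hg).inv_left⟩ }
  set N := normalizer (R : Set G) with hN
  have hNW : ∀ g ∈ N, ∀ w ∈ W, g * w * g⁻¹ ∈ W := by
    intro g hg w hw
    refine ⟨(mem_normalizer_iff.1 hg w).1 hw.1, by rw [conj_pow, hw.2.1, mul_one, mul_inv_cancel], fun v hv => ?_⟩
    have hv' : g⁻¹ * v * g ∈ R := by
      have := (mem_normalizer_iff.1 (N.inv_mem hg) v).1 hv
      rwa [inv_inv] at this
    have := (Commute.conj_iff g).2 (hw.2.2 _ hv')
    rwa [show g * (g⁻¹ * v * g) * g⁻¹ = v by group] at this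
  have hNnW : N ≤ normalizer (W : Set G) := fun g hg => Coprime.mem_normalizer_of_forall (hNW g hg)
  have hzW : z ∈ W := ⟨hzR, by rw [← hzo, pow_orderOf_eq_one], hzc⟩
  obtain ⟨O, hON, hOodd, hOn', hcov⟩ := h.exists_core (hR.to_le (show W ≤ R from fun x hx => hx.1)) (fun a ha b hb => (ha.2.2 b hb.1).eq)
    (hNnW htR) hzW hz1 hzi
  set K := O ⊓ N with hKdef
  have hKodd : Odd (Nat.card K) := hOodd.of_dvd_nat (card_dvd_of_le inf_le_left)
  have hKn : ∀ g ∈ N, ∀ x ∈ K, g * x * g⁻¹ ∈ K := fun g hg x hx =>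
    ⟨hOn' g (hNnW hg) x hx.1, N.mul_mem (N.mul_mem hg hx.2) (N.inv_mem hg)⟩
  have hKcov : ∀ g ∈ N, t * g * t⁻¹ * g⁻¹ ∈ K := fun g hg =>
    ⟨hcov g (hNnW hg), N.mul_mem (N.mul_mem (N.mul_mem htR hg) (N.inv_mem htR)) (N.inv_mem hg)⟩
  -- fixed elements of `N` centralise `f`
  have hcentf : ∀ k ∈ N, Commute k t → Commute k f := fun k hk hkt =>
    h.auto hkt (mem_zpowers f) (hOn.fixed _ ((mem_normalizer_iff.1 hk f).1 hfR)
      ((hkt.mul_left h.f_cent).mul_left hkt.inv_left))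
  -- a normal subgroup of `s`-power order modulo `C(W)` adds nothing
  have hgrow : ∀ L : Subgroup G, L ≤ K → (∀ g ∈ N, ∀ x ∈ L, g * x * g⁻¹ ∈ L) →
      (∀ x ∈ L, ∃ j, x ^ s ^ j ∈ centralizer (W : Set G)) →
      ∀ x ∈ L ⊔ R, (∃ j, x ^ s ^ j = 1) → x ∈ R := by
    intro L hLK hLn hLs
    have hLN : L ≤ N := hLK.trans inf_le_right
    have hRnL : R ≤ normalizer (L : Set G) := fun r hr =>
      Coprime.mem_normalizer_of_forall (hLn r (le_normalizer hr))
    set M := L ⊔ R with hM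
    have hMN : M ≤ N := sup_le hLN le_normalizer
    have hModd : Odd (Nat.card M) := by
      have hRodd : Odd (Nat.card R) := by
        obtain ⟨k, hk⟩ := IsPGroup.iff_card.1 hR
        rw [hk]; exact (hs.odd_of_ne_two h.ne_two).pow
      refine ((hKodd.of_dvd_nat (card_dvd_of_le hLK)).mul hRodd).of_dvd_nat ⟨Nat.card (L ⊓ R : Subgroup G), ?_⟩
      rw [← Coprime.card_mul_inf, ← coe_mul_of_right_le_normalizer_left L R hRnL]
      rfl
    have htM : t ∈ normalizer (M : Set G) := Coprime.mem_normalizer_of_forall fun x hx => by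
      obtain ⟨a, ha, b, hb, rfl⟩ := (Coprime.mem_sup_iff hRnL).1 hx
      rw [show t * (a * b) * t⁻¹ = t * a * t⁻¹ * (t * b * t⁻¹) by group]
      exact mul_mem_sup (hLn t htR a ha) ((mem_normalizer_iff.1 htR b).1 hb)
    have hyM : y ∈ normalizer (M : Set G) := Coprime.mem_normalizer_of_forall fun x hx => by
      obtain ⟨a, ha, b, hb, rfl⟩ := (Coprime.mem_sup_iff hRnL).1 hx
      rw [show y * (a * b) * y⁻¹ = y * a * y⁻¹ * (y * b * y⁻¹) by group]
      exact mul_mem_sup (hLn y hyR a ha) ((mem_normalizer_iff.1 hyR b).1 hb)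
    set Z := zpowers t
    have hZc : (Nat.card Z).Coprime (Nat.card M) := by
      rw [Nat.card_zpowers, h.invol]; exact Nat.coprime_two_left.2 hModd
    haveI hMsol : Group.IsSolvable M := OddOrderTheorem.solvable hModd
    have htMle : Z ≤ normalizer (M : Set G) := zpowers_le.2 htM
    obtain ⟨Q, hRQ, hQM, hQt, hQc⟩ := Coprime.exists_invariant_card htMle hZc (Or.inr hMsol) s
      (le_sup_right : R ≤ M) hR (zpowers_le.2 htR)
    set C := M ⊓ centralizer (Z : Set G) with hC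
    have hCt : ∀ c ∈ C, Commute c t := fun c hc => (mem_centralizer_iff.1 hc.2 t (mem_zpowers t)).symm
    -- no element of order three
    have hC3 : ¬ 3 ∣ Nat.card C := by
      intro hd
      haveI : Fact (Nat.Prime 3) := ⟨Nat.prime_three⟩
      obtain ⟨c, hc⟩ := exists_prime_orderOf_dvd_card' (G := C) 3 hd
      have hco : orderOf (c : G) = 3 := by rw [orderOf_coe, hc]
      obtain ⟨a, ha, b, hb, hab⟩ := (Coprime.mem_sup_iff hRnL).1 c.2.1
      obtain ⟨j, hj⟩ := hLs a ha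
      set CW := (centralizer (W : Set G)).subgroupOf N with hCW
      haveI : CW.Normal := ⟨fun x hx g => by
        refine mem_subgroupOf.2 (mem_centralizer_iff.2 fun w hw => ?_)
        have hw' := hNW (g : G)⁻¹ (N.inv_mem g.2) w hw
        rw [inv_inv] at hw'
        have := (Commute.conj_iff (g : G)).2
          (mem_centralizer_iff.1 (mem_subgroupOf.1 hx) _ hw' : Commute ((g : G)⁻¹ * w * g) (x : G))
        rw [show (g : G) * ((g : G)⁻¹ * w * g) * (g : G)⁻¹ = w by group] at this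
        exact this.eq⟩
      have hbW : (⟨b, le_normalizer hb⟩ : N) ∈ CW :=
        mem_subgroupOf.2 (mem_centralizer_iff.2 fun w hw => (hw.2.2 b hb).eq)
      set cN : N := ⟨(c : G), hMN c.2.1⟩
      have hq : (QuotientGroup.mk cN : N ⧸ CW) = QuotientGroup.mk (⟨a, hLN ha⟩ : N) := by
        rw [show cN = ⟨a, hLN ha⟩ * ⟨b, le_normalizer hb⟩ from Subtype.ext hab.symm, QuotientGroup.mk_mul,
          (QuotientGroup.eq_one_iff _).2 hbW, mul_one]
      have hcs : (c : G) ^ s ^ j ∈ centralizer (W : Set G) := by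
        have h1 : (QuotientGroup.mk cN : N ⧸ CW) ^ s ^ j = 1 := by
          rw [hq, ← QuotientGroup.mk_pow]
          exact (QuotientGroup.eq_one_iff _).2 (mem_subgroupOf.2 hj)
        rw [← QuotientGroup.mk_pow] at h1
        exact mem_subgroupOf.1 ((QuotientGroup.eq_one_iff _).1 h1)
      have hcW : (c : G) ∈ centralizer (W : Set G) := mem_of_two_powers
        (((Nat.coprime_primes hs Nat.prime_three).2 h.ne_three).pow_left j) hcs
        (by rw [← hco, pow_orderOf_eq_one]; exact one_mem _)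
      have hzP : z ∈ P := h.mem_P_of_inverted (h.inter_le hR hbase
        ⟨hzR, mem_centralizer_singleton_iff.2 (hzc f hfR).eq⟩) hzi
      have hczc : Commute (c : G) z := (mem_centralizer_iff.1 hcW z hzW).symm
      have hcy := h.three c (hCt c c.2) (hcentf c (hMN c.2.1) (hCt c c.2)) (by rw [← hco, pow_orderOf_eq_one]) z hzP
        hz1 (by rw [hczc.eq, mul_inv_cancel_right]; exact hzP)
      obtain ⟨k, hk⟩ := mem_zpowers_iff.1 hcy
      have hy3o : orderOf y = 3 := by
        refine orderOf_eq_prime h.y_cube fun e => ?_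
        rw [e, one_zpow] at hk
        rw [← hk, orderOf_one] at hco
        omega
      have hk3 : ¬ (3 : ℤ) ∣ k := fun ⟨i, hi⟩ => by
        rw [hi, zpow_mul, show (3 : ℤ) = ((3 : ℕ) : ℤ) from rfl, zpow_natCast, h.y_cube, one_zpow] at hk
        rw [← hk, orderOf_one] at hco
        omega
      obtain ⟨i, i', hii⟩ := (Int.prime_three).coprime_iff_not_dvd.2 hk3
      have hyc : y = (c : G) ^ i' := by
        calc y = y ^ (i * 3 + i' * k) := by rw [hii, zpow_one]
          _ = (c : G) ^ i' := by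
            rw [zpow_add, mul_comm i, zpow_mul, show (3 : ℤ) = ((3 : ℕ) : ℤ) from rfl, zpow_natCast, h.y_cube,
              one_zpow, one_mul, mul_comm i', zpow_mul, hk]
      have hzy : Commute z y := hyc ▸ hczc.symm.zpow_right i'
      exact hz1 (hOn.eq_one_of_commute hzR hzi hzy)
    -- `y` fixes an invariant Sylow subgroup
    letI : MulAction G (Subgroup G) := MulAction.compHom (Subgroup G) (MulAut.conj : G →* MulAut G)
    let 𝒬 : Set (Subgroup G) := {X | R ≤ X ∧ X ≤ M ∧ Z ≤ normalizer (X : Set G) ∧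
      Nat.card X = s ^ (Nat.card M).factorization s}
    have hyZ : ∀ a ∈ zpowers y, Commute a t := fun a ha => by
      obtain ⟨k, rfl⟩ := mem_zpowers_iff.1 ha
      exact h.y_cent.zpow_left k
    have hinv : ∀ g : G, g ∈ normalizer (R : Set G) → g ∈ normalizer (M : Set G) → Commute g t →
        ∀ X ∈ 𝒬, MulAut.conj g • X ∈ 𝒬 := by
      rintro g hgR hgM hgt X ⟨h1, h2, h3, h4⟩
      refine ⟨?_, ?_, ?_, by rw [Coprime.card_conj, h4]⟩
      · rw [← Coprime.conj_eq_of_mem_normalizer hgR]; exact pointwise_smul_le_pointwise_smul_iff.2 h1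
      · rw [← Coprime.conj_eq_of_mem_normalizer hgM]; exact pointwise_smul_le_pointwise_smul_iff.2 h2
      · refine zpowers_le.2 (Coprime.mem_normalizer_of_conj_eq ?_)
        rw [← mul_smul, ← map_mul, ← hgt.eq, map_mul, mul_smul,
          Coprime.conj_eq_of_mem_normalizer (h3 (mem_zpowers t))]
    have hCR : ∀ c ∈ C, c ∈ normalizer (R : Set G) := fun c hc => hMN hc.1
    have hCn : zpowers y ≤ normalizer (C : Set G) := by
      refine zpowers_le.2 (Coprime.mem_normalizer_of_forall fun c hc => ⟨(mem_normalizer_iff.1 hyM c).1 hc.1, ?_⟩)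
      refine mem_centralizer_iff.2 fun a ha => ?_
      obtain ⟨k, rfl⟩ := mem_zpowers_iff.1 ha
      exact (((h.y_cent.mul_left (hCt c hc)).mul_left h.y_cent.inv_left).zpow_right k).symm.eq
    have hycop : (Nat.card (zpowers y)).Coprime (Nat.card C) := by
      rw [Nat.card_zpowers]
      exact Nat.Coprime.coprime_dvd_left (orderOf_dvd_of_pow_eq_one h.y_cube)
        (Nat.prime_three.coprime_iff_not_dvd.2 hC3)
    obtain ⟨Q', ⟨hRQ', hQ'M, hQ't, hQ'c⟩, hQ'y⟩ := Coprime.exists_fixed_point hCn hycop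
      (Or.inl inferInstance) 𝒬 ⟨Q, hRQ, hQM, hQt, hQc⟩
      (fun a ha X hX => hinv a (zpowers_le.2 hyR ha) (zpowers_le.2 hyM ha) (hyZ a ha) X hX)
      (fun c hc X hX => hinv c (hCR c hc) (le_normalizer hc.1) (hCt c hc) X hX) (by
        rintro X ⟨-, hX2, hX3, hX4⟩ X' ⟨-, hX2', hX3', hX4'⟩
        exact Coprime.exists_mem_centralizer_conj_of_card htMle hZc (Or.inr hMsol) hX2' hX2 hX3' hX3 hX4' hX4)
    have hQ'p : IsPGroup s Q' := Coprime.isPGroup_of_card hQ'c
    have hQ'R : Q' = R := le_antisymm (hmax ⟨hQ'p, hbase.trans hRQ', hQ't (mem_zpowers t),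
      Coprime.mem_normalizer_of_conj_eq (hQ'y y (mem_zpowers y) : MulAut.conj y • Q' = Q')⟩ hRQ') hRQ'
    intro x hx hxs
    obtain ⟨j, hj⟩ := hxs
    have hxp : IsPGroup s (zpowers x) := by
      obtain ⟨i, -, hi⟩ := (Nat.dvd_prime_pow hs).1 (orderOf_dvd_of_pow_eq_one hj)
      exact IsPGroup.of_card (n := i) (by rw [Nat.card_zpowers, hi])
    have hsup : IsPGroup s (R ⊔ zpowers x : Subgroup G) :=
      hR.to_sup_of_normal_left' hxp (zpowers_le.2 (hMN hx))
    have hle : Nat.card (R ⊔ zpowers x : Subgroup G) ≤ Nat.card R := by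
      rw [← hQ'R, hQ'c]
      exact Coprime.card_le_of_isPGroup (by rw [hQ'R]; exact hsup)
        (by rw [hQ'R]; exact sup_le (le_sup_right : R ≤ M) (zpowers_le.2 hx))
    rw [eq_of_le_of_card_ge le_sup_left hle]
    exact mem_sup_right (mem_zpowers x)
  -- `t` is central modulo `C(W)` on `K`
  haveI : IsCyclic ↥(W ⊓ zpowers f : Subgroup G) :=
    isCyclic_of_injective (Subgroup.inclusion (inf_le_right : W ⊓ zpowers f ≤ zpowers f))
      (Subgroup.inclusion_injective _)
  obtain ⟨⟨f0, hf0W, hf0z⟩, hgen⟩ := IsCyclic.exists_generator (α := ↥(W ⊓ zpowers f : Subgroup G))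
  have hf0fix : ∀ w ∈ W, Commute w t → w ∈ zpowers f0 := fun w hw hwt => by
    obtain ⟨k, hk⟩ := mem_zpowers_iff.1 (hgen ⟨w, hw, hOn.fixed w hw.1 hwt⟩)
    exact mem_zpowers_iff.2 ⟨k, congrArg Subtype.val hk⟩
  obtain ⟨kf, hkf⟩ := mem_zpowers_iff.1 hf0z
  haveI : (K.subgroupOf N).Normal := ⟨fun x hx g => mem_subgroupOf.2 (hKn g g.2 x (mem_subgroupOf.1 hx))⟩
  haveI : (W.subgroupOf N).Normal := ⟨fun x hx g => mem_subgroupOf.2 (hNW g g.2 x (mem_subgroupOf.1 hx))⟩
  have hWN : W ≤ N := fun x hx => le_normalizer hx.1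
  have hcentW : ∀ {x : N}, x ∈ centralizer ((W.subgroupOf N : Subgroup N) : Set N) ↔
      (x : G) ∈ centralizer (W : Set G) := fun {x} => by
    simp only [mem_centralizer_iff]
    exact ⟨fun h1 w hw => congrArg Subtype.val (h1 ⟨w, hWN hw⟩ (mem_subgroupOf.2 hw)),
      fun h1 w hw => Subtype.ext (h1 w (mem_subgroupOf.1 hw))⟩
  have hrot := mem_cent_of_comm (N := N) h.ne_two (K := K.subgroupOf N) (W := W.subgroupOf N)
    (by rw [← card_map_of_injective (K := K.subgroupOf N) (f := N.subtype) N.subtype_injective,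
      subgroupOf_map_subtype, inf_eq_left.2 inf_le_right]; exact hKodd)
    (fun w hw => Subtype.ext (by rw [SubgroupClass.coe_pow]; exact (mem_subgroupOf.1 hw).2.1))
    (fun a ha b hb => Subtype.ext ((mem_subgroupOf.1 ha).2.2 (b : G) (mem_subgroupOf.1 hb).1).eq)
    (t := ⟨t, htR⟩) (y := ⟨y, hyR⟩) (f0 := ⟨f0, hWN hf0W⟩) (Subtype.ext ht) (Subtype.ext h.y_cube)
    (Subtype.ext h.ty_comm.eq) (mem_subgroupOf.2 hf0W)
    (Subtype.ext (show f0 * t = t * f0 by rw [← hkf]; exact (h.f_cent.zpow_left kf).eq))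
    (Subtype.ext (show f0 * y = y * f0 by rw [← hkf]; exact (h.y_f.symm.zpow_left kf).eq))
    (fun w hw hwt => by
      obtain ⟨k, hk⟩ := mem_zpowers_iff.1 (hf0fix w (mem_subgroupOf.1 hw) (congrArg Subtype.val hwt))
      exact mem_zpowers_iff.2 ⟨k, Subtype.ext (by rw [SubgroupClass.coe_zpow]; exact hk)⟩)
    (fun w hw hwi hwy => Subtype.ext (hOn.eq_one_of_commute (mem_subgroupOf.1 hw).1 (congrArg Subtype.val hwi)
      (congrArg Subtype.val hwy)))
    (fun k _ hkt => Subtype.ext (by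
      have := (hcentf k k.2 (congrArg Subtype.val hkt)).zpow_right kf
      rw [hkf] at this; exact this.eq))
    (fun L hLn hLK hLs x hx => by
      refine hcentW.2 ?_
      set L' := L.map N.subtype with hL'
      have hg := hgrow L' (fun v hv => by obtain ⟨w, hw, rfl⟩ := hv; exact mem_subgroupOf.1 (hLK hw))
        (fun g hg v hv => by obtain ⟨w, hw, rfl⟩ := hv; exact ⟨_, hLn.conj_mem w hw ⟨g, hg⟩, rfl⟩)
        (fun v hv => by
          obtain ⟨w, hw, rfl⟩ := hv
          obtain ⟨j, hj⟩ := hLs w hw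
          refine ⟨j, ?_⟩
          have := hcentW.1 hj
          rw [SubgroupClass.coe_pow] at this
          exact this)
      obtain ⟨j, hj⟩ := hLs x hx
      have hj' : (x : G) ^ s ^ j ∈ centralizer (W : Set G) := by
        have := hcentW.1 hj; rwa [SubgroupClass.coe_pow] at this
      obtain ⟨a, b, hb, hn⟩ := Nat.exists_eq_pow_mul_and_not_dvd (orderOf_pos (x : G)).ne' s hs.ne_one
      have hbR : (x : G) ^ b ∈ R := hg _ (pow_mem (mem_sup_left (show (x : G) ∈ L' from ⟨x, hx, rfl⟩)) b)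
        ⟨a, by rw [← pow_mul, mul_comm, ← hn, pow_orderOf_eq_one]⟩
      refine mem_of_two_powers ((hs.coprime_iff_not_dvd.2 hb).pow_left j) hj' ?_
      exact mem_centralizer_iff.2 fun w hw => (hw.2.2 _ hbR).eq)
  set L0 := K ⊓ centralizer (W : Set G) with hL0
  have hL0n : ∀ g ∈ N, ∀ x ∈ L0, g * x * g⁻¹ ∈ L0 := fun g hg x hx => ⟨hKn g hg x hx.1, by
    refine mem_centralizer_iff.2 fun w hw => ?_
    have hw' := hNW g⁻¹ (N.inv_mem hg) w hw
    rw [inv_inv] at hw'
    have := (Commute.conj_iff g).2 (mem_centralizer_iff.1 hx.2 _ hw' : Commute (g⁻¹ * w * g) x)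
    rw [show g * (g⁻¹ * w * g) * g⁻¹ = w by group] at this
    exact this.eq⟩
  have hg0 := hgrow L0 inf_le_left hL0n (fun x hx => ⟨0, by rw [pow_zero, pow_one]; exact hx.2⟩)
  -- `R` is a Sylow subgroup
  obtain ⟨S, hS⟩ := hR.exists_le_sylow
  suffices hRS : R = (S : Subgroup G) by exact ⟨S, ω', hRS ▸ hOn, hRS ▸ hbase⟩
  by_contra hne
  have hlt := PLocal.normalizer_inf_of_lt S.2 (lt_of_le_of_ne hS hne)
  refine hlt.ne (le_antisymm hlt.le ?_)
  intro g hg
  obtain ⟨hgN, hgS⟩ : g ∈ N ∧ g ∈ (S : Subgroup G) := hg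
  obtain ⟨j0, hj0⟩ : ∃ j, g ^ s ^ j = 1 := by
    obtain ⟨k, hk⟩ := S.2 ⟨g, hgS⟩; exact ⟨k, congrArg Subtype.val hk⟩
  obtain ⟨e, he, hec⟩ := exists_fixed_mul hKodd ht (hKcov g hgN)
  have heN : e ∈ N := he.2
  obtain ⟨e', he', he'c⟩ := exists_fixed_mul (E := L0) (hKodd.of_dvd_nat (card_dvd_of_le inf_le_left)) ht
    (show t * e * t⁻¹ * e⁻¹ ∈ L0 from ⟨hKcov e heN, by
      have := hrot ⟨e, heN⟩ (mem_subgroupOf.2 he)
      exact hcentW.1 this⟩)
  set c := (e' * e)⁻¹ * (e * g) with hc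
  have hcN : c ∈ N := N.mul_mem (N.inv_mem (N.mul_mem he'.1.2 heN)) (N.mul_mem heN hgN)
  have hct : Commute c t := he'c.inv_left.mul_left hec
  have hgc : g = e⁻¹ * e' * e * c := by rw [hc]; group
  have hlL : e⁻¹ * e' * e ∈ L0 := by
    have := hL0n e⁻¹ (N.inv_mem heN) e' he'
    rwa [inv_inv] at this
  have hRnL : R ≤ normalizer (L0 : Set G) := fun r hr =>
    Coprime.mem_normalizer_of_forall (hL0n r (le_normalizer hr))
  set M0 := L0 ⊔ R with hM0
  have hM0n : (M0.subgroupOf N).Normal := ⟨fun x hx v => by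
    obtain ⟨a, ha, b, hb, hab⟩ := (Coprime.mem_sup_iff hRnL).1 (mem_subgroupOf.1 hx)
    refine mem_subgroupOf.2 ?_
    show (v : G) * x * (v : G)⁻¹ ∈ M0
    rw [← hab, show (v : G) * (a * b) * (v : G)⁻¹ = (v : G) * a * (v : G)⁻¹ * ((v : G) * b * (v : G)⁻¹) by group]
    exact mul_mem_sup (hL0n v v.2 a ha) ((mem_normalizer_iff.1 v.2 b).1 hb)⟩
  have hq : (QuotientGroup.mk (⟨c, hcN⟩ : N) : N ⧸ M0.subgroupOf N) = QuotientGroup.mk ⟨g, hgN⟩ := by
    have e1 : (⟨g, hgN⟩ : N) = ⟨e⁻¹ * e' * e, N.mul_mem (N.mul_mem (N.inv_mem heN) he'.1.2) heN⟩ * ⟨c, hcN⟩ :=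
      Subtype.ext hgc
    rw [e1, QuotientGroup.mk_mul,
      (QuotientGroup.eq_one_iff (N := M0.subgroupOf N)
        (⟨e⁻¹ * e' * e, N.mul_mem (N.mul_mem (N.inv_mem heN) he'.1.2) heN⟩ : N)).2
        (mem_subgroupOf.2 (mem_sup_left hlL)), one_mul]
  have hcM : c ∈ M0 := by
    refine mem_of_two_powers (a := s ^ j0) (x := c) ?_ ?_ (b := orderOf c / s ^ (orderOf c).factorization s) ?_
    · exact Nat.Coprime.pow_left j0 (hs.coprime_iff_not_dvd.2
        (Nat.not_dvd_ordCompl hs (orderOf_pos c).ne'))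
    · have h1 : (QuotientGroup.mk (⟨c, hcN⟩ : N) : N ⧸ M0.subgroupOf N) ^ s ^ j0 = 1 := by
        rw [hq, ← QuotientGroup.mk_pow, show (⟨g, hgN⟩ : N) ^ s ^ j0 = 1 from Subtype.ext hj0]; rfl
      rw [← QuotientGroup.mk_pow] at h1
      exact mem_subgroupOf.1 ((QuotientGroup.eq_one_iff _).1 h1)
    · set b := orderOf c / s ^ (orderOf c).factorization s
      have hbp : (c ^ b) ^ s ^ (orderOf c).factorization s = 1 := by
        rw [← pow_mul, mul_comm, Nat.ordProj_mul_ordCompl_eq_self, pow_orderOf_eq_one]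
      have hxp : IsPGroup s (zpowers (c ^ b)) := by
        obtain ⟨i, -, hi⟩ := (Nat.dvd_prime_pow hs).1 (orderOf_dvd_of_pow_eq_one hbp)
        exact IsPGroup.of_card (n := i) (by rw [Nat.card_zpowers, hi])
      have hsup : IsPGroup s (R ⊔ zpowers (c ^ b) : Subgroup G) :=
        hR.to_sup_of_normal_left' hxp (zpowers_le.2 (N.pow_mem hcN b))
      exact mem_sup_right (zpowers_le.2 hfR (h.fixed hsup (mem_sup_left hfR) (mem_sup_right (mem_zpowers _))
        (hct.pow_left b)))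
  refine hg0 g ?_ ⟨j0, hj0⟩
  rw [hgc]
  exact M0.mul_mem (mem_sup_left hlL) hcM

/-- **The transfer.** -/
theorem false_of_simple [IsSimpleGroup G] (hna : ¬ IsMulCommutative G) (h : Setting s t f y P ω ρ) : False := by
  have ht := h.sq
  obtain ⟨R, ω', hOn, hbase⟩ := h.exists_sylow
  obtain ⟨x0, hx0, hx01⟩ := h.exists_P_inverted
  obtain ⟨z, hzR, hzo, hzi, hzc⟩ := hOn.exists_central_inverted ht h.y_cube h.ty_comm h.f_cent h.y_f.symm
    (hbase (mem_sup_right hx0)) hx01 (h.P_inv x0 hx0)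
  have hz1 : z ≠ 1 := fun e => by rw [e, orderOf_one] at hzo; exact (Fact.out : s.Prime).one_lt.ne hzo
  set W := Cfsg.centerThompsonAOf (R : Subgroup G)
  have hWR : W ≤ R := GWKlein.centerThompsonAOf_le _
  have hzW : z ∈ W := PLocal.central_le_centerThompsonAOf
    ⟨hzR, mem_centralizer_iff.2 fun g hg => (hzc g hg).eq.symm⟩
  set N := normalizer (W : Set G)
  have hRN : normalizer ((R : Subgroup G) : Set G) ≤ N := GWKlein.normalizer_le_normalizer_zj _
  obtain ⟨O, hON, hOodd, hOn', hcov⟩ := h.exists_core (R.2.to_le hWR)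
    (fun a ha b hb => mem_centralizer_iff.1 hb.2 a ha.1) (hRN hOn.t_norm) hzW hz1 hzi
  have hperf : commutator G = ⊤ :=
    (IsSimpleGroup.eq_bot_or_eq_top_of_normal (commutator G) inferInstance).resolve_left fun e =>
      hna ⟨⟨fun a b => commutatorElement_eq_one_iff_mul_comm.1 (by
        have h1 := commutator_mem_commutator (mem_top a) (mem_top b)
        rwa [← _root_.commutator_def, e, mem_bot] at h1)⟩⟩
  have hfN : f ∈ ⁅N, N⁆ := by
    have hfc := Transfer.commutator_inf_eq_of_control R N (le_normalizer.trans hRN) fun x hx g hg => by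
      obtain ⟨m, hm, he⟩ := Cent.zj_realized h.ne_two h.sylow_two R (zpowers x) (zpowers_le.2 hx) g (by
        rw [MonoidHom.map_zpowers]; exact zpowers_le.2 hg)
      exact ⟨m, hm, he x (mem_zpowers x)⟩
    have hmem : f ∈ commutator G ⊓ (R : Subgroup G) := ⟨hperf ▸ mem_top f, hOn.f_mem⟩
    rw [hfc] at hmem
    exact hmem.1
  have hR' : (R : Subgroup G) ≤ N := le_normalizer.trans hRN
  have htN : t ∈ N := hRN hOn.t_norm
  have hyN : y ∈ N := hRN hOn.y_norm
  have hfN' : f ∈ N := hR' hOn.f_mem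
  have hfsub : (⟨f, hfN'⟩ : N) ∈ commutator N := by
    have h1 : f ∈ (commutator N).map N.subtype := by rw [map_subtype_commutator]; exact hfN
    obtain ⟨v, hv, hve⟩ := h1
    rwa [show (⟨f, hfN'⟩ : N) = v from Subtype.ext hve.symm]
  let ι : centralizer ({(⟨t, htN⟩ : N)} : Set N) →* centralizer ({t} : Set G) :=
    (N.subtype.comp (centralizer ({(⟨t, htN⟩ : N)} : Set N)).subtype).codRestrict _ fun c =>
      mem_centralizer_singleton_iff.2 (congrArg Subtype.val (mem_centralizer_singleton_iff.1 c.2))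
  haveI hOnN : (O.subgroupOf N).Normal := ⟨fun x hx g => mem_subgroupOf.2 (hOn' g g.2 x (mem_subgroupOf.1 hx))⟩
  set R' := (R : Subgroup G).subgroupOf N with hR'def
  have hnorm : ∀ {g : G} (hg : g ∈ N), g ∈ normalizer ((R : Subgroup G) : Set G) →
      (⟨g, hg⟩ : N) ∈ normalizer (R' : Set N) := fun {g} hg hgR =>
    Coprime.mem_normalizer_of_forall fun x hx =>
      mem_subgroupOf.2 ((mem_normalizer_iff.1 hgR (x : G)).1 (mem_subgroupOf.1 hx))
  refine not_mem_commutator (s := s) (ω := ω') _ (N := N) (t := ⟨t, htN⟩) (y := ⟨y, hyN⟩) (f := ⟨f, hfN'⟩)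
    (O := O.subgroupOf N) (R := R') (ρ.comp ι) rfl (Subtype.ext ht) (Subtype.ext h.y_cube)
    (Subtype.ext h.ty_comm.eq) (Subtype.ext h.f_cent.eq) (Subtype.ext h.y_f.eq.symm)
    (fun e => h.f_ne (congrArg Subtype.val e)) hOnN ?_ (fun g => mem_subgroupOf.2 (hcov g g.2)) ?_ ?_ ?_ hfsub
  · rw [← card_map_of_injective (K := O.subgroupOf N) (f := N.subtype) N.subtype_injective, subgroupOf_map_subtype,
      inf_eq_left.2 hON]
    exact hOodd
  · exact {
      pgroup := R.2.of_equiv (subgroupOfEquivOfLe hR').symm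
      ne_two := h.ne_two
      ne_three := h.ne_three
      t_norm := hnorm htN hOn.t_norm
      y_norm := hnorm hyN hOn.y_norm
      f_mem := mem_subgroupOf.2 hOn.f_mem
      fixed := fun x hx hxt => by
        obtain ⟨k, hk⟩ := mem_zpowers_iff.1 (hOn.fixed x (mem_subgroupOf.1 hx) (congrArg Subtype.val hxt))
        exact mem_zpowers_iff.2 ⟨k, Subtype.ext (by rw [SubgroupClass.coe_zpow]; exact hk)⟩
      pow_cube := fun x hx => Subtype.ext (by
        rw [SubgroupClass.coe_pow]; exact hOn.pow_cube x (mem_subgroupOf.1 hx))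
      root := hOn.root
      scalar := fun x hx hxi => Subtype.ext (by
        rw [SubgroupClass.coe_pow]
        exact hOn.scalar x (mem_subgroupOf.1 hx) (congrArg Subtype.val hxi)) }
  · intro hd
    exact R.not_dvd_index (hd.trans (relIndex_dvd_index_of_le hR'))
  · intro x hx hxC h1
    obtain ⟨k, rfl⟩ := mem_zpowers_iff.1 hx
    refine Subtype.ext ?_
    rw [SubgroupClass.coe_zpow]
    exact h.rho_inj _ (zpow_mem (mem_zpowers f) k)
      (mem_centralizer_singleton_iff.2 (h.f_cent.zpow_left k).eq)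
      ((congrArg ρ (show (⟨f ^ k, _⟩ : centralizer ({t} : Set G)) = ι ⟨_, hxC⟩ from
        Subtype.ext (SubgroupClass.coe_zpow (⟨f, hfN'⟩ : N) k).symm)).trans h1)

end Setting

end Cfsg.Agent.AbelianSylow.Scalar
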