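import Cfsg.Agent.Lib.AbelianSylow.Cent.FieldFact
import Cfsg.Agent.Lib.AbelianSylow.Cent.FieldAut
import Cfsg.Agent.Lib.AbelianSylow.Cent.FieldScalar

/-!
# No field automorphism, case (B): the hypotheses of the transfer argument hold (owner: helper4)

* `conj_pow_comm`           : powers of two elements with central commutator
* `CompData.sup_eq`         : `C(f) = Kc D`
* `FieldFrame.exists_setting` : `Scalar.Setting` from the component and the FACT
* `FieldFrame.false_caseB`  : case (B) is impossible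
-/

set_option autoImplicit false
set_option linter.unusedSectionVars false
set_option linter.style.haveILetI false

namespace Cfsg.Agent.AbelianSylow.Field

open Subgroup

universe u

variable {G : Type u} [Group G]

/-- `a b = κ b a` with central `κ`: the same for powers. -/
theorem mul_pow_of_central {a b κ : G} (h : a * b = κ * (b * a)) (ha : Commute a κ) (hb : Commute b κ)
    (i j : ℕ) : a ^ i * b ^ j = κ ^ (i * j) * (b ^ j * a ^ i) := by
  have h1 : ∀ j : ℕ, a * b ^ j = κ ^ j * (b ^ j * a) := by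
    intro j
    induction j with
    | zero => simp
    | succ j ih =>
      calc a * b ^ (j + 1) = a * b ^ j * b := by rw [pow_succ, mul_assoc]
        _ = κ ^ j * b ^ j * (a * b) := by rw [ih]; group
        _ = κ ^ j * (b ^ j * κ) * (b * a) := by rw [h]; group
        _ = κ ^ (j + 1) * (b ^ (j + 1) * a) := by rw [(hb.pow_left j).eq, pow_succ, pow_succ]; group
  induction i with
  | zero => simp
  | succ i ih =>
    calc a ^ (i + 1) * b ^ j = a * (a ^ i * b ^ j) := by rw [pow_succ', mul_assoc]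
      _ = (a * κ ^ (i * j)) * (b ^ j * a ^ i) := by rw [ih]; group
      _ = κ ^ (i * j) * (a * b ^ j) * a ^ i := by rw [(ha.pow_right _).eq]; group
      _ = κ ^ ((i + 1) * j) * (b ^ j * a ^ (i + 1)) := by
        rw [h1, Nat.succ_mul, pow_add, pow_succ' a i]; group

variable [Finite G] {t : G} {F : Type} [Field F] [Fintype F] {E L : Subgroup G}
  {A : Sylow 2 G} {V D : Subgroup G} {f : G} {F₀ : Type} [Field F₀] [Fintype F₀] {Kc : Subgroup G}

/-- `C(f) = Kc D`. -/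
theorem CompData.sup_eq (cd : CompData G t f F₀ L Kc) (fr : FieldFrame G t F E L A V D) (hf : f ∈ D) :
    Kc ⊔ D = centralizer ({f} : Set G) := by
  refine le_antisymm (sup_le cd.le fun d hd => mem_centralizer_singleton_iff.2 (fr.comm_D hd hf).eq) ?_
  intro x hx
  have hxf : Commute x f := mem_centralizer_singleton_iff.1 hx
  have hu : orderOf (x * t * x⁻¹) = 2 := by
    rw [show x * t * x⁻¹ = MulAut.conj x t from rfl, MulEquiv.orderOf_eq]; exact fr.frame.ht
  have htf : Commute t f := (fr.frame.comm f (fr.D_le hf)).symm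
  obtain ⟨k, hk, hkt⟩ := cd.invol_mem _ hu ((hxf.mul_left htf).mul_left hxf.inv_left)
  have hc : k⁻¹ * x ∈ centralizer ({t} : Set G) ⊓ centralizer ({f} : Set G) := by
    refine mem_inf.2 ⟨mem_centralizer_singleton_iff.2 ?_, mul_mem (inv_mem (cd.le hk)) hx⟩
    calc k⁻¹ * x * t = k⁻¹ * (x * t * x⁻¹) * x := by group
      _ = t * (k⁻¹ * x) := by rw [← hkt]; group
  rw [fr.cent_inf hf] at hc
  have hle : zpowers t ⊔ (L ⊓ centralizer ({f} : Set G)) ≤ Kc := fun z hz =>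
    (mem_inf.1 (cd.cent.symm.le (mem_sup_left hz))).1
  have hc' : k⁻¹ * x ∈ Kc ⊔ D := (sup_le_sup_right hle D : _ ≤ Kc ⊔ D) hc
  simpa using mul_mem (mem_sup_left hk : k ∈ Kc ⊔ D) hc'

/-- **The hypotheses of the transfer argument.** -/
theorem FieldFrame.exists_setting (fr : FieldFrame G t F E L A V D) (hf : f ∈ D) (hf1 : f ≠ 1)
    (cd : CompData G t f F₀ L Kc) {n : ℕ} (hn : 1 ≤ n) (hF₀ : Fintype.card F₀ = 3 ^ (2 * n + 1)) {s : ℕ}
    (hs : s.Prime) (hsd : (s : ℤ) ∣ ((3 : ℤ) ^ (2 * n + 1)) ^ 2 - (3 : ℤ) ^ (2 * n + 1) + 1)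
    (hfp : IsPGroup s (zpowers f)) (hDs : ¬ s ∣ (zpowers f).relIndex D)
    (hmax : ¬ s ∣ (zpowers f).relIndex (centralizer ({t} : Set G))) (h3 : ¬ 3 ∣ Nat.card D) :
    ∃ (A' : Type u) (_ : CommGroup A') (y : G) (P : Subgroup G) (ω : ℕ)
      (ρ : ↥(centralizer ({t} : Set G)) →* A'), Scalar.Setting s t f y P ω ρ := by
  classical
  haveI := Fact.mk hs
  obtain ⟨hs5, -⟩ := prime_facts_torus (by omega) hs hsd
  obtain ⟨Q, _, _, π, hπ, hker, hJ⟩ := cd.quot
  obtain ⟨yb, Pb, ω, FD⟩ := exists_factData hJ hn hF₀ hs hsd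
  have htf : Commute t f := (fr.frame.comm f (fr.D_le hf)).symm
  have hfodd : Odd (Nat.card (zpowers f)) := fr.D_odd.of_dvd_nat (card_dvd_of_le (zpowers_le.2 hf))
  have hfc : ∀ x ∈ Kc, ∀ u ∈ zpowers f, Commute x u := fun x hx u hu => by
    obtain ⟨i, rfl⟩ := mem_zpowers_iff.1 hu
    exact (show Commute x f from mem_centralizer_singleton_iff.1 (cd.le hx)).zpow_right i
  have hk1 : ∀ x : Kc, π x = 1 ↔ (x : G) ∈ zpowers f := fun x => by
    rw [← MonoidHom.mem_ker, hker, mem_subgroupOf]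
  have hkd : ∀ x y : Kc, π x = π y → ∃ u ∈ zpowers f, (x : G) = (y : G) * u := fun x y he =>
    ⟨(y : G)⁻¹ * x, (hk1 (y⁻¹ * x)).1 (by rw [map_mul, map_inv, he, inv_mul_cancel]), by group⟩
  set tK : Kc := ⟨t, cd.t_mem⟩ with htK
  have htt : t * t = 1 := fr.frame.mul_self_t
  -- the element of order three
  obtain ⟨y₀, hy₀⟩ := hπ yb
  obtain ⟨k, hk⟩ := IsPGroup.iff_card.1 hfp
  have hy₀c : (y₀ : G) ^ 3 ∈ zpowers f :=
    (hk1 (y₀ ^ 3)).1 (by rw [map_pow, hy₀, FD.y_cube])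
  have hy₀t : Commute (y₀ : G) t := by
    obtain ⟨u, hu, he⟩ := hkd (tK * y₀ * tK⁻¹) y₀ (by
      rw [map_mul, map_mul, map_inv, hy₀, ← FD.y_cent.eq, mul_inv_cancel_right])
    have hut : Commute u t := by
      obtain ⟨i, rfl⟩ := mem_zpowers_iff.1 hu
      exact (htf.zpow_right i).symm
    have he' : t * (y₀ : G) * t⁻¹ = (y₀ : G) * u := he
    have hti : t⁻¹ = t := inv_eq_of_mul_eq_one_right htt
    have h2 : (y₀ : G) * u * u = y₀ := by
      calc (y₀ : G) * u * u = t * (y₀ : G) * t⁻¹ * (t * u * t⁻¹) := by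
            rw [he', hut.symm.eq, mul_inv_cancel_right]
        _ = t * ((y₀ : G) * u) * t⁻¹ := by group
        _ = (t * t) * (y₀ : G) * (t⁻¹ * t⁻¹) := by rw [← he']; group
        _ = y₀ := by rw [hti, htt, one_mul, mul_one]
    rw [mul_assoc, mul_eq_left] at h2
    have hu1 : u = 1 := eq_one_of_inv_eq hfodd hu (eq_inv_of_mul_eq_one_left h2)
    rw [hu1, mul_one] at he'
    exact (mul_inv_eq_iff_eq_mul.1 he').symm
  have hcop3 : Nat.Coprime 3 (s ^ k) :=
    ((Nat.coprime_primes Nat.prime_three hs).2 (by omega)).pow_right k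
  obtain ⟨e, he3, hek⟩ : ∃ e : ℕ, e % 3 = 1 ∧ s ^ k ∣ e := by
    obtain ⟨e, h1, h2⟩ := Nat.chineseRemainder hcop3 1 0
    exact ⟨e, by simpa [Nat.ModEq] using h1, (Nat.modEq_zero_iff_dvd).1 h2⟩
  set y : G := (y₀ : G) ^ e with hy
  have hyK : y ∈ Kc := pow_mem y₀.2 e
  have hπy : π ⟨y, hyK⟩ = yb := by
    rw [show (⟨y, hyK⟩ : Kc) = y₀ ^ e from rfl, map_pow, hy₀, pow_eq_pow_mod e FD.y_cube, he3, pow_one]
  have hy3 : y ^ 3 = 1 := by
    rw [hy, ← pow_mul, mul_comm, pow_mul, ← orderOf_dvd_iff_pow_eq_one]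
    exact ((Subgroup.orderOf_dvd_natCard _ hy₀c).trans (dvd_of_eq hk)).trans hek
  have hyt : Commute y t := hy₀t.pow_left e
  have hyf : Commute y f := hfc y hyK f (mem_zpowers f)
  -- the preimage of the Sylow subgroup
  set R₀ := Pb.comap π with hR₀
  set R := R₀.map Kc.subtype with hR
  have hRmem : ∀ x : G, x ∈ R ↔ ∃ h : x ∈ Kc, π ⟨x, h⟩ ∈ Pb := fun x => by
    constructor
    · rintro ⟨z, hz, rfl⟩; exact ⟨z.2, hz⟩
    · rintro ⟨h, hx⟩; exact ⟨⟨x, h⟩, hx, rfl⟩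
  have hRp : IsPGroup s R := (FD.pgroup.comap_of_ker_isPGroup π (hker ▸
    hfp.of_equiv (subgroupOfEquivOfLe (zpowers_le.2 cd.f_mem)).symm)).map _
  have hRodd : Odd (Nat.card R) := by
    obtain ⟨j, hj⟩ := IsPGroup.iff_card.1 hRp
    rw [hj]
    exact (hs.odd_of_ne_two (by omega)).pow
  have hRK : R ≤ Kc := map_subtype_le _
  have hfR : zpowers f ≤ R := fun u hu => (hRmem u).2
    ⟨(zpowers_le.2 cd.f_mem) hu, by rw [(hk1 _).2 hu]; exact one_mem _⟩
  -- conjugation by `y` and by `t`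
  have hyR : ∀ x ∈ R, ∃ u ∈ zpowers f, y * x * y⁻¹ = x ^ ω * u := fun x hx => by
    obtain ⟨hxK, hxP⟩ := (hRmem x).1 hx
    exact hkd (⟨y, hyK⟩ * ⟨x, hxK⟩ * ⟨y, hyK⟩⁻¹) (⟨x, hxK⟩ ^ ω)
      (by rw [map_mul, map_mul, map_inv, map_pow, hπy, FD.omega _ hxP])
  have htR : ∀ x ∈ R, ∃ u ∈ zpowers f, t * x * t⁻¹ = x⁻¹ * u := fun x hx => by
    obtain ⟨hxK, hxP⟩ := (hRmem x).1 hx
    exact hkd (tK * ⟨x, hxK⟩ * tK⁻¹) (⟨x, hxK⟩⁻¹)
      (by rw [map_mul, map_mul, map_inv, map_inv, FD.inv _ hxP])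
  -- `R` is abelian
  have hω : ¬ (s : ℤ) ∣ (ω : ℤ) * ω - 1 := fun h => by
    have h1 := (ZMod.intCast_zmod_eq_zero_iff_dvd _ s).2 h
    push_cast at h1
    have hω2 : (ω : ZMod s) = -2 := by linear_combination FD.omega_root - h1
    rw [hω2] at h1
    have h3' : ((3 : ℕ) : ZMod s) = 0 := by push_cast; linear_combination h1
    have := (Nat.prime_dvd_prime_iff_eq hs Nat.prime_three).1 ((ZMod.natCast_eq_zero_iff 3 s).1 h3')
    omega
  have hRcomm : ∀ a ∈ R, ∀ b ∈ R, a * b = b * a := by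
    intro a ha b hb
    obtain ⟨haK, haP⟩ := (hRmem a).1 ha
    obtain ⟨hbK, hbP⟩ := (hRmem b).1 hb
    obtain ⟨κ, hκ, hab⟩ := hkd (⟨a, haK⟩ * ⟨b, hbK⟩) (⟨b, hbK⟩ * ⟨a, haK⟩) (by
      rw [map_mul, map_mul, FD.comm _ haP _ hbP])
    have hab' : a * b = b * a * κ := hab
    have hκa := hfc a haK κ hκ
    have hκb := hfc b hbK κ hκ
    have hab'' : a * b = κ * (b * a) := by rw [hab', ((hκb.mul_left hκa)).eq]
    obtain ⟨u, hu, hua⟩ := hyR a ha
    obtain ⟨v, hv, hvb⟩ := hyR b hb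
    have hκy : y * κ * y⁻¹ = κ := by rw [(hfc y hyK κ hκ).eq, mul_inv_cancel_right]
    have h1 : a ^ ω * b ^ ω * (u * v) = κ * (b ^ ω * a ^ ω * (u * v)) := by
      calc a ^ ω * b ^ ω * (u * v) = a ^ ω * u * (b ^ ω * v) := by
            rw [(hfc (b ^ ω) (pow_mem hbK _) u hu).symm.mul_mul_mul_comm]
        _ = y * (a * b) * y⁻¹ := by rw [← hua, ← hvb]; group
        _ = y * κ * y⁻¹ * (y * b * y⁻¹ * (y * a * y⁻¹)) := by rw [hab'']; group
        _ = κ * (b ^ ω * v * (a ^ ω * u)) := by rw [hκy, hua, hvb]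
        _ = κ * (b ^ ω * a ^ ω * (u * v)) := by
          rw [(hfc (a ^ ω) (pow_mem haK _) v hv).symm.mul_mul_mul_comm,
            ((hfc _ (zpowers_le.2 cd.f_mem hu) v hv)).eq]
    rw [mul_pow_of_central hab'' hκa hκb, ← mul_assoc κ] at h1
    have h2 : κ ^ (ω * ω) = κ := mul_right_cancel (b := b ^ ω * a ^ ω) (mul_right_cancel h1)
    have h3' : κ ^ ((ω : ℤ) * ω - 1) = 1 := by
      rw [zpow_sub, zpow_one, ← Nat.cast_mul, zpow_natCast, h2, mul_inv_cancel]
    have hκ1 : κ = 1 := by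
      by_contra hne
      obtain ⟨i, hi⟩ := hfp ⟨κ, hκ⟩
      refine hω ((Int.natCast_dvd_natCast.2 (dvd_orderOf_of_pow hs (k := i) ?_ hne)).trans
        (orderOf_dvd_iff_zpow_eq_one.2 h3'))
      simpa using congrArg Subtype.val hi
    rw [hab', hκ1, mul_one]
  -- the inverted part
  let P : Subgroup G :=
    { carrier := {x | x ∈ R ∧ t * x * t⁻¹ = x⁻¹}
      one_mem' := ⟨R.one_mem, by simp⟩
      mul_mem' := fun {a b} ha hb => ⟨R.mul_mem ha.1 hb.1, by
        rw [← conj_mul, ha.2, hb.2, ← mul_inv_rev, hRcomm b hb.1 a ha.1]⟩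
      inv_mem' := fun {a} ha => ⟨R.inv_mem ha.1, by
        rw [show t * a⁻¹ * t⁻¹ = (t * a * t⁻¹)⁻¹ by group, ha.2]⟩ }
  have hPR : P ≤ R := fun x hx => hx.1
  have hPfix : ∀ x ∈ P, x ∈ zpowers f → x = 1 := fun x hx hxf => by
    refine eq_one_of_inv_eq hfodd hxf ?_
    obtain ⟨i, rfl⟩ := mem_zpowers_iff.1 hxf
    have h := hx.2
    rwa [(htf.zpow_right i).eq, mul_inv_cancel_right] at h
  have hsup : zpowers f ⊔ P = R := by
    refine le_antisymm (sup_le hfR hPR) fun x hx => ?_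
    obtain ⟨u, hu, htx⟩ := htR x hx
    have hxu : x * (t * x * t⁻¹) = u := by rw [htx, ← mul_assoc, mul_inv_cancel, one_mul]
    have htxR : t * x * t⁻¹ ∈ R := htx ▸ R.mul_mem (R.inv_mem hx) (hfR hu)
    have hw : (t * x * t⁻¹)⁻¹ * x ∈ P := by
      refine ⟨R.mul_mem (R.inv_mem htxR) hx, ?_⟩
      calc t * ((t * x * t⁻¹)⁻¹ * x) * t⁻¹ = t * t * x⁻¹ * (t * t)⁻¹ * (t * x * t⁻¹) := by group
        _ = ((t * x * t⁻¹)⁻¹ * x)⁻¹ := by rw [htt]; group
    have hsq : x ^ 2 ∈ zpowers f ⊔ P := by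
      have : x ^ 2 = u * ((t * x * t⁻¹)⁻¹ * x) := by rw [← hxu, pow_two]; group
      rw [this]
      exact mul_mem (mem_sup_left hu) (mem_sup_right hw)
    obtain ⟨i, hi⟩ := hRodd.of_dvd_nat (Subgroup.orderOf_dvd_natCard R hx)
    have : x = (x ^ 2) ^ (i + 1) := by
      rw [← pow_mul, show 2 * (i + 1) = orderOf x + 1 by omega, pow_succ, pow_orderOf_eq_one, one_mul]
    rw [this]
    exact pow_mem hsq _
  have homega : ∀ x ∈ P, y * x * y⁻¹ = x ^ ω := fun x hx => by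
    obtain ⟨u, hu, hua⟩ := hyR x hx.1
    have h1 : y * x * y⁻¹ ∈ P := by
      refine ⟨hua ▸ R.mul_mem (R.pow_mem hx.1 _) (hfR hu), ?_⟩
      calc t * (y * x * y⁻¹) * t⁻¹ = (t * y) * x * (t * y)⁻¹ := by group
        _ = y * (t * x * t⁻¹) * y⁻¹ := by rw [hyt.symm.eq]; group
        _ = _ := by rw [hx.2]; group
    have h2 : u ∈ P := by
      rw [show u = (x ^ ω)⁻¹ * (y * x * y⁻¹) by rw [hua]; group]
      exact P.mul_mem (P.inv_mem (P.pow_mem hx _)) h1
    rw [hua, hPfix u h2 hu, mul_one]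
  have hXn : (Kc.subgroupOf (centralizer ({f} : Set G))).Normal := normal_subgroupOf_of_le_normalizer cd.norm
  have hidxD : Kc.relIndex (centralizer ({f} : Set G)) ∣ (zpowers f).relIndex D := by
    rw [← cd.sup_eq fr hf, relIndex_sup_norm' (le_sup_right.trans ((cd.sup_eq fr hf).le.trans cd.norm))]
    exact relIndex_dvd_of_le_left D (zpowers_le.2 cd.f_mem)
  have hPmax : ¬ s ∣ (zpowers f ⊔ P).relIndex (centralizer ({f} : Set G)) := by
    rw [hsup, ← relIndex_mul_relIndex R Kc _ hRK cd.le]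
    have hR0 : R.relIndex Kc = Pb.index := by
      rw [relIndex, hR, subgroupOf, comap_map_eq_self_of_injective Kc.subtype_injective, hR₀,
        index_comap_of_surjective Pb hπ]
    rw [hR0]
    exact fun h => (hs.dvd_mul.1 h).elim FD.index fun h' => hDs (h'.trans hidxD)
  -- elements of order three
  have hthree : ∀ c : G, Commute c t → Commute c f → c ^ 3 = 1 → ∀ z ∈ P, z ≠ 1 → c * z * c⁻¹ ∈ P →
      c ∈ zpowers y := by
    intro c hct hcf hc3 z hz hz1 hcz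
    have hcX : c ∈ centralizer ({f} : Set G) := mem_centralizer_singleton_iff.2 hcf.eq
    have hcidx : c ^ Kc.relIndex (centralizer ({f} : Set G)) ∈ Kc := by
      have h := pow_index_mem (Kc.subgroupOf (centralizer ({f} : Set G))) (⟨c, hcX⟩ : centralizer ({f} : Set G))
      simpa [mem_subgroupOf, relIndex] using h
    have hcK : c ∈ Kc := Scalar.mem_of_two_powers
      ((Nat.Prime.coprime_iff_not_dvd Nat.prime_three).2 fun h =>
        h3 (h.trans (hidxD.trans ((zpowers f).subgroupOf D).index_dvd_card)))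
      (by rw [hc3]; exact one_mem _) hcidx
    have hzK : z ∈ Kc := hRK hz.1
    have hzP : π ⟨z, hzK⟩ ∈ Pb := ((hRmem z).1 hz.1).2
    have hz1' : π ⟨z, hzK⟩ ≠ 1 := fun h => hz1 (hPfix z hz ((hk1 _).1 h))
    have hczP : π ⟨c, hcK⟩ * π ⟨z, hzK⟩ * (π ⟨c, hcK⟩)⁻¹ ∈ Pb := by
      rw [← map_inv, ← map_mul, ← map_mul]
      exact ((hRmem _).1 hcz.1).2
    have hctQ : Commute (π ⟨c, hcK⟩) (π tK) := by
      have h : Commute (⟨c, hcK⟩ : Kc) tK := Subtype.ext hct.eq
      exact h.map π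
    obtain ⟨j, hj⟩ := FD.cent_norm _ hctQ (FD.ti _ _ hzP hz1' hczP)
    have hc3' : (π ⟨c, hcK⟩) ^ 3 = 1 := by
      rw [← map_pow, show (⟨c, hcK⟩ : Kc) ^ 3 = 1 from Subtype.ext hc3, map_one]
    rcases hj with hj | hj
    · obtain ⟨u, hu, he⟩ := hkd ⟨c, hcK⟩ (⟨y, hyK⟩ ^ j) (by rw [map_pow, hπy, hj])
      have he' : c = y ^ j * u := he
      have hu3 : u ^ 3 = 1 := by
        rw [he', (hfc (y ^ j) (pow_mem hyK j) u hu).mul_pow, ← pow_mul, mul_comm j, pow_mul, hy3, one_pow,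
          one_mul] at hc3
        exact hc3
      have hu1 : u = 1 := orderOf_eq_one_iff.1 (Nat.eq_one_of_dvd_coprimes hcop3
        (orderOf_dvd_of_pow_eq_one hu3) ((Subgroup.orderOf_dvd_natCard _ hu).trans (dvd_of_eq hk)))
      rw [he', hu1, mul_one]
      exact pow_mem (mem_zpowers y) j
    · exfalso
      have htQ : (π tK) ^ 2 = 1 := by rw [← hJ.invol]; exact pow_orderOf_eq_one _
      rw [hj, ((FD.y_cent.symm).pow_right j).mul_pow, ← pow_mul, mul_comm j, pow_mul, FD.y_cube, one_pow,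
        mul_one, show (3 : ℕ) = 2 + 1 from rfl, pow_succ, htQ, one_mul] at hc3'
      have := hJ.invol
      rw [hc3', orderOf_one] at this
      omega
  haveI := fr.D_cyclic
  letI : CommGroup D := IsCyclic.commGroup
  obtain ⟨ρ, hρ⟩ := fr.exists_rho
  refine ⟨↥D, inferInstance, y, P, ω, ρ,
    { five := hs5
      sylow_two := fr.shape.elem.abelian
      one_class := fun i hi => _root_.isConj_iff.2 (fr.shape.elem.one_class fr.frame.ht hi)
      invol := fr.frame.ht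
      f_cent := htf.symm
      f_ne := hf1
      f_pgroup := hfp
      f_max := hmax
      rho_inj := fun x hx h he => by
        have hxD : x ∈ D := zpowers_le.2 hf hx
        rw [hρ ⟨x, h⟩ 1 x (one_mem L) hxD (Or.inl (one_mul _).symm)] at he
        exact congrArg Subtype.val he
      y_cent := hyt
      y_f := hyf
      y_cube := hy3
      P_pgroup := hRp.to_le hPR
      P_ne := fun e => ?_
      P_inv := fun x hx => hx.2
      P_f := fun x hx => hfc x (hRK hx.1) f (mem_zpowers f)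
      P_max := hPmax
      omega := homega
      omega_ne := fun e => ?_
      three := hthree }⟩
  · obtain ⟨p, hp, hp1⟩ := Pb.bot_or_exists_ne_one.resolve_left FD.ne
    obtain ⟨x, rfl⟩ := hπ p
    refine hp1 ((hk1 x).2 ?_)
    have h : (x : G) ∈ R := (hRmem _).2 ⟨x.2, hp⟩
    rw [← hsup, e, sup_bot_eq] at h
    exact h
  · have h := FD.omega_root
    rw [e] at h
    have h3' : ((3 : ℕ) : ZMod s) = 0 := by push_cast; linear_combination h
    have := (Nat.prime_dvd_prime_iff_eq hs Nat.prime_three).1 ((ZMod.natCast_eq_zero_iff 3 s).1 h3')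
    omega

/-- `⟨f⟩` is a Sylow subgroup of `C(t)`. -/
theorem FieldFrame.not_dvd_relIndex (fr : FieldFrame G t F E L A V D) (hf : f ∈ D) {s : ℕ} (hs : s.Prime)
    {k n : ℕ} (hn : 1 ≤ n) (hk : orderOf f = s ^ k) (hF : Fintype.card F = (3 ^ (2 * n + 1)) ^ orderOf f)
    (hsd : (s : ℤ) ∣ ((3 : ℤ) ^ (2 * n + 1)) ^ 2 - (3 : ℤ) ^ (2 * n + 1) + 1)
    (hDs : ¬ s ∣ (zpowers f).relIndex D) : ¬ s ∣ (zpowers f).relIndex (centralizer ({t} : Set G)) := by
  classical
  haveI := Fact.mk hs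
  obtain ⟨hs5, hsq⟩ := prime_facts_torus (by omega) hs hsd
  obtain ⟨e⟩ := fr.shape.iso
  have hodd : Odd (Fintype.card F) := by rw [Nat.odd_iff]; have := fr.shape.mod8; omega
  intro hd
  have hle : D ≤ centralizer ({t} : Set G) := fun b hb =>
    mem_centralizer_singleton_iff.2 (fr.frame.comm b (fr.D_le hb)).eq
  rw [← relIndex_mul_relIndex _ D _ (zpowers_le.2 hf) hle] at hd
  have hidx : D.relIndex (centralizer ({t} : Set G)) = 2 * Nat.card L := by
    have h : Nat.card D * D.relIndex (centralizer ({t} : Set G)) = Nat.card D * (2 * Nat.card L) := by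
      have h0 := (D.subgroupOf (centralizer ({t} : Set G))).card_mul_index
      rw [Nat.card_congr (subgroupOfEquivOfLe hle).toEquiv, fr.card_cent] at h0
      rw [relIndex, h0]
      ring
    exact Nat.eq_of_mul_eq_mul_left Nat.card_pos h
  have h2L : s ∣ 2 * Nat.card L := hidx ▸ (hs.dvd_mul.1 hd).resolve_left hDs
  rw [Nat.card_congr e.toEquiv] at h2L
  have hpsl := card_psl_odd hodd
  rw [hpsl, hF, hk] at h2L
  refine hsq ((ZMod.natCast_eq_zero_iff _ s).1 ?_)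
  have h := (ZMod.natCast_eq_zero_iff _ s).2 h2L
  have h1 : 1 ≤ 3 ^ (2 * n + 1) := Nat.one_le_pow _ _ three_pos
  push_cast [Nat.one_le_pow _ _ h1, Nat.one_le_pow 2 _ h1] at h ⊢
  rw [ZMod.pow_card_pow] at h
  linear_combination h

/-- **Case (B) is impossible.** -/
theorem FieldFrame.false_caseB (fr : FieldFrame G t F E L A V D) (hf : f ∈ D) (hf1 : f ≠ 1)
    (cd : CompData G t f F₀ L Kc) {n : ℕ} (hn : 1 ≤ n) (hF₀ : Fintype.card F₀ = 3 ^ (2 * n + 1))
    (hF : Fintype.card F = Fintype.card F₀ ^ orderOf f) {s k : ℕ} (hs : s.Prime) (hk : orderOf f = s ^ k)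
    (hsd : (s : ℤ) ∣ ((3 : ℤ) ^ (2 * n + 1)) ^ 2 - (3 : ℤ) ^ (2 * n + 1) + 1)
    (hDs : ¬ s ∣ (zpowers f).relIndex D) (h3 : ¬ 3 ∣ Nat.card D) : False := by
  haveI := Fact.mk hs
  haveI := fr.shape.elem.simple
  obtain ⟨A', _, y, P, ω, ρ, hS⟩ := fr.exists_setting hf hf1 cd hn hF₀ hs hsd
    (IsPGroup.of_card (n := k) (by rw [Nat.card_zpowers, hk])) hDs
    (fr.not_dvd_relIndex hf hs hn hk (hF₀ ▸ hF) hsd hDs) h3
  exact hS.false_of_simple fr.shape.elem.nonab

end Cfsg.Agent.AbelianSylow.Field
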