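import Cfsg.Agent.Lib.AbelianSylow.Cent.MainCount
import Cfsg.Agent.Lib.AbelianSylow.Cent.FieldSetting

/-!
# Part (a): the reduction to the small fixed fields (owner: helper29)

* `CaseSmall27`, `CaseThree`, `CaseFive`, `CaseQThree` : the cases proved in their own files
* `exists_generator_part` : a generator of the `l`-part of `D`
* `centTarget_of`         : part (a), given those cases; the case `q₀ = 3^odd ≥ 27` is `FieldFrame.false_caseB`
-/

set_option autoImplicit false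
set_option linter.style.haveILetI false

namespace Cfsg.Agent.AbelianSylow.Field

open Subgroup

universe u

/-- `f` of order three, `q = 27`. -/
def CaseSmall27 : Prop :=
  ∀ (G : Type u) [Group G] [Finite G] (t : G) (F : Type) [Field F] [Fintype F] (E L : Subgroup G)
    (A : Sylow 2 G) (V D : Subgroup G) (f : G),
    FieldFrame G t F E L A V D → f ∈ D → orderOf f = 3 → Fintype.card F = 27 → False

/-- `f` of order three, `q₀ = 3^odd ≥ 27`. -/
def CaseThree : Prop :=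
  ∀ (G : Type u) [Group G] [Finite G] (t : G) (F : Type) [Field F] [Fintype F] (E L : Subgroup G)
    (A : Sylow 2 G) (V D : Subgroup G) (f : G) (F₀ : Type) [Field F₀] [Fintype F₀] (Kc : Subgroup G) (m : ℕ),
    FieldFrame G t F E L A V D → f ∈ D → orderOf f = 3 → CompData G t f F₀ L Kc → 1 ≤ m →
      Fintype.card F₀ = 3 ^ (2 * m + 1) → Fintype.card F = Fintype.card F₀ ^ 3 → False

/-- `f` of prime order, `q₀ = 5`. -/
def CaseFive : Prop :=
  ∀ (G : Type u) [Group G] [Finite G] (t : G) (F : Type) [Field F] [Fintype F] (E L : Subgroup G)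
    (A : Sylow 2 G) (V D : Subgroup G) (f : G) (F₀ : Type) [Field F₀] [Fintype F₀] (Kc : Subgroup G) (s : ℕ),
    FieldFrame G t F E L A V D → f ∈ D → CompData G t f F₀ L Kc → Fintype.card F₀ = 5 → s.Prime → 5 ≤ s →
      orderOf f = s → Fintype.card F = Fintype.card F₀ ^ orderOf f → False

/-- `q₀ = 3`. -/
def CaseQThree : Prop :=
  ∀ (G : Type u) [Group G] [Finite G] (t : G) (F : Type) [Field F] [Fintype F] (E L : Subgroup G)
    (A : Sylow 2 G) (V D : Subgroup G) (f : G) (F₀ : Type) [Field F₀] [Fintype F₀] (l k : ℕ),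
    (∀ (K : Type u) [Group K] [Finite K], Elem8 K → Nat.card K < Nat.card G →
      ∃ (s : K) (F₁ : Type) (_ : Field F₁) (_ : Fintype F₁), JTData K s F₁) →
    FieldFrame G t F E L A V D → f ∈ D →
      Nonempty (↥(L ⊓ centralizer ({f} : Set G)) ≃* PSL2.PSL2 F₀) → Fintype.card F₀ = 3 →
      l.Prime → l ≠ 3 → orderOf f = l ^ (k + 1) → ¬ l ∣ (zpowers f).relIndex D → ¬ 3 ∣ Nat.card D →
      Fintype.card F = Fintype.card F₀ ^ orderOf f → False

variable {G : Type u} [Group G] [Finite G]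

/-- A generator of the Sylow `l`-subgroup of a cyclic subgroup. -/
theorem exists_generator_part {D : Subgroup G} [IsCyclic D] {l : ℕ} (hl : l.Prime) (hd : l ∣ Nat.card D) :
    ∃ f ∈ D, ∃ k : ℕ, orderOf f = l ^ (k + 1) ∧ ¬ l ∣ (zpowers f).relIndex D := by
  obtain ⟨⟨g, hg⟩, hgo⟩ := IsCyclic.exists_ofOrder_eq_natCard (α := D)
  rw [Subgroup.orderOf_mk] at hgo
  have hpos : Nat.card D ≠ 0 := Nat.card_pos.ne'
  set v := (Nat.card D).factorization l with hv
  have hv1 : 1 ≤ v := hl.factorization_pos_of_dvd hpos hd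
  set r := Nat.card D / l ^ v with hr
  have hmul : r * l ^ v = Nat.card D := Nat.div_mul_cancel (Nat.ordProj_dvd _ _)
  have hr0 : r ≠ 0 := fun e => hpos (by rw [← hmul, e, zero_mul])
  have ho : orderOf (g ^ r) = l ^ v := by
    rw [orderOf_pow' _ hr0, hgo, ← hmul, Nat.gcd_mul_right_left, Nat.mul_div_cancel_left _ (Nat.pos_of_ne_zero hr0)]
  refine ⟨g ^ r, pow_mem hg r, v - 1, by rw [ho, Nat.sub_add_cancel hv1], ?_⟩
  have hrel : (zpowers (g ^ r)).relIndex D = r := by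
    have h := ((zpowers (g ^ r)).subgroupOf D).card_mul_index
    rw [Nat.card_congr (subgroupOfEquivOfLe (zpowers_le.2 (pow_mem hg r))).toEquiv, Nat.card_zpowers, ho,
      ← hmul, mul_comm r] at h
    exact Nat.eq_of_mul_eq_mul_left (pow_pos hl.pos v) h
  rw [hrel]
  exact Nat.not_dvd_ordCompl hl hpos

variable {t : G} {F : Type} [Field F] [Fintype F] {E L : Subgroup G} {A : Sylow 2 G} {V D : Subgroup G}

theorem FieldFrame.field_odd (fr : FieldFrame G t F E L A V D) {f : G} {q₀ : ℕ}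
    (hf : f ∈ D) (h : q₀ ^ orderOf f = Fintype.card F) : q₀ % 8 = 3 ∨ q₀ % 8 = 5 :=
  mod_eight_of_pow (fr.D_odd.of_dvd_nat (Subgroup.orderOf_dvd_natCard D hf)) (h ▸ fr.shape.mod8)

/-- The three possibilities for the fixed field. -/
theorem FieldFrame.trichotomy (fr : FieldFrame G t F E L A V D)
    (IH : ∀ (K : Type u) [Group K] [Finite K], Elem8 K → Nat.card K < Nat.card G →
      ∃ (s : K) (F₁ : Type) (_ : Field F₁) (_ : Fintype F₁), JTData K s F₁)
    {f : G} (hf : f ∈ D) (hf1 : f ≠ 1) {F₀ : Type} [Field F₀] [Fintype F₀]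
    (hcard : Fintype.card F₀ ^ orderOf f = Fintype.card F)
    (e₀ : ↥(L ⊓ centralizer ({f} : Set G)) ≃* PSL2.PSL2 F₀) :
    Fintype.card F₀ = 3 ∨ ∃ Kc, CompData G t f F₀ L Kc ∧
      (Fintype.card F₀ = 5 ∨ ∃ n, 1 ≤ n ∧ Fintype.card F₀ = 3 ^ (2 * n + 1)) := by
  have h8 := fr.field_odd hf hcard
  by_cases h3 : Fintype.card F₀ = 3
  · exact Or.inl h3
  obtain ⟨Kc, cd⟩ := fr.exists_comp IH hf hf1 hcard e₀ (by omega)
  obtain ⟨Q, _, _, π, -, -, hJ⟩ := cd.quot
  exact Or.inr ⟨Kc, cd, Chars.threeTarget Q _ F₀ hJ⟩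

/-- **Part (a)**, given the small cases. -/
theorem centTarget_of (h27 : CaseSmall27.{u}) (hT : CaseThree.{u}) (h5 : CaseFive.{u})
    (hQ3 : CaseQThree.{u}) : CentTarget.{u} := by
  intro G _ _ hE
  induction hN : Nat.card G using Nat.strong_induction_on generalizing G with
  | _ N IH =>
  subst hN
  have IH' : ∀ (K : Type u) [Group K] [Finite K], Elem8 K → Nat.card K < Nat.card G →
      ∃ (s : K) (F₁ : Type) (_ : Field F₁) (_ : Fintype F₁), JTData K s F₁ :=
    fun K _ _ hK hlt => IH _ hlt K hK rfl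
  obtain ⟨t, F, iF, iFt, E, L, h⟩ := exists_cshape hE
  by_cases hEL : E = L
  · exact ⟨t, F, iF, iFt, h.jtData hEL⟩
  obtain ⟨A, V, D, fr⟩ := exists_fieldFrame h
  exfalso
  haveI := fr.D_cyclic
  have hD1 : Nat.card D ≠ 1 := fun e => hEL
    (le_antisymm (relIndex_eq_one.1 (fr.D_card.symm.trans e)) fr.frame.le)
  by_cases h3D : 3 ∣ Nat.card D
  · haveI : Fact (Nat.Prime 3) := ⟨Nat.prime_three⟩
    obtain ⟨⟨f, hf⟩, hfo⟩ := exists_prime_orderOf_dvd_card' (G := D) 3 h3D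
    rw [Subgroup.orderOf_mk] at hfo
    have hf1 : f ≠ 1 := fun e => by rw [e, orderOf_one] at hfo; omega
    obtain ⟨F₀, _, _, hcard, ⟨e₀⟩⟩ := fr.exists_field hf
    rcases fr.trichotomy IH' hf hf1 hcard e₀ with h0 | ⟨Kc, cd, h0 | ⟨m, hm, h0⟩⟩
    · exact h27 G t F E L A V D f fr hf hfo (by rw [← hcard, h0, hfo]; norm_num)
    · have h := fr.prime_dvd hf (l := 3) (k := 0) hfo
      rw [cd.invol_five fr.frame.ht (by rw [hfo]; decide) h0] at h
      omega
    · exact hT G t F E L A V D f F₀ Kc m fr hf hfo cd hm h0 (by rw [← hcard, hfo])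
  obtain ⟨l, hl, hlD⟩ := Nat.exists_prime_and_dvd hD1
  have hl3 : l ≠ 3 := by rintro rfl; exact h3D hlD
  have hl2 : l ≠ 2 := by rintro rfl; exact Nat.not_even_iff_odd.2 fr.D_odd (even_iff_two_dvd.2 hlD)
  haveI := Fact.mk hl
  obtain ⟨f, hf, k, hfo, hfD⟩ := exists_generator_part hl hlD
  have hodd : Odd (orderOf f) := fr.D_odd.of_dvd_nat (Subgroup.orderOf_dvd_natCard D hf)
  have hone : ∀ (g : G) (j : ℕ), orderOf g = l ^ (j + 1) → g ≠ 1 := fun g j hg e => by
    rw [e, orderOf_one] at hg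
    exact absurd hg (Nat.one_lt_pow (by omega) hl.one_lt).ne
  obtain ⟨F₀, _, _, hcard, ⟨e₀⟩⟩ := fr.exists_field hf
  rcases fr.trichotomy IH' hf (hone f k hfo) hcard e₀ with h0 | ⟨Kc, cd, h0 | ⟨n, hn, h0⟩⟩
  · exact hQ3 G t F E L A V D f F₀ l k IH' fr hf ⟨e₀⟩ h0 hl hl3 hfo hfD h3D hcard.symm
  · -- `q₀ = 5`
    have h5l : 5 ≤ l := by
      have := hl.two_le
      have : l ≠ 4 := by rintro rfl; norm_num at hl
      omega
    rcases k with _ | k
    · exact h5 G t F E L A V D f F₀ Kc l fr hf cd h0 hl h5l (by rw [hfo]; simp) hcard.symm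
    set g := f ^ l ^ (k + 1) with hgdef
    have hg : orderOf g = l ^ (0 + 1) := by
      rw [hgdef, orderOf_pow' _ (pow_ne_zero _ hl.ne_zero), hfo, Nat.gcd_eq_right (pow_dvd_pow l (by omega)),
        Nat.pow_div (by omega) hl.pos]
      congr 1
      omega
    have hgD : g ∈ D := pow_mem hf _
    obtain ⟨F₁, _, _, hcard1, ⟨e₁⟩⟩ := fr.exists_field hgD
    have hq : Fintype.card F₁ = 5 ^ l ^ (k + 1) := by
      refine Nat.pow_left_injective hl.ne_zero ?_
      show Fintype.card F₁ ^ l = _ ^ l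
      rw [← pow_mul, ← pow_succ, ← h0, ← hfo, hcard, ← hcard1, hg, zero_add, pow_one]
    have h3ne : ∀ a : ℕ, 1 ≤ a → 5 ^ l ^ (k + 1) ≠ 3 ^ a := fun a ha e => by
      have h3d : 3 ∣ 5 ^ l ^ (k + 1) := e ▸ dvd_pow_self 3 (by omega)
      exact absurd (Nat.prime_three.dvd_of_dvd_pow h3d) (by norm_num)
    rcases fr.trichotomy IH' hgD (hone g 0 hg) hcard1 e₁ with h1 | ⟨Kc1, cd1, h1 | ⟨n, -, h1⟩⟩
    · exact h3ne 1 le_rfl (by rw [← hq, h1, pow_one])
    · rw [hq] at h1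
      exact absurd ((Nat.pow_eq_self_iff (by norm_num)).1 h1) (Nat.one_lt_pow (by omega) hl.one_lt).ne'
    · exact h3ne _ (by omega) (hq ▸ h1)
  · -- `q₀ = 3^(2n+1)`
    have h := Int.natCast_dvd_natCast.2 (fr.prime_dvd hf hfo)
    rw [cd.invol_three fr.frame.ht hodd hn h0] at h
    rcases (Nat.prime_iff_prime_int.1 hl).dvd_mul.1 h with h' | h'
    · have h'' : l ∣ (3 ^ (2 * n + 1)) ^ 2 := Int.natCast_dvd_natCast.1 (by push_cast; exact h')
      exact hl3 ((Nat.prime_dvd_prime_iff_eq hl Nat.prime_three).1 (hl.dvd_of_dvd_pow (hl.dvd_of_dvd_pow h'')))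
    · exact fr.false_caseB hf (hone f k hfo) cd hn h0 hcard.symm hl hfo h' hfD h3D

end Cfsg.Agent.AbelianSylow.Field
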