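import Cfsg.Agent.Lib.AbelianSylow.Cent.FieldCaseACtx
import Cfsg.Agent.Lib.AbelianSylow.Cent.FieldComp
import Cfsg.Agent.Lib.AbelianSylow.Cent.FieldCompSmall
import Cfsg.Agent.Lib.AbelianSylow.Cent.FieldSmall
import Cfsg.Agent.Lib.AbelianSylow.Cent.FieldSmallNine
import Cfsg.Agent.Lib.AbelianSylow.Cent.MainReduce

/-!
# Part (a), case `(A)`: a field automorphism of order 3 is impossible (owner: helper82)

* `ABorel.fixed_sub`  : the centraliser of `f` in `Bl`: `C_U(f)` of order `q₀`, `C_H(f)` of order `(q₀-1)/2`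
* `FieldFrame.small_cent` : the inverted 3-elements of `C(f)` when `q = 27`
* `caseSmall27`, `caseThree`
-/

set_option autoImplicit false
set_option linter.style.haveILetI false
set_option linter.unusedSectionVars false

namespace Cfsg.Agent.AbelianSylow.Field

open Subgroup

universe u

theorem Small.Hyp.map {X : Type u} [Group X] [Finite X] {A : Subgroup X} {t : X} (h : Small.Hyp A t)
    (e : X ≃* X) : Small.Hyp (A.map e.toMonoidHom) (e t) := by
  have hn : ∀ n ∈ normalizer (A : Set X), e n ∈ normalizer ((A.map e.toMonoidHom : Subgroup X) : Set X) :=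
    fun n hn => Coprime.mem_normalizer_of_forall fun z hz => by
      obtain ⟨a, ha, rfl⟩ := hz
      exact ⟨n * a * n⁻¹, (mem_normalizer_iff.1 hn a).1 ha, by simp⟩
  constructor
  · rw [card_map_of_injective e.injective, h.cardA]
  · rintro _ ⟨a, ha, rfl⟩
    rw [← map_mul, h.sq a ha, map_one]
  · exact mem_map_of_mem _ h.mem
  · exact fun e1 => h.ne (e.injective (e1.trans (map_one e).symm))
  · rintro _ ⟨a, ha, rfl⟩ ha1
    obtain ⟨n, hnn, rfl⟩ := h.trans a ha fun e1 => ha1 (by rw [e1, map_one])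
    exact ⟨e n, hn n hnn, by simp⟩
  · rw [← h.card]
    refine (Nat.card_congr (e.toEquiv.subtypeEquiv fun g => ?_)).symm
    rw [mem_centralizer_singleton_iff, mem_centralizer_singleton_iff]
    show g * t = t * g ↔ e g * e t = e t * e g
    rw [← map_mul, ← map_mul, e.injective.eq_iff]
  · obtain ⟨n, hnn, hnt, a, ha, hna⟩ := h.mover
    refine ⟨e n, hn n hnn, hnt.map e.toMonoidHom, e a, mem_map_of_mem _ ha, fun hc => hna ?_⟩
    have := hc.map e.symm.toMonoidHom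
    simpa using this
  · intro u hu
    obtain ⟨x, hx⟩ := h.one (e.symm u) (by rw [MulEquiv.orderOf_eq, hu])
    exact ⟨e x, e.symm.injective (by simp [hx])⟩

variable {G : Type u} [Group G] [Finite G] {t : G} {F : Type} [Field F] [Fintype F] {E L : Subgroup G}
  {A : Sylow 2 G} {V D : Subgroup G} {U Bl T H : Subgroup G} {u v f : G} {n : ℕ}

/-- An element of order three of `D`: `C_L(f) ≅ L₂(q₀)` and `q = q₀³`. -/
theorem fixed_field (fr : FieldFrame G t F E L A V D) (hf : f ∈ D) (ho : orderOf f = 3) {k : ℕ}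
    (hF : Fintype.card F = (3 ^ k) ^ 3) :
    ∃ (F₁ : Type) (_ : Field F₁) (_ : Fintype F₁), Fintype.card F₁ = 3 ^ k ∧
      Nonempty (↥(L ⊓ centralizer ({f} : Set G)) ≃* PSL2.PSL2 F₁) := by
  obtain ⟨F₁, i1, i2, hq, he⟩ := fr.exists_field hf
  rw [ho, hF] at hq
  exact ⟨F₁, i1, i2, Nat.pow_left_injective (by norm_num) hq, he⟩

namespace ABorel

variable (fr : FieldFrame G t F E L A V D) (a : ABorel V D L U Bl T H u v n)
include fr a

/-- The fixed points of `f` in `Bl`. -/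
theorem fixed_sub (hf : f ∈ D) (ho : orderOf f = 3) {k : ℕ} (hk : Odd k) (hF : Fintype.card F = (3 ^ k) ^ 3) :
    Nat.card (U ⊓ centralizer ({f} : Set G) : Subgroup G) = 3 ^ k ∧
      2 * Nat.card (H ⊓ centralizer ({f} : Set G) : Subgroup G) + 1 = 3 ^ k ∧
      ∀ x ∈ Bl, Commute x f → ∃ w ∈ U ⊓ centralizer ({f} : Set G),
        ∃ h ∈ H ⊓ centralizer ({f} : Set G), w * h = x := by
  haveI : Fact (Nat.Prime 3) := ⟨Nat.prime_three⟩
  obtain ⟨F₁, _, _, hq, ⟨e⟩⟩ := fixed_field fr hf ho hF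
  obtain ⟨U₁, B₁, T₁, h1⟩ := exists_lthree_any e hk hq
  have huL : u ∈ L ⊓ centralizer ({f} : Set G) :=
    ⟨U_L fr a a.u_mem, mem_centralizer_singleton_iff.2 (a.u_fix f hf).eq⟩
  obtain ⟨U₀, B₀, T₀, h0, hu0⟩ := h1.exists_conj huL a.u_ord
  have hsplit : ∀ x ∈ Bl, Commute x f → ∃ w ∈ U ⊓ centralizer ({f} : Set G),
      ∃ h ∈ H ⊓ centralizer ({f} : Set G), w * h = x := by
    intro x hx hxf
    obtain ⟨w, hw, h, hh, rfl⟩ := exists_Bl fr a hx
    have hw' := D_U fr a hf hw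
    have hh' := D_H fr a hf hh
    have e1 : f * w * f⁻¹ * (f * h * f⁻¹) = w * h := by
      rw [show f * w * f⁻¹ * (f * h * f⁻¹) = f * (w * h) * f⁻¹ by group, ← hxf.eq, mul_inv_cancel_right]
    have e2 : w⁻¹ * (f * w * f⁻¹) = h * (f * h * f⁻¹)⁻¹ := by
      rw [eq_mul_inv_iff_mul_eq, mul_assoc, e1, inv_mul_cancel_left]
    have h2 : w⁻¹ * (f * w * f⁻¹) = 1 := H_inter fr a (U.mul_mem (U.inv_mem hw) hw')
      (e2 ▸ H.mul_mem hh (H.inv_mem hh'))
    have hwf : Commute w f := (mul_inv_eq_iff_eq_mul.1 (inv_mul_eq_one.1 h2).symm).symm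
    refine ⟨w, ⟨hw, mem_centralizer_singleton_iff.2 hwf.eq⟩, h, ⟨hh, mem_centralizer_singleton_iff.2 ?_⟩, rfl⟩
    have := hwf.inv_left.mul_left hxf
    rwa [inv_mul_cancel_left] at this
  have hU0 : U₀ ≤ U := a.lt.le_U ((h0.borel.leU.trans h0.borel.le).trans inf_le_left) h0.U_three a.u_mem
    (u_ne fr a) hu0
  have hUc : U ⊓ centralizer ({f} : Set G) = U₀ := by
    refine le_antisymm (h0.le_U (inf_le_inf_right _ (U_L fr a)) (a.lt.U_three.to_le inf_le_left) hu0 (u_ne fr a)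
      ⟨a.u_mem, huL.2⟩) (le_inf hU0 ((h0.borel.leU.trans h0.borel.le).trans inf_le_right))
  have hBc : Bl ⊓ centralizer ({f} : Set G) = B₀ := by
    refine le_antisymm (fun x hx => h0.borel.self x ⟨a.lt.borel.le hx.1, hx.2⟩ fun w hw => ?_) fun x hx => ?_
    · rw [← hUc] at hw ⊢
      exact ⟨a.lt.borel.norm x hx.1 w hw.1, (centralizer ({f} : Set G)).mul_mem ((centralizer _).mul_mem hx.2 hw.2) ((centralizer _).inv_mem hx.2)⟩
    · refine ⟨?_, (h0.borel.le hx).2⟩
      by_contra hxB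
      exact u_ne fr a (a.lt.borel.disj x (h0.borel.le hx).1 hxB u a.u_mem (hU0 (h0.borel.norm x hx u hu0)))
  refine ⟨by rw [hUc, h0.borel.cardU], ?_, hsplit⟩
  set H₀ := H ⊓ centralizer ({f} : Set G)
  have hB0 : B₀ = H₀ ⊔ U₀ := by
    refine le_antisymm (fun x hx => ?_) (sup_le ?_ h0.borel.leU)
    · rw [← hBc] at hx
      obtain ⟨w, hw, h, hh, rfl⟩ := hsplit x hx.1 (mem_centralizer_singleton_iff.1 hx.2)
      exact mul_mem (mem_sup_right (hUc ▸ hw)) (mem_sup_left hh)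
    · rw [← hBc]; exact inf_le_inf_right _ (H_Bl fr a)
  have hH0U : H₀ ≤ normalizer (U₀ : Set G) := fun x hx => Coprime.mem_normalizer_of_forall
    (h0.borel.norm x (hB0 ▸ mem_sup_left hx))
  have hc := h0.borel.cardB
  rw [hB0, Frobenius.card_sup_of_disjoint hH0U (disjoint_iff.2 ((eq_bot_iff_forall _).2
    fun x hx => H_inter fr a (hU0 hx.2) hx.1.1)), h0.borel.cardU, ← mul_assoc, mul_comm _ (3 ^ k)] at hc
  have hpos : 0 < 3 ^ k := pow_pos (by norm_num) k
  have h2 := Nat.eq_of_mul_eq_mul_left hpos hc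
  omega

end ABorel

/-- The inverted 3-elements of `C(f)` for `q = 27`. -/
theorem FieldFrame.small_cent (fr : FieldFrame G t F E L A V D) (hf : f ∈ D) (ho : orderOf f = 3)
    (hF : Fintype.card F = 27) :
    (∀ P : Subgroup G, IsPGroup 3 P → P ≤ centralizer ({f} : Set G) → t ∈ normalizer (P : Set G) →
      ∃ a : G, a ^ 9 = 1 ∧ ∀ x ∈ P, t * x * t⁻¹ = x⁻¹ → x ∈ zpowers a) ∧
    (∀ d ∈ centralizer ({f} : Set G), orderOf d = 9 → t * d * t⁻¹ = d⁻¹ →
      ∀ w ∈ L, orderOf w = 3 → Commute w f → ¬ Commute d w) := by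
  classical
  haveI : Fact (Nat.Prime 2) := ⟨Nat.prime_two⟩
  haveI : Fact (Nat.Prime 3) := ⟨Nat.prime_three⟩
  obtain ⟨F₀, _, _, hq, ⟨e₀⟩⟩ := fixed_field fr hf ho (k := 1) (by rw [hF]; norm_num)
  rw [pow_one] at hq
  set X := centralizer ({f} : Set G) with hXdef
  obtain ⟨Q, _, _, π, B, b, -, hker, hQc, h⟩ := fr.small_hyp hf e₀ hq
  have hX : Nat.card Q = 1512 := by
    have h3 := fr.prime_dvd hf (l := 3) (k := 0) ho
    rcases h.card_cases with e | e
    · exfalso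
      rcases fr.small_invol hf e₀ hq with e' | e' <;> rw [e'] at h3
      · omega
      · -- 63 involutions force the larger order
        have hc := Small.card_eq_class_mul X t (P := fun w => orderOf w = 2 ∧ Commute w f)
          (fun x hx => ⟨by rw [show x * t * x⁻¹ = MulAut.conj x t from rfl, MulEquiv.orderOf_eq]; exact fr.frame.ht,
            ((show Commute x f from mem_centralizer_singleton_iff.1 hx).mul_left (fr.commute_D hf)).mul_left
              (show Commute x f from mem_centralizer_singleton_iff.1 hx).inv_left⟩)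
          (fun w hw => by
            obtain ⟨x, hxf, hxt⟩ := fr.one_class hf hw.1 hw.2
            exact ⟨x, mem_centralizer_singleton_iff.2 hxf.eq, hxt⟩)
        rw [inf_comm, fr.card_cent_inf hf, card_three e₀ hq, fr.small_zpowers hf e₀ hq, Nat.card_zpowers, e',
          ← hQc, e] at hc
        omega
    · exact e
  have htX : t ∈ X := mem_centralizer_singleton_iff.2 (fr.commute_D hf).eq
  set τ : Q := π ⟨t, htX⟩ with hτ
  have hf3 : Odd (Nat.card (zpowers f)) := by rw [Nat.card_zpowers, ho]; decide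
  -- inverted elements and those fixed by `t` in the kernel
  have hkf : ∀ z ∈ zpowers f, t * z * t⁻¹ = z := fun z hz => by
    obtain ⟨i, rfl⟩ := mem_zpowers_iff.1 hz
    rw [((fr.commute_D hf).zpow_right i).eq, mul_inv_cancel_right]
  have hinj : ∀ z ∈ zpowers f, t * z * t⁻¹ = z⁻¹ → z = 1 := fun z hz hzt =>
    eq_one_of_inv_eq hf3 hz ((hkf z hz).symm.trans hzt)
  have hτ2 : orderOf τ = 2 := orderOf_two_of_sq
    (by rw [hτ, ← map_mul, show (⟨t, htX⟩ : X) * ⟨t, htX⟩ = 1 from Subtype.ext fr.frame.mul_self_t, map_one])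
    (fun e1 => Involution.ne_one fr.frame.ht (hinj t ((hker ⟨t, htX⟩).1 e1)
      (by rw [mul_inv_cancel_right]; exact (inv_eq_of_mul_eq_one_right fr.frame.mul_self_t).symm)))
  obtain ⟨x₀, hx₀⟩ := h.one τ hτ2
  have h' := h.map (MulAut.conj x₀)
  rw [show (MulAut.conj x₀) b = τ from hx₀] at h'
  refine ⟨fun P hP hPX htP => ?_, ?_⟩
  · set PX := P.subgroupOf X
    have hP' : IsPGroup 3 (PX.map π) := (hP.comap_subtype (K := X)).map π
    obtain ⟨a₀, ha₀, ha₀t, hall⟩ := h'.inverted_cyclic hX hP' (by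
      rintro _ ⟨z, hz, rfl⟩
      rw [hτ, ← map_inv, ← map_mul, ← map_mul]
      exact ⟨_, mem_subgroupOf.2 ((mem_normalizer_iff.1 htP _).1 (mem_subgroupOf.1 hz)), rfl⟩)
    by_cases htriv : ∀ x ∈ P, t * x * t⁻¹ = x⁻¹ → x = 1
    · exact ⟨1, one_pow 9, fun x hx hxt => by rw [htriv x hx hxt]; exact one_mem _⟩
    -- an inverted element above `a₀`
    obtain ⟨z, hz, hza⟩ := ha₀
    have hzP : (z : G) ∈ P := mem_subgroupOf.1 hz
    have hd : (t * z * t⁻¹ * z : G) ∈ zpowers f := (hker (⟨t, htX⟩ * z * ⟨t, htX⟩⁻¹ * z)).1 (by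
      rw [map_mul, map_mul, map_mul, map_inv, hza, ← hτ, ha₀t, inv_mul_cancel])
    obtain ⟨i, hi⟩ := mem_zpowers_iff.1 hd
    have hzf : Commute (z : G) f := mem_centralizer_singleton_iff.1 z.2
    set a : G := z * f ^ i with ha
    have hfi : f ^ i * (f ^ i) ^ 2 = 1 := by
      rw [← pow_succ', ← zpow_natCast, ← zpow_mul, mul_comm, zpow_mul, zpow_natCast]
      show (f ^ 3) ^ i = 1
      rw [← ho, pow_orderOf_eq_one, one_zpow]
    have hat : t * a * t⁻¹ = a⁻¹ := by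
      refine eq_inv_of_mul_eq_one_left ?_
      rw [ha, show t * (z * f ^ i) * t⁻¹ = t * z * t⁻¹ * (t * f ^ i * t⁻¹) by group,
        hkf _ (zpow_mem (mem_zpowers f) i)]
      calc t * z * t⁻¹ * f ^ i * (z * f ^ i) = t * z * t⁻¹ * (f ^ i * z) * f ^ i := by group
        _ = (t * z * t⁻¹ * z) * (f ^ i) ^ 2 := by rw [← (hzf.zpow_right i).eq, pow_two]; group
        _ = 1 := by rw [← hi, hfi]
    have haX : a ∈ X := X.mul_mem z.2 (X.zpow_mem (mem_centralizer_singleton_iff.2 rfl) i)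
    have hπa : π ⟨a, haX⟩ = a₀ := by
      rw [show (⟨a, haX⟩ : X) = z * ⟨f ^ i, X.zpow_mem (mem_centralizer_singleton_iff.2 rfl) i⟩ from rfl, map_mul,
        (hker ⟨f ^ i, X.zpow_mem (mem_centralizer_singleton_iff.2 rfl) i⟩).2 (zpow_mem (mem_zpowers f) i), mul_one, hza]
    have hcubeX : ∀ w : X, w ∈ PX → π w ^ 9 = 1 := fun w hw => by
      obtain ⟨S, hPS, hS, -⟩ := h'.exists_sylow hX hP'
      exact (h'.cube_mul hX hS (hPS ⟨w, hw, rfl⟩) (hPS ⟨w, hw, rfl⟩)).2
    have hzinv : ∀ j : ℤ, t * a ^ j * t⁻¹ = (a ^ j)⁻¹ := fun j => by rw [← conj_zpow, hat, inv_zpow]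
    refine ⟨a, ?_, fun x hx hxt => ?_⟩
    · have h9 := hcubeX z hz
      rw [hza, ← hπa, ← map_pow] at h9
      refine hinj _ ((hker _).1 h9) ?_
      rw [← zpow_natCast]; exact hzinv _
    · have hxX : x ∈ X := hPX hx
      have hxt' : τ * π ⟨x, hxX⟩ * τ⁻¹ = (π ⟨x, hxX⟩)⁻¹ := by
        rw [hτ, ← map_inv, ← map_mul, ← map_mul, ← map_inv]
        exact congrArg π (Subtype.ext hxt)
      obtain ⟨j, hj⟩ := mem_zpowers_iff.1 (hall _ ⟨⟨x, hxX⟩, mem_subgroupOf.2 hx, rfl⟩ hxt')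
      refine mem_zpowers_iff.2 ⟨j, ?_⟩
      have hk : a ^ j * x⁻¹ ∈ zpowers f := (hker (⟨a, haX⟩ ^ j * ⟨x, hxX⟩⁻¹)).1 (by
        rw [map_mul, map_inv, map_zpow, hπa, hj, mul_inv_cancel])
      obtain ⟨r, hr⟩ := mem_zpowers_iff.1 hk
      have hxf : Commute x f := mem_centralizer_singleton_iff.1 hxX
      have h1 : t * (f ^ r) * t⁻¹ = (a ^ j)⁻¹ * x := by
        rw [hr, show t * (a ^ j * x⁻¹) * t⁻¹ = t * a ^ j * t⁻¹ * (t * x * t⁻¹)⁻¹ by group, hzinv, hxt, inv_inv]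
      rw [hkf _ (zpow_mem (mem_zpowers f) r)] at h1
      have h2 : f ^ r * f ^ r = 1 := by
        have h3 : a ^ j = f ^ r * x := by rw [hr, inv_mul_cancel_right]
        nth_rewrite 1 [h1]
        rw [h3, mul_inv_rev]
        calc x⁻¹ * (f ^ r)⁻¹ * x * f ^ r = x⁻¹ * ((f ^ r)⁻¹ * x) * f ^ r := by group
          _ = x⁻¹ * (x * (f ^ r)⁻¹) * f ^ r := by rw [((hxf.zpow_right r).inv_right).eq]
          _ = 1 := by group
      have h4 : f ^ r = 1 := eq_one_of_inv_eq hf3 (zpow_mem (mem_zpowers f) r) (eq_inv_of_mul_eq_one_left h2)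
      rw [h4] at hr
      exact mul_inv_eq_one.1 hr.symm
  · intro d hdX hd9 hdt w hwL hw3 hwf hdw
    have hwt : Commute w t := fr.frame.toCtx.commute_of_mem hwL
    have hwX : w ∈ X := mem_centralizer_singleton_iff.2 hwf.eq
    refine h'.not_commute_nine hX (d := π ⟨d, hdX⟩) (w := π ⟨w, hwX⟩) ?_ ?_ ?_ ?_ ?_
    · refine orderOf_eq_prime_pow (p := 3) (n := 1) (fun e => ?_) ?_
      · have h1 : d ^ 3 = 1 := hinj _ ((hker (⟨d, hdX⟩ ^ 3)).1 (by rw [map_pow]; simpa using e))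
          (by rw [← conj_pow, hdt, inv_pow])
        have := orderOf_dvd_of_pow_eq_one h1
        rw [hd9] at this
        norm_num at this
      · rw [← map_pow, show (⟨d, hdX⟩ : X) ^ (3 ^ (1 + 1)) = 1 from Subtype.ext (by
          show d ^ (3 ^ (1 + 1)) = 1
          rw [show 3 ^ (1 + 1) = orderOf d by rw [hd9]; norm_num, pow_orderOf_eq_one]), map_one]
    · rw [hτ, ← map_inv, ← map_mul, ← map_mul, ← map_inv]
      exact congrArg π (Subtype.ext hdt)
    · refine orderOf_eq_prime ?_ fun e => ?_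
      · rw [← map_pow, show (⟨w, hwX⟩ : X) ^ 3 = 1 from Subtype.ext (hw3 ▸ pow_orderOf_eq_one w), map_one]
      · have h1 : w ∈ D ⊓ L := ⟨zpowers_le.2 hf ((hker _).1 e), hwL⟩
        rw [fr.D_inf, mem_bot] at h1
        rw [h1, orderOf_one] at hw3
        omega
    · exact Commute.map (Subtype.ext hwt.eq : Commute (⟨w, hwX⟩ : X) ⟨t, htX⟩) π
    · exact Commute.map (Subtype.ext hdw.eq : Commute (⟨d, hdX⟩ : X) ⟨w, hwX⟩) π

/-- **`f` of order three, `q = 27`.** -/
theorem caseSmall27 : CaseSmall27.{u} := by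
  intro G _ _ t F _ _ E L A V D f fr hf ho hF
  haveI : Fact (Nat.Prime 3) := ⟨Nat.prime_three⟩
  obtain ⟨U, Bl, T, H, u, v, a⟩ := exists_aborel fr (n := 3) (by decide) (by rw [hF]; norm_num)
  have hH13 : Nat.card H = 13 := by
    have := ABorel.H_card fr a
    norm_num at this
    omega
  obtain ⟨F₃, y, l, m, c⟩ := ABorel.exists_threeCtx fr a (by rw [hF]; norm_num) hf ho
  have hl : l = 13 := by
    have h1 := Subgroup.orderOf_dvd_natCard H c.y_mem
    rw [c.y_order, hH13] at h1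
    exact (Nat.prime_dvd_prime_iff_eq c.l_prime (by norm_num)).1 h1
  have hHy : ∀ x ∈ H, x ∈ zpowers y := fun x hx => by
    have heq : zpowers y = H := eq_of_le_of_card_ge (zpowers_le.2 c.y_mem)
      (by rw [Nat.card_zpowers, c.y_order, hl, hH13])
    rw [heq]; exact hx
  obtain ⟨hUc, -, -⟩ := ABorel.fixed_sub fr a hf ho (k := 1) (by decide) (by rw [hF]; norm_num)
  obtain ⟨hcyc, hmove⟩ := fr.small_cent hf ho hF
  exact three_false c (noInvertedMod_of_small c hl hHy (by rw [hUc]; norm_num)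
    ⟨u, a.u_mem, ABorel.u_ne fr a, a.u_fix f hf⟩ hcyc fun d hd h9 hdt w hw hw1 hwf =>
      hmove d hd h9 hdt w (ABorel.U_L fr a hw) (a.lt.orderOf_three hw hw1) hwf)

/-- **`f` of order three, `q₀ = 3^odd ≥ 27`.** -/
theorem caseThree : CaseThree.{u} := by
  intro G _ _ t F _ _ E L A V D f F₀ _ _ Kc j fr hf ho cd hj hq0 hF
  haveI : Fact (Nat.Prime 3) := ⟨Nat.prime_three⟩
  set k := 2 * j + 1 with hkdef
  have hFk : Fintype.card F = (3 ^ k) ^ 3 := by rw [hF, hq0]
  have hFn : Fintype.card F = 3 ^ (k * 3) := by rw [pow_mul]; exact hFk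
  obtain ⟨U, Bl, T, H, u, v, a⟩ := exists_aborel fr (n := k * 3) (Odd.mul ⟨j, rfl⟩ (by decide)) hFn
  obtain ⟨F₃, y, l, m, c⟩ := ABorel.exists_threeCtx fr a hFn hf ho
  obtain ⟨hUc, hHc, hsplit⟩ := ABorel.fixed_sub fr a hf ho (k := k) ⟨j, rfl⟩ hFk
  set U₀ := U ⊓ centralizer ({f} : Set G)
  set H₀ := H ⊓ centralizer ({f} : Set G)
  -- `C_Kc(t)`
  have hcent : ∀ x ∈ L, Commute x f → x ∈ Kc ⊓ centralizer ({t} : Set G) := fun x hx hxf => by
    rw [cd.cent]; exact mem_sup_left (mem_sup_right ⟨hx, mem_centralizer_singleton_iff.2 hxf.eq⟩)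
  have hU0K : U₀ ≤ Kc := fun x hx =>
    (hcent x (ABorel.U_L fr a hx.1) (mem_centralizer_singleton_iff.1 hx.2)).1
  have hH0K : H₀ ≤ Kc := fun x hx =>
    (hcent x (ABorel.H_L fr a hx.1) (mem_centralizer_singleton_iff.1 hx.2)).1
  obtain ⟨ρ, hρ⟩ := fr.exists_rho
  have hmemD : ∀ x ∈ Kc ⊓ centralizer ({t} : Set G), ∀ w d, w ∈ L → d ∈ D → x = w * d → d ∈ zpowers f := by
    intro x hx w d hw hd hxwd
    have hle : Kc ⊓ centralizer ({t} : Set G) ≤
        ((zpowers f).comap ((D.subtype).comp ρ)).map (centralizer ({t} : Set G)).subtype := by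
      rw [cd.cent]
      refine sup_le (sup_le (zpowers_le.2 ?_) ?_) (zpowers_le.2 ?_)
      · refine ⟨⟨t, mem_centralizer_singleton_iff.2 rfl⟩, ?_, rfl⟩
        show ((ρ _ : D) : G) ∈ zpowers f
        rw [hρ _ 1 1 L.one_mem D.one_mem (Or.inr (by simp))]
        exact one_mem _
      · intro z hz
        refine ⟨⟨z, mem_centralizer_singleton_iff.2 (fr.frame.toCtx.commute_of_mem hz.1).eq⟩, ?_, rfl⟩
        show ((ρ _ : D) : G) ∈ zpowers f
        rw [hρ _ z 1 hz.1 D.one_mem (Or.inl (by simp))]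
        exact one_mem _
      · refine ⟨⟨f, mem_centralizer_singleton_iff.2 (fr.commute_D hf).symm.eq⟩, ?_, rfl⟩
        show ((ρ _ : D) : G) ∈ zpowers f
        rw [hρ _ 1 f L.one_mem hf (Or.inl (by simp))]
        exact mem_zpowers f
    obtain ⟨z, hz, hze⟩ := hle hx
    have h1 : ((ρ z : D) : G) ∈ zpowers f := hz
    rwa [hρ z w d hw hd (Or.inl (hze.trans hxwd))] at h1
  -- `Kc ⊓ B`
  set M := Kc ⊓ (Bl ⊔ D) with hM
  set N₀ := U₀ ⊔ H₀ with hN₀
  have hfD : zpowers f ≤ D := zpowers_le.2 hf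
  have hH0n : H₀ ≤ normalizer (U₀ : Set G) := fun x hx => Coprime.mem_normalizer_of_forall fun w hw =>
    ⟨a.lt.borel.norm x (ABorel.H_Bl fr a hx.1) w hw.1, (centralizer ({f} : Set G)).mul_mem ((centralizer _).mul_mem hx.2 hw.2) ((centralizer _).inv_mem hx.2)⟩
  have hMeq : M = zpowers f ⊔ N₀ := by
    refine le_antisymm (fun x hx => ?_) ?_
    · obtain ⟨w, hw, h, hh, d, hd, rfl⟩ := ABorel.exists_decomp fr a hx.2
      have hxt : w * h * d ∈ Kc ⊓ centralizer ({t} : Set G) := ⟨hx.1, ABorel.B_le_cent fr a hx.2⟩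
      have hdf := hmemD _ hxt _ d (L.mul_mem (ABorel.U_L fr a hw) (ABorel.H_L fr a hh)) hd rfl
      have hwh : Commute (w * h) f := by
        have h1 : Commute (w * h * d) f := mem_centralizer_singleton_iff.1 (cd.le hx.1)
        have h2 := h1.mul_left (fr.comm_D hd hf).inv_left
        rwa [mul_inv_cancel_right] at h2
      obtain ⟨w', hw', h', hh', he⟩ := hsplit _ (Bl.mul_mem (a.lt.borel.leU hw) (ABorel.H_Bl fr a hh)) hwh
      rw [← he]
      exact mul_mem (mem_sup_right (mul_mem_sup hw' hh')) (mem_sup_left hdf)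
    · refine sup_le (zpowers_le.2 ⟨cd.f_mem, mem_sup_right hf⟩) (sup_le (le_inf hU0K ?_) (le_inf hH0K ?_))
      · exact inf_le_left.trans (a.lt.borel.leU.trans le_sup_left)
      · exact inf_le_left.trans ((ABorel.H_Bl fr a).trans le_sup_left)
  have hN0c : Nat.card N₀ = Nat.card H₀ * 3 ^ k := by
    rw [hN₀, sup_comm, Frobenius.card_sup_of_disjoint hH0n (disjoint_iff.2 ((eq_bot_iff_forall _).2
      fun x hx => ABorel.H_inter fr a hx.2.1 hx.1.1)), hUc]
  have hN0L : N₀ ≤ L := sup_le (inf_le_left.trans (ABorel.U_L fr a)) (inf_le_left.trans (ABorel.H_L fr a))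
  have hfN : ∀ z ∈ N₀, Commute z f := fun z hz =>
    mem_centralizer_singleton_iff.1 ((sup_le inf_le_right inf_le_right : N₀ ≤ centralizer ({f} : Set G)) hz)
  have hzn : zpowers f ≤ normalizer (N₀ : Set G) :=
    zpowers_le.2 (Coprime.mem_normalizer_of_forall fun z hz => by
      rw [← (hfN z hz).eq, mul_inv_cancel_right]; exact hz)
  have hMc : Nat.card M = 3 * (Nat.card H₀ * 3 ^ k) := by
    rw [hMeq, Frobenius.card_sup_of_disjoint hzn (disjoint_iff.2 ((eq_bot_iff_forall _).2 fun x hx => by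
      rw [← mem_bot, ← fr.D_inf]; exact ⟨hfD hx.1, hN0L hx.2⟩)), hN0c, Nat.card_zpowers, ho]
  -- `|Kc|`
  obtain ⟨Q, _, _, π, hπ, hker, hJ⟩ := cd.quot
  have hQ := Chars.orderTarget Q _ F₀ hJ j hj hq0
  have hKc : Nat.card Kc = 3 * ((3 ^ k) ^ 3 * ((3 ^ k) ^ 3 + 1) * (3 ^ k - 1)) := by
    have h1 := π.ker.card_mul_index
    rw [index_ker, MonoidHom.range_eq_top.2 hπ, card_top, hker, Cores.card_subgroupOf (zpowers_le.2 cd.f_mem),
      Nat.card_zpowers, ho, hQ, ← hkdef] at h1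
    exact h1.symm
  have hq1 : 3 ^ k - 1 = 2 * Nat.card H₀ := by omega
  have hH0three : ¬ 3 ∣ Nat.card H₀ := fun h => ABorel.H_three fr a (h.trans (card_dvd_of_le inf_le_left))
  have h3k : 3 ∣ 3 ^ k := dvd_pow_self 3 (by omega)
  have hpos : 0 < Nat.card H₀ := Nat.card_pos
  refine three_false c (noInvertedMod_of_comp c cd.le cd.norm (fun x hx => ?_) cd.f_mem (n := k) ⟨j, rfl⟩
    (by omega) ?_ ?_ ?_ ?_ ?_ (H₀ := H₀) inf_le_left inf_le_right hHc)
  · rw [show t * x * t⁻¹ * x⁻¹ = t * (x * t⁻¹ * x⁻¹) by group]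
    exact Kc.mul_mem cd.t_mem ((mem_normalizer_iff.1 (cd.norm hx) _).1 (Kc.inv_mem cd.t_mem))
  · -- the `3`-part of `Kc ⊓ B`
    intro h3
    set P := U₀ ⊔ zpowers f with hP
    have hPc : Nat.card P = 3 * 3 ^ k := by
      have hzn' : zpowers f ≤ normalizer (U₀ : Set G) :=
        zpowers_le.2 (Coprime.mem_normalizer_of_forall fun z hz => by
          rw [← (mem_centralizer_singleton_iff.1 hz.2 : z * f = f * z), mul_inv_cancel_right]; exact hz)
      rw [hP, sup_comm, Frobenius.card_sup_of_disjoint hzn' (disjoint_iff.2 ((eq_bot_iff_forall _).2 fun x hx => by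
        rw [← mem_bot, ← fr.D_inf]; exact ⟨hfD hx.1, ABorel.U_L fr a hx.2.1⟩)), hUc, Nat.card_zpowers, ho]
    have hPM : P ≤ M := hMeq ▸ sup_le (le_sup_left.trans le_sup_right) le_sup_left
    have h1 : P.relIndex M = Nat.card H₀ := by
      have h2 := relIndex_mul_relIndex ⊥ P M bot_le hPM
      rw [relIndex_bot_left, relIndex_bot_left, hPc, hMc] at h2
      refine Nat.eq_of_mul_eq_mul_left (show 0 < 3 * 3 ^ k by positivity) ?_
      rw [h2]; ring
    exact hH0three (h1 ▸ h3.trans (relIndex_dvd_of_le_left M (sup_le_sup_right inf_le_left _)))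
  · intro r hr hr3 hrd hri
    rw [hMc] at hrd
    have hr0 : r ∣ Nat.card H₀ := by
      rcases hr.dvd_mul.1 hrd with h | h
      · exact absurd ((Nat.prime_dvd_prime_iff_eq hr Nat.prime_three).1 h) hr3
      · rcases hr.dvd_mul.1 h with h | h
        · exact h
        · exact absurd ((Nat.prime_dvd_prime_iff_eq hr Nat.prime_three).1 (hr.dvd_of_dvd_pow h)) hr3
    have h2 := relIndex_mul_relIndex ⊥ M Kc bot_le inf_le_left
    rw [relIndex_bot_left, relIndex_bot_left, hMc, hKc, hq1] at h2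
    have hidx : M.relIndex Kc = 2 * ((3 ^ k) ^ 2 * ((3 ^ k) ^ 3 + 1)) := by
      refine Nat.eq_of_mul_eq_mul_left (show 0 < 3 * (Nat.card H₀ * 3 ^ k) by positivity) ?_
      rw [h2]; ring
    rw [hidx] at hri
    have hr2 : r ≠ 2 := fun e => by
      subst e
      have h1 : Odd (Nat.card H₀) := (a.lt.borel_odd).of_dvd_nat
        (card_dvd_of_le (inf_le_left.trans (ABorel.H_Bl fr a)))
      exact Nat.not_even_iff_odd.2 h1 (even_iff_two_dvd.2 hr0)
    rcases hr.dvd_mul.1 hri with h | h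
    · exact hr2 ((Nat.prime_dvd_prime_iff_eq hr Nat.prime_two).1 h)
    · rcases hr.dvd_mul.1 h with h | h
      · exact hr3 ((Nat.prime_dvd_prime_iff_eq hr Nat.prime_three).1 (hr.dvd_of_dvd_pow (hr.dvd_of_dvd_pow h)))
      · rw [← hHc] at h
        obtain ⟨s, hs⟩ := hr0
        have e : (2 * Nat.card H₀ + 1) ^ 3 + 1 = r * (8 * s ^ 3 * r ^ 2 + 12 * s ^ 2 * r + 6 * s) + 2 := by
          rw [hs]; ring
        rw [e] at h
        exact hr2 ((Nat.prime_dvd_prime_iff_eq hr Nat.prime_two).1 ((Nat.dvd_add_right (dvd_mul_right r _)).1 h))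
  · rw [hKc, show 3 * ((3 ^ k) ^ 3 * ((3 ^ k) ^ 3 + 1) * (3 ^ k - 1))
      = 3 ^ (3 * k + 1) * (((3 ^ k) ^ 3 + 1) * (3 ^ k - 1)) by
        rw [show 3 ^ (3 * k + 1) = (3 ^ k) ^ 3 * 3 by rw [← pow_mul, ← pow_succ, mul_comm k]]; ring,
      show 3 * k + 2 = 3 * k + 1 + 1 from rfl, pow_succ]
    intro hd
    have h1 := Nat.dvd_of_mul_dvd_mul_left (pow_pos (by norm_num : 0 < 3) _) hd
    rcases Nat.prime_three.dvd_mul.1 h1 with h | h
    · have : 3 ∣ (3 ^ k) ^ 3 := dvd_pow h3k (by norm_num)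
      omega
    · omega
  · have hle : U₀ ≤ U ⊓ Kc := le_inf inf_le_left hU0K
    exact hUc ▸ card_dvd_of_le hle
  · rw [hUc, a.lt.borel.cardU, ← pow_mul]

end Cfsg.Agent.AbelianSylow.Field
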