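import Cfsg.Agent.Lib.AbelianSylow.Cent.FieldPSLThree
import Cfsg.Agent.Lib.AbelianSylow.Cent.FieldAut

/-!
# Part (a), case `(A)`: the Borel subgroup and torus adapted to `D` (owner: helper82)

* `ABorel fr U Bl T H u v n` : `U ∋ u ∈ C(D)`, `H = Bl ⊓ Bl^v`
* `exists_aborel`            : it exists
* `ABorel.H_card`, `H_cyclic`, `Bl_eq`, `v_inv`, `D_norm_H`, `free`
-/

set_option autoImplicit false
set_option linter.style.haveILetI false
set_option linter.unusedSectionVars false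

namespace Cfsg.Agent.AbelianSylow.Field

open Subgroup

universe u

variable {G : Type u} [Group G] [Finite G] {t : G} {F : Type} [Field F] [Fintype F] {E L : Subgroup G}
  {A : Sylow 2 G} {V D : Subgroup G}

/-- A Borel subgroup around an element of order `3` fixed by `D`, and the torus cut out by `v ∈ V`. -/
structure ABorel (V D L U Bl T H : Subgroup G) (u v : G) (n : ℕ) : Prop where
  lt : LThree L U Bl T (3 ^ n) n
  u_mem : u ∈ U
  u_ord : orderOf u = 3
  u_fix : ∀ d ∈ D, Commute u d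
  v_mem : v ∈ V
  v_ne : v ≠ 1
  H_mem : ∀ x : G, x ∈ H ↔ x ∈ Bl ∧ v * x * v⁻¹ ∈ Bl

theorem exists_aborel (fr : FieldFrame G t F E L A V D) {n : ℕ} (hn : Odd n) (hF : Fintype.card F = 3 ^ n) :
    ∃ (U Bl T H : Subgroup G) (u v : G), ABorel V D L U Bl T H u v n := by
  haveI : Fact (Nat.Prime 3) := ⟨Nat.prime_three⟩
  haveI := fr.D_cyclic
  obtain ⟨⟨d, hd⟩, hgen⟩ := IsCyclic.exists_generator (α := ↥D)
  obtain ⟨F₀, _, _, hc, ⟨e₀⟩⟩ := fr.exists_field hd
  obtain ⟨e⟩ := fr.shape.iso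
  obtain ⟨U, Bl, T, h⟩ := exists_lthree_any e hn hF
  -- an element of order 3 in the fixed group
  have hpos : 0 < orderOf d := orderOf_pos d
  obtain ⟨j, -, hj⟩ := (Nat.dvd_prime_pow Nat.prime_three).1
    ((dvd_pow_self (Fintype.card F₀) hpos.ne').trans (hc.trans hF).dvd)
  have h3 : 3 ∣ Nat.card ↥(L ⊓ centralizer ({d} : Set G)) := by
    have hcard := PSL2.card_psl_mul (F := F₀)
    rw [← Nat.card_congr e₀.toEquiv, Nat.card_eq_fintype_card (α := F₀)] at hcard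
    have hj0 : j ≠ 0 := fun e => by
      rw [e, pow_zero] at hj
      exact absurd (Fintype.one_lt_card (α := F₀)) (by omega)
    have h0 : 3 ∣ Fintype.card F₀ := hj ▸ dvd_pow_self 3 hj0
    refine ((Nat.prime_three.coprime_iff_not_dvd.2 fun hd' => ?_).dvd_of_dvd_mul_left
      (hcard ▸ dvd_mul_of_dvd_left h0 _))
    have := Nat.le_of_dvd (by decide) (hd'.trans (Nat.gcd_dvd_left 2 _))
    omega
  obtain ⟨⟨u, hu⟩, hu3⟩ := exists_prime_orderOf_dvd_card' 3 h3
  rw [Subgroup.orderOf_mk] at hu3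
  obtain ⟨U', Bl', T', h', huU⟩ := h.exists_conj hu.1 hu3
  have hfix : ∀ a ∈ D, Commute u a := fun a ha => by
    obtain ⟨i, hi⟩ := mem_zpowers_iff.1 (hgen ⟨a, ha⟩)
    rw [show a = d ^ i from (congrArg Subtype.val hi).symm]
    exact (show Commute u d from mem_centralizer_singleton_iff.1 hu.2).zpow_right i
  obtain ⟨v, hv, hv1⟩ : ∃ v ∈ V, v ≠ 1 := by
    by_contra hne
    push Not at hne
    have := fr.frame.card_V
    rw [(eq_bot_iff_forall _).2 hne, card_bot] at this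
    omega
  refine ⟨U', Bl', T', Bl' ⊓ Bl'.comap (MulAut.conj v).toMonoidHom, u, v, h', huU, hu3, hfix, hv, hv1,
    fun x => Iff.rfl⟩

variable {U Bl T H : Subgroup G} {u v : G} {n : ℕ}

namespace ABorel

variable (fr : FieldFrame G t F E L A V D) (a : ABorel V D L U Bl T H u v n)
include fr a

theorem vv : v * v = 1 := fr.frame.sq_V a.v_mem

theorem v_inv' : v⁻¹ = v := inv_eq_of_mul_eq_one_right (vv fr a)

theorem v_L : v ∈ L := fr.frame.memE₀ a.v_mem

theorem v_order : orderOf v = 2 := fr.frame.orderOf_V a.v_mem a.v_ne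

theorem v_t : Commute v t := fr.frame.commute_V a.v_mem

theorem v_D {d : G} (hd : d ∈ D) : Commute v d :=
  mem_centralizer_iff.1 (fr.cent_A hd) v (fr.frame.memA a.v_mem)

theorem v_not : v ∉ Bl := fun hv => by
  have := a.lt.borel_odd.of_dvd_nat (Subgroup.orderOf_dvd_natCard Bl hv)
  rw [v_order fr a] at this
  exact absurd this (by decide)

theorem u_ne : u ≠ 1 := fun e => by
  have := a.u_ord
  rw [e, orderOf_one] at this
  omega

theorem U_L : U ≤ L := a.lt.borel.leU.trans a.lt.borel.le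

theorem H_Bl : H ≤ Bl := fun x hx => ((a.H_mem x).1 hx).1

theorem H_L : H ≤ L := (H_Bl fr a).trans a.lt.borel.le

theorem H_inter {x : G} (hx : x ∈ U) (hxH : x ∈ H) : x = 1 := by
  obtain ⟨k, hk⟩ := a.lt.U_three ⟨x, hx⟩
  have hk' : x ^ (3 ^ k) = 1 := by simpa using congrArg (Subtype.val : U → G) hk
  refine a.lt.borel.disj v (v_L fr a) (v_not fr a) x hx (a.lt.mem_U ((a.H_mem x).1 hxH).2 (k := k) ?_)
  rw [conj_pow, hk', mul_one, mul_inv_cancel]

theorem Bl_norm : Bl ≤ normalizer (U : Set G) := fun b hb =>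
  Coprime.mem_normalizer_of_forall (a.lt.borel.norm b hb)

/-- The torus has order `(q - 1) / 2`. -/
theorem H_card : 2 * Nat.card H + 1 = 3 ^ n := by
  classical
  set c := (MulAut.conj v).toMonoidHom with hc
  set q := 3 ^ n with hq
  -- `H` embeds in `Bl / U`
  have hdisj : U.subgroupOf Bl ⊓ H.subgroupOf Bl = ⊥ := (eq_bot_iff_forall _).2 fun x hx =>
    Subtype.ext (H_inter fr a (mem_subgroupOf.1 hx.1) (mem_subgroupOf.1 hx.2))
  haveI : (U.subgroupOf Bl).Normal := normal_subgroupOf_of_le_normalizer (Bl_norm fr a)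
  set π := QuotientGroup.mk' (U.subgroupOf Bl) with hπ
  have hdvd : Nat.card H ∣ (U.subgroupOf Bl).index := by
    have hker : (π.comp (inclusion (H_Bl fr a))).ker = ⊥ := (eq_bot_iff_forall _).2 fun x hx => by
      have h1 : inclusion (H_Bl fr a) x ∈ U.subgroupOf Bl := (QuotientGroup.eq_one_iff _).1 hx
      exact Subtype.ext (H_inter fr a (mem_subgroupOf.1 h1) x.2)
    rw [Subgroup.index_eq_card]
    exact card_dvd_of_injective _ ((MonoidHom.ker_eq_bot_iff _).1 hker)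
  have hidx : 2 * (U.subgroupOf Bl).index = q - 1 := by
    have h1 := (U.subgroupOf Bl).card_mul_index
    rw [Cores.card_subgroupOf a.lt.borel.leU, a.lt.borel.cardU] at h1
    have h2 := a.lt.borel.cardB
    rw [← h1, mul_left_comm] at h2
    exact Nat.eq_of_mul_eq_mul_left (pow_pos (by norm_num) n) h2
  -- counting `Bl * Bl^v`
  have hle : Nat.card Bl * Nat.card Bl ≤ Nat.card L * Nat.card H := by
    let ψ : ↥Bl × ↥Bl → ↥L := fun p => ⟨(p.1 : G) * (v * p.2 * v⁻¹),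
      L.mul_mem (a.lt.borel.le p.1.2) (L.mul_mem (L.mul_mem (v_L fr a) (a.lt.borel.le p.2.2))
        (L.inv_mem (v_L fr a)))⟩
    have hfib : ∀ z, Nat.card {p : ↥Bl × ↥Bl // ψ p = z} ≤ Nat.card H := by
      intro z
      rcases isEmpty_or_nonempty {p : ↥Bl × ↥Bl // ψ p = z} with h0 | ⟨⟨p₀, hp₀⟩⟩
      · simp
      refine Nat.card_le_card_of_injective (fun p => (⟨(p₀.1.1 : G)⁻¹ * p.1.1, (a.H_mem _).2 ⟨?_, ?_⟩⟩ : ↥H)) ?_
      · exact Bl.mul_mem (Bl.inv_mem p₀.1.2) p.1.1.2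
      · have e : (p₀.1 : G) * (v * p₀.2 * v⁻¹) = p.1.1 * (v * p.1.2 * v⁻¹) :=
          congrArg Subtype.val (hp₀.trans p.2.symm)
        have e' : v * ((p₀.1 : G)⁻¹ * p.1.1) * v⁻¹ = v * v * ((p₀.2 : G) * (p.1.2 : G)⁻¹) * (v * v)⁻¹ := by
          calc v * ((p₀.1 : G)⁻¹ * p.1.1) * v⁻¹
              = v * ((p₀.1 : G)⁻¹ * (p.1.1 * (v * p.1.2 * v⁻¹)) * (v * p.1.2 * v⁻¹)⁻¹) * v⁻¹ := by group
            _ = _ := by rw [← e]; group
        rw [e', vv fr a]
        simpa using Bl.mul_mem p₀.2.2 (Bl.inv_mem p.1.2.2)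
      · rintro ⟨p, hp⟩ ⟨p', hp'⟩ he
        have h1 : (p.1 : G) = p'.1 := mul_left_cancel (congrArg Subtype.val he)
        have h2 : (p.1 : G) * (v * p.2 * v⁻¹) = p'.1 * (v * p'.2 * v⁻¹) :=
          congrArg Subtype.val (hp.trans hp'.symm)
        rw [h1] at h2
        exact Subtype.ext (Prod.ext (Subtype.ext h1) (Subtype.ext (mul_left_cancel (mul_right_cancel
          (mul_left_cancel h2)))))
    have := Fintype.ofFinite ↥L
    rw [← Nat.card_prod, ← Nat.card_congr (Equiv.sigmaFiberEquiv ψ), Nat.card_sigma, Nat.card_eq_fintype_card (α := ↥L),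
      ← Finset.card_univ, ← smul_eq_mul, ← Finset.sum_const]
    exact Finset.sum_le_sum fun z _ => hfib z
  obtain ⟨k, hk⟩ := hdvd
  have hcard := a.lt.card
  have hB := a.lt.borel.cardB
  have hmod := a.lt.q_mod
  rw [← hq] at hcard hB hmod
  have hqpos : 1 ≤ q := Nat.one_le_pow _ _ (by norm_num)
  obtain ⟨r, hr⟩ : ∃ r, q = r + 1 := ⟨q - 1, (Nat.sub_add_cancel hqpos).symm⟩
  have hr1 : 1 ≤ r := by rw [hr] at hmod; omega
  rw [hr, Nat.add_sub_cancel] at hB hcard hidx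
  rw [hr]
  rcases Nat.lt_or_ge 1 k with hk1 | hk1
  · exfalso
    have h4 : 4 * (Nat.card Bl * Nat.card Bl) ≤ 4 * (Nat.card L * Nat.card H) := Nat.mul_le_mul_left 4 hle
    rw [show 4 * (Nat.card Bl * Nat.card Bl) = (2 * Nat.card Bl) * (2 * Nat.card Bl) by ring, hB,
      show 4 * (Nat.card L * Nat.card H) = (2 * Nat.card L) * (2 * Nat.card H) by ring, hcard,
      show (r + 1) * r * ((r + 1) * r) = ((r + 1) * r) * ((r + 1) * r) from rfl,
      show (r + 1) * ((r + 1 + 1) * r) * (2 * Nat.card H) = ((r + 1) * r) * ((r + 2) * (2 * Nat.card H)) by ring]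
      at h4
    have h5 : (r + 1) * r ≤ (r + 2) * (2 * Nat.card H) :=
      Nat.le_of_mul_le_mul_left h4 (Nat.mul_pos (by omega) (by omega))
    have h6 : 2 * (2 * Nat.card H) ≤ r := by
      rw [← hidx, hk]
      exact Nat.mul_le_mul_left 2 (by rw [mul_comm 2]; exact Nat.mul_le_mul_left _ hk1)
    have h7 : 2 * ((r + 2) * (2 * Nat.card H)) ≤ (r + 2) * r := by
      rw [mul_left_comm]; exact Nat.mul_le_mul_left _ h6
    have h8 : 1 * r ≤ r * r := Nat.mul_le_mul_right r hr1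
    nlinarith
  · have hk0 : k = 1 := by
      rcases Nat.eq_zero_or_pos k with e | e
      · rw [e, mul_zero] at hk; omega
      · omega
    rw [hk0, mul_one] at hk
    omega

theorem Bl_eq : U ⊔ H = Bl := by
  refine eq_of_le_of_card_ge (sup_le a.lt.borel.leU (H_Bl fr a)) (le_of_eq ?_)
  rw [sup_comm, Frobenius.card_sup_of_disjoint ((H_Bl fr a).trans (Bl_norm fr a))
    (disjoint_iff.2 ((eq_bot_iff_forall _).2 fun x hx => H_inter fr a hx.2 hx.1)), a.lt.borel.cardU]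
  have h2 := a.lt.borel.cardB
  rw [← H_card fr a, Nat.add_sub_cancel] at h2
  refine Nat.eq_of_mul_eq_mul_left two_pos ?_
  rw [h2, ← H_card fr a]
  ring

theorem exists_Bl {x : G} (hx : x ∈ Bl) : ∃ w ∈ U, ∃ h ∈ H, w * h = x := by
  rw [← Bl_eq fr a] at hx
  exact (Coprime.mem_sup_iff ((H_Bl fr a).trans (Bl_norm fr a))).1 hx

/-- `H` is abelian: it is a copy of `T`. -/
theorem H_comm {x y : G} (hx : x ∈ H) (hy : y ∈ H) : Commute x y := by
  have hTU : ∀ z ∈ T, z ∈ U → z = 1 := fun z hz hzU => by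
    by_contra hne
    have h3 := Subgroup.orderOf_dvd_natCard T hz
    rw [a.lt.orderOf_three hzU hne] at h3
    have := a.lt.borel.cardT
    exact a.lt.three_not_dvd (this ▸ h3.mul_left 2)
  have hBT : Bl = U ⊔ T := by
    refine (eq_of_le_of_card_ge (sup_le a.lt.borel.leU a.lt.borel.leT) (le_of_eq ?_)).symm
    rw [sup_comm, Frobenius.card_sup_of_disjoint (a.lt.borel.leT.trans (Bl_norm fr a))
      (disjoint_iff.2 ((eq_bot_iff_forall _).2 fun z hz => hTU z hz.1 hz.2)), a.lt.borel.cardU]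
    refine Nat.eq_of_mul_eq_mul_left two_pos ?_
    rw [a.lt.borel.cardB, ← a.lt.borel.cardT]
    ring
  have hTn : T ≤ normalizer (U : Set G) := a.lt.borel.leT.trans (Bl_norm fr a)
  have hmemT : ∀ z ∈ H, ∃ w ∈ U, ∃ s ∈ T, w * s = z := fun z hz =>
    (Coprime.mem_sup_iff hTn).1 (hBT ▸ H_Bl fr a hz)
  obtain ⟨w, hw, s, hs, rfl⟩ := hmemT x hx
  obtain ⟨w', hw', s', hs', rfl⟩ := hmemT y hy
  have hn : ∀ b ∈ Bl, ∀ z ∈ U, b * z * b⁻¹ ∈ U := a.lt.borel.norm
  have hc : w * s * (w' * s') * (w * s)⁻¹ * (w' * s')⁻¹ ∈ U := by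
    have e : w * s * (w' * s') * (w * s)⁻¹ * (w' * s')⁻¹
        = w * (s * w' * s⁻¹) * (s * s' * s⁻¹ * w⁻¹ * (s * s' * s⁻¹)⁻¹) * (s * s' * s⁻¹ * s'⁻¹) * w'⁻¹ := by
      group
    rw [e, a.lt.borel.comm s hs s' hs', show s' * s * s⁻¹ * s'⁻¹ = 1 by group, mul_one, show s' * s * s⁻¹ = s' by group]
    exact U.mul_mem (U.mul_mem (U.mul_mem hw (hn s (a.lt.borel.leT hs) _ hw'))
      (hn s' (a.lt.borel.leT hs') _ (U.inv_mem hw))) (U.inv_mem hw')
  exact mul_inv_eq_iff_eq_mul.1 (mul_inv_eq_one.1 (H_inter fr a hc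
    (H.mul_mem (H.mul_mem (H.mul_mem hx hy) (H.inv_mem hx)) (H.inv_mem hy))))

theorem H_three : ¬ 3 ∣ Nat.card H := fun h => by
  have h1 := H_card fr a
  have h3 := a.lt.three_not_dvd
  exact h3 (by rw [← h1, Nat.add_sub_cancel]; exact h.mul_left 2)

/-- Centralisers of torus elements. -/
theorem cent_H {x : G} (hx : x ∈ H) (hp : (orderOf x).Prime) :
    ∃ z ∈ L, L ⊓ centralizer ({x} : Set G) = zpowers z ∧ 2 * orderOf z = 3 ^ n - 1 := by
  have hd := Subgroup.orderOf_dvd_natCard H hx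
  have h3 : ¬ orderOf x ∣ 3 := fun e =>
    H_three fr a ((Nat.prime_dvd_prime_iff_eq hp Nat.prime_three).1 e ▸ hd)
  have hHo : Odd (Nat.card H) := a.lt.borel_odd.of_dvd_nat (card_dvd_of_le (H_Bl fr a))
  have h2 : orderOf x ≠ 2 := fun e => absurd (e ▸ hHo.of_dvd_nat hd) (by decide)
  have h5 : 3 ≤ orderOf x := by have := hp.two_le; omega
  obtain ⟨z, hzL, hz, hzo | hzo⟩ := a.lt.cent_tor x (H_L fr a hx) h3 h5
  · exact ⟨z, hzL, hz, hzo⟩
  exfalso
  have hxz : x ∈ zpowers z := hz ▸ ⟨H_L fr a hx, mem_centralizer_singleton_iff.2 rfl⟩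
  have h4 := Subgroup.orderOf_dvd_natCard _ hxz
  rw [Nat.card_zpowers] at h4
  have h6 : orderOf x ∣ 2 * Nat.card H + 2 := by
    rw [show 2 * Nat.card H + 2 = 2 * Nat.card H + 1 + 1 by rfl, H_card fr a, ← hzo]; exact h4.mul_left 2
  have := Nat.le_of_dvd two_pos ((Nat.dvd_add_right (hd.mul_left 2)).1 h6)
  omega

theorem H_cyclic : IsCyclic H := by
  rcases eq_or_ne (Nat.card H) 1 with h1 | h1
  · haveI : Subsingleton H := (Nat.card_eq_one_iff_unique.1 h1).1
    infer_instance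
  obtain ⟨p, hp, hpd⟩ := Nat.exists_prime_and_dvd h1
  haveI := Fact.mk hp
  obtain ⟨⟨x, hx⟩, hxo⟩ := exists_prime_orderOf_dvd_card' (G := H) p hpd
  rw [Subgroup.orderOf_mk] at hxo
  obtain ⟨z, -, hz, -⟩ := cent_H fr a hx (hxo ▸ hp)
  exact isCyclic_of_injective (inclusion fun y hy => hz.le
    ⟨H_L fr a hy, mem_centralizer_singleton_iff.2 (H_comm fr a hy hx).eq⟩) (inclusion_injective _)

theorem cent_H_le {x y : G} (hx : x ∈ H) (hp : (orderOf x).Prime) (hy : y ∈ L) (hc : Commute y x) : y ∈ H := by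
  obtain ⟨z, -, hz, hzo⟩ := cent_H fr a hx hp
  have hle : H ≤ zpowers z := fun w hw =>
    hz.le ⟨H_L fr a hw, mem_centralizer_singleton_iff.2 (H_comm fr a hw hx).eq⟩
  rw [eq_of_le_of_card_ge hle (by rw [Nat.card_zpowers]; have := H_card fr a; omega)]
  exact hz.le ⟨hy, mem_centralizer_singleton_iff.2 hc.eq⟩

/-- `v` inverts elements of prime order of `H`. -/
theorem v_inverts {x : G} (hx : x ∈ H) (hp : (orderOf x).Prime) : v * x * v⁻¹ = x⁻¹ := by
  have hvH : v * x * v⁻¹ ∈ H := by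
    refine (a.H_mem _).2 ⟨((a.H_mem x).1 hx).2, ?_⟩
    rw [show v * (v * x * v⁻¹) * v⁻¹ = v * v * x * (v * v)⁻¹ by group, vv fr a]
    simpa using H_Bl fr a hx
  -- `v x v` is a power of `x`
  haveI := H_cyclic fr a
  have hmem : v * x * v⁻¹ ∈ zpowers x := by
    classical
    have := Fintype.ofFinite ↥H
    set S : Finset ↥H := Finset.filter (fun z : ↥H => z ^ orderOf x = 1) Finset.univ with hS
    have hSle : S.card ≤ orderOf x := IsCyclic.card_pow_eq_one_le (orderOf_pos x)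
    set T' : Finset ↥H := Finset.filter (fun z : ↥H => (z : G) ∈ zpowers x) Finset.univ with hT'
    have hTS : T' ⊆ S := fun z hz => by
      rw [hT', Finset.mem_filter] at hz
      rw [hS, Finset.mem_filter]
      obtain ⟨i, hi⟩ := mem_zpowers_iff.1 hz.2
      refine ⟨hz.1, Subtype.ext ?_⟩
      rw [SubmonoidClass.coe_pow, ← hi, ← zpow_natCast, zpow_comm, zpow_natCast, pow_orderOf_eq_one, one_zpow]
      rfl
    have hTc : T'.card = orderOf x := by
      rw [← Nat.card_zpowers, hT', ← Fintype.card_subtype, ← Nat.card_eq_fintype_card]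
      exact Nat.card_congr (subgroupOfEquivOfLe (zpowers_le.2 hx)).toEquiv
    have hin : (⟨_, hvH⟩ : ↥H) ∈ S := by
      rw [hS, Finset.mem_filter]
      refine ⟨Finset.mem_univ _, Subtype.ext ?_⟩
      show (v * x * v⁻¹) ^ orderOf x = 1
      rw [conj_pow, pow_orderOf_eq_one, mul_one, mul_inv_cancel]
    rw [← Finset.eq_of_subset_of_card_le hTS (by omega), hT', Finset.mem_filter] at hin
    exact hin.2
  obtain ⟨j, hj⟩ := mem_zpowers_iff.1 hmem
  have hj2 : x ^ (j * j) = x := by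
    rw [zpow_mul, hj, conj_zpow, hj, show v * (v * x * v⁻¹) * v⁻¹ = v * v * x * (v * v)⁻¹ by group, vv fr a]
    group
  have hd : (orderOf x : ℤ) ∣ (j - 1) * (j + 1) := by
    rw [orderOf_dvd_iff_zpow_eq_one, show (j - 1) * (j + 1) = j * j - 1 by ring, zpow_sub, hj2, zpow_one,
      mul_inv_cancel]
  rcases (Nat.prime_iff_prime_int.1 hp).dvd_mul.1 hd with h1 | h1
  · exfalso
    refine v_not fr a (H_Bl fr a (cent_H_le fr a hx hp (v_L fr a) ?_))
    rw [orderOf_dvd_iff_zpow_eq_one, zpow_sub, hj, zpow_one, mul_inv_eq_one] at h1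
    exact mul_inv_eq_iff_eq_mul.1 h1
  · rw [orderOf_dvd_iff_zpow_eq_one, zpow_add, hj, zpow_one] at h1
    exact eq_inv_of_mul_eq_one_left h1

/-! ## The action of `D` -/

theorem D_U {d w : G} (hd : d ∈ D) (hw : w ∈ U) : d * w * d⁻¹ ∈ U := by
  refine a.lt.le_U (X := U.map (MulAut.conj d).toMonoidHom) ?_ (a.lt.U_three.map _) a.u_mem (u_ne fr a) ?_
    ⟨w, hw, rfl⟩
  · rintro _ ⟨z, hz, rfl⟩
    exact fr.frame.norm d (fr.D_le hd) z (U_L fr a hz)
  · exact ⟨u, a.u_mem, mul_inv_eq_iff_eq_mul.2 (a.u_fix d hd).symm.eq⟩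

theorem D_Bl {d b : G} (hd : d ∈ D) (hb : b ∈ Bl) : d * b * d⁻¹ ∈ Bl := by
  refine a.lt.borel.self _ (fr.frame.norm d (fr.D_le hd) b (a.lt.borel.le hb)) fun x hx => ?_
  have h1 : d⁻¹ * x * d ∈ U := by simpa using D_U fr a (D.inv_mem hd) hx
  have h2 := D_U fr a hd (a.lt.borel.norm b hb _ h1)
  convert h2 using 1
  group

theorem D_H {d h : G} (hd : d ∈ D) (hh : h ∈ H) : d * h * d⁻¹ ∈ H := by
  refine (a.H_mem _).2 ⟨D_Bl fr a hd (H_Bl fr a hh), ?_⟩
  have e : v * (d * h * d⁻¹) * v⁻¹ = d * (v * h * v⁻¹) * d⁻¹ := by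
    rw [show v * (d * h * d⁻¹) * v⁻¹ = v * d * h * (v * d)⁻¹ by group, (v_D fr a hd).eq]
    group
  rw [e]
  exact D_Bl fr a hd ((a.H_mem h).1 hh).2

theorem free {h w : G} (hh : h ∈ H) (hw : w ∈ U) (hc : Commute h w) (hw1 : w ≠ 1) : h = 1 :=
  H_inter fr a ((a.lt.cent_U hw hw1).le ⟨H_L fr a hh, mem_centralizer_singleton_iff.2 hc.eq⟩) hh

end ABorel

end Cfsg.Agent.AbelianSylow.Field
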