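import Cfsg.Agent.Lib.AbelianSylow.Cent.CoreBasic
import Cfsg.Agent.Lib.ZStar.KleinOrder
import Cfsg.Agent.Lib.Coprime.Generation
import Cfsg.Agent.Lib.Coprime.Factorization
import Cfsg.Agent.Lib.Cores.Basic
import Cfsg.Agent.Lib.OddOrderTheorem.Basic

/-!
# No field automorphism: centralisers of torus elements (owner: helper82; `FIELD.md` step 1)

* `NoInverted G` : no involution inverts an element of order 3 in the centraliser of a commuting one
* `centralizes_three` : a `t`-invariant 3-subgroup of the centraliser of an inverted torus element is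
  centralised by `t`
-/

set_option autoImplicit false
set_option linter.style.haveILetI false

namespace Cfsg.Agent.AbelianSylow.Field

open Subgroup

universe u

variable {G : Type u} [Group G] [Finite G]

/-- For commuting involutions `a ≠ b` no element of order `3` of `C(a)` is inverted by `b`. -/
def NoInverted (G : Type u) [Group G] : Prop :=
  ∀ a b x : G, orderOf a = 2 → orderOf b = 2 → a ≠ b → Commute a b → Commute a x →
    x ^ 3 = 1 → b * x * b⁻¹ = x⁻¹ → x = 1

/-- A `3`-element of `C(a)` inverted by `b` is trivial. -/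
theorem NoInverted.eq_one (hn : NoInverted G) {a b x : G} (ha : orderOf a = 2) (hb : orderOf b = 2)
    (hab : a ≠ b) (hc : Commute a b) (hax : Commute a x) {k : ℕ} (hx : x ^ (3 ^ k) = 1)
    (hinv : b * x * b⁻¹ = x⁻¹) : x = 1 := by
  induction k generalizing x with
  | zero => simpa using hx
  | succ k ih =>
    have h3 : x ^ (3 ^ k) = 1 := hn a b _ ha hb hab hc (hax.pow_right _)
      (by rw [← pow_mul, ← pow_succ, hx]) (by rw [← conj_pow, hinv, inv_pow])
    exact ih hax h3 hinv

/-- **Torus centralisers.** -/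
theorem centralizes_three (h : Elem8 G) (hn : NoInverted G) {t s y : G} (ht : orderOf t = 2)
    (hs : orderOf s = 2) (hts : t ≠ s) (hc : Commute t s) (hy : s * y * s⁻¹ = y⁻¹) (hty : Commute t y)
    (honly : ∀ x : G, Commute x t → Commute x y → x * x = 1 → x = 1 ∨ x = t) {W : Subgroup G}
    (hW : IsPGroup 3 W) (hWy : ∀ w ∈ W, Commute w y) (hWt : t ∈ normalizer (W : Set G)) :
    ∀ w ∈ W, Commute w t := by
  haveI : Fact (Nat.Prime 2) := ⟨Nat.prime_two⟩
  haveI : Fact (Nat.Prime 3) := ⟨Nat.prime_three⟩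
  set C := centralizer ({y} : Set G) with hC
  have htC : t ∈ C := mem_centralizer_singleton_iff.2 hty.eq
  -- the Sylow 2-subgroup of `C(y)` is `⟨t⟩`
  have hz : IsPGroup 2 (zpowers (⟨t, htC⟩ : C)) :=
    IsPGroup.of_card (n := 1) (by rw [Nat.card_zpowers, Subgroup.orderOf_mk, ht, pow_one])
  obtain ⟨T, hT⟩ := hz.exists_le_sylow
  obtain ⟨S, hS⟩ := (T.2.map C.subtype).exists_le_sylow
  have hTle : (T : Subgroup C) ≤ zpowers (⟨t, htC⟩ : C) := fun x hx => by
    have hxS : (x : G) ∈ (S : Subgroup G) := hS ⟨x, hx, rfl⟩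
    rcases honly x (h.commute_mem S hxS (hS ⟨_, hT (mem_zpowers _), rfl⟩))
      (mem_centralizer_singleton_iff.1 x.2) (h.sq S hxS) with h1 | h1
    · rw [show x = 1 from Subtype.ext h1]; exact one_mem _
    · rw [show x = ⟨t, htC⟩ from Subtype.ext h1]; exact mem_zpowers _
  have hTeq : (T : Subgroup C) = zpowers (⟨t, htC⟩ : C) := le_antisymm hTle hT
  have hTc : IsCyclic (T : Subgroup C) := by rw [hTeq]; infer_instance
  have heven : 2 ∣ Nat.card C := by
    rw [← ht, ← Subgroup.orderOf_mk t htC]; exact orderOf_dvd_natCard _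
  have hidx := KleinOrder.card_pPrimeCore_of_cyclic T hTc heven
  set K := (Cfsg.pPrimeCore 2 C).map C.subtype with hK
  have hKodd : ¬ 2 ∣ Nat.card K := by rw [hK, Cores.card_map_subtype]; exact Cores.not_dvd_card_pPrimeCore
  -- it contains the elements of odd order
  have hKmem : ∀ w ∈ W, w ∈ K := by
    intro w hw
    haveI : (Cfsg.pPrimeCore 2 C).Normal := Cores.pPrimeCore_normal 2 C
    refine ⟨⟨w, mem_centralizer_singleton_iff.2 (hWy w hw).eq⟩, ?_, rfl⟩
    set w' : C := ⟨w, mem_centralizer_singleton_iff.2 (hWy w hw).eq⟩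
    obtain ⟨k, hk⟩ := hW ⟨w, hw⟩
    have hk' : (w' : C) ^ (3 ^ k) = 1 := Subtype.ext (congrArg (Subtype.val : W → G) hk)
    have h2 : (Cfsg.pPrimeCore 2 C).index = 2 := by
      have h1 := (Cfsg.pPrimeCore 2 C).card_mul_index
      have h3 := (T : Subgroup C).card_mul_index
      rw [hidx] at h1
      have hcT : Nat.card (T : Subgroup C) = 2 := by rw [hTeq, Nat.card_zpowers, Subgroup.orderOf_mk, ht]
      rw [hcT, ← h1, mul_comm 2] at h3
      exact (Nat.eq_of_mul_eq_mul_left (Nat.pos_of_ne_zero index_ne_zero_of_finite) h3).symm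
    have hq : orderOf (QuotientGroup.mk' (Cfsg.pPrimeCore 2 C) w') = 1 := Nat.eq_one_of_dvd_coprimes
      ((Nat.coprime_primes Nat.prime_two Nat.prime_three).2 (by decide) |>.pow_right k)
      ((_root_.orderOf_dvd_natCard _).trans (by rw [← index_eq_card, h2]))
      (orderOf_dvd_of_pow_eq_one (by rw [← map_pow, hk', map_one]))
    exact (QuotientGroup.eq_one_iff _).1 (orderOf_eq_one_iff.1 hq)
  -- the four group `⟨t, s⟩`
  set E := closure ({t, s} : Set G) with hE
  have htt := Involution.mul_self ht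
  have hss := Involution.mul_self hs
  have hEab : IsMulCommutative E := ⟨⟨fun a b => by
    have hE2 : ∀ x ∈ E, x * x = 1 := fun x hx => by
      obtain ⟨S', hS'⟩ := (Core.isPGroup_closure_pair htt hss hc).exists_le_sylow
      exact h.sq S' (hS' hx)
    have e : ∀ x ∈ E, x⁻¹ = x := fun x hx => inv_eq_of_mul_eq_one_right (hE2 x hx)
    refine Subtype.ext (show (a : G) * b = b * a from ?_)
    calc (a : G) * b = (a * b : G)⁻¹ := (e _ (E.mul_mem a.2 b.2)).symm
      _ = b * a := by rw [mul_inv_rev, e _ a.2, e _ b.2]⟩⟩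
  haveI := hEab
  have hEc : ¬ IsCyclic E := by
    intro hcyc
    have htE : t ∈ E := subset_closure (Or.inl rfl)
    have hsE : s ∈ E := subset_closure (Or.inr rfl)
    obtain ⟨g, hg⟩ := hcyc.exists_generator
    have hg2 : g * g = 1 := by
      obtain ⟨S', hS'⟩ := (Core.isPGroup_closure_pair htt hss hc).exists_le_sylow
      exact Subtype.ext (h.sq S' (hS' g.2))
    have h2 : ∀ x : E, x = 1 ∨ x = g := fun x => by
      obtain ⟨i, rfl⟩ := mem_zpowers_iff.1 (hg x)
      rcases Int.even_or_odd i with ⟨j, rfl⟩ | ⟨j, rfl⟩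
      · left; rw [← two_mul, zpow_mul, zpow_two, hg2, one_zpow]
      · right; rw [zpow_add_one, zpow_mul, zpow_two, hg2, one_zpow, one_mul]
    rcases h2 ⟨t, htE⟩ with h1 | h1
    · exact Involution.ne_one ht (congrArg Subtype.val h1)
    rcases h2 ⟨s, hsE⟩ with h3 | h3
    · exact Involution.ne_one hs (congrArg Subtype.val h3)
    exact hts (congrArg Subtype.val (h1.trans h3.symm))
  have hCK : normalizer (C : Set G) ≤ normalizer (K : Set G) := Cores.normalizer_le_normalizer_map _
  have hEK : E ≤ normalizer (K : Set G) := by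
    rw [hE, closure_le]
    rintro x (rfl | rfl)
    · exact hCK (le_normalizer htC)
    · refine hCK (Coprime.mem_normalizer_of_forall fun z hz => ?_)
      rw [hC, mem_centralizer_singleton_iff] at hz ⊢
      have : Commute (x * z * x⁻¹) (x * y * x⁻¹) := (Commute.conj_iff x).2 hz
      rw [hy, Commute.inv_right_iff] at this
      exact this.eq
  have hE2 : IsPGroup 2 E := Core.isPGroup_closure_pair htt hss hc
  have hcopE : (Nat.card E).Coprime (Nat.card K) := by
    obtain ⟨n, hn⟩ := IsPGroup.iff_card.1 hE2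
    rw [hn]; exact Nat.Coprime.pow_left n (Nat.prime_two.coprime_iff_not_dvd.2 hKodd)
  have hsolK : Group.IsSolvable K :=
    OddOrderTheorem.solvable (Nat.not_even_iff_odd.1 fun e => hKodd (even_iff_two_dvd.1 e))
  obtain ⟨P, -, hPK, hPE, hPc⟩ := Coprime.exists_invariant_card hEK hcopE (Or.inr hsolK) 3
    (bot_le : (⊥ : Subgroup G) ≤ K) IsPGroup.of_bot (fun e _ => mem_normalizer_iff.2 fun x => by simp)
  have hP3 : IsPGroup 3 P := Coprime.isPGroup_of_card hPc
  have htE : t ∈ E := subset_closure (Or.inl rfl)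
  -- `t` centralises `P`
  have hPt : P ≤ centralizer ({t} : Set G) := by
    refine Coprime.le_of_noncyclic hEc hPE (hcopE.coprime_dvd_right (card_dvd_of_le hPK)) fun a ha ha1 => ?_
    rintro x ⟨hxP, hxa⟩
    replace hxa : x * a = a * x := mem_centralizer_singleton_iff.1 hxa
    rw [mem_centralizer_singleton_iff]
    by_cases hat : a = t
    · exact hat ▸ hxa
    have haC : Commute a t := congrArg Subtype.val (mul_comm' (⟨a, ha⟩ : E) ⟨t, htE⟩)
    have ha2 : orderOf a = 2 := orderOf_eq_prime (by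
      obtain ⟨S', hS'⟩ := hE2.exists_le_sylow
      rw [pow_two]; exact h.sq S' (hS' ha)) ha1
    set z := x⁻¹ * (t * x * t⁻¹) with hz'
    have hzP : z ∈ P := P.mul_mem (P.inv_mem hxP) ((mem_normalizer_iff.1 (hPE htE) x).1 hxP)
    obtain ⟨k, hk⟩ := hP3 ⟨z, hzP⟩
    have hti : t⁻¹ = t := inv_eq_of_mul_eq_one_right htt
    have hxa' : Commute x a := hxa
    have hinv : t * z * t⁻¹ = z⁻¹ := by
      have e1 : t * t * x * t⁻¹ * t⁻¹ = x := by
        rw [htt, one_mul, hti, mul_assoc, htt, mul_one]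
      calc t * z * t⁻¹ = t * x⁻¹ * t⁻¹ * (t * t * x * t⁻¹ * t⁻¹) := by rw [hz']; group
        _ = t * x⁻¹ * t⁻¹ * x := by rw [e1]
        _ = z⁻¹ := by rw [hz']; group
    have hza : Commute a z := hxa'.symm.inv_right.mul_right ((haC.mul_right hxa'.symm).mul_right haC.inv_right)
    have hz1 : z = 1 := hn.eq_one ha2 ht hat haC hza (k := k) (congrArg Subtype.val hk) hinv
    rw [hz', inv_mul_eq_one] at hz1
    exact (mul_inv_eq_iff_eq_mul.1 hz1.symm).symm
  -- an invariant Sylow subgroup over `W` is conjugate to `P` under `C(t)`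
  have htK : zpowers t ≤ normalizer (K : Set G) := zpowers_le.2 (hEK htE)
  have hcopt : (Nat.card (zpowers t)).Coprime (Nat.card K) := by
    rw [Nat.card_zpowers, ht]; exact Nat.prime_two.coprime_iff_not_dvd.2 hKodd
  obtain ⟨Q, hWQ, hQK, hQt, hQc⟩ := Coprime.exists_invariant_card htK hcopt (Or.inr hsolK) 3
    hKmem hW (zpowers_le.2 hWt)
  obtain ⟨c, hc', hcQ⟩ := Coprime.exists_mem_centralizer_conj_of_card htK hcopt (Or.inr hsolK) hPK hQK
    (zpowers_le.2 (hPE htE)) hQt hPc hQc
  intro w hw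
  have h1 : c * w * c⁻¹ ∈ P := hcQ ▸ Coprime.conj_mem_conj.2 (hWQ hw)
  have h2 : Commute (c * w * c⁻¹) t := mem_centralizer_singleton_iff.1 (hPt h1)
  have hct : Commute c t := (mem_centralizer_iff.1 hc'.2 t (mem_zpowers t)).symm
  have h3 := (hct.inv_left.mul_left h2).mul_left hct
  rwa [show c⁻¹ * (c * w * c⁻¹) * c = w by group] at h3

end Cfsg.Agent.AbelianSylow.Field
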