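import Cfsg.Agent.Lib.AbelianSylow.Cent.FieldCaseAGroup
import Cfsg.Agent.Lib.AbelianSylow.Cent.FieldLocal
import Cfsg.Agent.Lib.AbelianSylow.Cent.FieldTorus

/-!
# Part (a), case `(A)`: the supplier of `ThreeCtx` (owner: helper82)

* `ABorel.noInverted` : `NoInverted G`
* `ABorel.small`      : `4` does not divide the normaliser of a `3`-group normalised by `t` and `Bl ⊔ D`
* `ABorel.cent_torus` : the `cent_H` field
* `ABorel.exists_threeCtx`
-/

set_option autoImplicit false
set_option linter.style.haveILetI false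
set_option linter.unusedSectionVars false

namespace Cfsg.Agent.AbelianSylow.Field

open Subgroup

universe u

variable {G : Type u} [Group G] [Finite G] {t : G} {F : Type} [Field F] [Fintype F] {E L : Subgroup G}
  {A : Sylow 2 G} {V D : Subgroup G} {U Bl T H : Subgroup G} {u v : G} {n : ℕ}

/-- Two commuting involutions, one of them `t`: the other is `z` or `t z` with `z ∈ L`. -/
theorem FieldFrame.exists_L (fr : FieldFrame G t F E L A V D) {b : G} (hb : orderOf b = 2) (hbt : Commute b t)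
    (hne : b ≠ t) : ∃ z ∈ L, z * z = 1 ∧ z ≠ 1 ∧ (b = z ∨ b = t * z) := by
  obtain ⟨z, hz, hz2, hbz⟩ := (fr.shape.ctx.exists_of_involution hb hbt).resolve_left hne
  exact ⟨z, hz, Involution.mul_self hz2, Involution.ne_one hz2, hbz⟩

theorem orderOf_two_of_sq {G : Type u} [Group G] {x : G} (h : x * x = 1) (h1 : x ≠ 1) : orderOf x = 2 := by
  haveI : Fact (Nat.Prime 2) := ⟨Nat.prime_two⟩
  exact orderOf_eq_prime (by rw [pow_two, h]) h1

namespace ABorel

variable (fr : FieldFrame G t F E L A V D) (a : ABorel V D L U Bl T H u v n)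
include fr a

theorem B_le_cent : Bl ⊔ D ≤ centralizer ({t} : Set G) := fun _ hx =>
  mem_centralizer_singleton_iff.2 (fr.frame.comm _ (B_le_E fr a hx)).eq

theorem noInverted : NoInverted G := by
  intro c b x hc hb hcb hcomm hcx hx3 hinv
  obtain ⟨g, hg⟩ := fr.shape.elem.one_class hc fr.frame.ht
  set φ : G ≃* G := MulAut.conj g
  have hφc : φ c = t := hg
  suffices h : φ x = 1 by simpa using h
  have hb' : orderOf (φ b) = 2 := by rw [MulEquiv.orderOf_eq, hb]
  have hbt : Commute (φ b) t := hφc ▸ (hcomm.symm.map φ.toMonoidHom)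
  have hxt : Commute (φ x) t := hφc ▸ (hcx.symm.map φ.toMonoidHom)
  have hx3' : (φ x) ^ 3 = 1 := by rw [← map_pow, hx3, map_one]
  have hinv' : φ b * φ x * (φ b)⁻¹ = (φ x)⁻¹ := by rw [← map_inv, ← map_mul, ← map_mul, hinv, map_inv]
  have hne : φ b ≠ t := fun e => hcb (φ.injective (hφc.trans e.symm))
  obtain ⟨z, hz, hz2, -, hbz⟩ := fr.exists_L hb' hbt hne
  set x' := φ x
  have hxo : Odd (orderOf x') := Odd.of_dvd_nat (by decide) (orderOf_dvd_of_pow_eq_one hx3')
  have hxE : x' ∈ E := fr.frame.toCtx.mem_of_odd hxt hxo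
  have hzx : z * x' * z⁻¹ = x'⁻¹ := by
    rcases hbz with e | e
    · rw [← e]; exact hinv'
    · rw [← hinv', e]
      have h1 : Commute (z * x' * z⁻¹) t := ((fr.frame.toCtx.commute_of_mem hz).mul_left hxt).mul_left
        (fr.frame.toCtx.commute_of_mem hz).inv_left
      rw [show t * z * x' * (t * z)⁻¹ = t * (z * x' * z⁻¹) * t⁻¹ by group, ← h1.eq, mul_inv_cancel_right]
  obtain ⟨w, hw, d, hd, he⟩ := fr.split x' hxE
  -- the `D`-part is inverted, hence trivial
  obtain ⟨ρ, hρ⟩ := fr.exists_rho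
  have hzC : z ∈ centralizer ({t} : Set G) :=
    mem_centralizer_singleton_iff.2 (fr.frame.toCtx.commute_of_mem hz).eq
  have hxC : x' ∈ centralizer ({t} : Set G) := mem_centralizer_singleton_iff.2 hxt.eq
  have hρz : ρ ⟨z, hzC⟩ = 1 := hρ _ z 1 hz D.one_mem (Or.inl (by simp))
  have hρx : ρ ⟨x', hxC⟩ = ⟨d, hd⟩ := hρ _ w d hw hd (Or.inl he)
  have h1 := congrArg ρ (show (⟨z, hzC⟩ : centralizer ({t} : Set G)) * ⟨x', hxC⟩ * ⟨z, hzC⟩⁻¹ = ⟨x', hxC⟩⁻¹
    from Subtype.ext hzx)
  rw [map_mul, map_mul, map_inv, map_inv, hρz, hρx, inv_one, mul_one, one_mul] at h1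
  have hd1 : d = 1 := eq_one_of_inv_eq fr.D_odd hd (congrArg Subtype.val h1)
  subst hd1
  rw [mul_one] at he
  exact a.lt.borel.nonreal x' (he ▸ hw) hx3' z hz hz2 hzx

theorem small {Z : Subgroup G} (hF : Fintype.card F = 3 ^ n) (hZ : Z ≠ ⊥) (hZ3 : IsPGroup 3 Z)
    (htZ : t ∈ normalizer (Z : Set G)) (hBZ : Bl ⊔ D ≤ normalizer (Z : Set G)) :
    ¬ 4 ∣ Nat.card (normalizer (Z : Set G)) := by
  intro h4
  haveI : Fact (Nat.Prime 2) := ⟨Nat.prime_two⟩
  haveI : Fact (Nat.Prime 3) := ⟨Nat.prime_three⟩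
  set N := normalizer (Z : Set G)
  obtain ⟨S, hS⟩ := Core.exists_sylow_mem (G := N) (a := ⟨t, htZ⟩) (Subtype.ext fr.frame.mul_self_t)
  -- a second involution commuting with `t`
  obtain ⟨b, hb, hbt, hne, hbN⟩ : ∃ b : G, orderOf b = 2 ∧ Commute b t ∧ b ≠ t ∧ b ∈ N := by
    have hS4 : 4 ∣ Nat.card (S : Subgroup N) := by
      simpa using S.pow_dvd_card_of_pow_dvd_card (n := 2) (by simpa using h4)
    obtain ⟨R, hR⟩ := (S.2.map N.subtype).exists_le_sylow
    obtain ⟨b, hb, hb1, hbt⟩ : ∃ b ∈ (S : Subgroup N), b ≠ 1 ∧ b ≠ ⟨t, htZ⟩ := by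
      classical
      by_contra hc
      push Not at hc
      have hle : Nat.card (S : Subgroup N) ≤ 2 := by
        refine (Nat.card_le_card_of_injective (fun z : ↥(S : Subgroup N) => if (z : N) = 1 then (0 : Fin 2) else 1)
          ?_).trans (Nat.card_fin 2).le
        intro z z' e
        by_cases h1 : (z : N) = 1 <;> by_cases h2 : (z' : N) = 1 <;> simp [h1, h2] at e
        · exact Subtype.ext (h1.trans h2.symm)
        · exact Subtype.ext ((hc _ z.2 h1).trans (hc _ z'.2 h2).symm)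
      have := Nat.le_of_dvd Nat.card_pos hS4
      omega
    have hbR : (b : G) ∈ (R : Subgroup G) := hR ⟨b, hb, rfl⟩
    exact ⟨b, fr.shape.elem.orderOf_mem R hbR (fun e => hb1 (Subtype.ext e)),
      fr.shape.elem.commute_mem R hbR (hR ⟨_, hS, rfl⟩), fun e => hbt (Subtype.ext e), b.2⟩
  obtain ⟨z, hz, hz2, hz1, hbz⟩ := fr.exists_L hb hbt hne
  have hzN : z ∈ N := by
    rcases hbz with e | e
    · exact e ▸ hbN
    · rw [show z = t⁻¹ * b by rw [e, inv_mul_cancel_left]]
      exact N.mul_mem (N.inv_mem htZ) hbN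
  have hzt : Commute z t := fr.frame.toCtx.commute_of_mem hz
  -- `t` is fixed point free on `Z`
  have hfix : ∀ x ∈ Z, Commute x t → x = 1 := by
    intro x hx hxt
    set Z₀ := Z ⊓ centralizer ({t} : Set G) with hZ₀
    have hmem : ∀ g ∈ N, Commute g t → ∀ y ∈ Z₀, g * y * g⁻¹ ∈ Z₀ := fun g hg hgt y hy =>
      ⟨(mem_normalizer_iff.1 hg y).1 hy.1, mem_centralizer_singleton_iff.2
        ((hgt.mul_left (mem_centralizer_singleton_iff.1 hy.2)).mul_left hgt.inv_left).eq⟩
    have hBn : Bl ⊔ D ≤ normalizer (Z₀ : Set G) := fun g hg => Coprime.mem_normalizer_of_forall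
      (hmem g (hBZ hg) (mem_centralizer_singleton_iff.1 (B_le_cent fr a hg)))
    -- `Z₀ ≤ Bl ⊔ D`
    have hZE : Z₀ ≤ E := fun y hy => fr.frame.toCtx.mem_of_odd (mem_centralizer_singleton_iff.1 hy.2) (by
      obtain ⟨k, hk⟩ := hZ3 ⟨y, hy.1⟩
      exact Odd.of_dvd_nat (Odd.pow (by decide : Odd 3)) (orderOf_dvd_of_pow_eq_one
        (by simpa using congrArg (Subtype.val : Z → G) hk)))
    have hZB : Z₀ ≤ Bl ⊔ D := by
      intro y hy
      by_contra hyB
      obtain ⟨w, hw, d, hd, rfl⟩ := fr.split y (hZE hy)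
      have hwB : w ∉ Bl := fun h => hyB (mul_mem_sup h hd)
      -- `M = (Bl D Z₀) ∩ L` has odd order
      set X := Z₀ ⊔ (Bl ⊔ D) with hX
      have hXodd : Odd (Nat.card X) := by
        have h1 : Nat.card X ∣ Nat.card Z₀ * Nat.card (Bl ⊔ D : Subgroup G) := by
          rw [← Subgroup.card_mul_index (Z₀.subgroupOf X), Cores.card_subgroupOf le_sup_left]
          refine Nat.mul_dvd_mul_left _ ?_
          show Z₀.relIndex X ∣ _
          rw [hX, relIndex_sup_norm' hBn]
          exact relIndex_dvd_card _ _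
        refine Odd.of_dvd_nat (Odd.mul ?_ (odd_B fr a)) h1
        obtain ⟨k, hk⟩ := IsPGroup.iff_card.1 (hZ3.to_le inf_le_left)
        rw [hk]; exact Odd.pow (by decide)
      have hwX : w ∈ X := by
        have := X.mul_mem (le_sup_left (a := Z₀) (b := Bl ⊔ D) hy) (X.inv_mem (mem_sup_right (mem_sup_right hd)))
        rwa [mul_inv_cancel_right] at this
      have hLX := a.lt.borel_max (M := X) (le_sup_left.trans le_sup_right) hwX hw hwB
      have := hXodd.of_dvd_nat (Subgroup.orderOf_dvd_natCard X (hLX (v_L fr a)))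
      rw [v_order fr a] at this
      exact absurd this (by decide)
    rcases normal_three fr a hZB hBn hF (hZ3.to_le inf_le_left) with h0 | h0
    · have h1 : x ∈ Z₀ := ⟨hx, mem_centralizer_singleton_iff.2 hxt.eq⟩
      rwa [h0, mem_bot] at h1
    · exfalso
      have hzB : z ∈ Bl := a.lt.borel.self z hz fun y hy => h0 ▸ hmem z hzN hzt y (h0 ▸ hy)
      have := a.lt.borel_odd.of_dvd_nat (Subgroup.orderOf_dvd_natCard Bl hzB)
      rw [orderOf_two_of_sq hz2 hz1] at this
      exact absurd this (by decide)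
  have hZodd : Odd (Nat.card Z) := by
    obtain ⟨k, hk⟩ := IsPGroup.iff_card.1 hZ3
    rw [hk]; exact Odd.pow (by decide)
  have hinv := inverted_of_fixed_trivial hZodd fr.frame.mul_self_t htZ hfix
  -- some involution commuting with `t` centralises an element of `Z`
  obtain ⟨c, hc2, hct, hcne, x, hx, hx1, hcx⟩ : ∃ c : G, orderOf c = 2 ∧ Commute c t ∧ c ≠ t ∧
      ∃ x ∈ Z, x ≠ 1 ∧ Commute x c := by
    have hz2' : orderOf z = 2 := orderOf_two_of_sq hz2 hz1
    have htz : t * z ≠ 1 := fun e => fr.frame.htE (fr.frame.le (by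
      rw [eq_inv_of_mul_eq_one_left e]; exact L.inv_mem hz))
    by_cases hfz : ∀ x ∈ Z, Commute x z → x = 1
    · have hzinv := inverted_of_fixed_trivial hZodd hz2 hzN hfz
      obtain ⟨x, hx, hx1⟩ := Z.bot_or_exists_ne_one.resolve_left hZ
      refine ⟨t * z, orderOf_two_of_sq (by
          rw [show t * z * (t * z) = t * (z * t) * z by group, hzt.eq, ← mul_assoc, fr.frame.mul_self_t,
            one_mul, hz2]) htz,
        (Commute.refl t).mul_left hzt, fun e => hz1 (mul_eq_left.1 e), x, hx, hx1, ?_⟩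
      refine (mul_inv_eq_iff_eq_mul.1 ?_ : t * z * x = x * (t * z)).symm
      rw [show t * z * x * (t * z)⁻¹ = t * (z * x * z⁻¹) * t⁻¹ by group, hzinv x hx, ← conj_inv, hinv x hx,
        inv_inv]
    · push Not at hfz
      obtain ⟨x, hx, hxc, hx1⟩ := hfz
      exact ⟨z, hz2', hzt, fun e => fr.frame.htE (fr.frame.le (e ▸ hz)), x, hx, hx1, hxc⟩
  obtain ⟨k, hk⟩ := hZ3 ⟨x, hx⟩
  exact hx1 ((noInverted fr a).eq_one hc2 fr.frame.ht hcne hct hcx.symm
    (by simpa using congrArg (Subtype.val : Z → G) hk) (hinv x hx))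

theorem cent_torus {x : G} (hx : x ∈ H) (hp : (orderOf x).Prime) {W : Subgroup G} (hW : IsPGroup 3 W)
    (hWx : ∀ w ∈ W, Commute w x) (htW : t ∈ normalizer (W : Set G)) : ∀ w ∈ W, Commute w t := by
  refine centralizes_three fr.shape.elem (noInverted fr a) fr.frame.ht (v_order fr a)
    (fun e => fr.frame.t_not_mem (e ▸ a.v_mem)) (v_t fr a).symm (v_inverts fr a hx hp)
    (fr.frame.toCtx.commute_of_mem (H_L fr a hx)).symm ?_ hW hWx htW
  intro z hzt hzx hz2
  by_contra hne
  push Not at hne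
  obtain ⟨w, hw, hw2, hw1, hzw⟩ := fr.exists_L (orderOf_two_of_sq hz2 hne.1) hzt hne.2
  have hwx : Commute w x := by
    rcases hzw with e | e
    · exact e ▸ hzx
    · rw [show w = t⁻¹ * z by rw [e, inv_mul_cancel_left]]
      exact (fr.frame.toCtx.commute_of_mem (H_L fr a hx)).symm.inv_left.mul_left hzx
  have hwH := cent_H_le fr a hx hp hw hwx
  have := a.lt.borel_odd.of_dvd_nat (Subgroup.orderOf_dvd_natCard Bl (H_Bl fr a hwH))
  rw [orderOf_two_of_sq hw2 hw1] at this
  exact absurd this (by decide)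

theorem B_max {X : Subgroup G} (hBX : Bl ⊔ D ≤ X) (hX : X ≤ centralizer ({t} : Set G))
    (hXo : Odd (Nat.card X)) : X ≤ Bl ⊔ D := by
  intro x hx
  have hxE := fr.frame.toCtx.mem_of_odd (mem_centralizer_singleton_iff.1 (hX hx))
    (hXo.of_dvd_nat (Subgroup.orderOf_dvd_natCard X hx))
  obtain ⟨w, hw, d, hd, rfl⟩ := fr.split x hxE
  refine mul_mem_sup ?_ hd
  by_contra hwB
  have hwX : w ∈ X := by
    have := X.mul_mem hx (X.inv_mem (hBX (mem_sup_right hd)))
    rwa [mul_inv_cancel_right] at this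
  have := hXo.of_dvd_nat (Subgroup.orderOf_dvd_natCard X
    (a.lt.borel_max (le_sup_left.trans hBX) hwX hw hwB (v_L fr a)))
  rw [v_order fr a] at this
  exact absurd this (by decide)

/-- **The supplier.** -/
theorem exists_threeCtx (hF : Fintype.card F = 3 ^ n) {f : G} (hf : f ∈ D) (ho : orderOf f = 3) :
    ∃ (F₃ : Subgroup G) (y : G) (l m : ℕ), ThreeCtx t f y U F₃ (Bl ⊔ D) H l m := by
  haveI : Fact (Nat.Prime 3) := ⟨Nat.prime_three⟩
  haveI := fr.D_cyclic
  -- the prime moved by `f`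
  obtain ⟨F₀, _, _, hq, ⟨e₀⟩⟩ := fr.exists_field hf
  rw [ho, hF] at hq
  obtain ⟨l, hl, hl3, hl2, hlq, hlc⟩ := exists_prime_moved (Fintype.one_lt_card (α := F₀)) Nat.prime_three
    (by norm_num)
  haveI := Fact.mk hl
  rw [hq, ← H_card fr a, Nat.add_sub_cancel] at hlq
  have hlH : l ∣ Nat.card H := (hl.dvd_mul.1 hlq).resolve_left fun e =>
    hl2 ((Nat.prime_dvd_prime_iff_eq hl Nat.prime_two).1 e)
  obtain ⟨⟨y, hy⟩, hyo⟩ := exists_prime_orderOf_dvd_card' (G := H) l hlH
  rw [Subgroup.orderOf_mk] at hyo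
  haveI := H_cyclic fr a
  have hync : ¬ Commute y f := fun hc => by
    have hodd : Odd (Fintype.card F₀) := by
      rw [Nat.odd_iff]
      by_contra hne
      have h2 : 2 ∣ 3 ^ n := hq ▸ dvd_pow (by omega) (by norm_num)
      exact absurd (Nat.prime_two.dvd_of_dvd_pow h2) (by decide)
    have h1 := Subgroup.orderOf_dvd_natCard (L ⊓ centralizer ({f} : Set G))
      ⟨H_L fr a hy, mem_centralizer_singleton_iff.2 hc.eq⟩
    rw [hyo, Nat.card_congr e₀.toEquiv] at h1
    exact hlc (card_psl_odd hodd ▸ h1.mul_left 2)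
  obtain ⟨m, hm⟩ : ∃ m : ℕ, y ^ m = f * y * f⁻¹ := by
    have h1 := mem_zpowers_of_cyclic hy (D_H fr a hf hy)
      (by rw [show f * y * f⁻¹ = MulAut.conj f y from rfl, MulEquiv.orderOf_eq])
    rw [← mem_powers_iff_mem_zpowers] at h1
    exact h1
  -- the `3`-part of `D`
  obtain ⟨⟨g, hg⟩, hgen⟩ := IsCyclic.exists_generator (α := ↥D)
  obtain ⟨α, m', hm', hN⟩ := Nat.exists_eq_pow_mul_and_not_dvd (orderOf_pos g).ne' 3 (by norm_num)
  set g₃ := g ^ m' with hg₃
  have hg₃o : orderOf g₃ = 3 ^ α := by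
    rw [hg₃, orderOf_pow' g (by rintro rfl; exact hm' (dvd_zero 3)), hN, Nat.gcd_eq_right (dvd_mul_left _ _),
      Nat.mul_div_cancel _ (Nat.pos_of_ne_zero (by rintro rfl; exact hm' (dvd_zero 3)))]
  have hgD : zpowers g = D := le_antisymm (zpowers_le.2 hg) fun z hz => by
    obtain ⟨i, hi⟩ := mem_zpowers_iff.1 (hgen ⟨z, hz⟩)
    exact mem_zpowers_iff.2 ⟨i, congrArg Subtype.val hi⟩
  have hDc : Nat.card D = 3 ^ α * m' := by rw [← hgD, Nat.card_zpowers, hN]
  have hfg : f ∈ zpowers g₃ := by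
    refine mem_zpowers_of_cyclic (H := D) (D.pow_mem hg _) hf ?_
    rw [ho, hg₃o]
    have h1 : 3 ∣ 3 ^ α * m' := hDc ▸ ho ▸ Subgroup.orderOf_dvd_natCard D hf
    exact ((Nat.prime_three.coprime_iff_not_dvd.2 hm').dvd_of_dvd_mul_right h1)
  have hg₃D : zpowers g₃ ≤ D := zpowers_le.2 (D.pow_mem hg _)
  refine ⟨zpowers g₃, y, l, m, ?_⟩
  refine
    { elem := fr.shape.elem
      invol := fr.frame.ht
      B_cent := B_le_cent fr a
      B_odd := odd_B fr a
      U_le := a.lt.borel.leU.trans le_sup_left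
      U_three := a.lt.U_three
      U_ne := fun e => u_ne fr a (by have h := a.u_mem; rwa [e, mem_bot] at h)
      U_normal := B_norm_U fr a
      B_max := fun X h1 h2 h3 => B_max fr a h1 h2 h3
      small := fun Z h1 h2 h3 h4 => small fr a hF h1 h2 h3 h4
      normal_three := fun X h1 h2 h3 => normal_three fr a h1 h2 hF h3
      normal_prime := fun X h1 h2 h3 => normal_prime fr a h1 h2 hF h3
      normal_fit := fun X h1 h2 h3 h4 h5 => normal_fit fr a h1 h2 hF h3 h4 h5
      H_le := (H_Bl fr a).trans le_sup_left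
      H_cyclic := inferInstance
      H_three := H_three fr a
      B_comm := fun x hx z hz => (Bl_eq fr a).ge (B_comm fr a hx hz)
      cent_H := fun x hx hp W h1 h2 h3 => cent_torus fr a hx hp h1 h2 h3
      F_le := hg₃D.trans le_sup_right
      F_cyclic := inferInstance
      F_three := IsPGroup.of_card (n := α) (by rw [Nat.card_zpowers, hg₃o])
      F_sylow := ?_
      f_mem := hfg
      f_cube := ho ▸ pow_orderOf_eq_one f
      f_not := ?_
      y_mem := hy
      y_order := hyo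
      l_prime := hl
      y_moved := hm.symm
      m_ne := ?_
      y_free := ?_ }
  · intro h3
    have hle : U ⊔ zpowers g₃ ≤ Bl ⊔ D := sup_le_sup a.lt.borel.leU hg₃D
    have h1 : Nat.card (U ⊔ zpowers g₃ : Subgroup G) = 3 ^ n * 3 ^ α := by
      rw [sup_comm, Frobenius.card_sup_of_disjoint ((hg₃D.trans le_sup_right).trans (B_norm_U fr a))
        (disjoint_iff.2 ((eq_bot_iff_forall _).2 fun z hz => by
          rw [← mem_bot, ← fr.D_inf]; exact ⟨hg₃D hz.1, U_L fr a hz.2⟩)),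
        Nat.card_zpowers, hg₃o, a.lt.borel.cardU, mul_comm]
    have h2 := (U ⊔ zpowers g₃).subgroupOf (Bl ⊔ D) |>.card_mul_index
    rw [Cores.card_subgroupOf hle, h1, card_B fr a, hDc] at h2
    have hB := a.lt.borel.cardB
    have h4 : 2 * (U ⊔ zpowers g₃).relIndex (Bl ⊔ D) = (3 ^ n - 1) * m' := by
      refine Nat.eq_of_mul_eq_mul_left (show 0 < 3 ^ n * 3 ^ α by positivity) ?_
      rw [mul_left_comm, show (U ⊔ zpowers g₃).relIndex (Bl ⊔ D) = ((U ⊔ zpowers g₃).subgroupOf (Bl ⊔ D)).index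
        from rfl, h2, ← mul_assoc 2, hB]
      ring
    rcases (Nat.Prime.dvd_mul Nat.prime_three).1 (h4 ▸ h3.mul_left 2) with h5 | h5
    · exact a.lt.three_not_dvd h5
    · exact hm' h5
  · intro hfB
    rw [Bl_eq fr a] at hfB
    have h1 : f ∈ D ⊓ L := ⟨hf, a.lt.borel.le hfB⟩
    rw [fr.D_inf, mem_bot] at h1
    rw [h1, orderOf_one] at ho
    omega
  · intro e
    refine hync ?_
    have h1 : y ^ m = y := by
      have h2 := (pow_eq_pow_iff_modEq (x := y) (n := m) (m := 1)).2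
        (hyo ▸ (ZMod.natCast_eq_natCast_iff _ _ _).1 ((e.trans Nat.cast_one.symm)))
      rwa [pow_one] at h2
    rw [hm] at h1
    exact (mul_inv_eq_iff_eq_mul.1 h1).symm
  · intro x hx k hk hxy
    obtain ⟨w, hw, h, hh, d, hd, rfl⟩ := exists_decomp fr a hx
    -- the `D`-part commutes with `y`
    have hdy : Commute d y := by
      set g' := h * d
      have hdyH : d * y * d⁻¹ ∈ H := D_H fr a hd hy
      have e1 : g' * y * g'⁻¹ = d * y * d⁻¹ := by
        rw [show g' * y * g'⁻¹ = h * (d * y * d⁻¹) * h⁻¹ by simp only [g']; group, (H_comm fr a hh hdyH).eq,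
          mul_inv_cancel_right]
      have e2 : d * y * d⁻¹ * y⁻¹ ∈ U := by
        have h1 : w * (d * y * d⁻¹) * w⁻¹ = y := by
          rw [← e1, show w * (g' * y * g'⁻¹) * w⁻¹ = w * g' * y * (w * g')⁻¹ by group,
            show w * g' = w * h * d by simp only [g']; group, hxy.eq, mul_inv_cancel_right]
        have h2 : d * y * d⁻¹ * y⁻¹ = w⁻¹ * (y * w * y⁻¹) := by
          have h3 : d * y * d⁻¹ = w⁻¹ * y * w := by
            conv_rhs => rw [← h1]
            group
          rw [h3]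
          group
        rw [h2]
        exact U.mul_mem (U.inv_mem hw) (a.lt.borel.norm y (H_Bl fr a hy) w hw)
      exact mul_inv_eq_iff_eq_mul.1 (mul_inv_eq_one.1 (H_inter fr a e2 (H.mul_mem hdyH (H.inv_mem hy))))
    -- and is a `3`-element
    have hd3 : d ^ (3 ^ k) = 1 := by
      obtain ⟨ρ, hρ⟩ := fr.exists_rho
      have hxC := B_le_cent fr a hx
      have h1 := congrArg ρ (show (⟨w * h * d, hxC⟩ : centralizer ({t} : Set G)) ^ (3 ^ k) = 1 from Subtype.ext hk)
      rw [map_pow, map_one, hρ _ (w * h) d (L.mul_mem (U_L fr a hw) (H_L fr a hh)) hd (Or.inl rfl)] at h1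
      simpa using congrArg (Subtype.val : D → G) h1
    have hd1 : d = 1 := by
      by_contra hd1
      obtain ⟨i, -, hi⟩ := (Nat.dvd_prime_pow Nat.prime_three).1 (orderOf_dvd_of_pow_eq_one hd3)
      have hi1 : i ≠ 0 := fun e => hd1 (orderOf_eq_one_iff.1 (by rw [hi, e, pow_zero]))
      obtain ⟨j, hj⟩ := mem_zpowers_iff.1
        (mem_zpowers_of_cyclic (H := D) hd hf (by rw [ho, hi]; exact dvd_pow_self 3 hi1))
      exact hync (hj ▸ hdy.symm.zpow_right j)
    subst hd1
    rw [mul_one] at hk hxy ⊢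
    have hwh : w * h ∈ U := a.lt.mem_U (Bl.mul_mem (a.lt.borel.leU hw) (H_Bl fr a hh)) hk
    by_contra hne
    have hy1 := free fr a hy hwh hxy.symm hne
    rw [hy1, orderOf_one] at hyo
    exact hl.one_lt.ne hyo

end ABorel

end Cfsg.Agent.AbelianSylow.Field
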