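import Cfsg.Agent.EqLemmas
import Mathlib.Algebra.Ring.GeomSum
import Mathlib.Data.ZMod.Basic
import Mathlib.FieldTheory.Finite.Basic

/-!
# Part (a), case `(A)`: a prime moved by the field automorphism (owner: helper82)

* `exists_prime_moved` : for `r` an odd prime some prime `l ≠ r` divides `a ^ r - 1` but not `a (a² - 1)`
-/

set_option autoImplicit false

namespace Cfsg.Agent.AbelianSylow.Field

/-- A Zsigmondy prime, the easy case of a prime exponent. -/
theorem exists_prime_moved {a r : ℕ} (ha : 2 ≤ a) (hr : r.Prime) (hr2 : r ≠ 2) :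
    ∃ l : ℕ, l.Prime ∧ l ≠ r ∧ l ≠ 2 ∧ l ∣ a ^ r - 1 ∧ ¬ l ∣ a * ((a + 1) * (a - 1)) := by
  obtain ⟨j, hj⟩ := hr.odd_of_ne_two hr2
  set S := ∑ i ∈ Finset.range r, a ^ i with hS
  have hgeo : S * (a - 1) = a ^ r - 1 := geom_sum_mul_of_one_le (by omega) r
  have hbig : r < S := by
    have h1 : ∑ _i ∈ Finset.range r, 1 < ∑ i ∈ Finset.range r, a ^ i :=
      Finset.sum_lt_sum (fun i _ => Nat.one_le_pow _ _ (by omega))
        ⟨1, Finset.mem_range.2 hr.one_lt, by rw [pow_one]; omega⟩
    simpa using h1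
  have hcast : ∀ (M : ℕ), (S : ZMod M) = ∑ i ∈ Finset.range r, (a : ZMod M) ^ i := fun M => by
    simp [hS]
  -- a prime divisor of `S` other than `r`
  have hex : ∃ l : ℕ, l.Prime ∧ l ∣ S ∧ l ≠ r := by
    by_contra hne
    push Not at hne
    obtain ⟨k, hk⟩ : ∃ k, S = r ^ k := ⟨_, Nat.eq_prime_pow_of_unique_prime_dvd (by omega)
      fun {d} hd hdS => hne d hd hdS⟩
    have hk2 : 2 ≤ k := by
      by_contra h
      interval_cases k <;> simp at hk <;> have := hr.one_lt <;> omega
    haveI := Fact.mk hr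
    -- `a ≡ 1 (mod r)`
    have ha1 : r ∣ a - 1 := by
      have h1 : r ∣ a ^ r - 1 := hgeo ▸ dvd_mul_of_dvd_left (hk ▸ dvd_pow_self r (by omega)) _
      rw [← ZMod.natCast_eq_zero_iff] at h1 ⊢
      rw [Nat.cast_sub (Nat.one_le_pow _ _ (by omega)), Nat.cast_pow, ZMod.pow_card] at h1
      rwa [Nat.cast_sub (by omega)]
    obtain ⟨c, hc⟩ := ha1
    set R := ZMod (r ^ 2)
    have h0 : ((r : R)) ^ 2 = 0 := by rw [← Nat.cast_pow, ZMod.natCast_self]
    have hpow : ∀ i : ℕ, (a : R) ^ i = 1 + i * (c : R) * r := by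
      intro i
      induction i with
      | zero => simp
      | succ i ih =>
        rw [pow_succ, ih, show a = r * c + 1 by omega, Nat.cast_add, Nat.cast_mul, Nat.cast_add, Nat.cast_one]
        linear_combination ((i : R) * c * c) * h0
    have hsum : (S : R) = r := by
      rw [hcast, Finset.sum_congr rfl fun i _ => hpow i, Finset.sum_add_distrib, ← Finset.sum_mul,
        ← Finset.sum_mul, ← Nat.cast_sum]
      have h2 : ∑ i ∈ Finset.range r, i = r * j := by
        refine Nat.eq_of_mul_eq_mul_right two_pos ?_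
        rw [Finset.sum_range_id_mul_two, hj, Nat.add_sub_cancel]
        ring
      simp only [Finset.sum_const, Finset.card_range, nsmul_one, h2]
      rw [Nat.cast_mul]
      linear_combination ((j : R) * c) * h0
    rw [hk, Nat.cast_pow, show k = 2 + (k - 2) by omega, pow_add, h0, zero_mul] at hsum
    have h3 := (ZMod.natCast_eq_zero_iff _ _).1 hsum.symm
    have := Nat.le_of_dvd hr.pos h3
    have : r * 1 < r * r := Nat.mul_lt_mul_of_pos_left hr.one_lt hr.pos
    rw [pow_two] at *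
    omega
  obtain ⟨l, hl, hlS, hlr⟩ := hex
  haveI := Fact.mk hl
  have hS0 : (S : ZMod l) = 0 := (ZMod.natCast_eq_zero_iff _ _).2 hlS
  have hplus : ¬ l ∣ a + 1 := fun hd => by
    have h1 : (a : ZMod l) = -1 := eq_neg_of_add_eq_zero_left (by
      rw [← Nat.cast_one, ← Nat.cast_add]; exact (ZMod.natCast_eq_zero_iff _ _).2 hd)
    rw [hcast, h1, neg_one_geom_sum, if_neg (Nat.not_even_iff_odd.2 ⟨j, hj⟩)] at hS0
    exact one_ne_zero hS0
  have hzero : ¬ l ∣ a := fun hd => by
    have h1 : (a : ZMod l) = 0 := (ZMod.natCast_eq_zero_iff _ _).2 hd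
    rw [hcast, h1, Finset.sum_eq_single 0 (fun i _ hi => zero_pow hi)
      (fun h => absurd (Finset.mem_range.2 hr.pos) h), pow_zero] at hS0
    exact one_ne_zero hS0
  have hminus : ¬ l ∣ a - 1 := fun hd => by
    have h1 : (a : ZMod l) = 1 := by
      have := (ZMod.natCast_eq_zero_iff _ _).2 hd
      rwa [Nat.cast_sub (by omega), sub_eq_zero, Nat.cast_one] at this
    simp only [hcast, h1, one_pow, Finset.sum_const, Finset.card_range, nsmul_one] at hS0
    exact hlr ((Nat.prime_dvd_prime_iff_eq hl hr).1 ((ZMod.natCast_eq_zero_iff _ _).1 hS0))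
  refine ⟨l, hl, hlr, fun e => ?_, hgeo ▸ dvd_mul_of_dvd_left hlS _, fun h => ?_⟩
  · subst e; omega
  · rcases hl.dvd_mul.1 h with h' | h'
    · exact hzero h'
    · exact (hl.dvd_mul.1 h').elim hplus hminus

end Cfsg.Agent.AbelianSylow.Field
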