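import Cfsg.Agent.Lib.AbelianSylow.Cent.FieldCaseABorel
import Cfsg.Agent.Lib.AbelianSylow.Cent.FieldCaseANum

/-!
# Part (a), case `(A)`: the group `Bl ⊔ D = U ⋊ (H D)` (owner: helper82)

* `ABorel.exists_decomp`, `ABorel.HD_inter`, `ABorel.card_B`, `ABorel.B_comm`
* `ABorel.cent_U`        : only `U` centralises `U`
* `ABorel.normal_three`, `normal_prime`, `normal_fit` : the normal subgroups needed by `ThreeCtx`
-/

set_option autoImplicit false
set_option linter.style.haveILetI false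
set_option linter.unusedSectionVars false

namespace Cfsg.Agent.AbelianSylow.Field

open Subgroup

universe u

variable {G : Type u} [Group G] [Finite G] {t : G} {F : Type} [Field F] [Fintype F] {E L : Subgroup G}
  {A : Sylow 2 G} {V D : Subgroup G} {U Bl T H : Subgroup G} {u v : G} {n : ℕ}

/-- An element of `H` whose order divides that of another lies in its cyclic group. -/
theorem mem_zpowers_of_cyclic {H : Subgroup G} [IsCyclic H] {x y : G} (hx : x ∈ H) (hy : y ∈ H)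
    (h : orderOf y ∣ orderOf x) : y ∈ zpowers x := by
  classical
  have := Fintype.ofFinite ↥H
  set S : Finset ↥H := Finset.filter (fun z : ↥H => z ^ orderOf x = 1) Finset.univ with hS
  have hSle : S.card ≤ orderOf x := IsCyclic.card_pow_eq_one_le (orderOf_pos x)
  set T' : Finset ↥H := Finset.filter (fun z : ↥H => (z : G) ∈ zpowers x) Finset.univ with hT'
  have hTS : T' ⊆ S := fun z hz => by
    rw [hT', Finset.mem_filter] at hz
    rw [hS, Finset.mem_filter]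
    obtain ⟨i, hi⟩ := mem_zpowers_iff.1 hz.2
    refine ⟨hz.1, Subtype.ext ?_⟩
    rw [SubmonoidClass.coe_pow, ← hi, ← zpow_natCast, zpow_comm, zpow_natCast, pow_orderOf_eq_one, one_zpow]
    rfl
  have hTc : T'.card = orderOf x := by
    rw [← Nat.card_zpowers, hT', ← Fintype.card_subtype, ← Nat.card_eq_fintype_card]
    exact Nat.card_congr (subgroupOfEquivOfLe (zpowers_le.2 hx)).toEquiv
  have hin : (⟨_, hy⟩ : ↥H) ∈ S := by
    rw [hS, Finset.mem_filter]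
    exact ⟨Finset.mem_univ _, Subtype.ext (orderOf_dvd_iff_pow_eq_one.1 h)⟩
  rw [← Finset.eq_of_subset_of_card_le hTS (by omega), hT', Finset.mem_filter] at hin
  exact hin.2

namespace ABorel

variable (fr : FieldFrame G t F E L A V D) (a : ABorel V D L U Bl T H u v n)
include fr a

theorem D_norm : D ≤ normalizer (Bl : Set G) := fun _ hd =>
  Coprime.mem_normalizer_of_forall fun _ hb => D_Bl fr a hd hb

theorem mem_B {x : G} : x ∈ Bl ⊔ D ↔ ∃ b ∈ Bl, ∃ d ∈ D, b * d = x := Coprime.mem_sup_iff (D_norm fr a)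

theorem exists_decomp {x : G} (hx : x ∈ Bl ⊔ D) : ∃ w ∈ U, ∃ h ∈ H, ∃ d ∈ D, w * h * d = x := by
  obtain ⟨b, hb, d, hd, rfl⟩ := (mem_B fr a).1 hx
  obtain ⟨w, hw, h, hh, rfl⟩ := exists_Bl fr a hb
  exact ⟨w, hw, h, hh, d, hd, rfl⟩

theorem eq_one_of_mem {h d : G} (hh : h ∈ H) (hd : d ∈ D) (hU : h * d ∈ U) : h = 1 ∧ d = 1 := by
  have h1 : d = 1 := by
    rw [← mem_bot, ← fr.D_inf]
    refine ⟨hd, ?_⟩
    have := L.mul_mem (L.inv_mem (H_L fr a hh)) (U_L fr a hU)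
    rwa [inv_mul_cancel_left] at this
  refine ⟨H_inter fr a ?_ hh, h1⟩
  rwa [h1, mul_one] at hU

theorem card_B : Nat.card (Bl ⊔ D : Subgroup G) = Nat.card Bl * Nat.card D := by
  rw [sup_comm, Frobenius.card_sup_of_disjoint (D_norm fr a) (disjoint_iff.2 ((eq_bot_iff_forall _).2
    fun x hx => by rw [← mem_bot, ← fr.D_inf]; exact ⟨hx.1, a.lt.borel.le hx.2⟩)), mul_comm]

theorem odd_B : Odd (Nat.card (Bl ⊔ D : Subgroup G)) :=
  card_B fr a ▸ a.lt.borel_odd.mul fr.D_odd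

theorem B_le_E : Bl ⊔ D ≤ E := sup_le (a.lt.borel.le.trans fr.frame.le) fr.D_le

theorem B_norm_U : Bl ⊔ D ≤ normalizer (U : Set G) := sup_le (Bl_norm fr a)
  fun _ hd => Coprime.mem_normalizer_of_forall fun _ hw => D_U fr a hd hw

theorem B_comm {x y : G} (hx : x ∈ Bl ⊔ D) (hy : y ∈ Bl ⊔ D) : x * y * x⁻¹ * y⁻¹ ∈ Bl := by
  obtain ⟨b, hb, d, hd, rfl⟩ := (mem_B fr a).1 hx
  obtain ⟨c, hc, e, he, rfl⟩ := (mem_B fr a).1 hy
  have hde : Commute d e := fr.comm_D hd he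
  rw [show b * d * (c * e) * (b * d)⁻¹ * (c * e)⁻¹
      = b * (d * c * d⁻¹) * (d * e * d⁻¹ * b⁻¹ * e⁻¹) * c⁻¹ by group, hde.eq,
    show e * d * d⁻¹ * b⁻¹ * e⁻¹ = e * b⁻¹ * e⁻¹ by group]
  exact Bl.mul_mem (Bl.mul_mem (Bl.mul_mem hb (D_Bl fr a hd hc)) (D_Bl fr a he (Bl.inv_mem hb))) (Bl.inv_mem hc)

/-- An element of `D` moves `H`. -/
theorem D_free (hF : Fintype.card F = 3 ^ n) {d : G} (hd : d ∈ D) (hc : ∀ h ∈ H, Commute h d) : d = 1 := by
  by_contra hd1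
  obtain ⟨F₁, _, _, hq, ⟨e⟩⟩ := fr.exists_field hd
  rw [hF] at hq
  set a₁ := Fintype.card F₁
  have ha : 2 ≤ a₁ := Fintype.one_lt_card
  have ho3 : 3 ≤ orderOf d := by
    obtain ⟨k, hk⟩ := fr.D_odd.of_dvd_nat (Subgroup.orderOf_dvd_natCard D hd)
    have : orderOf d ≠ 1 := fun e => hd1 (orderOf_eq_one_iff.1 e)
    omega
  have hq' : a₁ ^ 3 ≤ 3 ^ n := hq ▸ Nat.pow_le_pow_right (by omega) ho3
  have hodd : Odd a₁ := by
    have h2 : Odd (a₁ ^ orderOf d) := by rw [hq]; exact Odd.pow (by decide)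
    exact Nat.odd_iff.2 (by
      by_contra hne
      exact Nat.not_even_iff_odd.2 h2 (Nat.even_pow.2 ⟨Nat.even_iff.2 (by omega), by omega⟩))
  have hcard := card_psl_odd (F := F₁) hodd
  rw [← Nat.card_congr e.toEquiv] at hcard
  have h1 : 2 * Nat.card H ∣ a₁ * ((a₁ + 1) * (a₁ - 1)) := hcard ▸ Nat.mul_dvd_mul_left 2
    (card_dvd_of_le fun h hh => ⟨H_L fr a hh, mem_centralizer_singleton_iff.2 (hc h hh).eq⟩)
  have h2 : (2 * Nat.card H).Coprime a₁ := by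
    refine Nat.coprime_of_dvd fun p hp hp1 hp2 => ?_
    have h3 : p ∣ 3 ^ n := hq ▸ hp2.trans (dvd_pow_self a₁ (by omega))
    have h4 : p ∣ 2 * Nat.card H + 1 := by rwa [H_card fr a]
    exact hp.not_dvd_one ((Nat.dvd_add_right hp1).1 h4)
  have h5 := Nat.le_of_dvd (Nat.mul_pos (by omega) (by omega)) (h2.dvd_of_dvd_mul_left h1)
  obtain ⟨r, hr⟩ : ∃ r, a₁ = r + 2 := ⟨a₁ - 2, by omega⟩
  rw [hr, show r + 2 - 1 = r + 1 by omega] at h5
  rw [hr, ← H_card fr a] at hq'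
  nlinarith [Nat.zero_le (r * r * r), Nat.zero_le (r * r)]

/-- Only `U` centralises `U`. -/
theorem cent_U (hF : Fintype.card F = 3 ^ n) {x : G} (hx : x ∈ Bl ⊔ D) (hc : ∀ w ∈ U, Commute x w) : x ∈ U := by
  obtain ⟨w, hw, h, hh, d, hd, rfl⟩ := exists_decomp fr a hx
  have hg : ∀ z ∈ U, Commute (h * d) z := fun z hz => by
    have := ((a.lt.comm_U hw hz).inv_left).mul_left (hc z hz)
    rwa [show w⁻¹ * (w * h * d) = h * d by group] at this
  have hdH : ∀ h' ∈ H, Commute h' d := by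
    intro h' hh'
    set z := d * h' * d⁻¹
    have hzH : z ∈ H := D_H fr a hd hh'
    have hz : h * d * h' * (h * d)⁻¹ = z := by
      rw [show h * d * h' * (h * d)⁻¹ = h * (d * h' * d⁻¹) * h⁻¹ by group, (H_comm fr a hh hzH).eq, mul_inv_cancel_right]
    have hu' : h' * u * h'⁻¹ ∈ U := a.lt.borel.norm h' (H_Bl fr a hh') u a.u_mem
    have h1 : z * u * z⁻¹ = h' * u * h'⁻¹ := by
      rw [← hz]
      calc h * d * h' * (h * d)⁻¹ * u * (h * d * h' * (h * d)⁻¹)⁻¹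
          = h * d * (h' * ((h * d)⁻¹ * u * (h * d)) * h'⁻¹) * (h * d)⁻¹ := by group
        _ = h * d * (h' * u * h'⁻¹) * (h * d)⁻¹ := by
            rw [show (h * d)⁻¹ * u * (h * d) = u by rw [mul_assoc, ← (hg u a.u_mem).eq, inv_mul_cancel_left]]
        _ = h' * u * h'⁻¹ := by rw [(hg _ hu').eq, mul_inv_cancel_right]
    have h2 : h'⁻¹ * z = 1 := by
      refine free fr a (H.mul_mem (H.inv_mem hh') hzH) a.u_mem ?_ (u_ne fr a)
      refine mul_inv_eq_iff_eq_mul.1 ?_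
      calc h'⁻¹ * z * u * (h'⁻¹ * z)⁻¹ = h'⁻¹ * (z * u * z⁻¹) * h' := by group
        _ = u := by rw [h1]; group
    exact (mul_inv_eq_iff_eq_mul.1 (inv_mul_eq_one.1 h2).symm).symm
  have hd1 := D_free fr a hF hd hdH
  subst hd1
  have h1 : h = 1 := free fr a hh a.u_mem (by simpa using hg u a.u_mem) (u_ne fr a)
  simpa [h1] using hw

/-- `H` is irreducible on `U`. -/
theorem irreducible {X : Subgroup G} (hXU : X ≤ U) (hn : H ≤ normalizer (X : Set G)) (h1 : X ≠ ⊥) : X = U := by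
  classical
  haveI : Fact (Nat.Prime 3) := ⟨Nat.prime_three⟩
  obtain ⟨⟨x, hx⟩, hx1⟩ := ne_bot_iff_exists_ne_one.1 h1
  have hx1' : x ≠ 1 := fun e => hx1 (Subtype.ext e)
  let φ : Option ↥H → ↥X := fun o => o.elim 1 fun h => ⟨h * x * (h : G)⁻¹, (mem_normalizer_iff.1 (hn h.2) x).1 hx⟩
  have hφ : Function.Injective φ := by
    rintro (_ | h) (_ | h') e
    · rfl
    · exact absurd (conj_eq_one_iff.1 (congrArg Subtype.val e).symm) hx1'
    · exact absurd (conj_eq_one_iff.1 (congrArg Subtype.val e)) hx1'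
    · have e' : (h : G) * x * (h : G)⁻¹ = h' * x * (h' : G)⁻¹ := congrArg Subtype.val e
      have h2 : (h' : G)⁻¹ * h = 1 := by
        refine free fr a (H.mul_mem (H.inv_mem h'.2) h.2) (hXU hx) (mul_inv_eq_iff_eq_mul.1 ?_) hx1'
        calc (h' : G)⁻¹ * h * x * ((h' : G)⁻¹ * h)⁻¹ = (h' : G)⁻¹ * (h * x * (h : G)⁻¹) * h' := by group
          _ = x := by rw [e']; group
      exact congrArg some (Subtype.ext (inv_mul_eq_one.1 h2).symm)
  have hle := Nat.card_le_card_of_injective φ hφ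
  rw [Finite.card_option] at hle
  obtain ⟨i, hin, hi⟩ := (Nat.dvd_prime_pow Nat.prime_three).1
    ((card_dvd_of_le hXU).trans a.lt.borel.cardU.dvd)
  refine eq_of_le_of_card_ge hXU ?_
  rw [a.lt.borel.cardU, hi]
  rcases Nat.lt_or_ge i n with hlt | hge
  · exfalso
    have h4 : 3 ^ i * 3 ≤ 3 ^ n := by rw [← pow_succ]; exact Nat.pow_le_pow_right (by norm_num) hlt
    have := H_card fr a
    omega
  · exact Nat.pow_le_pow_right (by norm_num) hge

theorem inter_cases {X : Subgroup G} (hX : X ≤ Bl ⊔ D) (hn : Bl ⊔ D ≤ normalizer (X : Set G))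
    (hF : Fintype.card F = 3 ^ n) : X = ⊥ ∨ U ≤ X := by
  have hHB : H ≤ Bl ⊔ D := (H_Bl fr a).trans le_sup_left
  have hUB : U ≤ Bl ⊔ D := a.lt.borel.leU.trans le_sup_left
  rcases eq_or_ne (U ⊓ X) ⊥ with hb | hb
  · left
    refine (eq_bot_iff_forall _).2 fun x hx => ?_
    have hxU : x ∈ U := cent_U fr a hF (hX hx) fun w hw => by
      have h1 : x * w * x⁻¹ * w⁻¹ ∈ U ⊓ X :=
        ⟨U.mul_mem ((mem_normalizer_iff.1 (B_norm_U fr a (hX hx)) w).1 hw) (U.inv_mem hw), by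
          rw [show x * w * x⁻¹ * w⁻¹ = x * (w * x⁻¹ * w⁻¹) by group]
          exact X.mul_mem hx ((mem_normalizer_iff.1 (hn (hUB hw)) _).1 (X.inv_mem hx))⟩
      rw [hb, mem_bot] at h1
      exact mul_inv_eq_iff_eq_mul.1 (mul_inv_eq_one.1 h1)
    have h1 : x ∈ U ⊓ X := ⟨hxU, hx⟩
    rwa [hb, mem_bot] at h1
  · right
    rw [← irreducible fr a inf_le_left (le_trans (le_inf ((H_Bl fr a).trans (Bl_norm fr a))
      (hHB.trans hn)) inf_normalizer_le_normalizer_inf) hb]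
    exact inf_le_right

/-- Normal subgroups of `3`-power or `3'` order. -/
theorem normal_three {X : Subgroup G} (hX : X ≤ Bl ⊔ D) (hn : Bl ⊔ D ≤ normalizer (X : Set G))
    (hF : Fintype.card F = 3 ^ n) (h3 : IsPGroup 3 X) : X = ⊥ ∨ X = U := by
  refine (inter_cases fr a hX hn hF).imp id fun hUX => le_antisymm (fun x hx => ?_) hUX
  obtain ⟨w, hw, h, hh, d, hd, rfl⟩ := exists_decomp fr a (hX hx)
  have hg : h * d ∈ X := by
    have := X.mul_mem (X.inv_mem (hUX hw)) hx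
    rwa [show w⁻¹ * (w * h * d) = h * d by group] at this
  have hXH : ∀ z ∈ X, z ∈ H → z = 1 := fun z hz hzH => by
    haveI : Fact (Nat.Prime 3) := ⟨Nat.prime_three⟩
    obtain ⟨k, hk⟩ := h3 ⟨z, hz⟩
    have hk' : z ^ (3 ^ k) = 1 := by simpa using congrArg (Subtype.val : X → G) hk
    exact orderOf_eq_one_iff.1 (Nat.eq_one_of_dvd_coprimes
      ((Nat.prime_three.coprime_iff_not_dvd.2 (H_three fr a)).pow_left k)
      (orderOf_dvd_of_pow_eq_one hk') (Subgroup.orderOf_dvd_natCard H hzH))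
  have hd1 : d = 1 := D_free fr a hF hd fun h' hh' => by
    have hzH : d * h' * d⁻¹ ∈ H := D_H fr a hd hh'
    have e : h * d * h' * (h * d)⁻¹ = d * h' * d⁻¹ := by
      rw [show h * d * h' * (h * d)⁻¹ = h * (d * h' * d⁻¹) * h⁻¹ by group, (H_comm fr a hh hzH).eq,
        mul_inv_cancel_right]
    have h1 : d * h' * d⁻¹ * h'⁻¹ ∈ X := by
      rw [← e, show h * d * h' * (h * d)⁻¹ * h'⁻¹ = h * d * (h' * (h * d)⁻¹ * h'⁻¹) by group]
      exact X.mul_mem hg ((mem_normalizer_iff.1 (hn (mem_sup_left (H_Bl fr a hh'))) _).1 (X.inv_mem hg))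
    have h2 := hXH _ h1 (H.mul_mem hzH (H.inv_mem hh'))
    exact ((mul_inv_eq_iff_eq_mul.1 (mul_inv_eq_one.1 h2)) : Commute d h').symm
  subst hd1
  rw [mul_one] at hg ⊢
  rw [hXH _ hg hh, mul_one]
  exact hw

theorem normal_prime {X : Subgroup G} (hX : X ≤ Bl ⊔ D) (hn : Bl ⊔ D ≤ normalizer (X : Set G))
    (hF : Fintype.card F = 3 ^ n) (h3 : ¬ 3 ∣ Nat.card X) : X = ⊥ :=
  (inter_cases fr a hX hn hF).resolve_right fun hUX => h3 (by
    have := Subgroup.orderOf_dvd_natCard X (hUX a.u_mem)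
    rwa [a.u_ord] at this)

theorem normal_fit {X : Subgroup G} (hX : X ≤ Bl ⊔ D) (hn : Bl ⊔ D ≤ normalizer (X : Set G))
    (hF : Fintype.card F = 3 ^ n) (hUX : U ≤ X) (hidx : ¬ 3 ∣ U.relIndex X)
    (hcomm : ∀ x ∈ X, ∀ y ∈ X, (orderOf x).Coprime (orderOf y) → x * y * x⁻¹ * y⁻¹ ∈ U) : X ≤ U ⊔ H := by
  intro x hx
  obtain ⟨w, hw, h, hh, d, hd, rfl⟩ := exists_decomp fr a (hX hx)
  rw [Bl_eq fr a]
  suffices hd1 : d = 1 by
    rw [hd1, mul_one]
    exact Bl.mul_mem (a.lt.borel.leU hw) (H_Bl fr a hh)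
  by_contra hd1
  set g := h * d with hgdef
  have hg : g ∈ X := by
    have := X.mul_mem (X.inv_mem (hUX hw)) hx
    rwa [show w⁻¹ * (w * h * d) = h * d by group] at this
  -- powers of `g`
  have hpow : ∀ k : ℕ, ∃ h₂ ∈ H, g ^ k = h₂ * d ^ k := by
    intro k
    induction k with
    | zero => exact ⟨1, H.one_mem, by simp⟩
    | succ k ih =>
      obtain ⟨h₂, hh₂, e⟩ := ih
      refine ⟨h₂ * (d ^ k * h * (d ^ k)⁻¹), H.mul_mem hh₂ (D_H fr a (D.pow_mem hd k) hh), ?_⟩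
      rw [pow_succ, e, hgdef, pow_succ]
      group
  obtain ⟨r, hr, hrd⟩ := Nat.exists_prime_and_dvd (n := orderOf d) fun e => hd1 (orderOf_eq_one_iff.1 e)
  have hdN : orderOf d ∣ orderOf g := by
    refine orderOf_dvd_of_pow_eq_one ?_
    obtain ⟨h₂, hh₂, e⟩ := hpow (orderOf g)
    rw [pow_orderOf_eq_one] at e
    exact (eq_one_of_mem fr a hh₂ (D.pow_mem hd _) (e ▸ U.one_mem)).2
  obtain ⟨α, m, hm, hN⟩ := Nat.exists_eq_pow_mul_and_not_dvd (orderOf_pos g).ne' r hr.ne_one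
  have hdm : d ^ m ≠ 1 := fun e => hm (hrd.trans (orderOf_dvd_of_pow_eq_one e))
  obtain ⟨β, -, hβ⟩ := (Nat.dvd_prime_pow hr).1 (show orderOf (d ^ m) ∣ r ^ α from orderOf_dvd_of_pow_eq_one (by
    rw [← pow_mul, mul_comm m, ← hN]; exact orderOf_dvd_iff_pow_eq_one.1 hdN))
  have hβ1 : 1 ≤ β := by
    by_contra h0
    rw [show β = 0 by omega, pow_zero] at hβ
    exact hdm (orderOf_eq_one_iff.1 hβ)
  set k := m * r ^ (β - 1) with hk
  obtain ⟨h₂, hh₂, hy⟩ := hpow k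
  have hd'o : orderOf (d ^ k) = r := by
    rw [hk, pow_mul, orderOf_pow' (d ^ m) (pow_ne_zero _ hr.ne_zero), hβ,
      Nat.gcd_eq_right (pow_dvd_pow r (Nat.sub_le β 1)), Nat.pow_div (Nat.sub_le β 1) hr.pos,
      show β - (β - 1) = 1 by omega, pow_one]
  set d' := d ^ k
  have hd' : d' ∈ D := D.pow_mem hd k
  have hd'1 : d' ≠ 1 := fun e => by rw [e, orderOf_one] at hd'o; exact hr.ne_one hd'o.symm
  set y := g ^ k with hydef
  have hyX : y ∈ X := X.pow_mem hg k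
  have hyr : y ^ (r ^ α) = 1 := by
    rw [hydef, ← pow_mul, hk, show m * r ^ (β - 1) * r ^ α = r ^ α * m * r ^ (β - 1) by ring, ← hN, pow_mul,
      pow_orderOf_eq_one, one_pow]
  have hr3 : r ≠ 3 := fun e => by
    subst e
    haveI : (U.subgroupOf X).Normal :=
      normal_subgroupOf_of_le_normalizer (hX.trans (B_norm_U fr a))
    have h1 : (y ^ U.relIndex X) ∈ U := by
      have h2 := Subgroup.pow_index_mem (U.subgroupOf X) (⟨y, hyX⟩ : X)
      simpa [mem_subgroupOf, Subgroup.relIndex] using h2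
    obtain ⟨b, hb⟩ := exists_pow_eq_self_of_coprime (x := y) (n := U.relIndex X)
      (Nat.Coprime.coprime_dvd_right (orderOf_dvd_of_pow_eq_one hyr)
        ((Nat.prime_three.coprime_iff_not_dvd.2 hidx).symm.pow_right α))
    have hyU : y ∈ U := hb ▸ U.pow_mem h1 b
    rw [hy] at hyU
    exact hd'1 (eq_one_of_mem fr a hh₂ hd' hyU).2
  have hr2 : r ≠ 2 := fun e => by
    have h1 := fr.D_odd.of_dvd_nat (hrd.trans (Subgroup.orderOf_dvd_natCard D hd))
    rw [e] at h1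
    exact absurd h1 (by decide)
  obtain ⟨F₁, _, _, hq, ⟨e₁⟩⟩ := fr.exists_field hd'
  rw [hd'o, hF] at hq
  obtain ⟨l, hl, hlr, hl2, hlq, hlc⟩ := exists_prime_moved (Fintype.one_lt_card (α := F₁)) hr hr2
  haveI := Fact.mk hl
  rw [hq, ← H_card fr a, Nat.add_sub_cancel] at hlq
  have hlH : l ∣ Nat.card H := (hl.dvd_mul.1 hlq).resolve_left fun e =>
    hl2 ((Nat.prime_dvd_prime_iff_eq hl Nat.prime_two).1 e)
  have hnc : ∀ z ∈ H, orderOf z = l → ¬ Commute z d' := fun z hz hzo hc => by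
    have hodd : Odd (Fintype.card F₁) := by
      rw [Nat.odd_iff]
      by_contra hne
      have h2 : 2 ∣ 3 ^ n := hq ▸ dvd_pow (by omega) hr.ne_zero
      exact absurd (Nat.prime_two.dvd_of_dvd_pow h2) (by decide)
    have h1 := Subgroup.orderOf_dvd_natCard (L ⊓ centralizer ({d'} : Set G))
      ⟨H_L fr a hz, mem_centralizer_singleton_iff.2 hc.eq⟩
    rw [hzo, Nat.card_congr e₁.toEquiv] at h1
    exact hlc (card_psl_odd hodd ▸ h1.mul_left 2)
  obtain ⟨⟨z₀, hz₀⟩, hz₀o⟩ := exists_prime_orderOf_dvd_card' (G := H) l hlH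
  rw [Subgroup.orderOf_mk] at hz₀o
  set z := d' * z₀ * d'⁻¹ * z₀⁻¹ with hz
  have hdz : d' * z₀ * d'⁻¹ ∈ H := D_H fr a hd' hz₀
  have hzH : z ∈ H := H.mul_mem hdz (H.inv_mem hz₀)
  have hyz₀ : y * z₀ * y⁻¹ = d' * z₀ * d'⁻¹ := by
    rw [hy, show h₂ * d' * z₀ * (h₂ * d')⁻¹ = h₂ * (d' * z₀ * d'⁻¹) * h₂⁻¹ by group,
      (H_comm fr a hh₂ hdz).eq, mul_inv_cancel_right]
  have hzX : z ∈ X := by
    rw [hz, ← hyz₀, show y * z₀ * y⁻¹ * z₀⁻¹ = y * (z₀ * y⁻¹ * z₀⁻¹) by group]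
    exact X.mul_mem hyX ((mem_normalizer_iff.1 (hn (mem_sup_left (H_Bl fr a hz₀))) _).1 (X.inv_mem hyX))
  have hzl : z ^ l = 1 := by
    rw [hz, (H_comm fr a hdz (H.inv_mem hz₀)).mul_pow, conj_pow, inv_pow, ← hz₀o, pow_orderOf_eq_one]
    group
  have hz1 : z ≠ 1 := fun e => hnc z₀ hz₀ hz₀o
    ((mul_inv_eq_iff_eq_mul.1 (mul_inv_eq_one.1 e) : Commute d' z₀).symm)
  have hzo : orderOf z = l := orderOf_eq_prime hzl hz1
  have hc := hcomm y hyX z hzX (hzo ▸ Nat.Coprime.coprime_dvd_left (orderOf_dvd_of_pow_eq_one hyr)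
    (((Nat.coprime_primes hr hl).2 (Ne.symm hlr)).pow_left α))
  have hyz : y * z * y⁻¹ = d' * z * d'⁻¹ := by
    rw [hy, show h₂ * d' * z * (h₂ * d')⁻¹ = h₂ * (d' * z * d'⁻¹) * h₂⁻¹ by group,
      (H_comm fr a hh₂ (D_H fr a hd' hzH)).eq, mul_inv_cancel_right]
  rw [hyz] at hc
  exact hnc z hzH hzo ((mul_inv_eq_iff_eq_mul.1 (mul_inv_eq_one.1
    (H_inter fr a hc (H.mul_mem (D_H fr a hd' hzH) (H.inv_mem hzH)))) : Commute d' z).symm)

end ABorel

end Cfsg.Agent.AbelianSylow.Field
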