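import Cfsg.Agent.Lib.AbelianSylow.Cent.FieldShape
import Cfsg.Agent.Lib.AbelianTwoPSL.Fusion

/-!
# Part (a), field automorphisms: the interface of the reduction (owner: helper29)

* `FieldFrame G t F E L A V D` : `C(t) = ⟨t⟩ × E`, `E = L D`, `D` odd cyclic centralising the Sylow `A = ⟨t⟩ × V`
* `CompData G t f F₀ L Kc`     : for `f ∈ D` with `C_L(f) ≅ L₂(q₀)`, `q₀ ≥ 5`: the preimage `Kc` in `C(f)` of the
  component; it contains `f`, and `Kc / ⟨f⟩` is in the Janko-Thompson situation for `F₀`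
-/

set_option autoImplicit false

namespace Cfsg.Agent.AbelianSylow.Field

open Subgroup

universe u

/-- The shape with a complement of field automorphisms. -/
structure FieldFrame (G : Type u) [Group G] [Finite G] (t : G) (F : Type) [Field F] [Fintype F]
    (E L : Subgroup G) (A : Sylow 2 G) (V D : Subgroup G) : Prop where
  shape : CShape G t F E L
  frame : AbelianTwoPSL.Frame t E L A V
  D_le : D ≤ E
  D_odd : Odd (Nat.card D)
  D_cyclic : IsCyclic D
  D_inf : D ⊓ L = ⊥
  D_card : Nat.card D = L.relIndex E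
  split : ∀ e ∈ E, ∃ x ∈ L, ∃ d ∈ D, e = x * d
  cent_A : D ≤ centralizer ((A : Subgroup G) : Set G)
  norm_A : normalizer ((A : Subgroup G) : Set G) ≤ centralizer (D : Set G)

/-- The component of `C(f)`. -/
structure CompData (G : Type u) [Group G] [Finite G] (t f : G) (F₀ : Type) [Field F₀] [Fintype F₀]
    (L Kc : Subgroup G) : Prop where
  le : Kc ≤ centralizer ({f} : Set G)
  norm : centralizer ({f} : Set G) ≤ normalizer (Kc : Set G)
  f_mem : f ∈ Kc
  t_mem : t ∈ Kc
  invol_mem : ∀ u : G, orderOf u = 2 → Commute u f → ∃ x ∈ Kc, x * t * x⁻¹ = u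
  iso : Nonempty (↥(L ⊓ centralizer ({f} : Set G)) ≃* PSL2.PSL2 F₀)
  cent : Kc ⊓ centralizer ({t} : Set G) = zpowers t ⊔ (L ⊓ centralizer ({f} : Set G)) ⊔ zpowers f
  quot : ∃ (Q : Type u) (_ : Group Q) (_ : Finite Q) (π : ↥Kc →* Q), Function.Surjective π ∧
    π.ker = (zpowers f).subgroupOf Kc ∧ JTData Q (π ⟨t, t_mem⟩) F₀

end Cfsg.Agent.AbelianSylow.Field
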