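import Cfsg.Agent.EqLemmas
import Mathlib

/-!
# No field automorphism, case (B): the operator of order three is a scalar (owner: helper88)

`R` is a `p`-group with commuting automorphisms `τ` (order two) and `η` (order three), the fixed points of `τ` are
`⟨f⟩`, and `η` is the power `ω` on the `τ`-inverted elements commuting with `f`.  Then `η` is the power `ω` on all
`τ`-inverted elements.

* `inverted_scalar` : this statement
-/

set_option autoImplicit false
set_option linter.style.haveILetI false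
set_option linter.unusedSectionVars false

namespace Cfsg.Agent.AbelianSylow.Eigen

open Subgroup

universe u

variable {R : Type u} [Group R] [Finite R] {p : ℕ} [Fact p.Prime]

/-- In a `p`-group a power with exponent prime to `p` is trivial only on the identity. -/
theorem eq_one_of_pow (hR : IsPGroup p R) {x : R} {n : ℤ} (hn : (n : ZMod p) ≠ 0) (h : x ^ n = 1) :
    x = 1 := by
  obtain ⟨k, hk⟩ := hR.exists_orderOf_eq_pow x
  have h1 := orderOf_dvd_iff_zpow_eq_one.2 h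
  rw [hk, Nat.cast_pow] at h1
  rcases k with _ | k
  · exact orderOf_eq_one_iff.1 (by simpa using hk)
  · exact absurd ((ZMod.intCast_zmod_eq_zero_iff_dvd n p).2 ((dvd_pow_self _ k.succ_ne_zero).trans h1)) hn

/-- An element inverted modulo a normal subgroup of odd order is congruent to an inverted element. -/
theorem exists_inverted_lift {τ : R →* R} (hτ : ∀ x, τ (τ x) = x) {M : Subgroup R} (hM : ∀ m ∈ M, τ m ∈ M)
    (hodd : Odd (Nat.card M)) {x : R} (h : τ x * x ∈ M) :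
    ∃ y : R, x⁻¹ * y ∈ M ∧ τ y = y⁻¹ := by
  obtain ⟨k, hk⟩ := hodd
  refine ⟨x * (τ x * x) ^ k, by rw [inv_mul_cancel_left]; exact pow_mem h k, eq_inv_of_mul_eq_one_left ?_⟩
  have e1 : τ (τ x * x) = x * τ x := by rw [map_mul, hτ]
  have e2 : ∀ j : ℕ, (x * τ x) ^ j * x = x * (τ x * x) ^ j := fun j => by
    induction j with
    | zero => simp
    | succ j ih =>
      calc (x * τ x) ^ (j + 1) * x = x * τ x * ((x * τ x) ^ j * x) := by rw [pow_succ', mul_assoc]
        _ = x * τ x * (x * (τ x * x) ^ j) := by rw [ih]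
        _ = x * ((τ x * x) * (τ x * x) ^ j) := by simp only [mul_assoc]
        _ = x * (τ x * x) ^ (j + 1) := by rw [← pow_succ']
  calc τ (x * (τ x * x) ^ k) * (x * (τ x * x) ^ k)
      = τ x * ((x * τ x) ^ k * x) * (τ x * x) ^ k := by rw [map_mul, map_pow, e1]; group
    _ = τ x * x * ((τ x * x) ^ k * (τ x * x) ^ k) := by rw [e2]; group
    _ = (τ x * x) ^ (2 * k + 1) := by rw [← pow_add, ← two_mul, pow_succ']
    _ = 1 := by
        rw [← hk]
        exact congrArg Subtype.val (pow_card_eq_one' (x := (⟨τ x * x, h⟩ : M)))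

/-- The data: two commuting operators and an element spanning the fixed points of the first. -/
structure Data (p : ℕ) [Fact p.Prime] (ω : ℕ) (R : Type u) [Group R] [Finite R] (τ η : R →* R) (f : R) :
    Prop where
  pgroup : IsPGroup p R
  ne_two : p ≠ 2
  ne_three : p ≠ 3
  sq : ∀ x, τ (τ x) = x
  cube : ∀ x, η (η (η x)) = x
  comm : ∀ x, η (τ x) = τ (η x)
  fixf : τ f = f
  etaf : η f = f
  fixed : ∀ x, τ x = x → x ∈ zpowers f
  pow_cube : ∀ x : R, x ^ (ω ^ 3) = x
  root : (ω : ZMod p) ^ 2 ≠ 1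
  scalar : ∀ x, Commute x f → τ x = x⁻¹ → η x = x ^ ω

namespace Data

variable {ω : ℕ} {τ η : R →* R} {f : R}

theorem odd_card (h : Data p ω R τ η f) (M : Subgroup R) : Odd (Nat.card M) := by
  obtain ⟨k, hk⟩ := IsPGroup.iff_card.1 (h.pgroup.to_subgroup M)
  rw [hk]
  exact ((Fact.out : p.Prime).odd_of_ne_two h.ne_two).pow

theorem eq_one_of_inv_eq (h : Data p ω R τ η f) {x : R} (hx : x⁻¹ = x) : x = 1 := by
  refine eq_one_of_pow h.pgroup (n := 2) ?_ (by
    rw [show (2 : ℤ) = 1 + 1 from rfl, zpow_add, zpow_one]; nth_rewrite 1 [← hx]; exact inv_mul_cancel x)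
  intro e
  have h2 : ((2 : ℕ) : ZMod p) = 0 := by simpa using e
  rw [ZMod.natCast_eq_zero_iff] at h2
  exact h.ne_two ((Nat.prime_dvd_prime_iff_eq (Fact.out : p.Prime) Nat.prime_two).1 h2)

theorem root_ne_zero (h : Data p ω R τ η f) {x : R} (hx : x ≠ 1) : (ω : ZMod p) ≠ 0 := by
  intro e
  refine hx (eq_one_of_pow h.pgroup (n := ((ω ^ 3 : ℕ) : ℤ) - 1) ?_ ?_)
  · push_cast
    rw [e]; simp
  · rw [zpow_sub, zpow_natCast, zpow_one, h.pow_cube, mul_inv_cancel]

theorem eq_one_of_pow_sq (h : Data p ω R τ η f) {x : R} (hx : x ^ (ω ^ 2) = x) : x = 1 := by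
  refine eq_one_of_pow h.pgroup (n := ((ω ^ 2 : ℕ) : ℤ) - 1) ?_ ?_
  · push_cast
    exact sub_ne_zero.2 h.root
  · rw [zpow_sub, zpow_natCast, zpow_one, hx, mul_inv_cancel]

theorem eq_one_of_three (h : Data p ω R τ η f) {x : R} (hx : x ^ (3 * ω ^ 2) = 1) : x = 1 := by
  by_contra h1
  refine h1 (eq_one_of_pow h.pgroup (n := ((3 * ω ^ 2 : ℕ) : ℤ)) ?_ (by rw [zpow_natCast, hx]))
  push_cast
  refine mul_ne_zero ?_ (pow_ne_zero _ (h.root_ne_zero h1))
  intro e
  have h3 : ((3 : ℕ) : ZMod p) = 0 := by simpa using e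
  rw [ZMod.natCast_eq_zero_iff] at h3
  exact h.ne_three ((Nat.prime_dvd_prime_iff_eq (Fact.out : p.Prime) Nat.prime_three).1 h3)

theorem fixed_commute (h : Data p ω R τ η f) {x : R} (hx : τ x = x) : Commute x f := by
  obtain ⟨k, rfl⟩ := mem_zpowers_iff.1 (h.fixed x hx)
  exact (Commute.refl f).zpow_left k

theorem eq_one_of_fixed_inverted (h : Data p ω R τ η f) {x : R} (h1 : τ x = x) (h2 : τ x = x⁻¹) : x = 1 :=
  h.eq_one_of_inv_eq (h2.symm.trans h1)

/-- A central correction of the power `ω` is trivial. -/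
theorem correction_eq_one (h : Data p ω R τ η f) {x c : R} (hc : η x = c * x ^ ω) (hcx : Commute c x)
    (hcη : η c = c ^ ω) : η x = x ^ ω := by
  have e1 : η (η x) = c ^ (2 * ω) * x ^ (ω ^ 2) := by
    rw [hc, map_mul, map_pow, hc, hcη, (hcx.pow_right ω).mul_pow, ← pow_mul x, ← mul_assoc,
      ← pow_add, ← two_mul, pow_two]
  have e2 : η (η (η x)) = c ^ (3 * ω ^ 2) * x := by
    rw [e1, map_mul, map_pow, map_pow, hc, hcη, (hcx.pow_right ω).mul_pow, ← pow_mul c, ← pow_mul x,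
      ← mul_assoc, ← pow_add, ← pow_succ', h.pow_cube, show ω * (2 * ω) + ω ^ 2 = 3 * ω ^ 2 by ring]
  have h1 : c ^ (3 * ω ^ 2) = 1 := mul_eq_right.1 (e2.symm.trans (h.cube x))
  rw [hc, h.eq_one_of_three h1, one_mul]

/-- The inverted elements commuting with `f` commute with each other. -/
theorem commute_inverted (h : Data p ω R τ η f) {a b : R} (ha : Commute a f) (hb : Commute b f)
    (ha' : τ a = a⁻¹) (hb' : τ b = b⁻¹) : Commute a b := by
  -- the product is fixed up to an inverted element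
  obtain ⟨y, hy, hy'⟩ : ∃ y : R, (a * b)⁻¹ * y ∈ zpowers f ∧ τ y = y⁻¹ := by
    set C := centralizer ({f} : Set R) with hC
    have hmem : ∀ {x : R}, Commute x f → x ∈ C := fun hx => mem_centralizer_singleton_iff.2 hx.eq
    have hcom : ∀ {x : R}, x ∈ C → Commute x f := fun hx => mem_centralizer_singleton_iff.1 hx
    let τC : C →* C := (τ.comp C.subtype).codRestrict C fun x =>
      hmem (show Commute (τ x) f by rw [← h.fixf]; exact (hcom x.2).map τ)
    set Z := (zpowers f).subgroupOf C with hZ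
    haveI : Z.Normal := ⟨fun n hn g => by
      obtain ⟨k, hk⟩ := mem_zpowers_iff.1 (mem_subgroupOf.1 hn)
      have : g * n * g⁻¹ = n := by
        ext
        show (g : R) * n * (g : R)⁻¹ = n
        rw [← hk, ((hcom g.2).zpow_right k).eq, mul_inv_cancel_right]
      rwa [this]⟩
    have hτZ : Z ≤ Z.comap τC := fun x hx => by
      obtain ⟨k, hk⟩ := mem_zpowers_iff.1 (mem_subgroupOf.1 hx)
      show τC x ∈ (zpowers f).subgroupOf C
      rw [mem_subgroupOf]
      show τ (x : R) ∈ zpowers f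
      rw [← hk, map_zpow, h.fixf]
      exact zpow_mem (mem_zpowers f) k
    set τQ := QuotientGroup.map Z Z τC hτZ
    have hQ : ∀ u : C ⧸ Z, τQ u = u⁻¹ := by
      have hτC : ∀ x : C, τC (τC x) = x := fun x => Subtype.ext (h.sq x)
      intro u
      have hsq : ∀ v, τQ (τQ v) = v := fun v => by
        obtain ⟨v, rfl⟩ := QuotientGroup.mk'_surjective Z v
        exact congrArg (QuotientGroup.mk' Z) (hτC v)
      have hfix : ∀ v, τQ v = v → v = 1 := by
        intro v hv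
        obtain ⟨v, rfl⟩ := QuotientGroup.mk'_surjective Z v
        have h1 : (v : R)⁻¹ * τ v ∈ zpowers f :=
          mem_subgroupOf.1 (QuotientGroup.eq.1 (show (QuotientGroup.mk v : C ⧸ Z) = QuotientGroup.mk (τC v)
            from hv.symm))
        obtain ⟨k, hk⟩ := mem_zpowers_iff.1 h1
        -- then `τ (v⁻¹ τ v)` is its inverse and also itself
        have h2 : τ ((v : R)⁻¹ * τ v) = ((v : R)⁻¹ * τ v)⁻¹ := by
          rw [map_mul, map_inv, h.sq, mul_inv_rev, inv_inv]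
        have h3 : (v : R)⁻¹ * τ v = 1 := h.eq_one_of_fixed_inverted (by rw [← hk, map_zpow, h.fixf]) h2
        refine (QuotientGroup.eq_one_iff v).2 (mem_subgroupOf.2 (h.fixed _ ?_))
        exact (inv_mul_eq_one.1 h3).symm
      exact congrFun (MonoidHom.FixedPointFree.coe_eq_inv_of_involutive (φ := τQ) hfix hsq) u
    set v : C := ⟨a * b, mul_mem (hmem ha) (hmem hb)⟩
    have h1 : τ (a * b) * (a * b) ∈ zpowers f := by
      have e : (QuotientGroup.mk (τC v) : C ⧸ Z) = (QuotientGroup.mk v)⁻¹ := hQ (QuotientGroup.mk v)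
      have := (QuotientGroup.eq_one_iff (N := Z) (τC v * v)).1 (by
        rw [QuotientGroup.mk_mul, e, inv_mul_cancel])
      exact mem_subgroupOf.1 this
    exact exists_inverted_lift h.sq (fun m hm => by
      obtain ⟨k, rfl⟩ := mem_zpowers_iff.1 hm
      rw [map_zpow, h.fixf]; exact zpow_mem (mem_zpowers f) k) (h.odd_card _) h1
  obtain ⟨k, hk⟩ := mem_zpowers_iff.1 hy
  have hyab : y = a * b * f ^ k := by rw [hk]; group
  have hyf : Commute y f := by
    rw [hyab]; exact (ha.mul_left hb).mul_left ((Commute.refl f).zpow_left k)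
  -- the commutator is a fixed element
  have h1 : a⁻¹ * b⁻¹ * f ^ k = f ^ (-k) * b⁻¹ * a⁻¹ := by
    have e := hy'
    rw [hyab, map_mul, map_mul, ha', hb', map_zpow, h.fixf, mul_inv_rev, mul_inv_rev, ← zpow_neg,
      ← mul_assoc] at e
    exact e
  set c := a * b * (a⁻¹ * b⁻¹) with hc
  have hcf : c = f ^ (-(2 * k)) := by
    have e2 : Commute (a * b) (f ^ (-k)) := ((ha.mul_left hb).zpow_right (-k))
    calc c = a * b * (a⁻¹ * b⁻¹ * f ^ k) * f ^ (-k) := by rw [hc]; group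
      _ = a * b * f ^ (-k) * (b⁻¹ * a⁻¹) * f ^ (-k) := by rw [h1]; group
      _ = f ^ (-k) * (a * b) * (b⁻¹ * a⁻¹) * f ^ (-k) := by rw [e2.eq]
      _ = f ^ (-(2 * k)) := by group
  -- `η` raises it to the power `ω ^ 2`
  have hcη : η c = c := by rw [hcf, map_zpow, h.etaf]
  have hca : ∀ {x : R}, Commute x f → Commute c x := fun hx => by rw [hcf]; exact (hx.symm.zpow_left _)
  have key : ∀ i : ℕ, a ^ i * b = c ^ i * (b * a ^ i) := fun i => by
    induction i with
    | zero => simp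
    | succ i ih =>
      calc a ^ (i + 1) * b = a * (a ^ i * b) := by rw [pow_succ', mul_assoc]
        _ = a * c ^ i * (b * a ^ i) := by rw [ih, mul_assoc]
        _ = c ^ i * a * (b * a ^ i) := by rw [((hca ha).pow_left i).eq]
        _ = c ^ i * (a * b * a ^ i) := by group
        _ = c ^ i * (c * (b * a) * a ^ i) := by rw [hc]; group
        _ = c ^ (i + 1) * (b * a ^ (i + 1)) := by rw [pow_succ, pow_succ']; group
  have key2 : ∀ i j : ℕ, a ^ i * b ^ j = c ^ (i * j) * (b ^ j * a ^ i) := fun i j => by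
    induction j with
    | zero => simp
    | succ j ih =>
      calc a ^ i * b ^ (j + 1) = a ^ i * b ^ j * b := by rw [pow_succ, mul_assoc]
        _ = c ^ (i * j) * (b ^ j * (a ^ i * b)) := by rw [ih]; group
        _ = c ^ (i * j) * (b ^ j * c ^ i * (b * a ^ i)) := by rw [key]; group
        _ = c ^ (i * j) * (c ^ i * b ^ j * (b * a ^ i)) := by rw [(((hca hb).pow_right j).pow_left i).eq]
        _ = c ^ (i * (j + 1)) * (b ^ (j + 1) * a ^ i) := by rw [Nat.mul_succ, pow_add, pow_succ]; group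
  have h2 : η c = c ^ (ω ^ 2) := by
    rw [hc, map_mul, map_mul, map_mul, map_inv, map_inv, h.scalar a ha ha', h.scalar b hb hb',
      key2, ← hc, pow_two]
    group
  exact mul_inv_eq_one.1 (show a * b * (b * a)⁻¹ = 1 by
    rw [mul_inv_rev, ← hc]; exact h.eq_one_of_pow_sq (h2.symm.trans hcη))

/-- The case that `f` is central modulo the inverted central subgroup `Z`. -/
theorem scalar_of_central (h : Data p ω R τ η f) {Z : Subgroup R} (hZ : ∀ z ∈ Z, ∀ x, Commute z x)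
    (hZτ : ∀ z ∈ Z, τ z = z⁻¹) (hf : ∀ x, x * f * x⁻¹ * f⁻¹ ∈ Z) {x : R} (hx : τ x = x⁻¹) :
    η x = x ^ ω := by
  obtain ⟨c, hc, hcx⟩ : ∃ c ∈ Z, x * f * x⁻¹ = c * f := ⟨_, hf x, by group⟩
  have hcsc : η c = c ^ ω := h.scalar c (hZ c hc f) (hZτ c hc)
  have hpf : ∀ i : ℕ, x ^ i * f * (x ^ i)⁻¹ = c ^ i * f := fun i => by
    induction i with
    | zero => simp
    | succ i ih =>
      calc x ^ (i + 1) * f * (x ^ (i + 1))⁻¹ = x * (x ^ i * f * (x ^ i)⁻¹) * x⁻¹ := by
            rw [pow_succ']; group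
        _ = x * c ^ i * f * x⁻¹ := by rw [ih, ← mul_assoc]
        _ = c ^ i * x * f * x⁻¹ := by rw [((hZ c hc x).pow_left i).eq]
        _ = c ^ i * (c * f) := by rw [← hcx]; group
        _ = c ^ (i + 1) * f := by rw [← mul_assoc, ← pow_succ]
  -- `η x = u * x ^ ω` with `u` commuting with `f`
  have hηf : η x * f * (η x)⁻¹ = c ^ ω * f := by
    have := congrArg η hcx
    rwa [map_mul, map_mul, map_mul, map_inv, h.etaf, hcsc] at this
  obtain ⟨u, hu, huf⟩ : ∃ u, η x = u * x ^ ω ∧ Commute u f := by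
    refine ⟨η x * (x ^ ω)⁻¹, by group, ?_⟩
    have e : (x ^ ω)⁻¹ * f = (c ^ ω)⁻¹ * (f * (x ^ ω)⁻¹) := by
      have := hpf ω
      calc (x ^ ω)⁻¹ * f = (x ^ ω)⁻¹ * ((c ^ ω)⁻¹ * (c ^ ω * f)) := by rw [inv_mul_cancel_left]
        _ = (c ^ ω)⁻¹ * ((x ^ ω)⁻¹ * (c ^ ω * f)) := by
            rw [← mul_assoc, ← ((((hZ c hc x).pow_right ω).pow_left ω).inv_inv).eq, mul_assoc]
        _ = _ := by rw [← this]; group
    show η x * (x ^ ω)⁻¹ * f = f * (η x * (x ^ ω)⁻¹)
    calc η x * (x ^ ω)⁻¹ * f = η x * ((x ^ ω)⁻¹ * f) := mul_assoc _ _ _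
      _ = η x * (c ^ ω)⁻¹ * f * (x ^ ω)⁻¹ := by rw [e]; group
      _ = (c ^ ω)⁻¹ * (η x * f) * (x ^ ω)⁻¹ := by
          rw [← (((hZ c hc (η x)).pow_left ω).inv_left).eq]; group
      _ = (c ^ ω)⁻¹ * (c ^ ω * f * η x) * (x ^ ω)⁻¹ := by rw [← hηf]; group
      _ = f * (η x * (x ^ ω)⁻¹) := by group
  -- decompose an element commuting with `f`
  have hdec : ∀ v, Commute v f → ∃ k : ℤ, ∃ q, Commute q f ∧ τ q = q⁻¹ ∧ v = f ^ k * q := by
    intro v hv
    have hw : τ (v⁻¹ * τ v) = (v⁻¹ * τ v)⁻¹ := by rw [map_mul, map_inv, h.sq, mul_inv_rev, inv_inv]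
    obtain ⟨m, hm⟩ := h.odd_card (zpowers (v⁻¹ * τ v))
    have hwf : Commute (v⁻¹ * τ v) f :=
      hv.inv_left.mul_left (by rw [← h.fixf]; exact hv.map τ)
    set w := (v⁻¹ * τ v) ^ (m + 1) with hw'
    have hww : w * w = v⁻¹ * τ v := by
      rw [hw', ← pow_add]
      have h1 : (v⁻¹ * τ v) ^ (2 * m + 1) = 1 := by rw [← hm, Nat.card_zpowers, pow_orderOf_eq_one]
      calc (v⁻¹ * τ v) ^ (m + 1 + (m + 1)) = (v⁻¹ * τ v) ^ (2 * m + 1) * (v⁻¹ * τ v) := by
            rw [← pow_succ]; congr 1; ring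
        _ = _ := by rw [h1, one_mul]
    have hτw : τ w = w⁻¹ := by rw [hw', map_pow, hw, inv_pow]
    have hwf' : Commute w f := hwf.pow_left _
    have hfix : τ (v * w) = v * w := by
      rw [map_mul, hτw, show τ v = v * (w * w) by rw [hww]; group]
      group
    obtain ⟨k, hk⟩ := mem_zpowers_iff.1 (h.fixed _ hfix)
    exact ⟨k, w⁻¹, hwf'.inv_left, by rw [map_inv, hτw], by rw [hk]; group⟩
  -- fixed elements of `Z` are trivial
  have hZ1 : ∀ k : ℤ, f ^ k ∈ Z → f ^ k = 1 := fun k hk =>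
    h.eq_one_of_fixed_inverted (by rw [map_zpow, h.fixf]) (hZτ _ hk)
  -- `R` is abelian modulo `⟨f⟩ Z`
  have hcomm : ∀ a b : R, ∃ k : ℤ, ∃ z ∈ Z, a * b * a⁻¹ * b⁻¹ = f ^ k * z := by
    intro a b
    set Q0 := zpowers f ⊔ Z with hQ0
    haveI : Z.Normal := ⟨fun n hn g => by rwa [← (hZ n hn g).eq, mul_inv_cancel_right]⟩
    haveI : Q0.Normal := ⟨fun n hn g => by
      obtain ⟨y, hy, z, hz, rfl⟩ := mem_sup_of_normal_right.1 hn
      obtain ⟨k, rfl⟩ := mem_zpowers_iff.1 hy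
      rw [show g * (f ^ k * z) * g⁻¹ = (g * f * g⁻¹) ^ k * (g * z * g⁻¹) by rw [conj_zpow]; group]
      refine mul_mem (zpow_mem ?_ k) (mem_sup_right (Normal.conj_mem inferInstance z hz g))
      have := mul_mem (mem_sup_right (hf g) : g * f * g⁻¹ * f⁻¹ ∈ Q0) (mem_sup_left (mem_zpowers f))
      rwa [inv_mul_cancel_right] at this⟩
    have hτQ : Q0 ≤ Q0.comap τ := sup_le (zpowers_le.2 (show τ f ∈ Q0 by
        rw [h.fixf]; exact mem_sup_left (mem_zpowers f))) (fun z hz => show τ z ∈ Q0 by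
        rw [hZτ z hz]; exact mem_sup_right (inv_mem hz))
    set τQ := QuotientGroup.map Q0 Q0 τ hτQ
    have hsq : ∀ v, τQ (τQ v) = v := fun v => by
      obtain ⟨v, rfl⟩ := QuotientGroup.mk'_surjective Q0 v
      exact congrArg (QuotientGroup.mk' Q0) (h.sq v)
    have hfix : ∀ v, τQ v = v → v = 1 := by
      intro v hv
      obtain ⟨v, rfl⟩ := QuotientGroup.mk'_surjective Q0 v
      have h1 : v⁻¹ * τ v ∈ Q0 := QuotientGroup.eq.1
        (show (QuotientGroup.mk v : R ⧸ Q0) = QuotientGroup.mk (τ v) from hv.symm)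
      have hw : τ (v⁻¹ * τ v) = (v⁻¹ * τ v)⁻¹ := by rw [map_mul, map_inv, h.sq, mul_inv_rev, inv_inv]
      obtain ⟨m, hm⟩ := h.odd_card (zpowers (v⁻¹ * τ v))
      rw [Nat.card_zpowers] at hm
      set w := (v⁻¹ * τ v) ^ (m + 1) with hw'
      have hww : w * w = v⁻¹ * τ v := by
        rw [hw', ← pow_add, show m + 1 + (m + 1) = 2 * m + 1 + 1 by ring, pow_succ, ← hm, pow_orderOf_eq_one,
          one_mul]
      have hfix : τ (v * w) = v * w := by
        rw [map_mul, show τ w = w⁻¹ by rw [hw', map_pow, hw, inv_pow],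
          show τ v = v * (w * w) by rw [hww]; group]
        group
      refine (QuotientGroup.eq_one_iff v).2 ?_
      have h2 : v * w ∈ Q0 := mem_sup_left (h.fixed _ hfix)
      have h3 : w ∈ Q0 := hw' ▸ pow_mem h1 (m + 1)
      have h4 := mul_mem h2 (inv_mem h3)
      rwa [mul_inv_cancel_right] at h4
    have hinv := congrFun (MonoidHom.FixedPointFree.coe_eq_inv_of_involutive (φ := τQ) hfix hsq)
    have hab : (QuotientGroup.mk (a * b * a⁻¹ * b⁻¹) : R ⧸ Q0) = 1 := by
      have h1 := hinv ((QuotientGroup.mk a)⁻¹ * (QuotientGroup.mk b)⁻¹)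
      rw [map_mul, map_inv, map_inv, hinv, hinv, inv_inv, inv_inv, mul_inv_rev, inv_inv, inv_inv] at h1
      simp only [QuotientGroup.mk_mul, QuotientGroup.mk_inv]
      rw [h1]; group
    obtain ⟨y, hy, z, hz, hyz⟩ := mem_sup_of_normal_right.1 ((QuotientGroup.eq_one_iff _).1 hab)
    obtain ⟨k, rfl⟩ := mem_zpowers_iff.1 hy
    exact ⟨k, z, hz, hyz.symm⟩
  have hxq : ∀ q, Commute q f → τ q = q⁻¹ → Commute x q := by
    intro q hqf hq
    obtain ⟨k, z, hz, hkz⟩ := hcomm x q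
    have hconj : x * q * x⁻¹ = f ^ k * z * q := by rw [← hkz]; group
    have hzsc : η z = z ^ ω := h.scalar z (hZ z hz f) (hZτ z hz)
    have hηq : η q = q ^ ω := h.scalar q hqf hq
    have hpq : ∀ i : ℕ, ∃ z' ∈ Z, x ^ i * q * (x ^ i)⁻¹ = f ^ (k * i) * z' * q := fun i => by
      induction i with
      | zero => exact ⟨1, Z.one_mem, by simp⟩
      | succ i ih =>
        obtain ⟨z', hz', ih⟩ := ih
        refine ⟨c ^ (k * i) * z' * z, Z.mul_mem (Z.mul_mem (Z.zpow_mem hc _) hz') hz, ?_⟩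
        have e1 : x * z' * x⁻¹ = z' := by rw [← (hZ z' hz' x).eq, mul_inv_cancel_right]
        calc x ^ (i + 1) * q * (x ^ (i + 1))⁻¹ = x * (x ^ i * q * (x ^ i)⁻¹) * x⁻¹ := by
              rw [pow_succ']; group
          _ = (x * f * x⁻¹) ^ (k * i) * (x * z' * x⁻¹) * (x * q * x⁻¹) := by rw [ih, conj_zpow]; group
          _ = c ^ (k * i) * f ^ (k * i) * z' * (f ^ k * z * q) := by
              rw [hcx, (hZ c hc f).mul_zpow, e1, hconj]
          _ = c ^ (k * i) * (f ^ (k * i) * (z' * f ^ k)) * z * q := by group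
          _ = c ^ (k * i) * (f ^ (k * i) * (f ^ k * z')) * z * q := by rw [(hZ z' hz' _).eq]
          _ = c ^ (k * i) * f ^ (k * i + k) * (z' * z) * q := by rw [zpow_add]; group
          _ = f ^ (k * (i + 1 : ℕ)) * (c ^ (k * i) * z' * z) * q := by
              rw [(hZ _ (Z.zpow_mem hc _) (f ^ (k * i + k))).eq]
              push_cast
              rw [mul_add, mul_one]; group
    -- apply `η`
    obtain ⟨z', hz', hω⟩ := hpq ω
    have hqω : x ^ ω * q ^ ω * (x ^ ω)⁻¹ = f ^ k * z ^ ω * q ^ ω := by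
      have e := congrArg η hconj
      rw [map_mul, map_mul, map_mul, map_mul, map_inv, map_zpow, h.etaf, hzsc, hηq, hu] at e
      have h1 : Commute u (x ^ ω * q ^ ω * (x ^ ω)⁻¹) := by
        rw [show x ^ ω * q ^ ω * (x ^ ω)⁻¹ = (x ^ ω * q * (x ^ ω)⁻¹) ^ ω from conj_pow.symm, hω]
        refine (((?_ : Commute u (f ^ (k * ω))).mul_right (hZ z' hz' u).symm).mul_right ?_).pow_right ω
        · exact huf.zpow_right _
        · obtain ⟨l, q', hq'f, hq', rfl⟩ := hdec u huf
          exact (hqf.symm.zpow_left l).mul_left (h.commute_inverted hq'f hqf hq' hq)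
      have h2 : u * (x ^ ω * q ^ ω * (x ^ ω)⁻¹) * u⁻¹ = f ^ k * z ^ ω * q ^ ω := by rw [← e]; group
      rwa [h1.eq, mul_inv_cancel_right] at h2
    have hdiff : f ^ (k * ω * ω) * z' ^ ω = f ^ k * z ^ ω := by
      have e : x ^ ω * q ^ ω * (x ^ ω)⁻¹ = f ^ (k * ω * ω) * z' ^ ω * q ^ ω := by
        rw [show x ^ ω * q ^ ω * (x ^ ω)⁻¹ = (x ^ ω * q * (x ^ ω)⁻¹) ^ ω from conj_pow.symm, hω,
          ((hqf.symm.zpow_left _).mul_left (hZ z' hz' q)).mul_pow, ((hZ z' hz' _).symm).mul_pow,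
          ← zpow_natCast (f ^ (k * ω)), ← zpow_mul]
      exact mul_right_cancel (e.symm.trans hqω)
    have hfk : f ^ k = 1 := by
      have h1 : f ^ (k * ω * ω - k) ∈ Z := by
        have : f ^ (k * ω * ω - k) = z ^ ω * (z' ^ ω)⁻¹ := by
          rw [zpow_sub, eq_mul_inv_iff_mul_eq, mul_assoc,
            ← ((hZ _ (Z.pow_mem hz' ω) ((f ^ k)⁻¹))).eq, ← mul_assoc, hdiff,
            (hZ _ (Z.pow_mem hz ω) (f ^ k)).symm.eq, mul_inv_cancel_right]
        rw [this]; exact Z.mul_mem (Z.pow_mem hz _) (Z.inv_mem (Z.pow_mem hz' _))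
      have h2 := hZ1 _ h1
      refine h.eq_one_of_pow_sq ?_
      rw [zpow_sub, mul_inv_eq_one] at h2
      rw [← zpow_natCast, ← zpow_mul, ← h2]
      congr 1
      push_cast; ring
    have hconj1 : x * q * x⁻¹ = z * q := by rw [hconj, hfk, one_mul]
    have hpq1 : ∀ i : ℕ, x ^ i * q * (x ^ i)⁻¹ = z ^ i * q := fun i => by
      induction i with
      | zero => simp
      | succ i ih =>
        calc x ^ (i + 1) * q * (x ^ (i + 1))⁻¹ = x * (x ^ i * q * (x ^ i)⁻¹) * x⁻¹ := by rw [pow_succ']; group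
          _ = (x * z ^ i) * q * x⁻¹ := by rw [ih, ← mul_assoc]
          _ = z ^ i * (x * q * x⁻¹) := by rw [← ((hZ z hz x).pow_left i).eq]; group
          _ = z ^ (i + 1) * q := by rw [hconj1, ← mul_assoc, ← pow_succ]
    have hzω : z ^ (ω ^ 2) = z ^ ω := by
      refine mul_right_cancel (b := q ^ ω) ?_
      rw [show f ^ k * z ^ ω = z ^ ω by rw [hfk, one_mul]] at hqω
      rw [← hqω, show x ^ ω * q ^ ω * (x ^ ω)⁻¹ = (x ^ ω * q * (x ^ ω)⁻¹) ^ ω from conj_pow.symm, hpq1,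
        ((hZ z hz q).pow_left ω).mul_pow, ← pow_mul, pow_two]
    have hz1 : z = 1 := by
      have e : z ^ ω = z := by
        have h4 := congrArg (· ^ (ω ^ 2)) hzω
        simp only [← pow_mul] at h4
        rw [show ω ^ 2 * ω ^ 2 = ω ^ 3 * ω by ring, pow_mul, h.pow_cube,
          show ω * ω ^ 2 = ω ^ 3 by ring, h.pow_cube] at h4
        exact h4
      exact h.eq_one_of_pow_sq (hzω.trans e)
    show x * q = q * x
    rw [hz1, one_mul] at hconj1
    exact mul_inv_eq_iff_eq_mul.1 hconj1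
  obtain ⟨l, q, hqf, hq, rfl⟩ := hdec u huf
  have hl : f ^ l = 1 := by
    have e : η (τ x) = τ (η x) := h.comm x
    rw [hx, map_inv, hu, map_mul, map_mul, map_zpow, h.fixf, hq, map_pow, hx] at e
    have hqx : Commute q (x ^ ω) := ((hxq q hqf hq).symm).pow_right ω
    have e1 : f ^ l = (x ^ ω)⁻¹ * f ^ (-l) * x ^ ω := by
      calc f ^ l = q * (f ^ l * q⁻¹ * x⁻¹ ^ ω) * x ^ ω := by
            rw [inv_pow, ← mul_assoc q, ← mul_assoc q, ← (hqf.symm.zpow_left l).eq]; group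
        _ = q * ((f ^ l * q * x ^ ω)⁻¹) * x ^ ω := by rw [← e]
        _ = q * ((x ^ ω)⁻¹ * q⁻¹) * f ^ (-l) * x ^ ω := by group
        _ = _ := by rw [← mul_assoc q, hqx.inv_right.eq, mul_inv_cancel_right]
    have e2 : (x ^ ω)⁻¹ * f * x ^ ω = (c ^ ω)⁻¹ * f := by
      have := hpf ω
      calc (x ^ ω)⁻¹ * f * x ^ ω = (x ^ ω)⁻¹ * ((c ^ ω)⁻¹ * (x ^ ω * f * (x ^ ω)⁻¹)) * x ^ ω := by
            rw [this]; group
        _ = (c ^ ω)⁻¹ * f := by
            rw [← mul_assoc (x ^ ω)⁻¹, ← (((hZ c hc (x ^ ω)).pow_left ω).inv_inv).eq]; group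
    have e3 : (x ^ ω)⁻¹ * f ^ (-l) * x ^ ω = ((c ^ ω)⁻¹) ^ (-l) * f ^ (-l) := by
      rw [← ((hZ c hc f).pow_left ω).inv_left.mul_zpow, ← e2]
      have := conj_zpow (a := (x ^ ω)⁻¹) (b := f) (i := -l)
      rw [inv_inv] at this
      exact this.symm
    have h2 : f ^ (l + l) ∈ Z := by
      have h3 : f ^ l * f ^ l = ((c ^ ω)⁻¹) ^ (-l) := by
        nth_rewrite 1 [e1.trans e3]
        group
      rw [zpow_add, h3]
      exact Z.zpow_mem (Z.inv_mem (Z.pow_mem hc _)) _
    refine h.eq_one_of_inv_eq ?_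
    have h3 := hZ1 _ h2
    rw [zpow_add] at h3
    exact inv_eq_of_mul_eq_one_right h3
  rw [hl, one_mul] at hu
  exact h.correction_eq_one hu (hxq q hqf hq).symm (h.scalar q hqf hq)

/-- Every element is a fixed one times the inverse of an inverted one, the latter in a given subgroup. -/
theorem exists_fixed_mul (h : Data p ω R τ η f) (v : R) :
    ∃ w ∈ zpowers (v⁻¹ * τ v), τ (v * w) = v * w ∧ τ w = w⁻¹ := by
  have hw : τ (v⁻¹ * τ v) = (v⁻¹ * τ v)⁻¹ := by rw [map_mul, map_inv, h.sq, mul_inv_rev, inv_inv]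
  obtain ⟨m, hm⟩ := h.odd_card (zpowers (v⁻¹ * τ v))
  rw [Nat.card_zpowers] at hm
  refine ⟨(v⁻¹ * τ v) ^ (m + 1), pow_mem (mem_zpowers _) _, ?_, by rw [map_pow, hw, inv_pow]⟩
  set w := (v⁻¹ * τ v) ^ (m + 1) with hw'
  have hww : w * w = v⁻¹ * τ v := by
    rw [hw', ← pow_add, show m + 1 + (m + 1) = 2 * m + 1 + 1 by ring, pow_succ, ← hm, pow_orderOf_eq_one,
      one_mul]
  rw [map_mul, show τ w = w⁻¹ by rw [hw', map_pow, hw, inv_pow], show τ v = v * (w * w) by rw [hww]; group]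
  group

/-- Restriction to an invariant subgroup. -/
theorem restrict (h : Data p ω R τ η f) {C : Subgroup R} (hτC : ∀ x ∈ C, τ x ∈ C) (hηC : ∀ x ∈ C, η x ∈ C)
    (hfC : f ∈ C) :
    Data p ω C ((τ.comp C.subtype).codRestrict C fun x => hτC x x.2)
      ((η.comp C.subtype).codRestrict C fun x => hηC x x.2) ⟨f, hfC⟩ where
  pgroup := h.pgroup.to_subgroup C
  ne_two := h.ne_two
  ne_three := h.ne_three
  sq x := Subtype.ext (h.sq x)
  cube x := Subtype.ext (h.cube x)
  comm x := Subtype.ext (h.comm x)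
  fixf := Subtype.ext h.fixf
  etaf := Subtype.ext h.etaf
  fixed x hx := by
    obtain ⟨k, hk⟩ := mem_zpowers_iff.1 (h.fixed x (congrArg Subtype.val hx))
    exact mem_zpowers_iff.2 ⟨k, Subtype.ext (by rw [SubgroupClass.coe_zpow]; exact hk)⟩
  pow_cube x := Subtype.ext (by rw [SubgroupClass.coe_pow]; exact h.pow_cube x)
  root := h.root
  scalar x hx1 hx2 := Subtype.ext (by
    rw [SubgroupClass.coe_pow]
    exact h.scalar x (congrArg Subtype.val hx1.eq) (congrArg Subtype.val hx2))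

/-- The quotient by an invariant normal subgroup, given the scalar property on it. -/
theorem quotient (h : Data p ω R τ η f) (Z : Subgroup R) [Z.Normal] (hτZ : Z ≤ Z.comap τ)
    (hηZ : Z ≤ Z.comap η)
    (hsc : ∀ y, τ y = y⁻¹ → y * f * y⁻¹ * f⁻¹ ∈ Z → (η y)⁻¹ * y ^ ω ∈ Z) :
    Data p ω (R ⧸ Z) (QuotientGroup.map Z Z τ hτZ) (QuotientGroup.map Z Z η hηZ) (f : R ⧸ Z) where
  pgroup := h.pgroup.to_quotient Z
  ne_two := h.ne_two
  ne_three := h.ne_three
  sq x := by
    obtain ⟨x, rfl⟩ := QuotientGroup.mk'_surjective Z x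
    exact congrArg (QuotientGroup.mk' Z) (h.sq x)
  cube x := by
    obtain ⟨x, rfl⟩ := QuotientGroup.mk'_surjective Z x
    exact congrArg (QuotientGroup.mk' Z) (h.cube x)
  comm x := by
    obtain ⟨x, rfl⟩ := QuotientGroup.mk'_surjective Z x
    exact congrArg (QuotientGroup.mk' Z) (h.comm x)
  fixf := congrArg (QuotientGroup.mk' Z) h.fixf
  etaf := congrArg (QuotientGroup.mk' Z) h.etaf
  fixed x hx := by
    obtain ⟨x, rfl⟩ := QuotientGroup.mk'_surjective Z x
    have h1 : x⁻¹ * τ x ∈ Z := QuotientGroup.eq.1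
      (show (QuotientGroup.mk x : R ⧸ Z) = QuotientGroup.mk (τ x) from hx.symm)
    obtain ⟨w, hw, hwf, -⟩ := h.exists_fixed_mul x
    obtain ⟨k, hk⟩ := mem_zpowers_iff.1 (h.fixed _ hwf)
    refine mem_zpowers_iff.2 ⟨k, ?_⟩
    rw [← QuotientGroup.mk_zpow, hk, QuotientGroup.mk_mul,
      (QuotientGroup.eq_one_iff w).2 ((zpowers_le.2 h1) hw), mul_one]
    rfl
  pow_cube x := by
    obtain ⟨x, rfl⟩ := QuotientGroup.mk'_surjective Z x
    rw [← map_pow, h.pow_cube]
  root := h.root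
  scalar x hx1 hx2 := by
    obtain ⟨x, rfl⟩ := QuotientGroup.mk'_surjective Z x
    have h1 : τ x * x ∈ Z := (QuotientGroup.eq_one_iff _).1 (by
      rw [QuotientGroup.mk_mul]; exact mul_eq_one_iff_eq_inv.2 hx2)
    obtain ⟨y, hy, hy'⟩ := exists_inverted_lift (M := Z) h.sq (fun m hm => hτZ hm) (h.odd_card Z) h1
    have hxy : (QuotientGroup.mk x : R ⧸ Z) = QuotientGroup.mk y := QuotientGroup.eq.2 hy
    have hyf : y * f * y⁻¹ * f⁻¹ ∈ Z := (QuotientGroup.eq_one_iff _).1 (by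
      simp only [QuotientGroup.mk_mul, QuotientGroup.mk_inv, ← hxy]
      rw [show (QuotientGroup.mk x : R ⧸ Z) * QuotientGroup.mk f = QuotientGroup.mk f * QuotientGroup.mk x
        from hx1.eq]
      group)
    show QuotientGroup.map Z Z η hηZ (QuotientGroup.mk x) = (QuotientGroup.mk x : R ⧸ Z) ^ ω
    rw [hxy, QuotientGroup.map_mk, ← QuotientGroup.mk_pow]
    exact QuotientGroup.eq.2 (hsc y hy' hyf)

end Data

/-- **`η` is the power `ω` on every inverted element.** -/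
theorem inverted_scalar {ω : ℕ} : ∀ (n : ℕ) {R : Type u} [Group R] [Finite R] {τ η : R →* R} {f : R},
    Nat.card R = n → Data p ω R τ η f → ∀ x, τ x = x⁻¹ → η x = x ^ ω := by
  intro n
  induction n using Nat.strong_induction_on with
  | _ n ih =>
  intro R _ _ τ η f hn h x hx
  subst hn
  by_cases hx1 : x = 1
  · rw [hx1, map_one, one_pow]
  haveI : Nontrivial R := ⟨⟨x, 1, hx1⟩⟩
  have hlt : ∀ Z : Subgroup R, Z ≠ ⊥ → Nat.card (R ⧸ Z) < Nat.card R := fun Z hZ => by
    rw [card_eq_card_quotient_mul_card_subgroup Z]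
    exact lt_mul_of_one_lt_right Nat.card_pos ((one_lt_card_iff_ne_bot Z).2 hZ)
  have hprod : ∀ v, ∃ a b, τ a = a ∧ τ b = b⁻¹ ∧ v = a * b := fun v => by
    obtain ⟨w, -, hwf, hw⟩ := h.exists_fixed_mul v
    exact ⟨v * w, w⁻¹, hwf, by rw [map_inv, hw], by group⟩
  by_cases hA : ∀ z ∈ center R, τ z = z
  · -- the centre is fixed: impossible
    exfalso
    set Z := center R with hZdef
    have hZ : ∀ z ∈ Z, ∀ v, Commute z v := fun z hz v => (mem_center_iff.1 hz v).symm
    have hZf : ∀ z ∈ Z, η z = z := fun z hz => by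
      obtain ⟨k, rfl⟩ := mem_zpowers_iff.1 (h.fixed z (hA z hz))
      rw [map_zpow, h.etaf]
    have hτZ : Z ≤ Z.comap τ := fun z hz => by
      show τ z ∈ Z; rw [hA z hz]; exact hz
    have hηZ : Z ≤ Z.comap η := fun z hz => by
      show η z ∈ Z; rw [hZf z hz]; exact hz
    -- a commutator of an inverted and a fixed element lying in the centre is trivial
    have hfc : ∀ y g, τ y = y⁻¹ → τ g = g → y * g * y⁻¹ * g⁻¹ ∈ Z → Commute y g := by
      intro y g hy hg hc
      obtain ⟨c, hce⟩ : ∃ c, c = y * g * y⁻¹ * g⁻¹ := ⟨_, rfl⟩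
      rw [← hce] at hc
      have h1 : y * g = c * g * y := by rw [hce]; group
      have h2 : τ c = c⁻¹ := by
        rw [hce, map_mul, map_mul, map_mul, map_inv, map_inv, hy, hg, inv_inv, ← hce]
        have e : y⁻¹ * g = c⁻¹ * g * y⁻¹ := by
          calc y⁻¹ * g = y⁻¹ * (c⁻¹ * (c * g * y)) * y⁻¹ := by group
            _ = c⁻¹ * y⁻¹ * (y * g) * y⁻¹ := by rw [← h1, ← mul_assoc, ← ((hZ c hc y).inv_inv).eq]
            _ = c⁻¹ * g * y⁻¹ := by group
        rw [e]; group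
      have h3 := h.eq_one_of_fixed_inverted (hA c hc) h2
      exact h1.trans (by rw [h3, one_mul])
    have hsc : ∀ y, τ y = y⁻¹ → y * f * y⁻¹ * f⁻¹ ∈ Z → (η y)⁻¹ * y ^ ω ∈ Z := fun y hy hc => by
      rw [h.scalar y (hfc y f hy h.fixf hc) hy, inv_mul_cancel]; exact Z.one_mem
    haveI : Nontrivial Z := h.pgroup.center_nontrivial
    have hZ1 : Z ≠ ⊥ := (nontrivial_iff_ne_bot Z).1 inferInstance
    haveI : Z.Normal := by rw [hZdef]; infer_instance
    have hQ := h.quotient Z hτZ hηZ hsc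
    have hmod : ∀ y, τ y = y⁻¹ → ∃ c ∈ Z, η y = c * y ^ ω := fun y hy => by
      have := ih _ (hlt Z hZ1) rfl hQ (QuotientGroup.mk y) (by
        rw [QuotientGroup.map_mk, hy, QuotientGroup.mk_inv])
      rw [QuotientGroup.map_mk, ← QuotientGroup.mk_pow] at this
      have h1 := QuotientGroup.eq.1 this.symm
      exact ⟨(y ^ ω)⁻¹ * η y, h1, by
        rw [(hZ _ h1 (y ^ ω)).eq, mul_inv_cancel_left]⟩
    haveI : Nontrivial (R ⧸ Z) := by
      rw [← Finite.one_lt_card_iff_nontrivial]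
      refine Nat.lt_of_le_of_ne Nat.card_pos fun e => hx1 ?_
      have : Z = ⊤ := index_eq_one.1 e.symm
      exact h.eq_one_of_fixed_inverted (hA x (this ▸ mem_top x)) hx
    haveI : Nontrivial (center (R ⧸ Z)) := hQ.pgroup.center_nontrivial
    obtain ⟨⟨u, hu⟩, hu1⟩ := exists_ne (1 : center (R ⧸ Z))
    obtain ⟨v, rfl⟩ := QuotientGroup.mk'_surjective Z u
    have hcen : ∀ g, v * g * v⁻¹ * g⁻¹ ∈ Z := fun g => (QuotientGroup.eq_one_iff _).1 (by
      simp only [QuotientGroup.mk_mul, QuotientGroup.mk_inv]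
      rw [show (QuotientGroup.mk v : R ⧸ Z) * QuotientGroup.mk g = QuotientGroup.mk g * QuotientGroup.mk v
        from (mem_center_iff.1 hu _).symm]
      group)
    have hvZ : v ∉ Z := fun hv => hu1 (Subtype.ext ((QuotientGroup.eq_one_iff v).2 hv))
    obtain ⟨w, hw, hwf, hwi⟩ := h.exists_fixed_mul v
    have hcenw : ∀ g, w * g * w⁻¹ * g⁻¹ ∈ Z := fun g => (QuotientGroup.eq_one_iff _).1 (by
      have hwc : (QuotientGroup.mk w : R ⧸ Z) ∈ center (R ⧸ Z) := by
        have hτv : (QuotientGroup.mk (τ v) : R ⧸ Z) ∈ center (R ⧸ Z) := mem_center_iff.2 fun g => by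
          obtain ⟨g, rfl⟩ := QuotientGroup.mk'_surjective Z g
          have := hcen (τ g)
          have h1 : τ (v * τ g * v⁻¹ * (τ g)⁻¹) ∈ Z := hτZ this
          rw [map_mul, map_mul, map_mul, map_inv, map_inv, h.sq] at h1
          have h2 := (QuotientGroup.eq_one_iff _).2 h1
          simp only [QuotientGroup.mk_mul, QuotientGroup.mk_inv] at h2
          exact (commutatorElement_eq_one_iff_mul_comm.1 h2).symm
        obtain ⟨k, rfl⟩ := mem_zpowers_iff.1 hw
        rw [QuotientGroup.mk_zpow, QuotientGroup.mk_mul, QuotientGroup.mk_inv]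
        exact zpow_mem (mul_mem (inv_mem hu) hτv) k
      simp only [QuotientGroup.mk_mul, QuotientGroup.mk_inv]
      rw [← mem_center_iff.1 hwc (QuotientGroup.mk g)]
      group)
    -- the inverted part of `v` is central
    have hwc : w ∈ Z := mem_center_iff.2 fun g => by
      obtain ⟨a, b, ha, hb, rfl⟩ := hprod g
      refine ((hfc w a hwi ha (hcenw a)).mul_right ?_).eq.symm
      obtain ⟨c, hce⟩ : ∃ c, c = w * b * w⁻¹ * b⁻¹ := ⟨_, rfl⟩
      have hc : c ∈ Z := hce ▸ hcenw b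
      have h1 : w * b * w⁻¹ = c * b := by rw [hce]; group
      have hpw : ∀ i : ℕ, w ^ i * b * (w ^ i)⁻¹ = c ^ i * b := fun i => by
        induction i with
        | zero => simp
        | succ i ih' =>
          calc w ^ (i + 1) * b * (w ^ (i + 1))⁻¹ = w * (w ^ i * b * (w ^ i)⁻¹) * w⁻¹ := by
                rw [pow_succ']; group
            _ = c ^ i * (w * b * w⁻¹) := by
                rw [ih', ← mul_assoc, ← ((hZ c hc w).pow_left i).eq]; group
            _ = c ^ (i + 1) * b := by rw [h1, ← mul_assoc, ← pow_succ]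
      obtain ⟨c1, hc1, he1⟩ := hmod w hwi
      obtain ⟨c2, hc2, he2⟩ := hmod b hb
      have e := congrArg η h1
      rw [map_mul, map_mul, map_mul, map_inv, he1, he2, hZf c hc] at e
      have e2 : w ^ ω * b ^ ω * (w ^ ω)⁻¹ = c * b ^ ω := by
        refine mul_left_cancel (a := c2) ?_
        rw [← mul_assoc c2 c, ← (hZ c hc c2).eq, mul_assoc c c2, ← e]
        calc c2 * (w ^ ω * b ^ ω * (w ^ ω)⁻¹) = c2 * (w ^ ω * b ^ ω * (w ^ ω)⁻¹) * (c1 * c1⁻¹) := by
              rw [mul_inv_cancel, mul_one]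
          _ = c1 * w ^ ω * (c2 * b ^ ω) * (c1 * w ^ ω)⁻¹ := by
              rw [← mul_assoc, ← (hZ c1 hc1 _).eq, mul_inv_rev, mul_assoc c1 (w ^ ω) (c2 * b ^ ω),
                ← mul_assoc (w ^ ω) c2, ← (hZ c2 hc2 (w ^ ω)).eq]
              group
      rw [show w ^ ω * b ^ ω * (w ^ ω)⁻¹ = (w ^ ω * b * (w ^ ω)⁻¹) ^ ω from conj_pow.symm, hpw,
        ((hZ c hc b).pow_left ω).mul_pow, ← pow_mul, ← pow_two] at e2
      have hc1' : c = 1 := h.eq_one_of_pow_sq (mul_right_cancel e2)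
      show w * b = b * w
      rw [hc1', one_mul] at h1
      exact mul_inv_eq_iff_eq_mul.1 h1
    have hw1 : w = 1 := h.eq_one_of_fixed_inverted (hA w hwc) hwi
    rw [hw1, mul_one] at hwf
    -- so `v` is fixed, and then central
    refine hvZ (mem_center_iff.2 fun g => ?_)
    obtain ⟨a, b, ha, hb, rfl⟩ := hprod g
    have hva : Commute v a := by
      obtain ⟨i, rfl⟩ := mem_zpowers_iff.1 (h.fixed v hwf)
      obtain ⟨j, rfl⟩ := mem_zpowers_iff.1 (h.fixed a ha)
      exact Commute.zpow_zpow_self f i j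
    have hvb : Commute v b := (hfc b v hb hwf (by
      have := Z.inv_mem (hcen b)
      rwa [mul_inv_rev, mul_inv_rev, mul_inv_rev, inv_inv, inv_inv, ← mul_assoc, ← mul_assoc] at this)).symm
    exact (hva.mul_right hvb).eq.symm
  -- the inverted part of the centre
  push Not at hA
  let Z : Subgroup R :=
    { carrier := {z | z ∈ center R ∧ τ z = z⁻¹}
      one_mem' := ⟨one_mem _, by simp⟩
      mul_mem' := fun {a b} ha hb => ⟨mul_mem ha.1 hb.1, by
        rw [map_mul, ha.2, hb.2, mul_inv_rev, (mem_center_iff.1 (inv_mem ha.1) b⁻¹)]⟩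
      inv_mem' := fun {a} ha => ⟨inv_mem ha.1, by rw [map_inv, ha.2]⟩ }
  have hZ : ∀ z ∈ Z, ∀ v, Commute z v := fun z hz v => (mem_center_iff.1 hz.1 v).symm
  have hZsc : ∀ z ∈ Z, η z = z ^ ω := fun z hz => h.scalar z (hZ z hz f) hz.2
  haveI : Z.Normal := ⟨fun n hn g => by rwa [← (hZ n hn g).eq, mul_inv_cancel_right]⟩
  have hτcen : ∀ z ∈ center R, τ z ∈ center R := fun z hz => mem_center_iff.2 fun g => by
    have := congrArg τ (mem_center_iff.1 hz (τ g))
    rwa [map_mul, map_mul, h.sq] at this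
  have hτZ : Z ≤ Z.comap τ := fun z hz => ⟨hτcen z hz.1, by rw [h.sq, hz.2, inv_inv]⟩
  have hηZ : Z ≤ Z.comap η := fun z hz => by
    show η z ∈ Z; rw [hZsc z hz]; exact pow_mem hz _
  have hZ1 : Z ≠ ⊥ := by
    obtain ⟨z, hz, hzne⟩ := hA
    refine fun e => hzne ?_
    have hzc := hτcen z hz
    have hmem : z * (τ z)⁻¹ ∈ Z := ⟨mul_mem hz (inv_mem hzc), by
      rw [map_mul, map_inv, h.sq, mul_inv_rev, inv_inv]⟩
    rw [e, mem_bot, mul_inv_eq_one] at hmem
    exact hmem.symm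
  set C := (centralizer ({(f : R ⧸ Z)} : Set (R ⧸ Z))).comap (QuotientGroup.mk' Z) with hCdef
  have hCmem : ∀ y, y ∈ C ↔ y * f * y⁻¹ * f⁻¹ ∈ Z := fun y => by
    rw [← QuotientGroup.eq_one_iff (N := Z), hCdef, mem_comap, mem_centralizer_singleton_iff,
      QuotientGroup.mk'_apply, QuotientGroup.mk_mul, QuotientGroup.mk_mul, QuotientGroup.mk_mul,
      QuotientGroup.mk_inv, QuotientGroup.mk_inv, mul_inv_eq_one, mul_inv_eq_iff_eq_mul]
  have hsc : ∀ y, τ y = y⁻¹ → y * f * y⁻¹ * f⁻¹ ∈ Z → η y = y ^ ω := by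
    intro y hy hyf
    by_cases hC : C = ⊤
    · exact h.scalar_of_central hZ (fun z hz => hz.2) (fun g => (hCmem g).1 (hC ▸ mem_top g)) hy
    · have hτC : ∀ v ∈ C, τ v ∈ C := fun v hv => by
        have := hτZ ((hCmem v).1 hv)
        rw [mem_comap, map_mul, map_mul, map_mul, map_inv, map_inv, h.fixf] at this
        exact (hCmem _).2 this
      have hηC : ∀ v ∈ C, η v ∈ C := fun v hv => by
        have := hηZ ((hCmem v).1 hv)
        rw [mem_comap, map_mul, map_mul, map_mul, map_inv, map_inv, h.etaf] at this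
        exact (hCmem _).2 this
      have hfC : f ∈ C := (hCmem f).2 (by simp)
      have hltC : Nat.card C < Nat.card R :=
        lt_of_le_of_ne (Nat.le_of_dvd Nat.card_pos (card_subgroup_dvd_card C)) fun e => hC (eq_top_of_card_eq C e)
      have := ih _ hltC rfl (h.restrict hτC hηC hfC) ⟨y, (hCmem y).2 hyf⟩ (Subtype.ext hy)
      have e := congrArg Subtype.val this
      rw [SubgroupClass.coe_pow] at e
      exact e
  have := ih _ (hlt Z hZ1) rfl (h.quotient Z hτZ hηZ fun y hy hyf => by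
    rw [hsc y hy hyf, inv_mul_cancel]; exact Z.one_mem) (QuotientGroup.mk x) (by
      rw [QuotientGroup.map_mk, hx, QuotientGroup.mk_inv])
  rw [QuotientGroup.map_mk, ← QuotientGroup.mk_pow] at this
  have hc := QuotientGroup.eq.1 this.symm
  refine h.correction_eq_one (c := (x ^ ω)⁻¹ * η x) ?_ (hZ _ hc x) (hZsc _ hc)
  rw [(hZ _ hc (x ^ ω)).eq, mul_inv_cancel_left]

end Cfsg.Agent.AbelianSylow.Eigen
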