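import Cfsg.Agent.EqLemmas
import Cfsg.Agent.Lib.AbelianSylow.Chars.Sec
import Cfsg.Agent.Lib.Char.PRegular

/-!
# No field automorphism, case (B): inverting involutions (`FIELD_B.md`, steps 1 and 2)

* `rowDeg`, `rowVal`, `FieldRows` : the irreducible characters that do not vanish at `t`
* `apply_eq_zero_of_norm` : completeness from the column norm
* `FieldRows.card_inverters` : an element of `s`-power order, `s ∣ q + 1 + 3 m`, is inverted by exactly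
  `q + 1 + 3 m` involutions
-/

set_option autoImplicit false
set_option linter.unusedSectionVars false

namespace Cfsg.Agent.AbelianSylow.Field

open Subgroup
open scoped ComplexConjugate

universe u

variable {G : Type u} [Group G] [Fintype G]

/-- Signed degrees of `1, a, b, c, u, v, u', v'`; `m` has any sign. -/
def rowDeg (q : ℕ) (m : ℤ) : Fin 8 → ℤ :=
  ![1, -((q : ℤ) ^ 2 - q + 1), -((q : ℤ) * ((q : ℤ) ^ 2 - q + 1)), (q : ℤ) ^ 3,
    -((((q : ℤ) - 1) / 2) * m * ((q : ℤ) + 1 + 3 * m)), (((q : ℤ) - 1) / 2) * m * ((q : ℤ) + 1 - 3 * m),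
    -((((q : ℤ) - 1) / 2) * m * ((q : ℤ) + 1 + 3 * m)), (((q : ℤ) - 1) / 2) * m * ((q : ℤ) + 1 - 3 * m)]

/-- Signed values at `t`. -/
def rowVal (q : ℕ) : Fin 8 → ℤ :=
  ![1, 1, q, q, ((q : ℤ) - 1) / 2, ((q : ℤ) - 1) / 2, ((q : ℤ) - 1) / 2, ((q : ℤ) - 1) / 2]

/-- The characters not zero at `t`: eight rows, the family `Y` of degrees divisible by `q² - q + 1` and
the family `C` zero at non-trivial elements of order prime to `q (q² - 1)`. -/
structure FieldRows (t : G) (q : ℕ) (m : ℤ) (χ : Fin 8 → IrrCharacter G) (ε : Fin 8 → ℤ)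
    (Y C : Finset (IrrCharacter G)) : Prop where
  order_t : orderOf t = 2
  one_class : ∀ x : G, orderOf x = 2 → IsConj t x
  card_cent : Nat.card (centralizer ({t} : Set G)) = q * (q ^ 2 - 1)
  card : (Nat.card G : ℤ) = (q : ℤ) ^ 3 * ((q : ℤ) ^ 3 + 1) * ((q : ℤ) - 1)
  odd_q : Odd q
  le : 27 ≤ q
  q_eq : (q : ℤ) = 3 * m ^ 2
  sign : ∀ j, ε j = 1 ∨ ε j = -1
  inj : Function.Injective χ
  deg : ∀ j, (ε j : ℂ) * (χ j : G → ℂ) 1 = (rowDeg q m j : ℂ)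
  val : ∀ j, (ε j : ℂ) * (χ j : G → ℂ) t = (rowVal q j : ℂ)
  col0 : ∀ g : G, Odd (orderOf g) →
    (ε 0 : ℂ) * (χ 0 : G → ℂ) g + (ε 1 : ℂ) * (χ 1 : G → ℂ) g + (ε 2 : ℂ) * (χ 2 : G → ℂ) g +
      (ε 3 : ℂ) * (χ 3 : G → ℂ) g = 0
  col1 : ∀ g : G, Odd (orderOf g) →
    (ε 2 : ℂ) * (χ 2 : G → ℂ) g + (ε 3 : ℂ) * (χ 3 : G → ℂ) g + (ε 4 : ℂ) * (χ 4 : G → ℂ) g +
      (ε 5 : ℂ) * (χ 5 : G → ℂ) g = 0
  col2 : ∀ g : G, Odd (orderOf g) →
    (ε 2 : ℂ) * (χ 2 : G → ℂ) g + (ε 3 : ℂ) * (χ 3 : G → ℂ) g + (ε 6 : ℂ) * (χ 6 : G → ℂ) g +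
      (ε 7 : ℂ) * (χ 7 : G → ℂ) g = 0
  trivial : ∀ g : G, (ε 0 : ℂ) * (χ 0 : G → ℂ) g = 1
  Y_deg : ∀ φ ∈ Y, ((q : ℤ) ^ 2 - q + 1) ∣ (charDegree (φ : G → ℂ) : ℤ)
  C_zero : ∀ φ ∈ C, ∀ g : G, g ≠ 1 → (orderOf g).Coprime (q * (q ^ 2 - 1)) → (φ : G → ℂ) g = 0
  complete : ∀ φ : IrrCharacter G, (φ : G → ℂ) t ≠ 0 → (∃ j, χ j = φ) ∨ φ ∈ Y ∨ φ ∈ C

/-- Completeness from the column norm. -/
theorem apply_eq_zero_of_norm [Fintype (IrrCharacter G)] {t : G} (S : Finset (IrrCharacter G))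
    (h : ∑ φ ∈ S, Complex.normSq ((φ : G → ℂ) t) = (Nat.card (centralizer ({t} : Set G)) : ℝ))
    {φ : IrrCharacter G} (hφ : φ ∉ S) : (φ : G → ℂ) t = 0 := by
  classical
  have hco := Char.column_orth t t
  rw [if_pos (IsConj.refl t)] at hco
  have hre : ∑ φ : IrrCharacter G, Complex.normSq ((φ : G → ℂ) t) =
      (Nat.card (centralizer ({t} : Set G)) : ℝ) := by
    apply Complex.ofReal_injective
    push_cast
    rw [← hco]
    exact Finset.sum_congr rfl fun χ _ => (Complex.mul_conj _).symm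
  have h2 := Finset.sum_sdiff (f := fun φ : IrrCharacter G => Complex.normSq ((φ : G → ℂ) t))
    (Finset.subset_univ S)
  rw [h, hre, add_eq_right] at h2
  exact Complex.normSq_eq_zero.1 ((Finset.sum_eq_zero_iff_of_nonneg
    (fun φ _ => Complex.normSq_nonneg _)).1 h2 φ (by simpa using hφ))

/-- Defect zero, with integer factors. -/
theorem apply_eq_zero_of_dvd {s : ℕ} (hs : s.Prime) (φ : IrrCharacter G) {R T : ℤ}
    (hG : (Nat.card G : ℤ) = R * T) (hR : ¬ (s : ℤ) ∣ R) (hT : T ∣ (charDegree (φ : G → ℂ) : ℤ))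
    {g : G} (hg : s ∣ orderOf g) : (φ : G → ℂ) g = 0 := by
  refine Char.vanishes_of_defect_zero hs φ.2 (ClassCount.apply_one_eq_charDegree φ) ?_ g hg
  have h1 : Nat.card G = R.natAbs * T.natAbs := by rw [← Int.natAbs_mul, ← hG, Int.natAbs_natCast]
  have hR0 : R.natAbs ≠ 0 := fun e => hR (by rw [Int.natAbs_eq_zero.1 e]; exact dvd_zero _)
  have hT0 : T.natAbs ≠ 0 := fun e => by
    rw [e, mul_zero] at h1; exact Nat.card_pos.ne' h1
  have hR' : R.natAbs.factorization s = 0 :=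
    Nat.factorization_eq_zero_of_not_dvd fun e => hR (Int.natCast_dvd.2 e)
  rw [h1, Nat.factorization_mul hR0 hT0, Finsupp.add_apply, hR', zero_add]
  refine (Nat.factorization_le_iff_dvd hT0 (ClassCount.charDegree_pos φ).ne').2 ?_ s
  exact Int.natCast_dvd_natCast.1 (Int.natAbs_dvd.2 hT)

namespace FieldRows

variable {t : G} {q : ℕ} {m : ℤ} {χ : Fin 8 → IrrCharacter G} {ε : Fin 8 → ℤ}
  {Y C : Finset (IrrCharacter G)}

theorem dvd_degree (R : FieldRows t q m χ ε Y C) (j : Fin 8) {T : ℤ} (h : T ∣ rowDeg q m j) :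
    T ∣ (charDegree (χ j : G → ℂ) : ℤ) := by
  have e := R.deg j
  rw [ClassCount.apply_one_eq_charDegree] at e
  have e' : ε j * (charDegree (χ j : G → ℂ) : ℤ) = rowDeg q m j := by exact_mod_cast e
  rcases R.sign j with hj | hj <;> rw [hj] at e'
  · rwa [← e', one_mul] at h
  · rw [← e', neg_one_mul, dvd_neg] at h; exact h

/-- Number theory of the prime `s`. -/
theorem prime_facts (R : FieldRows t q m χ ε Y C) {s : ℕ} (hs : s.Prime)
    (hd : (s : ℤ) ∣ (q : ℤ) + 1 + 3 * m) :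
    ¬ (s : ℤ) ∣ (q : ℤ) ∧ ¬ (s : ℤ) ∣ (q : ℤ) ^ 2 - 1 ∧ ¬ (s : ℤ) ∣ (q : ℤ) + 1 - 3 * m ∧ Odd s := by
  have hp : Prime (s : ℤ) := Nat.prime_iff_prime_int.1 hs
  have hq3 := R.q_eq
  obtain ⟨j, hj⟩ := R.odd_q
  have hs1 : s ≠ 1 := hs.ne_one
  have hone : ∀ z : ℤ, (s : ℤ) ∣ z → ¬ (s : ℤ) ∣ z + 1 := fun z h1 h2 => by
    have h3 : (s : ℤ) ∣ 1 := (Int.dvd_iff_dvd_of_dvd_sub (by simp)).1 ((dvd_sub h2 h1))
    exact hs1 (Nat.dvd_one.1 (by exact_mod_cast h3))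
  have hq : ¬ (s : ℤ) ∣ (q : ℤ) := fun h => by
    have h3m : (s : ℤ) ∣ 3 * m := by
      rw [hq3] at h
      rcases hp.dvd_or_dvd h with h' | h'
      · exact h'.mul_right _
      · exact (hp.dvd_of_dvd_pow h').mul_left _
    exact hone _ h (by simpa using dvd_sub hd h3m)
  have hs2 : s ≠ 2 := by
    rintro rfl
    obtain ⟨i, hi⟩ := hd
    have hm : (m : ℤ) % 2 = 1 := by
      rcases Int.even_or_odd m with ⟨l, hl⟩ | ⟨l, hl⟩
      · exfalso
        rw [hl] at hq3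
        have : (q : ℤ) = 2 * (6 * l ^ 2) := by rw [hq3]; ring
        omega
      · omega
    push_cast at hi
    omega
  have hs3 : s ≠ 3 := by
    rintro rfl
    exact hq (by rw [hq3]; exact Dvd.intro _ rfl)
  have hprime : ∀ p : ℕ, p.Prime → (s : ℤ) ∣ p → s = p := fun p hp' h =>
    (Nat.prime_dvd_prime_iff_eq hs hp').1 (by exact_mod_cast h)
  have hN : (s : ℤ) ∣ (q : ℤ) ^ 2 - q + 1 := by
    have e : (q : ℤ) ^ 2 - q + 1 = ((q : ℤ) + 1 + 3 * m) * ((q : ℤ) + 1 - 3 * m) := by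
      linear_combination (-3 : ℤ) * hq3
    rw [e]; exact hd.mul_right _
  refine ⟨hq, fun h => ?_, fun h => ?_, hs.odd_of_ne_two hs2⟩
  · rcases hp.dvd_or_dvd (show (s : ℤ) ∣ ((q : ℤ) - 1) * ((q : ℤ) + 1) by
      rw [show ((q : ℤ) - 1) * (q + 1) = (q : ℤ) ^ 2 - 1 by ring]; exact h) with h' | h'
    · have h1 : (s : ℤ) ∣ 1 := by
        have := dvd_sub hN (h'.mul_left (q : ℤ))
        rwa [show (q : ℤ) ^ 2 - q + 1 - q * ((q : ℤ) - 1) = 1 by ring] at this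
      exact hs1 (Nat.dvd_one.1 (by exact_mod_cast h1))
    · have h1 : (s : ℤ) ∣ 3 := by
        have := dvd_sub hN (h'.mul_left ((q : ℤ) - 2))
        rwa [show (q : ℤ) ^ 2 - q + 1 - ((q : ℤ) - 2) * ((q : ℤ) + 1) = 3 by ring] at this
      exact hs3 (hprime 3 Nat.prime_three h1)
  · have h6 : (s : ℤ) ∣ 6 * m := by
      have := dvd_sub hd h
      rwa [show (q : ℤ) + 1 + 3 * m - (q + 1 - 3 * m) = 6 * m by ring] at this
    rcases hp.dvd_or_dvd h6 with h' | h'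
    · rcases hp.dvd_or_dvd (show (s : ℤ) ∣ 2 * 3 by norm_num; exact h') with h'' | h''
      · exact hs2 (hprime 2 Nat.prime_two h'')
      · exact hs3 (hprime 3 Nat.prime_three h'')
    · exact hq (by rw [hq3]; exact Dvd.dvd.mul_left (dvd_pow h' two_ne_zero) 3)

/-- **The number of inverting involutions.** -/
theorem card_inverters [Fintype (IrrCharacter G)] (R : FieldRows t q m χ ε Y C) {s j : ℕ}
    (hs : s.Prime) (hd : (s : ℤ) ∣ (q : ℤ) + 1 + 3 * m) {k : G} (hk : orderOf k = s ^ j) (hk1 : k ≠ 1) :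
    (Nat.card {x : G // orderOf x = 2 ∧ x * k * x⁻¹ = k⁻¹} : ℤ) = (q : ℤ) + 1 + 3 * m := by
  classical
  obtain ⟨hsq, hsq2, hsm, hsodd⟩ := R.prime_facts hs hd
  have hp : Prime (s : ℤ) := Nat.prime_iff_prime_int.1 hs
  have hj : j ≠ 0 := fun e => hk1 (orderOf_eq_one_iff.1 (by rw [hk, e, pow_zero]))
  have hord : orderOf k⁻¹ = s ^ j := by rw [orderOf_inv, hk]
  have hsk : s ∣ orderOf k⁻¹ := hord ▸ dvd_pow_self s hj
  have hkodd : Odd (orderOf k⁻¹) := hord ▸ hsodd.pow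
  have hq1 : 1 ≤ q ^ 2 := Nat.one_le_pow _ _ (by have := R.le; omega)
  have hcop : (orderOf k⁻¹).Coprime (q * (q ^ 2 - 1)) := by
    rw [hord]
    refine Nat.Coprime.pow_left j (hs.coprime_iff_not_dvd.2 fun h => ?_)
    rcases (Nat.Prime.dvd_mul hs).1 h with h' | h'
    · exact hsq (Int.natCast_dvd_natCast.2 h')
    · refine hsq2 ?_
      have h2 := Int.natCast_dvd_natCast.2 h'
      push_cast [hq1] at h2
      exact h2
  set N0 : ℤ := (q : ℤ) ^ 2 - q + 1 with hN0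
  have hGN : (Nat.card G : ℤ) = ((q : ℤ) ^ 3 * ((q : ℤ) ^ 2 - 1)) * N0 := by rw [R.card, hN0]; ring
  have hR1 : ¬ (s : ℤ) ∣ (q : ℤ) ^ 3 * ((q : ℤ) ^ 2 - 1) := fun h =>
    (hp.dvd_or_dvd h).elim (fun h' => hsq (hp.dvd_of_dvd_pow h')) hsq2
  have hGT : (Nat.card G : ℤ) = ((q : ℤ) ^ 3 * ((q : ℤ) ^ 2 - 1) * ((q : ℤ) + 1 - 3 * m)) *
      ((q : ℤ) + 1 + 3 * m) := by
    rw [hGN, hN0]
    linear_combination (-3 * (q : ℤ) ^ 3 * ((q : ℤ) ^ 2 - 1)) * R.q_eq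
  have hR2 : ¬ (s : ℤ) ∣ (q : ℤ) ^ 3 * ((q : ℤ) ^ 2 - 1) * ((q : ℤ) + 1 - 3 * m) := fun h =>
    (hp.dvd_or_dvd h).elim hR1 hsm
  have hz1 : (χ 1 : G → ℂ) k⁻¹ = 0 :=
    apply_eq_zero_of_dvd hs _ hGN hR1 (R.dvd_degree 1 ⟨-1, by simp [rowDeg, hN0]⟩) hsk
  have hz2 : (χ 2 : G → ℂ) k⁻¹ = 0 :=
    apply_eq_zero_of_dvd hs _ hGN hR1 (R.dvd_degree 2 ⟨-q, by simp [rowDeg, hN0]; ring⟩) hsk
  have hz4 : (χ 4 : G → ℂ) k⁻¹ = 0 :=
    apply_eq_zero_of_dvd hs _ hGT hR2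
      (R.dvd_degree 4 ⟨-((((q : ℤ) - 1) / 2) * m), by simp [rowDeg]; ring⟩) hsk
  have hz6 : (χ 6 : G → ℂ) k⁻¹ = 0 :=
    apply_eq_zero_of_dvd hs _ hGT hR2
      (R.dvd_degree 6 ⟨-((((q : ℤ) - 1) / 2) * m), by simp [rowDeg]; ring⟩) hsk
  have h0 : (ε 0 : ℂ) * (χ 0 : G → ℂ) k⁻¹ = 1 := R.trivial _
  have h3 : (ε 3 : ℂ) * (χ 3 : G → ℂ) k⁻¹ = -1 := by
    have := R.col0 k⁻¹ hkodd
    rw [h0, hz1, hz2] at this
    linear_combination this
  have h5 : (ε 5 : ℂ) * (χ 5 : G → ℂ) k⁻¹ = 1 := by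
    have := R.col1 k⁻¹ hkodd
    rw [h3, hz2, hz4] at this
    linear_combination this
  have h7 : (ε 7 : ℂ) * (χ 7 : G → ℂ) k⁻¹ = 1 := by
    have := R.col2 k⁻¹ hkodd
    rw [h3, hz2, hz6] at this
    linear_combination this
  -- class multiplication
  have hG0 : (Nat.card G : ℂ) ≠ 0 := Nat.cast_ne_zero.2 Nat.card_pos.ne'
  set c : ℂ := (Nat.card (centralizer ({t} : Set G)) : ℂ) with hc
  have hc0 : c ≠ 0 := Nat.cast_ne_zero.2 Nat.card_pos.ne'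
  have hcls : (Nat.card {g : G // IsConj t g} : ℂ) = (Nat.card G : ℂ) / c := by
    rw [eq_div_iff hc0, hc, ← Nat.cast_mul, ClassCount.card_class_mul_card_centralizer]
  let term : IrrCharacter G → ℂ := fun φ =>
    (φ : G → ℂ) t * (φ : G → ℂ) t * (φ : G → ℂ) k⁻¹ / (φ : G → ℂ) 1
  have hmain : c ^ 2 * (ClassCount.fibreCount t t k : ℂ) =
      (Nat.card G : ℂ) * ∑ φ : IrrCharacter G, term φ := by
    refine mul_left_cancel₀ hG0 ?_
    rw [mul_left_comm, ClassCount.card_mul_fibreCount, Finset.mul_sum, Finset.mul_sum, Finset.mul_sum]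
    refine Finset.sum_congr rfl fun φ _ => ?_
    have hd := Char.IsIrrCharacter.apply_one_ne_zero φ.2
    simp only [ClassCount.omega, hcls, term]
    field_simp
  have hother : ∀ φ : IrrCharacter G, (∀ i, χ i ≠ φ) → term φ = 0 := by
    intro φ hφ
    by_cases ht : (φ : G → ℂ) t = 0
    · simp [term, ht]
    have hk' : (φ : G → ℂ) k⁻¹ = 0 := by
      rcases R.complete φ ht with ⟨i, hi⟩ | hY | hC
      · exact absurd hi (hφ i)
      · exact apply_eq_zero_of_dvd hs _ hGN hR1 (R.Y_deg φ hY) hsk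
      · exact R.C_zero φ hC _ (inv_ne_one.2 hk1) hcop
    simp [term, hk']
  have hsum : ∑ φ : IrrCharacter G, term φ = ∑ i, term (χ i) := by
    rw [← Finset.sum_subset (Finset.subset_univ (Finset.univ.image χ)) fun φ _ hn =>
      hother φ fun i hi => hn (Finset.mem_image.2 ⟨i, Finset.mem_univ _, hi⟩),
      Finset.sum_image R.inj.injOn]
  have hterm : ∀ i, term (χ i) =
      (rowVal q i : ℂ) ^ 2 * ((ε i : ℂ) * (χ i : G → ℂ) k⁻¹) / (rowDeg q m i : ℂ) := by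
    intro i
    rw [← R.val i, ← R.deg i]
    have hd := Char.IsIrrCharacter.apply_one_ne_zero (χ i).2
    have he : (ε i : ℂ) ^ 2 = 1 := by rcases R.sign i with e | e <;> simp [e]
    have he0 : (ε i : ℂ) ≠ 0 := by rcases R.sign i with e | e <;> simp [e]
    simp only [term]
    field_simp
    linear_combination (-(((χ i : G → ℂ) t) ^ 2 * (χ i : G → ℂ) k⁻¹)) * he
  -- arithmetic
  obtain ⟨h, hh⟩ : ∃ h : ℤ, (q : ℤ) = 2 * h + 1 := by
    obtain ⟨l, hl⟩ := R.odd_q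
    exact ⟨l, by rw [hl]; push_cast; ring⟩
  have hdiv : ((q : ℤ) - 1) / 2 = h := by omega
  have hq : (q : ℂ) = 2 * (h : ℂ) + 1 := by exact_mod_cast hh
  have hq3 : (q : ℂ) = 3 * (m : ℂ) ^ 2 := by exact_mod_cast R.q_eq
  have hq0 : (q : ℂ) ≠ 0 := Nat.cast_ne_zero.2 (by have := R.le; omega)
  have hh0 : (h : ℂ) ≠ 0 := Int.cast_ne_zero.2 (by have := R.le; omega)
  have hm0 : (m : ℂ) ≠ 0 := fun e => hq0 (by rw [hq3, e]; ring)
  have hTm : (q : ℂ) + 1 - 3 * (m : ℂ) ≠ 0 := by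
    intro e
    have e' : (q : ℤ) + 1 - 3 * m = 0 := by exact_mod_cast e
    exact hsm (by rw [e']; exact dvd_zero _)
  have hS : ∑ φ : IrrCharacter G, term φ =
      1 - 1 / (q : ℂ) + 2 * (h : ℂ) / ((m : ℂ) * ((q : ℂ) + 1 - 3 * (m : ℂ))) := by
    rw [hsum]
    simp only [Fin.sum_univ_eight, hterm, h0, h3, h5, h7, hz1, hz2, hz4, hz6, mul_zero, zero_div,
      add_zero, rowVal, rowDeg, hdiv, Matrix.cons_val, Matrix.cons_val_zero, Matrix.cons_val_one]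
    push_cast
    field_simp
    ring
  have hfib : (ClassCount.fibreCount t t k : ℂ) = (q : ℂ) + 1 + 3 * (m : ℂ) := by
    have hC : c = (q : ℂ) * ((q : ℂ) ^ 2 - 1) := by
      rw [hc, R.card_cent]; push_cast [hq1]; ring
    have hcard : (Nat.card G : ℂ) = (q : ℂ) ^ 3 * ((q : ℂ) ^ 3 + 1) * ((q : ℂ) - 1) := by
      exact_mod_cast R.card
    refine mul_left_cancel₀ (pow_ne_zero 2 hc0) ?_
    obtain ⟨D, hD⟩ : ∃ D : ℂ, D = (q : ℂ) + 1 - 3 * (m : ℂ) := ⟨_, rfl⟩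
    have hD0 : D ≠ 0 := hD ▸ hTm
    have hS2 : ∑ φ : IrrCharacter G, term φ = ((q : ℂ) ^ 2 - 1) / ((q : ℂ) * D) := by
      rw [hS, ← hD]
      field_simp
      linear_combination (-(q : ℂ)) * hq + ((q : ℂ) - 1) * hq3 + ((q : ℂ) - 1) * (m : ℂ) * hD
    have e3 : (q : ℂ) ^ 3 + 1 = ((q : ℂ) + 1) * (D * ((q : ℂ) + 1 + 3 * (m : ℂ))) := by
      rw [hD]
      linear_combination (-3 * ((q : ℂ) + 1)) * hq3
    rw [hmain, hS2, hcard, hC, e3]
    field_simp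
    ring
  have hset : ClassCount.fibreCount t t k =
      Nat.card {x : G // orderOf x = 2 ∧ x * k * x⁻¹ = k⁻¹} := by
    refine Nat.card_congr (Equiv.subtypeEquivRight fun x => ?_)
    have hconj : ∀ y : G, IsConj t y ↔ orderOf y = 2 := fun y => by
      refine ⟨fun hy => ?_, R.one_class y⟩
      obtain ⟨g, rfl⟩ := _root_.isConj_iff.1 hy
      rw [show g * t * g⁻¹ = MulAut.conj g t from rfl, MulEquiv.orderOf_eq, R.order_t]
    rw [hconj, hconj]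
    refine and_congr_right fun hx => ?_
    have hxx : x * x = 1 := by rw [← pow_two, ← hx]; exact pow_orderOf_eq_one x
    have hxi : x⁻¹ = x := inv_eq_of_mul_eq_one_right hxx
    rw [hxi, orderOf_eq_prime_iff, pow_two]
    constructor
    · rintro ⟨h2, -⟩
      refine eq_inv_of_mul_eq_one_left ?_
      rw [← h2]; group
    · intro e
      refine ⟨?_, fun e2 => ?_⟩
      · calc x * k * (x * k) = x * k * x * k := by group
          _ = 1 := by rw [e, inv_mul_cancel]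
      · have e3 : k = x := by rw [eq_inv_of_mul_eq_one_right e2, hxi]
        rw [e3, orderOf_inv, hx] at hkodd
        exact absurd hkodd (by decide)
  rw [← hset]
  have := hfib
  exact_mod_cast this

end FieldRows

end Cfsg.Agent.AbelianSylow.Field
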