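import Cfsg.Agent.Lib.AbelianSylow.Cent.FieldTwoGraph
import Mathlib.LinearAlgebra.Dual.Lemmas

/-!
# No field automorphism, case (B): the automiser of the fixed Sylow subgroup is a scalar (owner: helper4)

`P` is an abelian `s`-group, `y` normalises it and acts without fixed points with cube one, every element of `N(P)`
acts on `P` as a power of `y` or as one followed by inversion.

* `exists_power_of_frattini` : congruent to `x ↦ x ^ ω` modulo `P ^ s` is equal to it
* `exists_scalar_of_forms`   : no invariant alternating form: `y` is a power on `P`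
* `exists_scalar_of_twoGraph`: the same from the doubly transitive action
-/

set_option autoImplicit false
set_option linter.unusedSectionVars false
set_option linter.style.haveILetI false

namespace Cfsg.Agent.AbelianSylow.Field

open Subgroup

universe u v

/-- The functionals of a module over `ZMod s` separate its points. -/
theorem eq_zero_of_forall_dual {F : Type*} [Field F] {V : Type u} [AddCommGroup V] [Module F V] {v : V}
    (h : ∀ g : V →ₗ[F] F, g v = 0) : v = 0 :=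
  (Module.forall_dual_apply_eq_zero_iff F v).1 h

/-- The additive functions to `ZMod s` separate the points of a group of exponent `s`. -/
theorem eq_zero_of_forall_hom {V : Type u} [AddCommGroup V] {s : ℕ} [Fact s.Prime] (hz : ∀ v : V, s • v = 0)
    {v : V} (h : ∀ g : V → ZMod s, (∀ a b, g (a + b) = g a + g b) → g v = 0) : v = 0 := by
  letI : Module (ZMod s) V := AddCommGroup.zmodModule hz
  exact eq_zero_of_forall_dual fun g : V →ₗ[ZMod s] ZMod s => h _ g.toAddHom.map_add'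

/-- The homomorphisms to `ZMod s` separate the points modulo `s`-th powers. -/
theorem exists_pow_of_forall_hom {A : Type u} [CommGroup A] {s : ℕ} [Fact s.Prime] {x : A}
    (h : ∀ μ : A → ZMod s, (∀ a b, μ (a * b) = μ a + μ b) → μ x = 0) : ∃ w : A, w ^ s = x := by
  set M := (powMonoidHom s : A →* A).range
  let π := QuotientGroup.mk' M
  have hz : ∀ v : Additive (A ⧸ M), s • v = 0 := by
    intro v
    obtain ⟨a, ha⟩ := QuotientGroup.mk'_surjective M v.toMul
    rw [← ofMul_toMul v, ← ha, ← ofMul_pow, ← map_pow]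
    exact congrArg Additive.ofMul ((QuotientGroup.eq_one_iff _).2 ⟨a, rfl⟩)
  have h0 : (Additive.ofMul (π x) : Additive (A ⧸ M)) = 0 :=
    eq_zero_of_forall_hom hz fun g hg => h (fun a => g (Additive.ofMul (π a))) fun a b => by
      rw [map_mul, ofMul_mul, hg]
  exact MonoidHom.mem_range.1 ((QuotientGroup.eq_one_iff x).1 h0)

/-- An endomorphism with cube one congruent to a power modulo `s`-th powers is a power. -/
theorem exists_power_of_frattini {A : Type u} [CommGroup A] [Finite A] {s : ℕ} [Fact s.Prime] (hs3 : s ≠ 3)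
    (hA : IsPGroup s A) (φ : A →* A) (hφ : ∀ x, φ (φ (φ x)) = x) {c : ℕ} (hc : (c : ZMod s) ^ 3 = 1)
    (hd : ∀ x, ∃ w : A, w ^ s = φ x * (x ^ c)⁻¹) :
    ∃ ω : ℕ, (ω : ZMod s) = c ∧ (∀ x, φ x = x ^ ω) ∧ ∀ x : A, x ^ (ω ^ 3) = x := by
  obtain ⟨k, hk⟩ := IsPGroup.iff_card.1 hA
  set ω := c ^ (s ^ k) with hωdef
  have hωc : (ω : ZMod s) = c := by rw [hωdef, Nat.cast_pow, ZMod.pow_card_pow]
  have hω3 : ∀ x : A, x ^ (ω ^ 3) = x := by
    intro x
    have h1 : ((s : ℕ) : ℤ) ∣ ((c : ℤ) ^ 3 - 1) := by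
      rw [← ZMod.intCast_zmod_eq_zero_iff_dvd]
      push_cast
      rw [hc, sub_self]
    have h2 := dvd_sub_pow_of_dvd_sub h1 k
    rw [one_pow, ← pow_mul, mul_comm, pow_mul] at h2
    have h3 : ((ω ^ 3 : ℕ) : ℤ) ≡ ((1 : ℕ) : ℤ) [ZMOD ((s ^ (k + 1) : ℕ) : ℤ)] := by
      refine (Int.modEq_iff_dvd.2 ?_).symm
      push_cast [hωdef]
      exact h2
    have h4 : ω ^ 3 ≡ 1 [MOD orderOf x] :=
      (Int.natCast_modEq_iff.1 h3).of_dvd ((hk ▸ orderOf_dvd_natCard x).trans (pow_dvd_pow s k.le_succ))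
    simpa using pow_eq_pow_iff_modEq.2 h4
  refine ⟨ω, hωc, ?_, hω3⟩
  let d : A →* A := φ * (powMonoidHom ω)⁻¹
  have hdx : ∀ x, d x = φ x * (x ^ ω)⁻¹ := fun x => rfl
  have hd1 : ∀ x, ∃ w : A, w ^ s = d x := by
    intro x
    obtain ⟨w, hw⟩ := hd x
    obtain ⟨j, hj⟩ : (s : ℤ) ∣ (c : ℤ) - (ω : ℤ) := by
      rw [← ZMod.intCast_zmod_eq_zero_iff_dvd]
      push_cast
      rw [hωc, sub_self]
    refine ⟨w * x ^ j, ?_⟩
    have e : (x ^ j) ^ s = x ^ c * (x ^ ω)⁻¹ := by
      rw [← zpow_natCast (x ^ j), ← zpow_mul, mul_comm j, ← hj, zpow_sub, zpow_natCast, zpow_natCast]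
    rw [mul_pow, hw, e, hdx, ← mul_assoc, inv_mul_cancel_right]
  have hcop : (3 * ω ^ 2).Coprime s := by
    refine ((Fact.out : s.Prime).coprime_iff_not_dvd.2 fun h => ?_).symm
    rcases (Fact.out : s.Prime).dvd_mul.1 h with h | h
    · exact hs3 ((Nat.prime_dvd_prime_iff_eq Fact.out Nat.prime_three).1 h)
    · have h0 := (ZMod.natCast_eq_zero_iff ω s).2 ((Fact.out : s.Prime).dvd_of_dvd_pow h)
      rw [hωc] at h0
      rw [h0, zero_pow three_ne_zero] at hc
      exact zero_ne_one hc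
  have hφd : ∀ x, φ x = x ^ ω * d x := fun x => by rw [hdx, mul_comm (φ x), mul_inv_cancel_left]
  have hkey : ∀ x, d x ^ (3 * ω ^ 2) = (d (d x) ^ (3 * ω) * d (d (d x)))⁻¹ := by
    intro x
    have h3 := hφ x
    rw [hφd (φ (φ x)), hφd (φ x), hφd x] at h3
    simp only [map_mul, map_pow, mul_pow, ← pow_mul] at h3
    have e : x ^ (ω * ω * ω) * (d x ^ (3 * ω ^ 2) * (d (d x) ^ (3 * ω) * d (d (d x)))) = x := by
      refine Eq.trans ?_ h3
      rw [show 3 * ω ^ 2 = ω * ω * 3 by ring, mul_comm 3 ω, pow_mul (d x) (ω * ω) 3, pow_mul (d (d x)) ω 3]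
      generalize x ^ (ω * ω * ω) = a0, d x ^ (ω * ω) = b0, d (d x) ^ ω = c0, d (d (d x)) = e0
      rw [pow_three, pow_three]
      ac_rfl
    rw [show ω * ω * ω = ω ^ 3 by ring, hω3] at e
    exact eq_inv_of_mul_eq_one_left (mul_eq_left.1 e)
  have hall : ∀ j x, ∃ w : A, w ^ s ^ j = d x := by
    intro j
    induction j with
    | zero => exact fun x => ⟨d x, by rw [pow_zero, pow_one]⟩
    | succ j ih =>
      have step : ∀ z, ∃ w : A, w ^ s ^ (j + 1) = d (d z) := fun z => by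
        obtain ⟨w, hw⟩ := ih z
        obtain ⟨w', hw'⟩ := hd1 w
        exact ⟨w', by rw [← hw, map_pow, ← hw', ← pow_mul, pow_succ']⟩
      intro x
      obtain ⟨a, ha⟩ := step x
      obtain ⟨b, hb⟩ := step (d x)
      have hmem : d x ^ (3 * ω ^ 2) ∈ (powMonoidHom (s ^ (j + 1)) : A →* A).range := by
        rw [hkey, ← hb, ← ha, ← pow_mul, mul_comm (s ^ (j + 1)), pow_mul]
        exact inv_mem (mul_mem ⟨_, rfl⟩ ⟨_, rfl⟩)
      have hdvd : d x ^ s ^ k = 1 := by rw [← hk, pow_card_eq_one']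
      obtain ⟨p, q, hpq⟩ := Nat.isCoprime_iff_coprime.2 (hcop.pow_right k)
      have e : d x = (d x ^ (3 * ω ^ 2)) ^ p := by
        conv_lhs => rw [← zpow_one (d x), ← hpq, zpow_add, mul_comm p, mul_comm q, zpow_mul, zpow_mul,
          zpow_natCast, zpow_natCast, hdvd, one_zpow, mul_one]
      obtain ⟨w, hw⟩ := zpow_mem hmem p
      exact ⟨w, hw.trans e.symm⟩
  intro x
  obtain ⟨w, hw⟩ := hall k x
  rw [← hk, pow_card_eq_one'] at hw
  rw [hφd, ← hw, mul_one]

/-- **No invariant alternating form: the three-cycle is a power.** -/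
theorem exists_scalar_of_forms {K : Type u} [Group K] [Finite K] {s : ℕ} [Fact s.Prime] (hs3 : s ≠ 3)
    {P : Subgroup K} (hP : IsPGroup s P) (hcomm : ∀ a ∈ P, ∀ b ∈ P, a * b = b * a)
    {c : ZMod s} (hc : c ^ 2 + c + 1 = 0) {y : K} (hy : y ∈ normalizer (P : Set K))
    (hy3 : ∀ x ∈ P, y ^ 3 * x * (y ^ 3)⁻¹ = x) (hfpf : ∀ x ∈ P, Commute y x → x = 1)
    (hN : ∀ n ∈ normalizer (P : Set K), ∃ i : ℕ,
      (∀ x ∈ P, n * x * n⁻¹ = y ^ i * x * (y ^ i)⁻¹) ∨ ∀ x ∈ P, n * x * n⁻¹ = (y ^ i * x * (y ^ i)⁻¹)⁻¹)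
    (hform : ∀ β : ↥P → ↥P → ZMod s, (∀ a b c, β (a * b) c = β a c + β b c) →
      (∀ a b c, β a (b * c) = β a b + β a c) → (∀ a, β a a = 0) →
      (∀ n ∈ normalizer (P : Set K), ∀ a b a' b' : ↥P, (a' : K) = n * a * n⁻¹ → (b' : K) = n * b * n⁻¹ →
        β a' b' = β a b) → ∀ a b, β a b = 0) :
    ∃ ω : ℕ, (ω : ZMod s) ^ 2 + (ω : ZMod s) + 1 = 0 ∧ (∀ x ∈ P, x ^ (ω ^ 3) = x) ∧
      ∀ x ∈ P, y * x * y⁻¹ = x ^ ω := by
  classical
  letI : CommGroup ↥P :=
    { (inferInstance : Group ↥P) with mul_comm := fun a b => Subtype.ext (hcomm a a.2 b b.2) }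
  let φ : ↥P →* ↥P := (P.normalizerMonoidHom ⟨y, hy⟩).toMonoidHom
  have hφv : ∀ x : ↥P, ((φ x : ↥P) : K) = y * x * y⁻¹ := fun x => rfl
  have hφn : ∀ (i : ℕ) (x : ↥P), ((φ^[i] x : ↥P) : K) = y ^ i * x * (y ^ i)⁻¹ := fun i x => by
    induction i with
    | zero => simp
    | succ i ih => rw [Function.iterate_succ_apply', hφv, ih, pow_succ']; group
  have hφ3 : ∀ x, φ (φ (φ x)) = x := fun x => Subtype.ext (by
    have := hφn 3 x
    rw [hy3 x x.2] at this
    exact this)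
  have hsum : ∀ x : ↥P, φ (φ x) * φ x * x = 1 := by
    intro x
    refine Subtype.ext (hfpf _ (φ (φ x) * φ x * x).2 ?_)
    have : φ (φ (φ x) * φ x * x) = φ (φ x) * φ x * x := by
      rw [map_mul, map_mul, hφ3]; ac_rfl
    exact mul_inv_eq_iff_eq_mul.1 (congrArg Subtype.val this)
  -- `c ^ 3 = 1` and `c ≠ c ^ 2`
  have hc3 : c ^ 3 = 1 := by linear_combination (c - 1) * hc
  have hc1 : c ≠ 1 := by
    rintro rfl
    have h3 : ((3 : ℕ) : ZMod s) = 0 := by push_cast; linear_combination hc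
    exact hs3 ((Nat.prime_dvd_prime_iff_eq Fact.out Nat.prime_three).1 ((ZMod.natCast_eq_zero_iff 3 s).1 h3))
  have hc0 : c ≠ 0 := fun e => by rw [e, zero_pow three_ne_zero] at hc3; exact zero_ne_one hc3
  -- no two eigenfunctions with different roots
  have key : ∀ μ ν : ↥P → ZMod s, (∀ a b, μ (a * b) = μ a + μ b) → (∀ a b, ν (a * b) = ν a + ν b) →
      (∀ x, μ (φ x) = c * μ x) → (∀ x, ν (φ x) = c ^ 2 * ν x) → μ = 0 ∨ ν = 0 := by
    intro μ ν hμ hν hμφ hνφ
    by_contra hne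
    rw [not_or] at hne
    obtain ⟨a, ha⟩ := Function.ne_iff.1 hne.1
    have hμi : ∀ x, μ x⁻¹ = -μ x := fun x => by
      have h1 := hμ x⁻¹ x
      have h2 := hμ 1 1
      rw [one_mul] at h2
      rw [inv_mul_cancel] at h1
      linear_combination -h1 - h2
    have hνi : ∀ x, ν x⁻¹ = -ν x := fun x => by
      have h1 := hν x⁻¹ x
      have h2 := hν 1 1
      rw [one_mul] at h2
      rw [inv_mul_cancel] at h1
      linear_combination -h1 - h2
    have hμn : ∀ (i : ℕ) x, μ (φ^[i] x) = c ^ i * μ x := fun i x => by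
      induction i with
      | zero => simp
      | succ i ih => rw [Function.iterate_succ_apply', hμφ, ih, pow_succ]; ring
    have hνn : ∀ (i : ℕ) x, ν (φ^[i] x) = c ^ (2 * i) * ν x := fun i x => by
      induction i with
      | zero => simp
      | succ i ih => rw [Function.iterate_succ_apply', hνφ, ih, Nat.mul_succ, pow_add]; ring
    have hz := hform (fun a b => μ a * ν b - μ b * ν a) (fun a b c => by simp only [hμ, hν]; ring)
      (fun a b c => by simp only [hμ, hν]; ring) (fun a => by simp) (by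
        intro n hn u w u' w' hu hw
        obtain ⟨i, hi | hi⟩ := hN n hn
        · rw [show u' = φ^[i] u from Subtype.ext (by rw [hu, hφn, hi u u.2]),
            show w' = φ^[i] w from Subtype.ext (by rw [hw, hφn, hi w w.2])]
          simp only [hμn, hνn]
          have : c ^ i * c ^ (2 * i) = 1 := by rw [← pow_add, show i + 2 * i = 3 * i by ring, pow_mul, hc3, one_pow]
          linear_combination (μ u * ν w - μ w * ν u) * this
        · rw [show u' = (φ^[i] u)⁻¹ from Subtype.ext (by rw [Subgroup.coe_inv, hu, hφn, hi u u.2]),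
            show w' = (φ^[i] w)⁻¹ from Subtype.ext (by rw [Subgroup.coe_inv, hw, hφn, hi w w.2])]
          simp only [hμi, hνi, hμn, hνn]
          have : c ^ i * c ^ (2 * i) = 1 := by rw [← pow_add, show i + 2 * i = 3 * i by ring, pow_mul, hc3, one_pow]
          linear_combination (μ u * ν w - μ w * ν u) * this)
    obtain ⟨b, hb⟩ := Function.ne_iff.1 hne.2
    have e1 := hz a b
    have e2 := hz a (φ b)
    simp only [hμφ, hνφ] at e1 e2
    have h2 : c * (c - 1) * (μ a * ν b) = 0 := by linear_combination e2 - c * e1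
    rcases mul_eq_zero.1 h2 with h | h
    · rcases mul_eq_zero.1 h with h | h
      · exact hc0 h
      · exact hc1 (sub_eq_zero.1 h)
    · rcases mul_eq_zero.1 h with h | h
      · exact ha h
      · exact hb h
  -- all homomorphisms are eigenfunctions for one root
  have hlin : ∀ μ : ↥P → ZMod s, (∀ a b, μ (a * b) = μ a + μ b) → ∀ x, μ (φ (φ x)) = -μ (φ x) - μ x := by
    intro μ hμ x
    have h2 := hμ 1 1
    rw [one_mul] at h2
    have h := congrArg μ (hsum x)
    rw [hμ, hμ] at h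
    linear_combination h - h2
  obtain ⟨c', hc', hone⟩ : ∃ c' : ZMod s, c' ^ 2 + c' + 1 = 0 ∧
      ∀ μ : ↥P → ZMod s, (∀ a b, μ (a * b) = μ a + μ b) → ∀ x, μ (φ x) = c' * μ x := by
    by_cases h : ∀ μ : ↥P → ZMod s, (∀ a b, μ (a * b) = μ a + μ b) → ∀ x, μ (φ x) = c * μ x
    · exact ⟨c, hc, h⟩
    simp only [not_forall] at h
    obtain ⟨ν, hν, x0, hx0⟩ := h
    refine ⟨c ^ 2, by linear_combination hc + c * hc3, fun μ hμ x => ?_⟩
    rcases key (fun x => μ (φ x) - c ^ 2 * μ x) (fun x => ν (φ x) - c * ν x)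
      (fun a b => by simp only [map_mul, hμ]; ring) (fun a b => by simp only [map_mul, hν]; ring)
      (fun x => by simp only [hlin μ hμ]; linear_combination (-μ (φ x)) * hc + μ x * hc3)
      (fun x => by simp only [hlin ν hν]; linear_combination (-ν (φ x)) * hc + ν x * hc3) with e | e
    · exact sub_eq_zero.1 (congrFun e x)
    · exact absurd (sub_eq_zero.1 (congrFun e x0)) hx0
  have hcv : ((c'.val : ℕ) : ZMod s) = c' := ZMod.natCast_zmod_val c'
  obtain ⟨ω, hω, hφω, hω3⟩ := exists_power_of_frattini hs3 hP φ hφ3 (c := c'.val)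
    (by rw [hcv]; linear_combination (c' - 1) * hc') (fun x => exists_pow_of_forall_hom fun μ hμ => by
      have h2 := hμ 1 1
      rw [one_mul] at h2
      have hμp : ∀ n : ℕ, μ (x ^ n) = n * μ x := fun n => by
        induction n with
        | zero => rw [pow_zero, Nat.cast_zero, zero_mul]; linear_combination -h2
        | succ n ih => rw [pow_succ, hμ, ih]; push_cast; ring
      have h1 := hμ (φ x * (x ^ c'.val)⁻¹) (x ^ c'.val)
      rw [inv_mul_cancel_right, hμp, hcv, hone μ hμ x] at h1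
      linear_combination -h1)
  refine ⟨ω, by rw [hω, hcv]; exact hc', fun x hx => congrArg Subtype.val (hω3 ⟨x, hx⟩), fun x hx => ?_⟩
  exact congrArg Subtype.val (hφω ⟨x, hx⟩)

/-- **The scalar from the doubly transitive action.** -/
theorem exists_scalar_of_twoGraph {K : Type u} [Group K] [Finite K] {Ω : Type v} [MulAction K Ω] [Finite Ω]
    {f s : ℕ} (hf : 1 ≤ f) (h2 : ∀ x y x' y' : Ω, x ≠ y → x' ≠ y' → ∃ g : K, g • x = x' ∧ g • y = y')
    (hcard : Nat.card Ω = (3 ^ f) ^ 3 + 1) {t : K} (ht : t * t = 1)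
    (hfix : Nat.card {x : Ω // t • x = x} = 3 ^ f + 1) (hs : s.Prime) (hs5 : 5 ≤ s)
    (hsd : (s : ℤ) ∣ ((3 : ℤ) ^ f) ^ 2 - (3 : ℤ) ^ f + 1) {P : Subgroup K} (hP : IsPGroup s P)
    (hcomm : ∀ a ∈ P, ∀ b ∈ P, a * b = b * a) (hfree : ∀ a ∈ P, ∀ x : Ω, a • x = x → a = 1)
    (hTI : ∀ g : K, g ∉ normalizer (P : Set K) → ∀ a ∈ P, g⁻¹ * a * g ∈ P → a = 1)
    (hidx : ¬ s ∣ (P.subgroupOf (normalizer (P : Set K))).index)
    {y : K} (hy : y ∈ normalizer (P : Set K))
    (hy3 : ∀ x ∈ P, y ^ 3 * x * (y ^ 3)⁻¹ = x) (hfpf : ∀ x ∈ P, Commute y x → x = 1)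
    (hN : ∀ n ∈ normalizer (P : Set K), ∃ i : ℕ,
      (∀ x ∈ P, n * x * n⁻¹ = y ^ i * x * (y ^ i)⁻¹) ∨ ∀ x ∈ P, n * x * n⁻¹ = (y ^ i * x * (y ^ i)⁻¹)⁻¹) :
    ∃ ω : ℕ, (ω : ZMod s) ^ 2 + (ω : ZMod s) + 1 = 0 ∧ (∀ x ∈ P, x ^ (ω ^ 3) = x) ∧
      ∀ x ∈ P, y * x * y⁻¹ = x ^ ω := by
  haveI := Fact.mk hs
  refine exists_scalar_of_forms (by omega) hP hcomm (c := -((3 : ZMod s) ^ f)) ?_ hy hy3 hfpf hN
    fun β hl hr hd hinv => twoGraph_eq_zero hf h2 hcard ht hfix hs hs5 hsd hcomm hfree hTI hidx hl hr hd hinv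
  have h := (ZMod.intCast_zmod_eq_zero_iff_dvd _ s).2 hsd
  push_cast at h
  linear_combination h

end Cfsg.Agent.AbelianSylow.Field
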