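import Cfsg.Agent.Lib.AbelianSylow.Cent.FieldBorel
import Cfsg.Agent.Lib.AbelianSylow.Chars.Rows
import Cfsg.Agent.Lib.AbelianSylow.TwoTrans.Ree

/-!
# No field automorphism, case (B): the supplier of `FieldRows` (owner: helper87)

* `fieldRows_of_borel`   : the family induced from the point stabiliser is the whole of `C`
* `exists_fieldRows`     : `FieldRows` from `JTData` for `q = 3^(2k+1)`, either sign of `m`
-/

set_option autoImplicit false
set_option linter.unusedSectionVars false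

namespace Cfsg.Agent.AbelianSylow.Field

open Subgroup

universe u

variable {G : Type u} [Group G] [Fintype G]

/-- The rows of a group with a point stabiliser. -/
theorem fieldRows_of_borel [Fintype (IrrCharacter G)] {t i r w₀ : G} {K U A T : Subgroup G} {q a M : ℕ}
    {Q : ℤ} (S : Chars.Sec t i r w₀ K U A T q a M Q) (hQ : Q = (q : ℤ)) {m : ℤ} (hm : (q : ℤ) = 3 * m ^ 2)
    {H P D : Subgroup G} {w : G} (B : BorelTwo t H P D w q) :
    ∃ (χ : Fin 8 → IrrCharacter G) (ε : Fin 8 → ℤ) (Y C : Finset (IrrCharacter G)),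
      FieldRows t q m χ ε Y C := by
  classical
  obtain ⟨χ, ε, Y, C, hcard, hY, hdeg, hcomp, hR⟩ := S.exists_fieldRows hQ hm
  obtain ⟨C', hc', hC', -⟩ := B.exists_family
  have h25 := S.le
  obtain ⟨j₀, hj₀⟩ := S.odd_q
  have hqh : (q : ℤ) = 2 * (j₀ : ℤ) + 1 := by exact_mod_cast hj₀
  have hsub : C' ⊆ C := by
    intro φ hφ
    obtain ⟨h1, ht, -⟩ := hC' φ hφ
    have hne : (φ : G → ℂ) t ≠ 0 := by
      rcases ht with e | e <;> rw [e]
      · exact Nat.cast_add_one_ne_zero q
      · exact neg_ne_zero.2 (Nat.cast_add_one_ne_zero q)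
    have hd : (charDegree (φ : G → ℂ) : ℤ) = (q : ℤ) ^ 3 + 1 := by
      rw [ClassCount.apply_one_eq_charDegree] at h1
      exact_mod_cast h1
    rcases hcomp φ hne with ⟨j, rfl⟩ | h | h
    · exfalso
      have e := (hdeg j).2
      rw [h1] at e
      have e' : ε j * ((q : ℤ) ^ 3 + 1) = rowDeg q m j := by exact_mod_cast e
      have hh : ((q : ℤ) - 1) / 2 = (j₀ : ℤ) := by omega
      have h4 : ∀ z : ℤ, (rowDeg q m j = (j₀ : ℤ) * z ∨ rowDeg q m j = -((j₀ : ℤ) * z)) → False := by
        intro z hz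
        have hdvd : (j₀ : ℤ) ∣ (q : ℤ) ^ 3 + 1 := by
          have hr : (j₀ : ℤ) ∣ rowDeg q m j := by
            rcases hz with e2 | e2 <;> rw [e2]
            · exact dvd_mul_right _ _
            · exact (dvd_mul_right _ _).neg_right
          rcases (hdeg j).1 with e1 | e1 <;> rw [e1] at e'
          · rwa [← e', one_mul] at hr
          · rwa [← e', neg_one_mul, dvd_neg] at hr
        have h2 : (j₀ : ℤ) ∣ 2 := by
          have h3 : (j₀ : ℤ) ∣ (q : ℤ) ^ 3 - 1 :=
            ⟨2 * ((q : ℤ) ^ 2 + q + 1), by rw [hqh]; ring⟩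
          have := dvd_sub hdvd h3
          rwa [show (q : ℤ) ^ 3 + 1 - ((q : ℤ) ^ 3 - 1) = 2 by ring] at this
        have := Int.le_of_dvd (by norm_num) h2
        omega
      have hq : (25 : ℤ) ≤ q := by exact_mod_cast h25
      have hq3 : 0 < (q : ℤ) ^ 3 := by positivity
      have hsmall : ∀ z : ℤ, -((q : ℤ) ^ 3 + 1) < z → z < (q : ℤ) ^ 3 + 1 → rowDeg q m j = z → False := by
        intro z h5 h6 hz
        rw [← e'] at hz
        rcases (hdeg j).1 with e1 | e1 <;> rw [e1] at hz <;> linarith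
      fin_cases j <;> simp only [rowDeg, Fin.reduceFinMk, Matrix.cons_val, Matrix.cons_val_zero,
        Matrix.cons_val_one] at h4 hsmall
      · exact hsmall 1 (by nlinarith) (by nlinarith) rfl
      · exact hsmall _ (by nlinarith) (by nlinarith) rfl
      · exact hsmall _ (by nlinarith) (by nlinarith) rfl
      · exact hsmall _ (by nlinarith) (by nlinarith) rfl
      all_goals rw [hh] at h4
      · exact h4 (m * ((q : ℤ) + 1 + 3 * m)) (Or.inr (by ring))
      · exact h4 (m * ((q : ℤ) + 1 - 3 * m)) (Or.inl (by ring))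
      · exact h4 (m * ((q : ℤ) + 1 + 3 * m)) (Or.inr (by ring))
      · exact h4 (m * ((q : ℤ) + 1 - 3 * m)) (Or.inl (by ring))
    · exfalso
      have hy := hY φ h
      rw [hd] at hy
      nlinarith
    · exact h
  have heq : C' = C := Finset.eq_of_subset_of_card_le hsub (by omega)
  exact ⟨χ, ε, Y, C, hR fun φ hφ => (hC' φ (heq ▸ hφ)).2.2⟩

/-- **The supplier.** -/
theorem exists_fieldRows [Fintype (IrrCharacter G)] {t : G} {F : Type} [Field F] [Fintype F]
    (hJ : JTData G t F) {k : ℕ} (hk : 1 ≤ k) (hF : Fintype.card F = 3 ^ (2 * k + 1)) {m : ℤ}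
    (hm : m ^ 2 = 3 ^ (2 * k)) :
    ∃ (χ : Fin 8 → IrrCharacter G) (ε : Fin 8 → ℤ) (Y C : Finset (IrrCharacter G)),
      FieldRows t (3 ^ (2 * k + 1)) m χ ε Y C := by
  have h27 : 27 ≤ Fintype.card F := by
    rw [hF]
    exact le_trans (by norm_num) (Nat.pow_le_pow_right (show 0 < 3 by norm_num) (show 3 ≤ 2 * k + 1 by omega))
  obtain ⟨i, r, w₀, K, U, A, T, a, M, Q, S, hQ, -⟩ := Chars.exists_sec' hJ (by omega)
  obtain ⟨H, P, D, w, X⟩ := TwoTrans.exists_point_of_order hJ hF (Chars.orderTarget G t F hJ k hk hF)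
  have hQ' := hQ (hF ▸ TwoTrans.mod_eight_three_pow k)
  rw [hF] at S hQ'
  refine fieldRows_of_borel S hQ' ?_ X.borelTwo
  rw [hm]
  push_cast
  ring

end Cfsg.Agent.AbelianSylow.Field
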