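import Cfsg.Agent.Lib.AbelianSylow.Cent.FieldInvCent
import Cfsg.Agent.Lib.AbelianSylow.Cent.FieldSupply
import Cfsg.Agent.Lib.AbelianSylow.Cent.FieldInverters
import Cfsg.Agent.Lib.AbelianSylow.Cent.FieldAction
import Cfsg.Agent.Lib.AbelianSylow.Cent.FieldOmega
import Cfsg.Agent.Lib.AbelianSylow.Local.PSLData

/-!
# No field automorphism, case (B): the FACT on the component (owner: helper4; `FIELD_B.md` steps 3 and 4)

* `InvData.exists_sylow`     : a Sylow `s`-subgroup inverted by `t`, with one centraliser for all its elements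
* `exists_factData`          : in a Janko-Thompson group over `q = 3 ^ (2 n + 1)`: the Sylow `s`-subgroup `P`, the
  element `y` of order three acting as a scalar on it, and `N(P) ∩ C(t) = ⟨t⟩ × ⟨y⟩`
-/

set_option autoImplicit false
set_option linter.unusedSectionVars false
set_option linter.style.haveILetI false

namespace Cfsg.Agent.AbelianSylow.Field

open Subgroup

universe u

variable {G : Type u} [Group G] [Finite G]

/-- The FACT. -/
structure FactData (t y : G) (P : Subgroup G) (s ω : ℕ) : Prop where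
  pgroup : IsPGroup s P
  ne : P ≠ ⊥
  index : ¬ s ∣ P.index
  inv : ∀ x ∈ P, t * x * t⁻¹ = x⁻¹
  comm : ∀ a ∈ P, ∀ b ∈ P, a * b = b * a
  y_cube : y ^ 3 = 1
  y_cent : Commute y t
  omega : ∀ x ∈ P, y * x * y⁻¹ = x ^ ω
  omega_cube : ∀ x ∈ P, x ^ (ω ^ 3) = x
  omega_root : (ω : ZMod s) ^ 2 + (ω : ZMod s) + 1 = 0
  ti : ∀ g : G, ∀ z ∈ P, z ≠ 1 → g * z * g⁻¹ ∈ P → g ∈ normalizer (P : Set G)
  cent_norm : ∀ c : G, Commute c t → c ∈ normalizer (P : Set G) → ∃ j : ℕ, c = y ^ j ∨ c = t * y ^ j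

/-- Two commuting elements with cube one, each of the four cyclic groups acting without fixed points. -/
theorem nine_identity {A : Type*} [CommGroup A] {x a1 a2 b1 b2 c11 c22 c12 c21 : A}
    (ha : x * a1 * a2 = 1) (hb : x * b1 * b2 = 1) (hab : x * c11 * c22 = 1) (hab2 : x * c12 * c21 = 1)
    (hba : a1 * c11 * c12 = 1) (hba2 : a2 * c21 * c22 = 1) : x ^ 3 = 1 := by
  calc x ^ 3 = x ^ 3 * ((x * b1 * b2) * (a1 * c11 * c12) * (a2 * c21 * c22)) := by
        rw [hb, hba, hba2, mul_one, mul_one, mul_one]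
    _ = (x * a1 * a2) * (x * b1 * b2) * (x * c11 * c22) * (x * c12 * c21) := by
        rw [pow_succ, pow_two]; ac_rfl
    _ = 1 := by rw [ha, hb, hab, hab2, mul_one, mul_one, mul_one]

/-- No four lines of elements of order three act without fixed points. -/
theorem false_of_nine {P : Subgroup G} (hPc : ∀ p ∈ P, ∀ q ∈ P, p * q = q * p) {s : ℕ} (hs : s.Prime)
    (hs3 : s ≠ 3) (hP : IsPGroup s P) (hne : P ≠ ⊥) {a b : G} (hab : Commute a b) (ha : a ^ 3 = 1)
    (hb : b ^ 3 = 1)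
    (hfpf : ∀ g : G, g = a ∨ g = b ∨ g = a * b ∨ g = a * b ^ 2 →
      g ∈ normalizer (P : Set G) ∧ ∀ x ∈ P, Commute g x → x = 1) : False := by
  classical
  let _ : CommGroup P := { (inferInstance : Group P) with mul_comm := fun p q => Subtype.ext (hPc p p.2 q q.2) }
  have hN : ∀ g : G, g ^ 3 = 1 → (g ∈ normalizer (P : Set G) ∧ ∀ x ∈ P, Commute g x → x = 1) → ∀ x ∈ P,
      x * (g * x * g⁻¹) * (g ^ 2 * x * (g ^ 2)⁻¹) = 1 := by
    rintro g hg ⟨hgn, hf⟩ x hx
    have h1 : g * x * g⁻¹ ∈ P := (mem_normalizer_iff.1 hgn x).1 hx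
    have h2 : g ^ 2 * x * (g ^ 2)⁻¹ ∈ P := (mem_normalizer_iff.1 (pow_mem hgn 2) x).1 hx
    refine hf _ (mul_mem (mul_mem hx h1) h2) ((mul_inv_eq_iff_eq_mul).1 ?_)
    have h3 : g * (g ^ 2 * x * (g ^ 2)⁻¹) * g⁻¹ = x := by
      rw [show g * (g ^ 2 * x * (g ^ 2)⁻¹) * g⁻¹ = g ^ 3 * x * (g ^ 3)⁻¹ by group, hg, one_mul, inv_one, mul_one]
    have h4 : g * (g * x * g⁻¹) * g⁻¹ = g ^ 2 * x * (g ^ 2)⁻¹ := by rw [pow_two]; group
    rw [← conj_mul, ← conj_mul, h3, h4, hPc _ (mul_mem h1 h2) x hx, mul_assoc x]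
  obtain ⟨z, hz, hz1⟩ := P.bot_or_exists_ne_one.resolve_left hne
  have han := (hfpf a (Or.inl rfl)).1
  have hbn := (hfpf b (Or.inr (Or.inl rfl))).1
  have hmem : ∀ g ∈ normalizer (P : Set G), g * z * g⁻¹ ∈ P := fun g hg => (mem_normalizer_iff.1 hg z).1 hz
  let e : G → P := fun g => if h : g * z * g⁻¹ ∈ P then ⟨g * z * g⁻¹, h⟩ else 1
  have he : ∀ g ∈ normalizer (P : Set G), (e g : G) = g * z * g⁻¹ := fun g hg => by
    simp only [e, dif_pos (hmem g hg)]
  have h3a : ∀ g, g = a ∨ g = b ∨ g = a * b ∨ g = a * b ^ 2 → g ^ 3 = 1 := by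
    rintro g (rfl | rfl | rfl | rfl)
    · exact ha
    · exact hb
    · rw [hab.mul_pow, ha, hb, one_mul]
    · rw [(hab.pow_right 2).mul_pow, ha, ← pow_mul, pow_mul, pow_right_comm, hb, one_pow, one_mul]
  have line : ∀ g, g = a ∨ g = b ∨ g = a * b ∨ g = a * b ^ 2 →
      (⟨z, hz⟩ : P) * e g * e (g ^ 2) = 1 := fun g hg => Subtype.ext (by
    have hgn := (hfpf g hg).1
    rw [coe_mul, coe_mul, he g hgn, he _ (pow_mem hgn 2), coe_one]
    exact hN g (h3a g hg) (hfpf g hg) z hz)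
  -- the translates of the line of `b`
  have trans : ∀ i : ℕ, e (a ^ i) * e (a ^ i * b) * e (a ^ i * b ^ 2) = 1 := fun i => Subtype.ext (by
    rw [coe_mul, coe_mul, he _ (pow_mem han i), he _ (mul_mem (pow_mem han i) hbn),
      he _ (mul_mem (pow_mem han i) (pow_mem hbn 2)), coe_one]
    have h := hN b hb (hfpf b (Or.inr (Or.inl rfl))) z hz
    calc a ^ i * z * (a ^ i)⁻¹ * (a ^ i * b * z * (a ^ i * b)⁻¹) * (a ^ i * b ^ 2 * z * (a ^ i * b ^ 2)⁻¹)
        = a ^ i * (z * (b * z * b⁻¹) * (b ^ 2 * z * (b ^ 2)⁻¹)) * (a ^ i)⁻¹ := by group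
      _ = 1 := by rw [h, mul_one, mul_inv_cancel])
  have h2 := nine_identity (line a (Or.inl rfl)) (line b (Or.inr (Or.inl rfl)))
    (line (a * b) (Or.inr (Or.inr (Or.inl rfl)))) (line (a * b ^ 2) (Or.inr (Or.inr (Or.inr rfl))))
    (c12 := e (a * b ^ 2))
  have e1 := trans 1
  have e2 := trans 2
  rw [pow_one] at e1
  have eab : (a * b) ^ 2 = a ^ 2 * b ^ 2 := hab.mul_pow 2
  have eab2 : (a * b ^ 2) ^ 2 = a ^ 2 * b := by
    rw [(hab.pow_right 2).mul_pow, ← pow_mul, show 2 * 2 = 3 + 1 from rfl, pow_succ b 3, hb, one_mul]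
  rw [eab, eab2] at h2
  have h3 := congrArg Subtype.val (h2 e1 e2)
  have h3' : z ^ 3 = 1 := by simpa using h3
  obtain ⟨k, hk⟩ := hP ⟨z, hz⟩
  have hsd := (dvd_orderOf_of_pow hs (by simpa using congrArg Subtype.val hk) hz1).trans
    (orderOf_dvd_of_pow_eq_one h3')
  exact hs3 ((Nat.prime_dvd_prime_iff_eq hs Nat.prime_three).1 hsd)

/-- An element of `3`-power order of `C(t)` has cube one. -/
theorem pow_three_eq_one {F : Type} [Field F] [Fintype F] {t : G} (hJ : JTData G t F) {n : ℕ}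
    (hF : Fintype.card F = 3 ^ (2 * n + 1)) {e : G} (het : Commute e t) {j : ℕ} (he : e ^ 3 ^ j = 1) :
    e ^ 3 = 1 := by
  classical
  haveI : Fact (Nat.Prime 3) := ⟨Nat.prime_three⟩
  obtain ⟨p, hp⟩ := CharP.exists F
  haveI := hp
  haveI : Fact p.Prime := ⟨CharP.char_is_prime F p⟩
  obtain ⟨d, _, hd⟩ := FiniteField.card F p
  have hp3 : p = 3 := by
    have h : p ∣ 3 ^ (2 * n + 1) := hF ▸ hd ▸ dvd_pow_self p d.ne_zero
    exact (Nat.prime_dvd_prime_iff_eq Fact.out Nat.prime_three).1 ((Fact.out : p.Prime).dvd_of_dvd_pow h)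
  subst hp3
  obtain ⟨L, hL⟩ := Local.exists_lfac hJ
  obtain ⟨iso⟩ := hL.iso
  have heL : e ∈ L := hL.ctx.mem_of_odd het.eq
    (((Nat.odd_iff.2 (by norm_num : 3 % 2 = 1)).pow).of_dvd_nat (orderOf_dvd_of_pow_eq_one he))
  obtain ⟨U, hU, -, hord, -, -⟩ := Local.exists_unipotent (F := F) 3
  have hidx : ¬ 3 ∣ U.relIndex ⊤ := by
    rw [relIndex_top_right]
    intro h3
    have h1 := U.card_mul_index
    have h2 := hL.card_L
    rw [Nat.card_congr iso.toEquiv, ← h1, hU, Nat.card_eq_fintype_card, hF] at h2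
    obtain ⟨c, hc⟩ := h3
    rw [hc] at h2
    have hq : 0 < 3 ^ (2 * n + 1) := pow_pos three_pos _
    have h5 : 2 * (3 * c) = (3 ^ (2 * n + 1) + 1) * (3 ^ (2 * n + 1) - 1) :=
      Nat.eq_of_mul_eq_mul_left hq (by linear_combination h2)
    have h6 : 3 ∣ 3 ^ (2 * n + 1) := dvd_pow_self 3 (by omega)
    rcases Nat.prime_three.dvd_mul.1 (h5 ▸ (Dvd.intro c rfl).mul_left 2) with h | h <;> omega
  obtain ⟨k, -, hk⟩ := exists_conj_mem_of_index (le_top : U ≤ ⊤) Nat.prime_three hidx (mem_top (iso ⟨e, heL⟩))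
    (j := j) (by rw [← map_pow, show (⟨e, heL⟩ : L) ^ 3 ^ j = 1 from Subtype.ext he, map_one])
  have h3 : (k * iso ⟨e, heL⟩ * k⁻¹) ^ 3 = 1 := by
    by_cases h1 : k * iso ⟨e, heL⟩ * k⁻¹ = 1
    · rw [h1, one_pow]
    · exact (hord _ hk h1) ▸ pow_orderOf_eq_one _
  rw [conj_pow, conj_eq_one_iff, ← map_pow, iso.map_eq_one_iff] at h3
  simpa using congrArg Subtype.val h3

namespace InvData

variable {t : G} {s T : ℕ}

/-- A Sylow `s`-subgroup inverted by `t`. -/
theorem exists_sylow (D : InvData t s T) (hsG : s ∣ Nat.card G) :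
    ∃ P : Subgroup G, ∃ k₀ ∈ P, k₀ ≠ 1 ∧ IsPGroup s P ∧ ¬ s ∣ P.index ∧
      (∀ a ∈ P, ∀ b ∈ P, a * b = b * a) ∧
      (∀ k ∈ P, k ≠ 1 → centralizer ({k} : Set G) = centralizer (P : Set G)) ∧
      Odd (Nat.card (centralizer (P : Set G))) ∧
      (∀ x ∈ centralizer (P : Set G), t * x * t⁻¹ = x⁻¹) ∧
      (∀ x ∈ centralizer (P : Set G), ∀ y ∈ centralizer (P : Set G), x * y = y * x) ∧
      Nat.card (centralizer (P : Set G)) = T := by
  classical
  haveI := Fact.mk D.prime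
  have hfacts : ∀ k : G, (∃ j, k ^ s ^ j = 1) → k ≠ 1 →
      (∀ x ∈ centralizer ({k} : Set G), ∀ y ∈ centralizer ({k} : Set G), x * y = y * x) ∧
      Nat.card (centralizer ({k} : Set G)) = T := by
    rintro k ⟨j, hj⟩ hk1
    obtain ⟨i, -, hi⟩ := (Nat.dvd_prime_pow D.prime).1 (orderOf_dvd_of_pow_eq_one hj)
    obtain ⟨τ, hτ, hτk⟩ := D.exists_inverter hi hk1
    obtain ⟨-, -, h3, h4⟩ := D.cent_facts hi hk1 hτ hτk
    exact ⟨h3, h4⟩
  have hpow : ∀ (R : Subgroup G), IsPGroup s R → ∀ k ∈ R, ∃ j, k ^ s ^ j = 1 := fun R hR k hk => by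
    obtain ⟨j, hj⟩ := hR ⟨k, hk⟩
    exact ⟨j, by simpa using congrArg Subtype.val hj⟩
  -- a non-trivial element of `s`-power order inverted by `t`
  obtain ⟨k₁, hk₁⟩ := exists_prime_orderOf_dvd_card' (G := G) s hsG
  have hk₁1 : k₁ ≠ 1 := fun e => D.prime.ne_one (by rw [← hk₁, e, orderOf_one])
  obtain ⟨τ, hτ, hτk⟩ := D.exists_inverter (j := 1) (by rw [pow_one, hk₁]) hk₁1
  obtain ⟨g, hg⟩ := _root_.isConj_iff.1 (D.one_class τ hτ)
  set k₀ := g⁻¹ * k₁ * g with hk₀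
  have hord : orderOf k₀ = s := by
    rw [show k₀ = MulAut.conj g⁻¹ k₁ by simp [hk₀], MulEquiv.orderOf_eq, hk₁]
  have hk₀1 : k₀ ≠ 1 := fun e => D.prime.ne_one (by rw [← hord, e, orderOf_one])
  have htk : t * k₀ * t⁻¹ = k₀⁻¹ := by
    have e : t = g⁻¹ * τ * g := by rw [← hg]; group
    rw [e, hk₀]
    calc g⁻¹ * τ * g * (g⁻¹ * k₁ * g) * (g⁻¹ * τ * g)⁻¹ = g⁻¹ * (τ * k₁ * τ⁻¹) * g := by group
      _ = (g⁻¹ * k₁ * g)⁻¹ := by rw [hτk]; group
  obtain ⟨P, hP⟩ := (IsPGroup.of_card (G := zpowers k₀) (p := s) (n := 1)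
    (by rw [Nat.card_zpowers, hord, pow_one])).exists_le_sylow
  have hk₀P : k₀ ∈ (P : Subgroup G) := hP (mem_zpowers k₀)
  haveI : Nontrivial (P : Subgroup G) := (nontrivial_iff_exists_ne_one _).2 ⟨k₀, hk₀P, hk₀1⟩
  haveI := P.2.center_nontrivial
  obtain ⟨⟨z, hz⟩, hz1⟩ := exists_ne (1 : center (P : Subgroup G))
  have hz1' : (z : G) ≠ 1 := fun e => hz1 (Subtype.ext (Subtype.ext e))
  have hPz : (P : Subgroup G) ≤ centralizer ({(z : G)} : Set G) := fun x hx =>
    mem_centralizer_singleton_iff.2 (congrArg Subtype.val ((mem_center_iff.1 hz) ⟨x, hx⟩))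
  have hcommP : ∀ a ∈ (P : Subgroup G), ∀ b ∈ (P : Subgroup G), a * b = b * a := fun a ha b hb =>
    (hfacts z (hpow _ P.2 z z.2) hz1').1 a (hPz ha) b (hPz hb)
  have hC : ∀ k ∈ (P : Subgroup G), k ≠ 1 →
      centralizer ({k} : Set G) = centralizer ((P : Subgroup G) : Set G) := by
    intro k hk hk1
    refine le_antisymm (fun x hx => mem_centralizer_iff.2 fun p hp => ?_) fun x hx =>
      mem_centralizer_singleton_iff.2 (mem_centralizer_iff.1 hx k hk).symm
    exact (hfacts k (hpow _ P.2 k hk) hk1).1 p (mem_centralizer_singleton_iff.2 (hcommP p hp k hk)) x hx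
  obtain ⟨h1, h2, h3, h4⟩ := D.cent_facts (j := 1) (by rw [pow_one, hord]) hk₀1 D.invol htk
  rw [hC k₀ hk₀P hk₀1] at h1 h2 h3 h4
  exact ⟨P, k₀, hk₀P, hk₀1, P.2, P.not_dvd_index, hcommP, hC, h1, h2, h3, h4⟩

end InvData

/-- `q + 1 + 3 m` is prime to `(q - 1) / 2` and to `(q + 1) / 4` apart from `2`. -/
theorem eq_three_of_dvd {r : ℕ} (hr : r.Prime) (hr2 : r ≠ 2) {q m : ℤ} (hq : q = 3 * m ^ 2)
    (hT : (r : ℤ) ∣ q + 3 * m) (hK : (r : ℤ) ∣ q * (q ^ 2 - 1)) (hrq : (r : ℤ) ∣ q → r = 3) : r = 3 := by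
  by_contra hr3
  haveI := Fact.mk hr
  have h1 := (ZMod.intCast_zmod_eq_zero_iff_dvd _ r).2 hT
  have h2 := (ZMod.intCast_zmod_eq_zero_iff_dvd _ r).2 hK
  push_cast at h1 h2
  rw [hq] at h1 h2
  push_cast at h1 h2
  set μ : ZMod r := (m : ZMod r)
  have h30 : (3 : ZMod r) ≠ 0 := fun e => hr3 ((Nat.prime_dvd_prime_iff_eq hr Nat.prime_three).1
    ((ZMod.natCast_eq_zero_iff 3 r).1 (by exact_mod_cast e)))
  have h20 : (2 : ZMod r) ≠ 0 := fun e => hr2 ((Nat.prime_dvd_prime_iff_eq hr Nat.prime_two).1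
    ((ZMod.natCast_eq_zero_iff 2 r).1 (by exact_mod_cast e)))
  rcases mul_eq_zero.1 (show (3 * μ) * (μ + 1) = 0 by linear_combination h1) with e | e
  · rcases mul_eq_zero.1 e with e' | e'
    · exact h30 e'
    · -- then `r` divides `q`
      have hq0 : (r : ℤ) ∣ 3 * m ^ 2 := ((ZMod.intCast_zmod_eq_zero_iff_dvd m r).1 e').trans
        (Dvd.dvd.mul_left (dvd_pow_self m two_ne_zero) 3)
      exact hr3 (hrq (hq ▸ hq0))
  · have hμ : μ = -1 := by linear_combination e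
    rw [hμ] at h2
    rcases mul_eq_zero.1 (show (3 : ZMod r) * (2 * (2 * 2)) = 0 by linear_combination h2) with h | h
    · exact h30 h
    · rcases mul_eq_zero.1 h with h' | h'
      · exact h20 h'
      · rcases mul_eq_zero.1 h' with h'' | h'' <;> exact h20 h''

/-- **The FACT.** -/
theorem exists_factData {t : G} {F : Type} [Field F] [Fintype F] (hJ : JTData G t F) {n : ℕ} (hn : 1 ≤ n)
    (hF : Fintype.card F = 3 ^ (2 * n + 1)) {s : ℕ} (hs : s.Prime)
    (hsd : (s : ℤ) ∣ ((3 : ℤ) ^ (2 * n + 1)) ^ 2 - (3 : ℤ) ^ (2 * n + 1) + 1) :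
    ∃ (y : G) (P : Subgroup G) (ω : ℕ), FactData t y P s ω := by
  classical
  letI := Fintype.ofFinite G
  letI : Fintype (IrrCharacter G) := Fintype.ofFinite _
  haveI := Fact.mk hs
  obtain ⟨hs5, hsq⟩ := prime_facts_torus (by omega) hs hsd
  set q : ℕ := 3 ^ (2 * n + 1) with hq
  have hq27 : 27 ≤ q := le_trans (by norm_num) (Nat.pow_le_pow_right three_pos (show 3 ≤ 2 * n + 1 by omega))
  -- the sign of `m`
  obtain ⟨m, hm, hdT⟩ : ∃ m : ℤ, m ^ 2 = 3 ^ (2 * n) ∧ (s : ℤ) ∣ (q : ℤ) + 1 + 3 * m := by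
    have e : ((3 : ℤ) ^ (2 * n + 1)) ^ 2 - (3 : ℤ) ^ (2 * n + 1) + 1 =
        ((q : ℤ) + 1 + 3 * 3 ^ n) * ((q : ℤ) + 1 + 3 * -(3 : ℤ) ^ n) := by
      rw [hq]; push_cast; ring
    rw [e] at hsd
    rcases (Nat.prime_iff_prime_int.1 hs).dvd_or_dvd hsd with h | h
    · exact ⟨3 ^ n, by ring, h⟩
    · exact ⟨-(3 : ℤ) ^ n, by ring, h⟩
  have hq3 : (q : ℤ) = 3 * m ^ 2 := by rw [hm, hq]; push_cast; ring
  obtain ⟨χ, ε, Y, C, R⟩ := exists_fieldRows hJ hn hF hm
  have hTpos : 0 < (q : ℤ) + 1 + 3 * m := by rw [hq3]; nlinarith [sq_nonneg (2 * m + 1)]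
  obtain ⟨T, hT⟩ : ∃ T : ℕ, (T : ℤ) = (q : ℤ) + 1 + 3 * m := ⟨_, Int.toNat_of_nonneg hTpos.le⟩
  have hsC : ¬ s ∣ Nat.card (centralizer ({t} : Set G)) := by rw [R.card_cent]; exact hsq
  have D : InvData t s T :=
    { prime := hs
      invol := hJ.invol
      one_class := R.one_class
      not_dvd := hsC
      odd_cent := fun c hc1 hc2 hc3 ρ hρ hρd => not_dvd_card_cent_odd hJ hn hF hρ hρd hc1 hc2 hc3
      count := fun k j hk hk1 => by
        have h := R.card_inverters hs hdT hk hk1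
        rw [← hT] at h
        exact_mod_cast h
      T_pos := by exact_mod_cast (hT ▸ hTpos) }
  have hG : (Nat.card G : ℤ) = (q : ℤ) ^ 3 * ((q : ℤ) + 1) * ((q : ℤ) + 1 - 3 * m) * ((q : ℤ) - 1) * T := by
    rw [R.card, hT]
    linear_combination (3 * (q : ℤ) ^ 3 * ((q : ℤ) + 1) * ((q : ℤ) - 1)) * hq3 * (-1)
  have hsG : s ∣ Nat.card G := by
    have h : (s : ℤ) ∣ (Nat.card G : ℤ) := hG ▸ dvd_mul_of_dvd_right (hT ▸ hdT) _
    exact_mod_cast h
  obtain ⟨P, k₀, hk₀, hk₀1, hPp, hPi, hPc, hPC, hCodd, hCinv, hCcomm, hCcard⟩ := D.exists_sylow hsG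
  set Z := centralizer (P : Set G) with hZ
  have hPZ : P ≤ Z := fun x hx => mem_centralizer_iff.2 fun p hp => hPc p hp x hx
  have hPne : P ≠ ⊥ := fun e => hk₀1 (by rw [e] at hk₀; simpa using hk₀)
  have hPinv : ∀ x ∈ P, t * x * t⁻¹ = x⁻¹ := fun x hx => hCinv x (hPZ hx)
  have htt : t * t = 1 := by rw [← pow_two, ← hJ.invol]; exact pow_orderOf_eq_one t
  have hti : t⁻¹ = t := inv_eq_of_mul_eq_one_right htt
  have htN : t ∈ normalizer (P : Set G) := Coprime.mem_normalizer_of_forall fun x hx => by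
    rw [hPinv x hx]; exact inv_mem hx
  have heq1 : ∀ x ∈ Z, Commute x t → x = 1 := fun x hx hxt => by
    have h := hCinv x hx
    rw [hxt.symm.eq, mul_inv_cancel_right] at h
    exact eq_one_of_inv_eq hCodd hx h
  have hTI : ∀ g : G, ∀ z ∈ P, z ≠ 1 → g * z * g⁻¹ ∈ P → g ∈ normalizer (P : Set G) := by
    intro g z hz hz1 hgz
    refine Coprime.mem_normalizer_of_forall fun x hx => ?_
    have h1 : g * x * g⁻¹ ∈ centralizer ({g * z * g⁻¹} : Set G) := by
      refine mem_centralizer_singleton_iff.2 ?_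
      rw [conj_mul, conj_mul, hPc x hx z hz]
    rw [hPC _ hgz (fun e => hz1 (conj_eq_one_iff.1 e))] at h1
    -- the Sylow subgroup of the abelian group `Z` is unique
    obtain ⟨R', hR'⟩ := (IsPGroup.of_card (G := zpowers (g * x * g⁻¹)) (p := s)
      (n := (orderOf x).factorization s) (by
        obtain ⟨j, hj⟩ := hPp ⟨x, hx⟩
        obtain ⟨i, -, hi⟩ := (Nat.dvd_prime_pow hs).1 (orderOf_dvd_of_pow_eq_one (by
          simpa using congrArg Subtype.val hj : x ^ s ^ j = 1))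
        rw [Nat.card_zpowers, show g * x * g⁻¹ = MulAut.conj g x from rfl, MulEquiv.orderOf_eq, hi,
          hs.factorization_pow, Finsupp.single_eq_same])).exists_le_sylow
    have hX : IsPGroup s ↥(zpowers (g * x * g⁻¹) ⊔ P) := by
      refine (hR' |> fun h => R'.2.to_le h).to_sup_of_normal_right' hPp ?_
      refine zpowers_le.2 (Coprime.mem_normalizer_of_forall fun p hp => ?_)
      rw [hCcomm _ h1 p (hPZ hp), mul_inv_cancel_right]
      exact hp
    have h2 : (hPp.toSylow hPi : Subgroup G) ≤ zpowers (g * x * g⁻¹) ⊔ P := by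
      rw [IsPGroup.toSylow_coe]; exact le_sup_right
    have h3 := (hPp.toSylow hPi).is_maximal' hX h2
    rw [IsPGroup.toSylow_coe] at h3
    rw [← h3]
    exact mem_sup_left (mem_zpowers _)
  have hZN : Z ≤ normalizer (P : Set G) := fun x hx => Coprime.mem_normalizer_of_forall fun p hp => by
    rw [← mem_centralizer_iff.1 hx p hp, mul_inv_cancel_right]; exact hp
  have hZn : ∀ g ∈ normalizer (P : Set G), ∀ x ∈ Z, g * x * g⁻¹ ∈ Z := fun g hg x hx =>
    mem_centralizer_iff.2 fun p hp => by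
      have h := mem_centralizer_iff.1 hx (g⁻¹ * p * g) (by
        simpa using (mem_normalizer_iff.1 (inv_mem hg) p).1 hp)
      calc p * (g * x * g⁻¹) = g * (g⁻¹ * p * g * x) * g⁻¹ := by group
        _ = g * (x * (g⁻¹ * p * g)) * g⁻¹ := by rw [h]
        _ = g * x * g⁻¹ * p := by group
  set M := normalizer (P : Set G) ⊓ centralizer ({t} : Set G) with hMdef
  have hdec : ∀ g ∈ normalizer (P : Set G), ∃ c ∈ Z, c⁻¹ * g ∈ M := by
    intro g hg
    have hgt : ∀ p ∈ P, g * t * g⁻¹ * p * (g * t * g⁻¹)⁻¹ = p⁻¹ := fun p hp => by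
      have hp' : g⁻¹ * p * g ∈ P := by simpa using (mem_normalizer_iff.1 (inv_mem hg) p).1 hp
      calc g * t * g⁻¹ * p * (g * t * g⁻¹)⁻¹ = g * (t * (g⁻¹ * p * g) * t⁻¹) * g⁻¹ := by group
        _ = p⁻¹ := by rw [hPinv _ hp']; group
    set a := g * t * g⁻¹ * t with ha
    have haZ : a ∈ Z := mem_centralizer_iff.2 fun p hp => by
      have h : a * p * a⁻¹ = p := by
        calc a * p * a⁻¹ = g * t * g⁻¹ * (t * p * t⁻¹) * (g * t * g⁻¹)⁻¹ := by rw [ha]; group
          _ = p := by rw [hPinv p hp, hgt _ (inv_mem hp), inv_inv]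
      exact (mul_inv_eq_iff_eq_mul.1 h).symm
    -- a square root of `a`
    have hodd : Odd (orderOf (⟨a, haZ⟩ : Z)) := hCodd.of_dvd_nat (_root_.orderOf_dvd_natCard _)
    obtain ⟨i, hi⟩ := hodd
    set c := a ^ (i + 1) with hc
    have hcZ : c ∈ Z := pow_mem haZ _
    have hcc : c * c = a := by
      rw [hc, ← pow_add, show i + 1 + (i + 1) = orderOf (⟨a, haZ⟩ : Z) + 1 by omega, pow_succ,
        Subgroup.orderOf_mk, pow_orderOf_eq_one, one_mul]
    refine ⟨c, hcZ, Subgroup.mul_mem _ (Subgroup.inv_mem _ (hZN hcZ)) hg, mem_centralizer_singleton_iff.2 ?_⟩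
    have h1 : g * t * g⁻¹ = c * t * c⁻¹ := by
      calc g * t * g⁻¹ = a * t⁻¹ := by rw [ha, mul_inv_cancel_right]
        _ = c * (c * t) := by rw [hti, ← mul_assoc, hcc]
        _ = c * t * c⁻¹ := by
          rw [mul_assoc c t, show t * c⁻¹ = c * t from ?_]
          calc t * c⁻¹ = t * (t * c * t⁻¹) := by rw [hCinv c hcZ]
            _ = t * t * c * t⁻¹ := by group
            _ = c * t := by rw [htt, one_mul, hti]
    calc c⁻¹ * g * t = c⁻¹ * (g * t * g⁻¹) * g := by group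
      _ = t * (c⁻¹ * g) := by rw [h1]; group
  -- the part in the linear group
  obtain ⟨i, rr, w, K, U, A, T₀, a, M₀, Q, S, hQ, -⟩ := Chars.exists_sec' hJ (by omega)
  set E := normalizer (P : Set G) ⊓ K with hE
  have hEt : ∀ e ∈ E, Commute e t := fun e he => (S.comm_K e he.2).symm
  have hEfpf : ∀ e ∈ E, e ≠ 1 → ∀ x ∈ P, Commute e x → x = 1 := by
    intro e he he1 x hx hc
    by_contra hx1
    refine he1 (heq1 e ?_ (hEt e he))
    exact (hPC x hx hx1).le (mem_centralizer_singleton_iff.2 hc.eq)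
  have hEodd : ∀ e ∈ E, e * e = 1 → e = 1 := by
    intro e he hee
    by_contra he1
    have h2 := inverted_of_fixed_trivial (hCodd.of_dvd_nat (card_dvd_of_le hPZ)) hee he.1
      fun x hx hc => hEfpf e he he1 x hx hc.symm
    have hte : t * e ∈ Z := mem_centralizer_iff.2 fun p hp => by
      have h : t * e * p * (t * e)⁻¹ = p := by
        calc t * e * p * (t * e)⁻¹ = t * (e * p * e⁻¹) * t⁻¹ := by group
          _ = p := by rw [h2 p hp, hPinv _ (inv_mem hp), inv_inv]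
      exact (mul_inv_eq_iff_eq_mul.1 h).symm
    have := heq1 _ hte ((Commute.refl t).mul_left (hEt e he))
    exact S.t_not_mem (by rw [eq_inv_of_mul_eq_one_left this]; exact inv_mem he.2)
  have hEcard : Odd (Nat.card E) := by
    rw [← Nat.not_even_iff_odd, even_iff_two_dvd]
    intro h2
    haveI : Fact (Nat.Prime 2) := ⟨Nat.prime_two⟩
    obtain ⟨e, he⟩ := exists_prime_orderOf_dvd_card' (G := E) 2 h2
    have hee : (e : G) * e = 1 := by
      rw [← pow_two, ← he]; exact_mod_cast congrArg Subtype.val (pow_orderOf_eq_one e)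
    rw [show e = 1 from Subtype.ext (hEodd e e.2 hee), orderOf_one] at he
    omega
  have hEthree : ∀ e ∈ E, ∀ r : ℕ, r.Prime → r ∣ orderOf e → r = 3 := by
    intro e he r hr hre
    set d := e ^ (orderOf e / r)
    have hd : orderOf d = r := orderOf_pow_orderOf_div (orderOf_pos e).ne' hre
    have hdE : d ∈ E := pow_mem he _
    have hd1 : d ≠ 1 := fun e' => hr.ne_one (by rw [← hd, e', orderOf_one])
    haveI := Fact.mk hr
    have hdr : d ^ r = 1 := hd ▸ pow_orderOf_eq_one d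
    have hrC : r ∣ Nat.card (centralizer ({t} : Set G)) :=
      hd ▸ Subgroup.orderOf_dvd_natCard _ (mem_centralizer_singleton_iff.2 (hEt d hdE).eq)
    have hr2 : r ≠ 2 := by
      rintro rfl
      exact (Nat.not_even_iff_odd.2 (hEcard.of_dvd_nat (hd ▸ Subgroup.orderOf_dvd_natCard E hdE))) even_two
    -- fixed-point-free on `Z`
    have hfix : ∀ x ∈ Z, Commute d x → x = 1 := by
      intro x hx hdx
      by_contra hx1
      obtain ⟨ρ, hρ, hρx⟩ := Nat.exists_prime_and_dvd (n := orderOf x) fun e' => hx1 (orderOf_eq_one_iff.1 e')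
      have hρT : (ρ : ℤ) ∣ ((3 : ℤ) ^ (2 * n + 1)) ^ 2 - (3 : ℤ) ^ (2 * n + 1) + 1 := by
        have h1 : (ρ : ℤ) ∣ (T : ℤ) :=
          Int.natCast_dvd_natCast.2 (hCcard ▸ hρx.trans (Subgroup.orderOf_dvd_natCard Z hx))
        have e : ((3 : ℤ) ^ (2 * n + 1)) ^ 2 - (3 : ℤ) ^ (2 * n + 1) + 1 =
            ((q : ℤ) + 1 - 3 * m) * (T : ℤ) := by
          rw [hT, show (3 : ℤ) ^ (2 * n + 1) = (q : ℤ) by rw [hq]; push_cast; rfl]
          linear_combination (-3 : ℤ) * hq3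
        exact e ▸ h1.mul_left _
      have hρC : ¬ ρ ∣ Nat.card (centralizer ({t} : Set G)) := by
        rw [R.card_cent]; exact (prime_facts_torus (by omega) hρ hρT).2
      refine not_dvd_card_cent_odd hJ hn hF hρ hρC (hEt d hdE) (hd ▸ hr.odd_of_ne_two hr2) hd1 ?_
      exact hρx.trans (Subgroup.orderOf_dvd_natCard _ (mem_centralizer_singleton_iff.2 hdx.symm.eq))
    have hdvd : (r : ℤ) ∣ (T : ℤ) - 1 := by
      have hmem : ∀ (g : zpowers d) (x : Z), (g : G) * x * (g : G)⁻¹ ∈ Z := fun g x =>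
        hZn g (zpowers_le.2 hdE.1 g.2) x x.2
      letI : MulAction (zpowers d) Z :=
        { smul := fun g x => ⟨(g : G) * x * (g : G)⁻¹, hmem g x⟩
          one_smul := fun x => Subtype.ext (by show (1 : G) * x * (1 : G)⁻¹ = x; group)
          mul_smul := fun g g' x => Subtype.ext (by
            show (g : G) * g' * x * ((g : G) * g')⁻¹ = g * (g' * x * (g' : G)⁻¹) * (g : G)⁻¹; group) }
      have hp : IsPGroup r (zpowers d) :=
        IsPGroup.of_card (n := 1) (by rw [Nat.card_zpowers, hd, pow_one])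
      have h := hp.card_modEq_card_fixedPoints (α := Z)
      have hfp : Nat.card (MulAction.fixedPoints (zpowers d) Z) = 1 := by
        rw [Nat.card_eq_one_iff_unique]
        refine ⟨⟨fun x z => ?_⟩, ⟨⟨1, fun g => Subtype.ext (by show (g : G) * 1 * (g : G)⁻¹ = 1; group)⟩⟩⟩
        have h1 : ∀ u : MulAction.fixedPoints (zpowers d) Z, ((u : Z) : G) = 1 := fun u =>
          hfix _ u.1.2 (mul_inv_eq_iff_eq_mul.1 (congrArg Subtype.val (u.2 ⟨d, mem_zpowers d⟩)))
        exact Subtype.ext (Subtype.ext ((h1 x).trans (h1 z).symm))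
      rw [hfp, hCcard] at h
      exact_mod_cast (Nat.modEq_iff_dvd.1 h.symm)
    refine eq_three_of_dvd hr hr2 hq3 ?_ ?_ fun h => (Nat.prime_dvd_prime_iff_eq hr Nat.prime_three).1
      (hr.dvd_of_dvd_pow (Int.natCast_dvd_natCast.1 (hq ▸ h)))
    · rwa [hT, show (q : ℤ) + 1 + 3 * m - 1 = q + 3 * m by ring] at hdvd
    · have h1 : (r : ℤ) ∣ ((q * (q ^ 2 - 1) : ℕ) : ℤ) := Int.natCast_dvd_natCast.2 (R.card_cent ▸ hrC)
      rwa [Nat.cast_mul, Nat.cast_sub (Nat.one_le_pow _ _ (by omega)), Nat.cast_pow, Nat.cast_one] at h1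
  have hEp : IsPGroup 3 E := fun e => by
    refine ⟨(orderOf (e : G)).primeFactorsList.length, Subtype.ext ?_⟩
    have h0 : orderOf (e : G) = 3 ^ (orderOf (e : G)).primeFactorsList.length :=
      Nat.eq_prime_pow_of_unique_prime_dvd (orderOf_pos _).ne' fun {d} hd hde => hEthree e e.2 d hd hde
    rw [SubmonoidClass.coe_pow, coe_one, ← h0, pow_orderOf_eq_one]
  have hEcube : ∀ e ∈ E, e ^ 3 = 1 := fun e he => by
    obtain ⟨j, hj⟩ := hEp ⟨e, he⟩
    exact pow_three_eq_one hJ hF (hEt e he) (j := j) (by simpa using congrArg Subtype.val hj)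
  -- `E` is not trivial
  have hEne : E ≠ ⊥ := by
    intro hbot
    have hM : ∀ c ∈ M, c = 1 ∨ c = t := by
      rintro c ⟨hc1, hc2⟩
      rcases S.cases c (mem_centralizer_singleton_iff.1 hc2) with h | h
      · exact Or.inl (mem_bot.1 (hbot.le (⟨hc1, h⟩ : c ∈ E)))
      · refine Or.inr ?_
        have h1 : t * c = 1 := mem_bot.1 (hbot.le (⟨Subgroup.mul_mem _ htN hc1, h⟩ : t * c ∈ E))
        rw [eq_inv_of_mul_eq_one_right h1, hti]
    have hNeq : normalizer (P : Set G) = Z ⊔ zpowers t := by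
      refine le_antisymm (fun g hg => ?_) (sup_le hZN (zpowers_le.2 htN))
      obtain ⟨c, hc, hcM⟩ := hdec g hg
      rw [show g = c * (c⁻¹ * g) by group]
      refine mul_mem (mem_sup_left hc) (mem_sup_right ?_)
      rcases hM _ hcM with e | e <;> rw [e]
      exacts [one_mem _, mem_zpowers t]
    have hNcard : Nat.card (normalizer (P : Set G)) = T * 2 := by
      have h := PLocal.card_sup_mul_card_inf (H := Z) (K := zpowers t)
        (zpowers_le.2 (Coprime.mem_normalizer_of_forall fun x hx => by rw [hCinv x hx]; exact inv_mem hx))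
      have hinf : Z ⊓ zpowers t = ⊥ := le_bot_iff.1 fun x hx => by
        obtain ⟨j, hj⟩ := mem_zpowers_iff.1 hx.2
        exact heq1 x hx.1 (hj ▸ (Commute.refl t).zpow_left j)
      rw [hinf, card_bot, mul_one, hCcard, Nat.card_zpowers, hJ.invol, ← hNeq] at h
      exact h
    have hsyl : ((normalizer (P : Set G)).index : ZMod s) = 1 := by
      have h := card_sylow_modEq_one s G
      rw [(hPp.toSylow hPi).card_eq_index_normalizer] at h
      change (normalizer (P : Set G)).index ≡ 1 [MOD s] at h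
      have h' := (ZMod.natCast_eq_natCast_iff _ _ s).2 h
      rwa [Nat.cast_one] at h'
    have hidx : ((normalizer (P : Set G)).index : ℤ) * 2 =
        (q : ℤ) ^ 3 * ((q : ℤ) + 1) * ((q : ℤ) + 1 - 3 * m) * ((q : ℤ) - 1) := by
      have h := (normalizer (P : Set G)).card_mul_index
      rw [hNcard] at h
      have h' : ((Nat.card G : ℕ) : ℤ) = (T : ℤ) * 2 * ((normalizer (P : Set G)).index : ℤ) := by
        rw [← h]; push_cast; ring
      rw [hG] at h'
      refine mul_left_cancel₀ (show (T : ℤ) ≠ 0 by rw [hT]; omega) ?_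
      linear_combination -h'
    have hx := congrArg (fun z : ℤ => (z : ZMod s)) hidx
    push_cast at hx
    rw [hsyl] at hx
    have hT0 := (ZMod.intCast_zmod_eq_zero_iff_dvd _ s).2 hdT
    have hN0 := (ZMod.intCast_zmod_eq_zero_iff_dvd _ s).2 hsd
    have hq3' := congrArg (fun z : ℤ => (z : ZMod s)) hq3
    push_cast at hT0 hN0 hq3'
    have hqc : (q : ZMod s) = (3 : ZMod s) ^ (2 * n + 1) := by rw [hq]; push_cast; rfl
    rw [← hqc] at hN0
    set x : ZMod s := (q : ZMod s)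
    set μ : ZMod s := (m : ZMod s)
    have e1 : x + 1 = -(3 * μ) := by linear_combination hT0
    have e2 : x + 1 - 3 * μ = -(6 * μ) := by linear_combination hT0
    have e3 : x ^ 3 = -1 := by linear_combination (x + 1) * hN0
    rw [e2, e1, e3] at hx
    have h4 : ((4 : ℕ) : ZMod s) = 0 := by
      push_cast
      linear_combination hx.symm + 6 * hN0 + (-(6 * (x - 1))) * hq3'
    have h2 := hs.dvd_of_dvd_pow (show s ∣ 2 ^ 2 from (ZMod.natCast_eq_zero_iff 4 s).1 h4)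
    exact absurd (Nat.le_of_dvd two_pos h2) (by omega)
  haveI : Fact (Nat.Prime 3) := ⟨Nat.prime_three⟩
  obtain ⟨e₀, he₀, he₀1⟩ := E.bot_or_exists_ne_one.resolve_left hEne
  haveI : Nontrivial E := (nontrivial_iff_exists_ne_one _).2 ⟨e₀, he₀, he₀1⟩
  haveI := hEp.center_nontrivial
  obtain ⟨⟨y, hy⟩, hy1⟩ := exists_ne (1 : center E)
  have hy1' : (y : G) ≠ 1 := fun e => hy1 (Subtype.ext (Subtype.ext e))
  have hall : ∀ e ∈ E, ∃ j : ℕ, e = (y : G) ^ j := by
    intro e he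
    by_contra hne
    rw [not_exists] at hne
    have hye : Commute (y : G) e := (congrArg Subtype.val ((mem_center_iff.1 hy) ⟨e, he⟩)).symm
    refine false_of_nine hPc hs (by omega) hPp hPne hye (hEcube _ y.2) (hEcube e he) ?_
    intro g hg
    have hgE : g ∈ E := by
      rcases hg with rfl | rfl | rfl | rfl
      exacts [y.2, he, Subgroup.mul_mem _ y.2 he, Subgroup.mul_mem _ y.2 (pow_mem he 2)]
    refine ⟨hgE.1, hEfpf g hgE ?_⟩
    rintro rfl
    have he3 := hEcube e he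
    rcases hg with h | h | h | h
    · exact hy1' h.symm
    · exact hne 0 (by rw [pow_zero, ← h])
    · refine hne 2 ?_
      rw [eq_inv_of_mul_eq_one_right h.symm]
      exact inv_eq_of_mul_eq_one_right (by rw [← pow_succ', hEcube _ y.2])
    · refine hne 1 ?_
      have h2 : e ^ 2 = e⁻¹ := eq_inv_of_mul_eq_one_left (by rw [← pow_succ]; exact he3)
      rw [h2] at h
      rw [pow_one]
      exact (mul_inv_eq_one.1 h.symm).symm
  have hMcases : ∀ c : G, Commute c t → c ∈ normalizer (P : Set G) →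
      ∃ j : ℕ, c = (y : G) ^ j ∨ c = t * (y : G) ^ j := by
    intro c hct hcN
    rcases S.cases c hct with h | h
    · obtain ⟨j, hj⟩ := hall c ⟨hcN, h⟩
      exact ⟨j, Or.inl hj⟩
    · obtain ⟨j, hj⟩ := hall (t * c) ⟨mul_mem htN hcN, h⟩
      exact ⟨j, Or.inr (by rw [← hj, ← mul_assoc, htt, one_mul])⟩
  -- the scalar
  obtain ⟨H, P₀, D₀, w₀, X⟩ := TwoTrans.exists_point_of_order hJ hF (Chars.orderTarget G t F hJ n hn hF)
  have B := X.borelTwo
  have hfree : ∀ a ∈ P, ∀ x : G ⧸ H, a • x = x → a = 1 := by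
    intro a ha x hax
    by_contra ha1
    refine B.smul_ne ha1 ?_ x hax
    obtain ⟨j, hj⟩ := hPp ⟨a, ha⟩
    obtain ⟨i', -, hi'⟩ := (Nat.dvd_prime_pow hs).1 (orderOf_dvd_of_pow_eq_one
      (by simpa using congrArg Subtype.val hj : a ^ s ^ j = 1))
    rw [hi']
    refine Nat.Coprime.pow_left i' (hs.coprime_iff_not_dvd.2 fun h => hsq ?_)
    rcases hs.dvd_mul.1 h with h' | h'
    · exact dvd_mul_of_dvd_left (hs.dvd_of_dvd_pow h') _
    · refine dvd_mul_of_dvd_right (h'.trans ?_) _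
      rw [show q ^ 2 - 1 = (q + 1) * (q - 1) by simpa using Nat.sq_sub_sq q 1]
      exact dvd_mul_left _ _
  obtain ⟨ω, hω1, hω2, hω3⟩ := exists_scalar_of_twoGraph (Ω := G ⧸ H) (f := 2 * n + 1) (by omega)
    B.two_transitive B.card_quot htt B.card_fixed_t hs hs5 hsd hPp hPc hfree
    (fun g hg a ha hga => by
      by_contra ha1
      exact hg (inv_mem_iff.1 (hTI g⁻¹ a ha ha1 (by rwa [inv_inv]))))
    (fun h => hPi (h.trans (relIndex_dvd_index_of_le fun x hx => Subgroup.le_normalizer hx)))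
    (y := (y : G)) y.2.1
    (fun x _ => by rw [hEcube _ y.2, one_mul, inv_one, mul_one])
    (fun x hx hc => hEfpf _ y.2 hy1' x hx hc)
    (fun g hg => by
      obtain ⟨c, hc, hcM⟩ := hdec g hg
      obtain ⟨j, hj⟩ := hMcases _ (mem_centralizer_singleton_iff.1 hcM.2) hcM.1
      refine ⟨j, ?_⟩
      have hc' : ∀ x ∈ P, c * x * c⁻¹ = x := fun x hx => by
        rw [← mem_centralizer_iff.1 hc x hx, mul_inv_cancel_right]
      have hyj : ∀ x ∈ P, (y : G) ^ j * x * ((y : G) ^ j)⁻¹ ∈ P := fun x hx =>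
        (mem_normalizer_iff.1 (pow_mem y.2.1 j) x).1 hx
      rcases hj with e | e
      · refine Or.inl fun x hx => ?_
        rw [show g = c * (y : G) ^ j by rw [← e]; group]
        calc c * (y : G) ^ j * x * (c * (y : G) ^ j)⁻¹
            = c * ((y : G) ^ j * x * ((y : G) ^ j)⁻¹) * c⁻¹ := by group
          _ = _ := hc' _ (hyj x hx)
      · refine Or.inr fun x hx => ?_
        rw [show g = c * (t * (y : G) ^ j) by rw [← e]; group]
        calc c * (t * (y : G) ^ j) * x * (c * (t * (y : G) ^ j))⁻¹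
            = c * (t * ((y : G) ^ j * x * ((y : G) ^ j)⁻¹) * t⁻¹) * c⁻¹ := by group
          _ = _ := by rw [hPinv _ (hyj x hx)]; exact hc' _ (inv_mem (hyj x hx)))
  exact ⟨y, P, ω,
    { pgroup := hPp, ne := hPne, index := hPi, inv := hPinv, comm := hPc, y_cube := hEcube _ y.2,
      y_cent := hEt _ y.2, omega := hω3, omega_cube := hω2, omega_root := hω1, ti := hTI,
      cent_norm := hMcases }⟩

end Cfsg.Agent.AbelianSylow.Field
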