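import Cfsg.Agent.Lib.AbelianSylow.Chars.Main
import Cfsg.Agent.Lib.AbelianSylow.TwoTrans.Ree
import Cfsg.Agent.Lib.AbelianSylow.Cent.FieldLocal
import Cfsg.Agent.Lib.Coprime.Invariant

/-!
# No field automorphism, case (B): centralisers of odd elements of `C(t)` (owner: helper4; `FIELD_B.md` step 3)

* `prime_facts_torus`     : a prime divisor of `q² - q + 1` is at least five and prime to `q (q² - 1)`
* `not_dvd_cent_of_four`  : a four-group argument
* `not_dvd_card_cent_odd` : for odd `c ≠ 1` in `C(t)` every prime divisor of `|C(c)|` divides `q (q² - 1)`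
* `InvData`               : what step 3 uses; `InvData.cent_facts` : `C(k)` is abelian, odd, inverted, of order `T`
-/

set_option autoImplicit false
set_option linter.unusedSectionVars false
set_option linter.style.haveILetI false

namespace Cfsg.Agent.AbelianSylow.Field

open Subgroup

universe u

/-- Primes dividing `q² - q + 1`, `q` a power of three. -/
theorem prime_facts_torus {ρ n : ℕ} (hn : 1 ≤ n) (hρ : ρ.Prime)
    (h : (ρ : ℤ) ∣ ((3 : ℤ) ^ n) ^ 2 - (3 : ℤ) ^ n + 1) :
    5 ≤ ρ ∧ ¬ ρ ∣ 3 ^ n * ((3 ^ n) ^ 2 - 1) := by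
  haveI := Fact.mk hρ
  have hx := (ZMod.intCast_zmod_eq_zero_iff_dvd _ ρ).2 h
  push_cast at hx
  set x : ZMod ρ := (3 : ZMod ρ) ^ n with hxdef
  have hρ2 : ρ ≠ 2 := by
    rintro rfl
    have h1 : x = 1 := by rw [hxdef, show (3 : ZMod 2) = 1 from rfl, one_pow]
    rw [h1] at hx
    simp at hx
  have hρ3 : ρ ≠ 3 := by
    rintro rfl
    have h0 : x = 0 := by rw [hxdef, show (3 : ZMod 3) = 0 from rfl, zero_pow (by omega)]
    rw [h0] at hx
    simp at hx
  have h5 : 5 ≤ ρ := by
    have h2 := hρ.two_le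
    have h4 : ρ ≠ 4 := by rintro rfl; norm_num at hρ
    omega
  refine ⟨h5, fun hd => ?_⟩
  have h1 : (1 : ℕ) ≤ (3 ^ n) ^ 2 := Nat.one_le_pow _ _ (pow_pos three_pos n)
  have e := (ZMod.natCast_eq_zero_iff _ ρ).2 hd
  push_cast [h1] at e
  rw [← hxdef] at e
  have h3 : (3 : ZMod ρ) ≠ 0 := fun e3 => hρ3 ((Nat.prime_dvd_prime_iff_eq hρ Nat.prime_three).1
    ((ZMod.natCast_eq_zero_iff 3 ρ).1 (by exact_mod_cast e3)))
  rcases mul_eq_zero.1 e with h' | h'
  · exact pow_ne_zero n h3 h'
  · rcases mul_eq_zero.1 (show (x - 1) * (x + 1) = 0 by linear_combination h') with h'' | h''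
    · exact one_ne_zero (show (1 : ZMod ρ) = 0 by linear_combination hx - x * h'')
    · exact h3 (show (3 : ZMod ρ) = 0 by linear_combination hx - (x - 2) * h'')

variable {G : Type u} [Group G] [Finite G]

/-- An element in a subgroup whose order is prime to `ρ` has order prime to `ρ`. -/
theorem not_dvd_orderOf_of_mem {H : Subgroup G} {x : G} {ρ : ℕ} (hx : x ∈ H) (h : ¬ ρ ∣ Nat.card H) :
    ¬ ρ ∣ orderOf x :=
  fun h' => h (h'.trans (Subgroup.orderOf_dvd_natCard H hx))

/-- A non-trivial element of `ρ`-power order has order divisible by `ρ`. -/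
theorem dvd_orderOf_of_pow {ρ : ℕ} (hρ : ρ.Prime) {x : G} {k : ℕ} (h : x ^ ρ ^ k = 1) (hx : x ≠ 1) :
    ρ ∣ orderOf x := by
  obtain ⟨j, -, hj⟩ := (Nat.dvd_prime_pow hρ).1 (orderOf_dvd_of_pow_eq_one h)
  rcases Nat.eq_zero_or_pos j with rfl | h0
  · exact absurd (orderOf_eq_one_iff.1 (by rw [hj, pow_zero])) hx
  · exact hj ▸ dvd_pow_self ρ h0.ne'

/-- The four-group argument. -/
theorem not_dvd_cent_of_four {t v c : G} {ρ : ℕ} (hρ : ρ.Prime) (ht : orderOf t = 2) (hv : orderOf v = 2)
    (htv : orderOf (t * v) = 2) (hct : Commute c t) (hcv : v * c * v⁻¹ = c ∨ v * c * v⁻¹ = c⁻¹)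
    (hf : ∀ u : G, orderOf u = 2 → ¬ ρ ∣ Nat.card (centralizer ({u} : Set G)))
    (h4 : ¬ 4 ∣ Nat.card (centralizer ({c} : Set G))) : ¬ ρ ∣ Nat.card (centralizer ({c} : Set G)) := by
  classical
  haveI : Fact (Nat.Prime 2) := ⟨Nat.prime_two⟩
  intro hd
  set C := centralizer ({c} : Set G)
  have hρ2 : ρ ≠ 2 := fun e => hf t ht (by
    rw [e, ← ht]; exact Subgroup.orderOf_dvd_natCard _ (mem_centralizer_singleton_iff.2 rfl))
  have htt : t * t = 1 := by rw [← pow_two, ← ht]; exact pow_orderOf_eq_one t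
  have hvv : v * v = 1 := by rw [← pow_two, ← hv]; exact pow_orderOf_eq_one v
  have htC : t ∈ C := mem_centralizer_singleton_iff.2 hct.symm.eq
  obtain ⟨Q⟩ : Nonempty (Sylow 2 C) := inferInstance
  have hQ : Nat.card (Q : Subgroup C) = 2 := by
    obtain ⟨k, hk⟩ := IsPGroup.iff_card.1 Q.2
    have h2 : 2 ∣ Nat.card C := ht ▸ Subgroup.orderOf_dvd_natCard C htC
    have h1 : 2 ^ 1 ∣ Nat.card (Q : Subgroup C) := Q.pow_dvd_card_of_pow_dvd_card (by simpa using h2)
    have hk1 : k ≤ 1 := by
      by_contra hk'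
      exact h4 (dvd_trans ((pow_dvd_pow 2 (show 2 ≤ k by omega)).trans (dvd_of_eq hk.symm))
        (Subgroup.card_subgroup_dvd_card _))
    have := Nat.le_of_dvd Nat.card_pos h1
    interval_cases k <;> omega
  have hle : normalizer ((Q : Subgroup C) : Set C) ≤ centralizer ((Q : Subgroup C) : Set C) := by
    intro n hn
    rw [mem_centralizer_iff]
    intro z hz
    by_cases hz1 : z = 1
    · subst hz1; rw [one_mul, mul_one]
    have hnz : n * z * n⁻¹ ∈ (Q : Subgroup C) := (mem_normalizer_iff.1 hn z).1 hz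
    obtain ⟨a, b, hab, huniv⟩ := Nat.card_eq_two_iff.1 hQ
    have hcases : ∀ w : (Q : Subgroup C), w = a ∨ w = b := fun w => by
      have : w ∈ ({a, b} : Set _) := huniv ▸ Set.mem_univ w
      simpa using this
    have h1 : (⟨n * z * n⁻¹, hnz⟩ : (Q : Subgroup C)) ≠ 1 := fun e => hz1 (conj_eq_one_iff.1 (congrArg Subtype.val e))
    have h2 : (⟨z, hz⟩ : (Q : Subgroup C)) ≠ 1 := fun e => hz1 (congrArg Subtype.val e)
    have h3 : (⟨n * z * n⁻¹, hnz⟩ : (Q : Subgroup C)) = ⟨z, hz⟩ := by
      rcases hcases 1 with e1 | e1 <;> rcases hcases ⟨n * z * n⁻¹, hnz⟩ with e2 | e2 <;>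
        rcases hcases ⟨z, hz⟩ with e3 | e3 <;>
        first
          | exact e2.trans e3.symm
          | exact absurd (e2.trans e1.symm) h1
          | exact absurd (e3.trans e1.symm) h2
    exact (mul_inv_eq_iff_eq_mul.1 (congrArg Subtype.val h3)).symm
  have hcomp := (MonoidHom.ker_transferSylow_isComplement' Q hle).card_mul_card
  set W := (MonoidHom.transferSylow Q hle).ker
  have hWodd : Odd (Nat.card W) :=
    Nat.odd_iff.2 (Nat.two_dvd_ne_zero.1 (MonoidHom.not_dvd_card_ker_transferSylow Q hle))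
  haveI hWn : W.Normal := MonoidHom.normal_ker _
  have hmem : ∀ x : C, Odd (orderOf x) → x ∈ W := by
    intro x hx
    have h1 : orderOf (MonoidHom.transferSylow Q hle x) ∣ 2 :=
      (_root_.orderOf_dvd_natCard _).trans (dvd_of_eq hQ)
    exact orderOf_eq_one_iff.1 (Nat.eq_one_of_dvd_coprimes (Nat.coprime_two_left.2 hx) h1 (orderOf_map_dvd _ x))
  set W' := W.map C.subtype
  have hcW : Nat.card W' = Nat.card W := card_map_of_injective C.subtype_injective
  have hnorm : ∀ u : G, u * c * u⁻¹ = c ∨ u * c * u⁻¹ = c⁻¹ → u ∈ normalizer (W' : Set G) := by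
    intro u hu
    refine Coprime.mem_normalizer_of_forall fun x hx => ?_
    obtain ⟨x₀, hx₀, rfl⟩ := hx
    have hC : u * (x₀ : G) * u⁻¹ ∈ C := by
      have hxc : Commute (x₀ : G) c := mem_centralizer_singleton_iff.1 x₀.2
      refine mem_centralizer_singleton_iff.2 (show Commute (u * (x₀ : G) * u⁻¹) c from ?_).eq
      have h' : Commute (u * (x₀ : G) * u⁻¹) (u * c * u⁻¹) := hxc.map (MulAut.conj u)
      rcases hu with e | e <;> rw [e] at h'
      · exact h'
      · simpa using h'.inv_right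
    refine ⟨⟨_, hC⟩, hmem _ ?_, rfl⟩
    have e1 : orderOf (⟨u * (x₀ : G) * u⁻¹, hC⟩ : C) = orderOf (⟨x₀, hx₀⟩ : W) := by
      rw [Subgroup.orderOf_mk, show u * (x₀ : G) * u⁻¹ = MulAut.conj u (x₀ : G) from rfl,
        MulEquiv.orderOf_eq]
      exact (Subgroup.orderOf_coe x₀).trans (Subgroup.orderOf_mk x₀ hx₀).symm
    rw [e1]
    exact hWodd.of_dvd_nat (_root_.orderOf_dvd_natCard _)
  set A := zpowers t ⊔ zpowers v
  have hA : A ≤ normalizer (W' : Set G) := sup_le
    (zpowers_le.2 (hnorm t (Or.inl (by rw [hct.symm.eq, mul_inv_cancel_right]))))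
    (zpowers_le.2 (hnorm v hcv))
  have htvc : Commute t v := by
    have h1 : t * v * (t * v) = 1 := by rw [← pow_two, ← htv]; exact pow_orderOf_eq_one _
    calc t * v = (t * v)⁻¹ := (inv_eq_of_mul_eq_one_right h1).symm
      _ = v * t := by
        rw [mul_inv_rev, inv_eq_of_mul_eq_one_right hvv, inv_eq_of_mul_eq_one_right htt]
  have hA4 : Nat.card A ∣ 4 := by
    have h := PLocal.card_sup_mul_card_inf (H := zpowers t) (K := zpowers v) (zpowers_le.2
      (Coprime.mem_normalizer_of_forall fun x hx => by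
        obtain ⟨j, rfl⟩ := mem_zpowers_iff.1 hx
        rw [(htvc.zpow_left j).symm.eq, mul_inv_cancel_right]; exact hx))
    rw [Nat.card_zpowers, Nat.card_zpowers, ht, hv] at h
    exact Dvd.intro _ h
  have hcop : (Nat.card A).Coprime (Nat.card W') := by
    rw [hcW]
    exact (Nat.Coprime.pow_left 2 (Nat.coprime_two_left.2 hWodd)).coprime_dvd_left hA4
  haveI := Fact.mk hρ
  obtain ⟨S, hS⟩ := Coprime.exists_invariant_sylow hA hcop
    (Or.inr (OddOrderTheorem.solvable (hcW ▸ hWodd))) ρ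
  have hρW : ρ ∣ Nat.card W' := by
    rw [← hcomp, hQ] at hd
    rw [hcW]
    exact (hρ.dvd_mul.1 hd).resolve_right fun e => hρ2 ((Nat.prime_dvd_prime_iff_eq hρ Nat.prime_two).1 e)
  set S' := (S : Subgroup W').map W'.subtype
  have hne : S' ≠ ⊥ := by
    intro e
    obtain ⟨k, hk⟩ := IsPGroup.iff_card.1 S.2
    have h1 : Nat.card S' = 1 := by rw [e, card_bot]
    rw [card_map_of_injective W'.subtype_injective] at h1
    have := S.pow_dvd_card_of_pow_dvd_card (n := 1) (by simpa using hρW)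
    rw [h1, pow_one] at this
    exact hρ.not_dvd_one this
  have hS'p : IsPGroup ρ S' := S.2.map _
  have hS'odd : Odd (Nat.card S') :=
    (hcW ▸ hWodd).of_dvd_nat (card_dvd_of_le (map_subtype_le _))
  have hfpf : ∀ u : G, orderOf u = 2 → ∀ x ∈ S', Commute x u → x = 1 := by
    intro u hu x hx hxu
    by_contra hx1
    obtain ⟨k, hk⟩ := hS'p ⟨x, hx⟩
    exact not_dvd_orderOf_of_mem (mem_centralizer_singleton_iff.2 hxu.eq) (hf u hu)
      (dvd_orderOf_of_pow hρ (by simpa using congrArg Subtype.val hk) hx1)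
  have h1 := inverted_of_fixed_trivial hS'odd htt (hS (mem_sup_left (mem_zpowers t))) (hfpf t ht)
  have h2 := inverted_of_fixed_trivial hS'odd hvv (hS (mem_sup_right (mem_zpowers v))) (hfpf v hv)
  obtain ⟨x, hx, hx1⟩ := S'.bot_or_exists_ne_one.resolve_left hne
  refine hx1 (hfpf (t * v) htv x hx ?_)
  refine (mul_inv_eq_iff_eq_mul.1 ?_).symm
  calc t * v * x * (t * v)⁻¹ = t * (v * x * v⁻¹) * t⁻¹ := by group
    _ = x := by rw [h2 x hx, show t * x⁻¹ * t⁻¹ = (t * x * t⁻¹)⁻¹ by group, h1 x hx, inv_inv]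

/-- An element of prime power order of a group is conjugate into a subgroup of index prime to the prime. -/
theorem exists_conj_mem_of_index {K : Subgroup G} {X : Subgroup G} (_hXK : X ≤ K) {r : ℕ} (hr : r.Prime)
    (hidx : ¬ r ∣ X.relIndex K) {c : G} (hc : c ∈ K) {j : ℕ} (hord : c ^ r ^ j = 1) :
    ∃ k ∈ K, k * c * k⁻¹ ∈ X := by
  classical
  haveI := Fact.mk hr
  obtain ⟨R⟩ : Nonempty (Sylow r ↥(X.subgroupOf K)) := inferInstance
  set R' := (R : Subgroup ↥(X.subgroupOf K)).map (X.subgroupOf K).subtype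
  have hidx' : ¬ r ∣ R'.index := by
    have h := Subgroup.relIndex_mul_index (map_subtype_le _ : R' ≤ X.subgroupOf K)
    have e : R'.relIndex (X.subgroupOf K) = (R : Subgroup ↥(X.subgroupOf K)).index := by
      rw [relIndex]
      exact congrArg index (comap_map_eq_self_of_injective (X.subgroupOf K).subtype_injective _)
    rw [← h, e]
    exact fun hd => (hr.dvd_mul.1 hd).elim R.not_dvd_index hidx
  set R₁ := (R.2.map (X.subgroupOf K).subtype).toSylow hidx'
  obtain ⟨Rc, hRc⟩ := (IsPGroup.of_card (G := zpowers (⟨c, hc⟩ : K)) (p := r)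
    (n := ((Nat.dvd_prime_pow hr).1 (orderOf_dvd_of_pow_eq_one hord)).choose) (by
      rw [Nat.card_zpowers, Subgroup.orderOf_mk]
      exact ((Nat.dvd_prime_pow hr).1 (orderOf_dvd_of_pow_eq_one hord)).choose_spec.2)).exists_le_sylow
  obtain ⟨k, hk⟩ := MulAction.exists_smul_eq K Rc R₁
  refine ⟨k, k.2, ?_⟩
  have h1 : k * ⟨c, hc⟩ * k⁻¹ ∈ (R₁ : Subgroup K) := by
    rw [← hk, Sylow.coe_subgroup_smul]
    exact Subgroup.smul_mem_pointwise_smul _ (MulAut.conj k) _ (hRc (mem_zpowers _))
  have h2 : (R₁ : Subgroup K) ≤ X.subgroupOf K := by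
    rw [IsPGroup.toSylow_coe]; exact map_subtype_le _
  simpa [mem_subgroupOf] using h2 h1

/-- **Odd elements of `C(t)` centralise nothing of order prime to `q (q² - 1)`.** -/
theorem not_dvd_card_cent_odd {F : Type} [Field F] [Fintype F] {t : G} (hJ : JTData G t F) {n : ℕ}
    (hn : 1 ≤ n) (hF : Fintype.card F = 3 ^ (2 * n + 1)) {ρ : ℕ} (hρ : ρ.Prime)
    (hf : ¬ ρ ∣ Nat.card (centralizer ({t} : Set G))) {c : G} (hct : Commute c t) (hc : Odd (orderOf c))
    (hc1 : c ≠ 1) : ¬ ρ ∣ Nat.card (centralizer ({c} : Set G)) := by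
  classical
  letI := Fintype.ofFinite G
  -- reduce to prime order
  obtain ⟨r, hr, hrd⟩ := Nat.exists_prime_and_dvd (n := orderOf c) fun e => hc1 (orderOf_eq_one_iff.1 e)
  set d := c ^ (orderOf c / r)
  have hd : orderOf d = r := orderOf_pow_orderOf_div (orderOf_pos c).ne' hrd
  intro hcon
  suffices h : ¬ ρ ∣ Nat.card (centralizer ({d} : Set G)) from h (hcon.trans (card_dvd_of_le fun x hx =>
    mem_centralizer_singleton_iff.2 (((show Commute x c from mem_centralizer_singleton_iff.1 hx).pow_right _).eq)))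
  clear hcon
  have hdt : Commute d t := hct.pow_left _
  have hr2 : r ≠ 2 := by rintro rfl; exact (Nat.not_even_iff_odd.2 hc) (even_iff_two_dvd.2 hrd)
  have hrodd : Odd r := hr.odd_of_ne_two hr2
  have hd1 : d ≠ 1 := fun e => hr.ne_one (by rw [← hd, e, orderOf_one])
  have h27 : 27 ≤ Fintype.card F := by
    rw [hF]
    exact le_trans (by norm_num) (Nat.pow_le_pow_right three_pos (show 3 ≤ 2 * n + 1 by omega))
  have h8 : Fintype.card F % 8 = 3 := by rw [hF, TwoTrans.mod_eight_three_pow]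
  obtain ⟨i, rr, w, K, U, A, T, a, M, Q, S, hQ, -⟩ := Chars.exists_sec' hJ (by omega)
  have hQ' := hQ h8
  have hord := Chars.orderTarget G t F hJ n hn hF
  obtain ⟨H, P₀, D, w', X⟩ := TwoTrans.exists_point_of_order hJ hF hord
  set q := Fintype.card F with hq
  have hqX : 3 ^ (2 * n + 1) = q := hF.symm
  -- numbers
  have hq0 : 0 < q := Fintype.card_pos
  have hM : 2 * M = q - 1 := by have := S.two_M; rw [hQ'] at this; omega
  have ha : 4 * a = q + 1 := by have := S.four_a; rw [hQ'] at this; omega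
  have hK : Nat.card K = 4 * a * q * M := by
    have h1 := S.card_K
    have h2 : q ^ 2 - 1 = (q + 1) * (q - 1) := by simpa using Nat.sq_sub_sq q 1
    rw [h2, ← ha, ← hM] at h1
    have h3 : 2 * Nat.card K = 2 * (4 * a * q * M) := by rw [h1]; ring
    omega
  have hdK : d ∈ K := by
    rcases S.cases d hdt with h | h
    · exact h
    exfalso
    have htt : t * t = 1 := by rw [← pow_two, ← hJ.invol]; exact pow_orderOf_eq_one t
    have hodd : (t * d) ^ r = t := by
      rw [hdt.symm.mul_pow, ← hd, pow_orderOf_eq_one, mul_one]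
      obtain ⟨j, hj⟩ := hrodd
      rw [hd, hj, pow_succ, pow_mul, pow_two, htt, one_pow, one_mul]
    exact S.t_not_mem (hodd ▸ pow_mem h r)
  have hr3 : r ∣ q → r = 3 := fun h => by
    rw [← hqX] at h
    exact (Nat.prime_dvd_prime_iff_eq hr Nat.prime_three).1 (hr.dvd_of_dvd_pow h)
  have hrK : r ∣ 4 * a * q * M := hK ▸ hd ▸ Subgroup.orderOf_dvd_natCard K hdK
  have hr4 : ¬ r ∣ 4 := fun h => hr2 ((Nat.prime_dvd_prime_iff_eq hr Nat.prime_two).1
    (hr.dvd_of_dvd_pow (show r ∣ 2 ^ 2 by norm_num; exact h)))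
  by_cases hr3' : r = 3
  · -- unipotent: one fixed point
    subst hr3'
    haveI : Fact (Nat.Prime 3) := ⟨Nat.prime_three⟩
    have hnd : ¬ 3 ∣ (H.index * (3 ^ (2 * n + 1) - 1)) := fun h => by
      have h1 := Nat.one_le_pow (2 * n + 1) 3 three_pos
      have h2 : 3 ∣ 3 ^ (2 * n + 1) := dvd_pow_self 3 (by omega)
      rcases Nat.prime_three.dvd_mul.1 h with h' | h'
      · rw [X.index] at h'
        have : 3 ∣ (3 ^ (2 * n + 1)) ^ 3 := dvd_pow h2 three_ne_zero
        omega
      · omega
    have hidx : ¬ 3 ∣ P₀.relIndex ⊤ := by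
      rw [relIndex_top_right]
      have h1 := P₀.card_mul_index
      have h2 := H.card_mul_index
      rw [X.card_P] at h1
      rw [X.card_H, mul_assoc] at h2
      have h3 : P₀.index = (3 ^ (2 * n + 1) - 1) * H.index :=
        Nat.eq_of_mul_eq_mul_left (pow_pos (pow_pos three_pos _) 3) (h1.trans h2.symm)
      rwa [h3, mul_comm]
    obtain ⟨g, -, hg⟩ := exists_conj_mem_of_index (K := ⊤) (le_top : P₀ ≤ ⊤) Nat.prime_three hidx
      (mem_top d) (j := 1) (by rw [pow_one, ← hd]; exact pow_orderOf_eq_one d)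
    have hle : centralizer ({g * d * g⁻¹} : Set G) ≤ H := by
      intro z hz
      by_contra hzH
      refine hd1 (conj_eq_one_iff.1 (X.semireg z hzH _ hg ?_))
      rw [mul_assoc, show g * d * g⁻¹ * z = z * (g * d * g⁻¹) from
        (mem_centralizer_singleton_iff.1 hz).symm, inv_mul_cancel_left]
      exact X.P_le hg
    have hcard : Nat.card (centralizer ({d} : Set G)) ∣ Nat.card H := by
      refine dvd_trans ?_ (card_dvd_of_le hle)
      rw [← Subgroup.card_map_of_injective (K := centralizer ({d} : Set G)) (f := (MulAut.conj g).toMonoidHom)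
        (MulAut.conj g).injective]
      refine card_dvd_of_le ?_
      rintro _ ⟨x, hx, rfl⟩
      refine mem_centralizer_singleton_iff.2 ?_
      show g * x * g⁻¹ * (g * d * g⁻¹) = g * d * g⁻¹ * (g * x * g⁻¹)
      rw [conj_mul, conj_mul, mem_centralizer_singleton_iff.1 hx]
    intro hd'
    apply hf
    have h := hd'.trans hcard
    rw [X.card_H] at h
    rw [X.card_cent]
    rcases hρ.dvd_mul.1 h with h' | h'
    · exact dvd_mul_of_dvd_left (hρ.dvd_of_dvd_pow h') _
    · refine dvd_mul_of_dvd_right (h'.trans ?_) _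
      rw [show (3 ^ (2 * n + 1)) ^ 2 - 1 = (3 ^ (2 * n + 1) + 1) * (3 ^ (2 * n + 1) - 1) by
        simpa using Nat.sq_sub_sq (3 ^ (2 * n + 1)) 1]
      exact dvd_mul_left _ _
  · have hrq : ¬ r ∣ q := fun h => hr3' (hr3 h)
    have hconjcard : ∀ k : G, Nat.card (centralizer ({d} : Set G)) =
        Nat.card (centralizer ({k * d * k⁻¹} : Set G)) := fun k => by
      refine Nat.card_congr ((MulAut.conj k).toEquiv.subtypeEquiv fun x => ?_)
      rw [mem_centralizer_singleton_iff, mem_centralizer_singleton_iff]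
      show _ ↔ k * x * k⁻¹ * (k * d * k⁻¹) = k * d * k⁻¹ * (k * x * k⁻¹)
      rw [conj_mul, conj_mul]
      exact ⟨fun e => by rw [e], fun e => mul_left_cancel (mul_right_cancel e)⟩
    have hreli : ∀ (Y : Subgroup G), Y ≤ K → ∀ b, Nat.card Y = b → Y.relIndex K * b = Nat.card K := by
      intro Y hY b hb
      rw [← hb, relIndex, ← (Y.subgroupOf K).card_mul_index,
        Nat.card_congr (subgroupOfEquivOfLe hY).toEquiv, mul_comm]
    by_cases hra : r ∣ a
    · -- torus of order `(q + 1) / 4`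
      have hidx : ¬ r ∣ A.relIndex K := by
        have h := hreli A S.A_le a S.card_A
        rw [hK, show 4 * a * q * M = (4 * q * M) * a by ring] at h
        have hapos : 0 < a := S.card_A ▸ Nat.card_pos
        rw [Nat.eq_of_mul_eq_mul_right hapos h]
        intro h'
        rcases hr.dvd_mul.1 h' with h'' | h''
        · rcases hr.dvd_mul.1 h'' with e | e
          exacts [hr4 e, hrq e]
        · have h2 : r ∣ 2 := by
            have e1 : r ∣ q + 1 := ha ▸ dvd_mul_of_dvd_right hra 4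
            have e2 : r ∣ q - 1 := hM ▸ dvd_mul_of_dvd_right h'' 2
            have := Nat.dvd_sub e1 e2
            rwa [show q + 1 - (q - 1) = 2 by omega] at this
          exact hr2 ((Nat.prime_dvd_prime_iff_eq hr Nat.prime_two).1 h2)
      obtain ⟨k, hk, hkA⟩ := exists_conj_mem_of_index S.A_le hr hidx hdK (j := 1)
        (by rw [pow_one, ← hd]; exact pow_orderOf_eq_one d)
      rw [hconjcard k]
      have hle : centralizer ({k * d * k⁻¹} : Set G) ≤ centralizer ({t} : Set G) := fun x hx => by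
        refine (sup_le (sup_le (zpowers_le.2 (mem_centralizer_singleton_iff.2 rfl))
          (zpowers_le.2 (mem_centralizer_singleton_iff.2 (S.comm_K i S.i_mem).symm.eq)))
          fun y hy => mem_centralizer_singleton_iff.2 (S.comm_K y (S.A_le hy)).symm.eq :
          Chars.torH t i A ≤ centralizer ({t} : Set G)) ?_
        exact S.cent_A _ hkA (fun e => hd1 (conj_eq_one_iff.1 e)) x (mem_centralizer_singleton_iff.1 hx)
      exact fun h => hf (h.trans (card_dvd_of_le hle))
    · -- torus of order `(q - 1) / 2`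
      have hrM : r ∣ M := by
        rcases hr.dvd_mul.1 hrK with h | h
        · rcases hr.dvd_mul.1 h with h' | h'
          · rcases hr.dvd_mul.1 h' with e | e
            exacts [absurd e hr4, absurd e hra]
          · exact absurd h' hrq
        · exact h
      have hidx : ¬ r ∣ T.relIndex K := by
        have h := hreli T S.T_le M S.card_T
        rw [hK] at h
        have hMpos : 0 < M := S.card_T ▸ Nat.card_pos
        rw [Nat.eq_of_mul_eq_mul_right hMpos h]
        intro h'
        rcases hr.dvd_mul.1 h' with h'' | h''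
        · rcases hr.dvd_mul.1 h'' with e | e
          exacts [hr4 e, hra e]
        · exact hrq h''
      obtain ⟨k, hk, hkT⟩ := exists_conj_mem_of_index S.T_le hr hidx hdK (j := 1)
        (by rw [pow_one, ← hd]; exact pow_orderOf_eq_one d)
      rw [hconjcard k]
      have hd1' : k * d * k⁻¹ ≠ 1 := fun e => hd1 (conj_eq_one_iff.1 e)
      obtain ⟨v, hvK, hvv, hvT, hvinv⟩ := S.T_inv
      have hv1 : v ≠ 1 := fun e => hvT (e ▸ one_mem T)
      have hv : orderOf v = 2 := orderOf_eq_prime (by rw [pow_two]; exact hvv) hv1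
      have htt : t * t = 1 := by rw [← pow_two, ← hJ.invol]; exact pow_orderOf_eq_one t
      have htv : orderOf (t * v) = 2 := by
        refine orderOf_eq_prime ?_ fun e => S.t_not_mem ?_
        · rw [pow_two, (S.comm_K v hvK).symm.mul_mul_mul_comm, htt, hvv, mul_one]
        · rw [eq_inv_of_mul_eq_one_left e]; exact inv_mem hvK
      have hTodd : Odd M := by rw [Nat.odd_iff]; omega
      refine not_dvd_cent_of_four hρ hJ.invol hv htv (S.comm_K _ (S.T_le hkT)).symm (Or.inr (hvinv _ hkT))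
        (fun u hu => ?_) ?_
      · have hfac : Nat.card (centralizer ({u} : Set G)) = Nat.card (centralizer ({t} : Set G)) := by
          obtain ⟨g, hg⟩ := _root_.isConj_iff.1 (S.one_class u hu)
          refine (Nat.card_congr ((MulAut.conj g).toEquiv.subtypeEquiv fun x => ?_)).symm
          rw [mem_centralizer_singleton_iff, mem_centralizer_singleton_iff]
          show _ ↔ g * x * g⁻¹ * u = u * (g * x * g⁻¹)
          rw [← hg, conj_mul, conj_mul]
          exact ⟨fun e => by rw [e], fun e => mul_left_cancel (mul_right_cancel e)⟩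
        rwa [hfac]
      · -- Sylow two-subgroups of order two
        intro h4
        haveI : Fact (Nat.Prime 2) := ⟨Nat.prime_two⟩
        set C := centralizer ({k * d * k⁻¹} : Set G)
        have htC : t ∈ C := mem_centralizer_singleton_iff.2 (S.comm_K _ (S.T_le hkT)).eq
        obtain ⟨R, hR⟩ := (IsPGroup.of_card (G := zpowers (⟨t, htC⟩ : C)) (p := 2) (n := 1) (by
          rw [Nat.card_zpowers, Subgroup.orderOf_mk, hJ.invol, pow_one])).exists_le_sylow
        obtain ⟨R', hR'⟩ := (R.2.map C.subtype).exists_le_sylow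
        have hsub : (R : Subgroup C) ≤ zpowers (⟨t, htC⟩ : C) := by
          intro z hz
          have hzR : (z : G) ∈ (R' : Subgroup G) := hR' (mem_map_of_mem C.subtype hz)
          have htR : t ∈ (R' : Subgroup G) := hR' (mem_map_of_mem C.subtype (hR (mem_zpowers _)))
          have hzt : Commute (z : G) t := Local.sylow_comm hJ R' _ hzR t htR
          have hzz : (z : G) * z = 1 := S.sylow_sq R' _ hzR
          have hzc : Commute (z : G) (k * d * k⁻¹) := mem_centralizer_singleton_iff.1 z.2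
          have hz2 : ∀ x ∈ T, x * x = 1 → x = 1 := fun x hx hxx => orderOf_eq_one_iff.1
            (Nat.eq_one_of_dvd_coprimes (Nat.coprime_two_left.2 hTodd)
              (orderOf_dvd_of_pow_eq_one (by rw [pow_two]; exact hxx))
              (S.card_T ▸ Subgroup.orderOf_dvd_natCard T hx))
          rcases S.cases _ hzt with h | h
          · rw [show z = 1 from Subtype.ext (hz2 _ (S.T_cent _ hkT hd1' _ h hzc) hzz)]
            exact one_mem _
          · have h' := hz2 _ (S.T_cent _ hkT hd1' _ h ((S.comm_K _ (S.T_le hkT)).mul_left hzc))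
              (by rw [hzt.mul_mul_mul_comm, htt, hzz, mul_one])
            rw [show z = (⟨t, htC⟩ : C) from Subtype.ext (by
              show (z : G) = t
              rw [eq_inv_of_mul_eq_one_right h']; exact inv_eq_of_mul_eq_one_right htt)]
            exact mem_zpowers _
        have h1 := Subgroup.card_le_of_le hsub
        rw [Nat.card_zpowers, Subgroup.orderOf_mk, hJ.invol] at h1
        have h2 := Nat.le_of_dvd Nat.card_pos (R.pow_dvd_card_of_pow_dvd_card (n := 2) (by rw [show 2 ^ 2 = 4 from rfl]; exact h4))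
        rw [show 2 ^ 2 = 4 from rfl] at h2
        omega

/-- What step 3 of `FIELD_B.md` uses. -/
structure InvData (t : G) (s T : ℕ) : Prop where
  prime : s.Prime
  invol : orderOf t = 2
  one_class : ∀ x : G, orderOf x = 2 → IsConj t x
  not_dvd : ¬ s ∣ Nat.card (centralizer ({t} : Set G))
  odd_cent : ∀ c : G, Commute c t → Odd (orderOf c) → c ≠ 1 → ∀ ρ : ℕ, ρ.Prime →
    ¬ ρ ∣ Nat.card (centralizer ({t} : Set G)) → ¬ ρ ∣ Nat.card (centralizer ({c} : Set G))
  count : ∀ k : G, ∀ j : ℕ, orderOf k = s ^ j → k ≠ 1 →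
    Nat.card {x : G // orderOf x = 2 ∧ x * k * x⁻¹ = k⁻¹} = T
  T_pos : 0 < T

namespace InvData

variable {t : G} {s T : ℕ}

theorem exists_inverter (D : InvData t s T) {k : G} {j : ℕ} (hk : orderOf k = s ^ j) (hk1 : k ≠ 1) :
    ∃ τ : G, orderOf τ = 2 ∧ τ * k * τ⁻¹ = k⁻¹ := by
  have h := D.count k j hk hk1
  obtain ⟨⟨τ, hτ⟩⟩ := (Nat.card_pos_iff.1 (h.symm ▸ D.T_pos)).1
  exact ⟨τ, hτ⟩

/-- **The centraliser of an element of `s`-power order.** -/
theorem cent_facts (D : InvData t s T) {k τ : G} {j : ℕ} (hk : orderOf k = s ^ j) (hk1 : k ≠ 1)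
    (hτ : orderOf τ = 2) (hτk : τ * k * τ⁻¹ = k⁻¹) :
    Odd (Nat.card (centralizer ({k} : Set G))) ∧
      (∀ x ∈ centralizer ({k} : Set G), τ * x * τ⁻¹ = x⁻¹) ∧
      (∀ x ∈ centralizer ({k} : Set G), ∀ y ∈ centralizer ({k} : Set G), x * y = y * x) ∧
      Nat.card (centralizer ({k} : Set G)) = T := by
  classical
  haveI : Fact (Nat.Prime 2) := ⟨Nat.prime_two⟩
  set C := centralizer ({k} : Set G) with hC
  have hj : j ≠ 0 := fun e => hk1 (orderOf_eq_one_iff.1 (by rw [hk, e, pow_zero]))
  have hsk : s ∣ orderOf k := hk ▸ dvd_pow_self s hj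
  have hodd : Odd (Nat.card C) := by
    rw [← Nat.not_even_iff_odd, even_iff_two_dvd]
    intro h2
    obtain ⟨z, hz⟩ := exists_prime_orderOf_dvd_card' (G := C) 2 h2
    obtain ⟨g, hg⟩ := _root_.isConj_iff.1 (D.one_class (z : G) (by rw [Subgroup.orderOf_coe, hz]))
    have hzk : Commute (z : G) k := mem_centralizer_singleton_iff.1 z.2
    refine not_dvd_orderOf_of_mem (H := centralizer ({t} : Set G)) (x := g⁻¹ * k * g) ?_ D.not_dvd ?_
    · refine mem_centralizer_singleton_iff.2 ?_
      have h := (hzk.map (MulAut.conj g⁻¹)).symm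
      have e : MulAut.conj g⁻¹ (z : G) = t := by rw [← hg]; simp [mul_assoc]
      rw [e] at h
      simpa using h.eq
    · rwa [show g⁻¹ * k * g = MulAut.conj g⁻¹ k by simp, MulEquiv.orderOf_eq]
  have hττ : τ * τ = 1 := by rw [← pow_two, ← hτ]; exact pow_orderOf_eq_one τ
  have hτC : τ ∈ normalizer (C : Set G) := Coprime.mem_normalizer_of_forall fun x hx => by
    refine mem_centralizer_singleton_iff.2 ?_
    have h := (show Commute x k from mem_centralizer_singleton_iff.1 hx).map (MulAut.conj τ)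
    simp only [MulAut.conj_apply, hτk] at h
    simpa using h.inv_right.eq
  have hfix : ∀ x ∈ C, Commute x τ → x = 1 := by
    intro x hx hxτ
    by_contra hx1
    obtain ⟨g, hg⟩ := _root_.isConj_iff.1 (D.one_class τ hτ)
    set c := g⁻¹ * x * g
    have hc : Commute c t := by
      have h := hxτ.map (MulAut.conj g⁻¹)
      rw [show MulAut.conj g⁻¹ τ = t by rw [← hg]; simp [mul_assoc]] at h
      simpa using h
    have hoc : orderOf c = orderOf x := by
      rw [show c = MulAut.conj g⁻¹ x by simp [c], MulEquiv.orderOf_eq]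
    refine D.odd_cent c hc (hoc ▸ hodd.of_dvd_nat (Subgroup.orderOf_dvd_natCard C hx))
      (fun e => hx1 (orderOf_eq_one_iff.1 (by rw [← hoc, e, orderOf_one]))) s D.prime D.not_dvd ?_
    refine dvd_trans hsk (dvd_trans (dvd_of_eq ?_) (Subgroup.orderOf_dvd_natCard _
      (x := MulAut.conj g⁻¹ k) (mem_centralizer_singleton_iff.2 ?_)))
    · rw [MulEquiv.orderOf_eq]
    · have h := (show Commute x k from mem_centralizer_singleton_iff.1 hx).symm.map (MulAut.conj g⁻¹)
      simpa [c] using h.eq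
  have hinv := inverted_of_fixed_trivial hodd hττ hτC hfix
  have hcomm : ∀ x ∈ C, ∀ y ∈ C, x * y = y * x := by
    intro x hx y hy
    have h : τ * (x * y) * τ⁻¹ = (x * y)⁻¹ := hinv (x * y) (mul_mem hx hy)
    rw [← conj_mul, hinv x hx, hinv y hy, ← mul_inv_rev, inv_inj] at h
    exact h.symm
  refine ⟨hodd, hinv, hcomm, ?_⟩
  rw [← D.count k j hk hk1]
  have hτi : τ⁻¹ = τ := inv_eq_of_mul_eq_one_right hττ
  refine Nat.card_congr
    { toFun := fun x => ⟨τ * x, ?_, ?_⟩
      invFun := fun z => ⟨τ * z.1, ?_⟩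
      left_inv := fun x => Subtype.ext (by show τ * (τ * (x : G)) = x; rw [← mul_assoc, hττ, one_mul])
      right_inv := fun z => Subtype.ext (by show τ * (τ * z.1) = z.1; rw [← mul_assoc, hττ, one_mul]) }
  · refine orderOf_eq_prime ?_ fun e => ?_
    · rw [pow_two]
      calc τ * (x : G) * (τ * x) = τ * x * τ⁻¹ * x := by rw [hτi]; group
        _ = 1 := by rw [hinv x x.2, inv_mul_cancel]
    · have hx' : (x : G) = τ := by rw [eq_inv_of_mul_eq_one_right e, hτi]
      have := Subgroup.orderOf_dvd_natCard C x.2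
      rw [hx', hτ] at this
      exact (Nat.not_even_iff_odd.2 hodd) (even_iff_two_dvd.2 this)
  · calc τ * (x : G) * k * (τ * x)⁻¹ = τ * ((x : G) * k * (x : G)⁻¹) * τ⁻¹ := by group
      _ = k⁻¹ := by rw [show (x : G) * k = k * x from mem_centralizer_singleton_iff.1 x.2,
        mul_inv_cancel_right, hτk]
  · refine mem_centralizer_singleton_iff.2 (mul_inv_eq_iff_eq_mul.1 ?_)
    calc τ * z.1 * k * (τ * z.1)⁻¹ = τ * (z.1 * k * z.1⁻¹) * τ⁻¹ := by group
      _ = k := by rw [z.2.2, show τ * k⁻¹ * τ⁻¹ = (τ * k * τ⁻¹)⁻¹ by group, hτk, inv_inv]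

end InvData

end Cfsg.Agent.AbelianSylow.Field
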