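import Cfsg.Agent.Lib.AbelianSylow.Cent.FieldReduce
import Cfsg.Agent.Lib.AbelianSylow.Chars.Main
import Cfsg.Agent.Lib.JankoOneOrder.Main
import Cfsg.Agent.Lib.Linear.PSLTwoSmall

/-!
# Part (a), field automorphisms: counting the involutions of `C(f)` (owner: helper29)

* `JTData.card_five`      : `|G| = 175560` for `q = 5`
* `JTData.card_cent`      : `|C(t)| = q (q + 1) (q - 1)`
* `CompData.card_invol`   : the involutions of `C(f)` times `|C(τ)|` is `|Kc/⟨f⟩|`
* `CompData.invol_five`, `CompData.invol_three` : their number is `1463`, resp. `q₀² (q₀² - q₀ + 1)`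
-/

set_option autoImplicit false
set_option linter.style.haveILetI false

namespace Cfsg.Agent.AbelianSylow

open Subgroup

universe u

variable {G : Type u} [Group G] [Finite G] {t : G} {F : Type} [Field F] [Fintype F]

theorem JTData.card_five (hJ : JTData G t F) (h5 : Fintype.card F = 5) : Nat.card G = 175560 := by
  haveI : Fact (Nat.Prime 2) := ⟨Nat.prime_two⟩
  haveI := hJ.simple
  obtain ⟨e⟩ := hJ.cent
  obtain ⟨e5⟩ := Linear.nonempty_pslTwo_five h5
  obtain ⟨S, hS⟩ := Core.exists_sylow_mem (Involution.mul_self hJ.invol)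
  have htc : Cfsg.IsTwoCentralInvolution t :=
    ⟨hJ.invol, S, hS, fun x hx => by
      have := (hJ.sylow S).1.1.is_comm.comm ⟨x, hx⟩ ⟨t, hS⟩
      exact congrArg Subtype.val this⟩
  exact (JankoOneOrder.isJ1 htc (e.trans (MulEquiv.prodCongr (MulEquiv.refl _) e5))).2

theorem JTData.card_cent (hJ : JTData G t F) :
    Nat.card ↥(centralizer ({t} : Set G)) =
      Fintype.card F * ((Fintype.card F + 1) * (Fintype.card F - 1)) := by
  obtain ⟨e⟩ := hJ.cent
  have h := card_psl_odd (F := F) (by rw [Nat.odd_iff]; have := hJ.mod8; omega)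
  rw [Nat.card_congr e.toEquiv, Nat.card_prod, ← h]
  simp

namespace Field

variable {f : G} {L Kc : Subgroup G} {F₀ : Type} [Field F₀] [Fintype F₀]

/-- The involutions of `C(f)` and the component. -/
theorem CompData.card_invol (cd : CompData G t f F₀ L Kc) (ht : orderOf t = 2)
    (hodd : Odd (orderOf f)) {Q : Type u} [Group Q] [Finite Q] (π : ↥Kc →* Q)
    (hπ : Function.Surjective π) (hker : π.ker = (zpowers f).subgroupOf Kc) :
    Nat.card {u : G // orderOf u = 2 ∧ Commute u f} *
      Nat.card ↥(centralizer ({π ⟨t, cd.t_mem⟩} : Set Q)) = Nat.card Q := by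
  set tK : Kc := ⟨t, cd.t_mem⟩ with htK
  set S := (centralizer ({t} : Set G)).subgroupOf Kc with hS
  have htt : tK * tK = 1 := Subtype.ext (Involution.mul_self ht)
  have hmod : ∀ a b : Kc, a * a = 1 → b * b = 1 → π a = π b → a = b := fun a b ha hb h =>
    eq_of_mod (O := (zpowers f).subgroupOf Kc) (fun o ho => mem_center_iff.2 fun g => Subtype.ext (by
      obtain ⟨i, hi⟩ := mem_zpowers_iff.1 (mem_subgroupOf.1 ho)
      show (g : G) * o = o * g
      rw [← hi]
      exact ((show Commute (g : G) f from mem_centralizer_singleton_iff.1 (cd.le g.2)).zpow_right i).eq))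
      (by rw [Nat.card_congr (subgroupOfEquivOfLe (zpowers_le.2 cd.f_mem)).toEquiv, Nat.card_zpowers]; exact hodd)
      ha hb (by rw [← hker, MonoidHom.mem_ker, map_mul, map_inv, h, inv_mul_cancel])
  have hSeq : S = (centralizer ({π tK} : Set Q)).comap π := by
    ext x
    rw [hS, mem_subgroupOf, mem_centralizer_singleton_iff, mem_comap, mem_centralizer_singleton_iff]
    constructor
    · intro h
      rw [← map_mul, ← map_mul]
      exact congrArg π (Subtype.ext h)
    · intro h
      refine congrArg Subtype.val (mul_inv_eq_iff_eq_mul.1 (hmod (x * tK * x⁻¹) tK ?_ htt ?_))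
      · rw [show x * tK * x⁻¹ * (x * tK * x⁻¹) = x * (tK * tK) * x⁻¹ by group, htt]; group
      · rw [map_mul, map_mul, map_inv, h, mul_inv_cancel_right]
  have hC : ∀ a b : Kc, (a : Kc ⧸ S) = b ↔ (a : G) * t * (a : G)⁻¹ = b * t * (b : G)⁻¹ := fun a b => by
    rw [QuotientGroup.eq, hS, mem_subgroupOf, mem_centralizer_singleton_iff]
    push_cast
    constructor
    · intro h
      calc (a : G) * t * (a : G)⁻¹ = a * (t * ((a : G)⁻¹ * b)) * (b : G)⁻¹ := by group
        _ = b * t * (b : G)⁻¹ := by rw [← h]; group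
    · intro h
      calc (a : G)⁻¹ * b * t = (a : G)⁻¹ * (b * t * (b : G)⁻¹) * b := by group
        _ = t * ((a : G)⁻¹ * b) := by rw [← h]; group
  have htf : Commute t f := mem_centralizer_singleton_iff.1 (cd.le cd.t_mem)
  let ψ : Kc ⧸ S → {u : G // orderOf u = 2 ∧ Commute u f} := fun q =>
    ⟨(q.out : G) * t * (q.out : G)⁻¹,
      (MulEquiv.orderOf_eq (MulAut.conj (q.out : G)) t).trans ht,
      ((show Commute (q.out : G) f from mem_centralizer_singleton_iff.1 (cd.le q.out.2)).mul_left htf).mul_left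
        (show Commute (q.out : G) f from mem_centralizer_singleton_iff.1 (cd.le q.out.2)).inv_left⟩
  have hψ : Function.Bijective ψ := by
    constructor
    · intro q q' he
      rw [← QuotientGroup.out_eq' q, ← QuotientGroup.out_eq' q', hC]
      exact congrArg Subtype.val he
    · rintro ⟨u, hu, huf⟩
      obtain ⟨x, hx, hxu⟩ := cd.invol_mem u hu huf
      refine ⟨((⟨x, hx⟩ : Kc) : Kc ⧸ S), Subtype.ext ?_⟩
      show (Quotient.out _ : Kc) * t * _ = u
      exact ((hC _ ⟨x, hx⟩).1 (QuotientGroup.out_eq' _)).trans hxu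
  rw [← Nat.card_congr (Equiv.ofBijective ψ hψ), ← index, hSeq, index_comap_of_surjective _ hπ,
    index_mul_card]

theorem CompData.invol_five (cd : CompData G t f F₀ L Kc) (ht : orderOf t = 2) (hodd : Odd (orderOf f))
    (h5 : Fintype.card F₀ = 5) : Nat.card {u : G // orderOf u = 2 ∧ Commute u f} = 1463 := by
  obtain ⟨Q, _, _, π, hπ, hker, hJ⟩ := cd.quot
  have h := cd.card_invol ht hodd π hπ hker
  rw [hJ.card_cent, hJ.card_five h5, h5] at h
  omega

theorem CompData.invol_three (cd : CompData G t f F₀ L Kc) (ht : orderOf t = 2) (hodd : Odd (orderOf f))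
    {n : ℕ} (hn : 1 ≤ n) (h3 : Fintype.card F₀ = 3 ^ (2 * n + 1)) :
    (Nat.card {u : G // orderOf u = 2 ∧ Commute u f} : ℤ) =
      ((3 : ℤ) ^ (2 * n + 1)) ^ 2 * (((3 : ℤ) ^ (2 * n + 1)) ^ 2 - (3 : ℤ) ^ (2 * n + 1) + 1) := by
  obtain ⟨Q, _, _, π, hπ, hker, hJ⟩ := cd.quot
  have h := cd.card_invol ht hodd π hπ hker
  rw [hJ.card_cent, Chars.orderTarget Q _ F₀ hJ n hn h3, h3] at h
  have h3q : 3 ≤ 3 ^ (2 * n + 1) := Nat.le_self_pow (by omega) 3
  have hq : ((3 ^ (2 * n + 1) : ℕ) : ℤ) = (3 : ℤ) ^ (2 * n + 1) := by push_cast; rfl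
  rw [← hq]
  generalize 3 ^ (2 * n + 1) = q at h h3q ⊢
  have h' := congrArg (Nat.cast : ℕ → ℤ) h
  push_cast [Nat.cast_sub (show 1 ≤ q by omega)] at h'
  have hq1 : (0 : ℤ) < (q : ℤ) * (((q : ℤ) + 1) * ((q : ℤ) - 1)) := by
    have : (3 : ℤ) ≤ q := by exact_mod_cast h3q
    exact mul_pos (by omega) (mul_pos (by omega) (by omega))
  refine mul_right_cancel₀ hq1.ne' (h'.trans ?_)
  ring

end Field

end Cfsg.Agent.AbelianSylow
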