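import Cfsg.Agent.EqLemmas
import Cfsg.Agent.Lib.AbelianSylow.Cent.FieldInvCent
import Cfsg.Agent.Lib.AbelianSylow.Cent.MainCount
import Cfsg.Agent.Lib.AbelianSylow.Local.Basic
import Cfsg.Agent.Lib.JankoOneOrder.Local
import Cfsg.Agent.Lib.SmallOrders.Centralizer

/-!
# The movers in a Janko-Thompson group with `q = 5` (owner: helper55)

* `not_commute_small`  : no element of order `7, 11, 19` commutes with one of order `3` or `5`
* `exists_mover_five`  : for `s = 7, 11, 19` some element of odd order normalises and moves a subgroup of order `s`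

Only the order `175560` (S0448) and the centraliser of an involution are used, not the uniqueness of `J₁`.
-/

set_option autoImplicit false
set_option linter.style.haveILetI false

namespace Cfsg.Agent.AbelianSylow.Field

open Subgroup
open JankoOneOrder (Mdl m1 m2 m4)

universe u

/-- The elements of order three and five of the model. -/
theorem mdl_small : ∀ p ∈ [(3, m2 * m2), (5, m4 * m4)], p.2 ^ p.1 = 1 ∧ p.2 ≠ (1 : Mdl) ∧
    Fintype.card {z : Mdl // z * p.2 = p.2 * z} = 2 * p.1 ∧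
    ∃ v : Mdl, v * v = 1 ∧ v ≠ 1 ∧ v ≠ m1 ∧ v * p.2 * v⁻¹ = p.2⁻¹ := by
  decide +kernel

variable {Q : Type u} [Group Q] [Finite Q] {t : Q} {F : Type} [Field F] [Fintype F]

/-- The centraliser of an involution as the model. -/
theorem exists_model (hJ : JTData Q t F) (h5 : Fintype.card F = 5) :
    Nonempty (↥(centralizer ({t} : Set Q)) ≃* Mdl) := by
  obtain ⟨e⟩ := hJ.cent
  obtain ⟨e5⟩ := Linear.nonempty_pslTwo_five h5
  exact ⟨e.trans ((MulEquiv.refl _).prodCongr e5)⟩

theorem big_not_dvd {s : ℕ} (hs : s = 7 ∨ s = 11 ∨ s = 19) : ¬ s ∣ 120 := by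
  rcases hs with rfl | rfl | rfl <;> norm_num

/-- No element of order `s` centralises an involution. -/
theorem not_dvd_cent_invol (hJ : JTData Q t F) (h5 : Fintype.card F = 5) {s : ℕ}
    (hs : s = 7 ∨ s = 11 ∨ s = 19) {u : Q} (hu : orderOf u = 2) :
    ¬ s ∣ Nat.card (centralizer ({u} : Set Q)) := by
  obtain ⟨L, hL⟩ := Local.exists_lfac hJ
  obtain ⟨g, hg⟩ := hL.conj_invol hu
  obtain ⟨e⟩ := exists_model hJ h5
  have h : Nat.card (centralizer ({u} : Set Q)) = 120 := by
    rw [← JankoOneOrder.card_cent_t e]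
    refine Nat.card_congr
      { toFun := fun x => ⟨g⁻¹ * x * g, mem_centralizer_singleton_iff.2 ?_⟩
        invFun := fun x => ⟨g * x * g⁻¹, mem_centralizer_singleton_iff.2 ?_⟩
        left_inv := fun x => Subtype.ext (show g * (g⁻¹ * (x : Q) * g) * g⁻¹ = x by group)
        right_inv := fun x => Subtype.ext (show g⁻¹ * (g * (x : Q) * g⁻¹) * g = x by group) }
    · have hx : (x : Q) * (g * t * g⁻¹) = g * t * g⁻¹ * x := by
        rw [hg]; exact mem_centralizer_singleton_iff.1 x.2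
      calc g⁻¹ * (x : Q) * g * t = g⁻¹ * ((x : Q) * (g * t * g⁻¹)) * g := by group
        _ = t * (g⁻¹ * x * g) := by rw [hx]; group
    · have hx : (x : Q) * t = t * x := mem_centralizer_singleton_iff.1 x.2
      rw [← hg]
      calc g * (x : Q) * g⁻¹ * (g * t * g⁻¹) = g * ((x : Q) * t) * g⁻¹ := by group
        _ = g * t * g⁻¹ * (g * x * g⁻¹) := by rw [hx]; group
  rw [h]
  exact big_not_dvd hs

/-- An element of order three or five of `C(t)` has a centraliser prime to `7, 11, 19`. -/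
theorem not_dvd_cent_small (hJ : JTData Q t F) (h5 : Fintype.card F = 5) {s : ℕ}
    (hs : s = 7 ∨ s = 11 ∨ s = 19) {ρ : ℕ} (hρ : ρ = 3 ∨ ρ = 5) :
    ∃ x : Q, orderOf x = ρ ∧ ¬ s ∣ Nat.card (centralizer ({x} : Set Q)) := by
  classical
  haveI : Fact (Nat.Prime 2) := ⟨Nat.prime_two⟩
  haveI : Fact ρ.Prime := ⟨by rcases hρ with rfl | rfl <;> norm_num⟩
  obtain ⟨e⟩ := exists_model hJ h5
  have het := JankoOneOrder.e_t hJ.invol e
  set tC : centralizer ({t} : Set Q) := ⟨t, mem_centralizer_singleton_iff.2 rfl⟩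
  obtain ⟨c, hc⟩ : ∃ c : Mdl, (ρ, c) ∈ [(3, m2 * m2), (5, m4 * m4)] := by
    rcases hρ with rfl | rfl
    · exact ⟨m2 * m2, by simp⟩
    · exact ⟨m4 * m4, by simp⟩
  obtain ⟨hcp, hc1, hcard, v, hv, hv1, hvt, hvc⟩ := mdl_small _ hc
  set x : centralizer ({t} : Set Q) := e.symm c with hx
  set w : centralizer ({t} : Set Q) := e.symm v with hw
  have hxo : orderOf (x : Q) = ρ := by
    rw [Subgroup.orderOf_coe, hx, MulEquiv.orderOf_eq]; exact orderOf_eq_prime hcp hc1
  have hwo : orderOf (w : Q) = 2 := by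
    rw [Subgroup.orderOf_coe, hw, MulEquiv.orderOf_eq]; exact orderOf_eq_prime (by rw [pow_two]; exact hv) hv1
  have htw : orderOf (t * w) = 2 := by
    rw [show t * (w : Q) = ((tC * w : centralizer ({t} : Set Q)) : Q) from rfl, Subgroup.orderOf_coe,
      ← MulEquiv.orderOf_eq e, map_mul, het, hw, e.apply_symm_apply]
    have hm : m1 * m1 = 1 := by rw [← pow_two]; exact JankoOneOrder.ord_m.1
    refine orderOf_eq_prime ?_ fun h => hvt ?_
    · rw [pow_two]
      calc m1 * v * (m1 * v) = m1 * (v * m1) * v := by group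
        _ = m1 * m1 * (v * v) := by rw [← JankoOneOrder.m1_central v]; group
        _ = 1 := by rw [hm, hv, one_mul]
    · rw [eq_inv_of_mul_eq_one_right h, inv_eq_of_mul_eq_one_right hm]
  refine ⟨x, hxo, not_dvd_cent_of_four (by rcases hs with rfl | rfl | rfl <;> norm_num) hJ.invol hwo htw
    (mem_centralizer_singleton_iff.1 x.2) (Or.inr ?_) (fun u hu => not_dvd_cent_invol hJ h5 hs hu) ?_⟩
  · show (w : Q) * (x : Q) * (w : Q)⁻¹ = ((x : Q))⁻¹
    have h : w * x * w⁻¹ = x⁻¹ := e.injective (by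
      simp only [hw, hx, map_mul, map_inv, e.apply_symm_apply]; exact hvc)
    exact congrArg Subtype.val h
  · intro h4
    set C := centralizer ({(x : Q)} : Set Q) with hC
    have htC : t ∈ C := mem_centralizer_singleton_iff.2 (mem_centralizer_singleton_iff.1 x.2).symm
    obtain ⟨T, hT⟩ := (IsPGroup.of_card (p := 2) (n := 1) (G := zpowers (⟨t, htC⟩ : C))
      (by rw [Nat.card_zpowers, Subgroup.orderOf_mk, hJ.invol, pow_one])).exists_le_sylow
    have h4T : 4 ∣ Nat.card (T : Subgroup C) := by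
      have := T.pow_dvd_card_of_pow_dvd_card (n := 2) h4
      simpa using this
    obtain ⟨P, hP⟩ := (T.2.map C.subtype).exists_le_sylow
    set T' := (T : Subgroup C).map C.subtype with hT'
    have hle : T' ≤ (centralizer ({t} : Set Q)) ⊓ C := le_inf (fun z hz => by
      have htT : t ∈ T' := ⟨⟨t, htC⟩, hT (mem_zpowers _), rfl⟩
      exact mem_centralizer_singleton_iff.2 (Local.sylow_comm hJ P z (hP hz) t (hP htT)).eq) (map_subtype_le _)
    have h1 := (card_map_of_injective (K := (T : Subgroup C)) C.subtype_injective ▸ h4T).trans (card_dvd_of_le hle)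
    have h2 : Nat.card ↥(centralizer ({t} : Set Q) ⊓ C) = 2 * ρ := by
      rw [← hcard, ← Nat.card_eq_fintype_card]
      refine (Nat.card_congr (subgroupOfEquivOfLe inf_le_left).toEquiv).symm.trans
        (Nat.card_congr (e.toEquiv.subtypeEquiv fun z => ?_))
      show z ∈ (centralizer ({t} : Set Q) ⊓ C).subgroupOf _ ↔ _
      rw [mem_subgroupOf, mem_inf]
      constructor
      · rintro ⟨-, hzx⟩
        have h : z * x = x * z := Subtype.ext (mem_centralizer_singleton_iff.1 hzx)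
        have := congrArg e h
        simpa [hx] using this
      · intro h
        refine ⟨z.2, mem_centralizer_singleton_iff.2 ?_⟩
        have h' : z * x = x * z := e.injective (by simpa [hx] using h)
        exact congrArg Subtype.val h'
    rw [h2] at h1
    rcases hρ with rfl | rfl <;> norm_num at h1

/-- No element of order `7, 11, 19` commutes with one of order `3` or `5`. -/
theorem not_commute_small (hJ : JTData Q t F) (h5 : Fintype.card F = 5) {s : ℕ}
    (hs : s = 7 ∨ s = 11 ∨ s = 19) {y : Q} (hy : orderOf y = s) {ρ : ℕ} (hρ : ρ = 3 ∨ ρ = 5) :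
    ¬ ρ ∣ Nat.card (centralizer ({y} : Set Q)) := by
  intro hd
  haveI hρp : Fact ρ.Prime := ⟨by rcases hρ with rfl | rfl <;> norm_num⟩
  obtain ⟨x, hxo, hx⟩ := not_dvd_cent_small hJ h5 hs hρ
  obtain ⟨z, hz⟩ := exists_prime_orderOf_dvd_card' (G := centralizer ({y} : Set Q)) ρ hd
  have hzo : orderOf (z : Q) = ρ := by rw [Subgroup.orderOf_coe, hz]
  have hrel : ¬ ρ ∣ (zpowers x).relIndex ⊤ := by
    rw [relIndex_top_right]
    intro h
    have h1 := (zpowers x).card_mul_index
    rw [Nat.card_zpowers, hxo, hJ.card_five h5] at h1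
    obtain ⟨k, hk⟩ := h
    rw [hk] at h1
    rcases hρ with rfl | rfl <;> omega
  obtain ⟨g, -, hle⟩ := Transfer.exists_conj_le_of_not_dvd_relIndex (p := ρ) (le_top : zpowers x ≤ ⊤)
    (IsPGroup.of_card (n := 1) (by rw [Nat.card_zpowers, hxo, pow_one])) hrel
    (le_top : zpowers (z : Q) ≤ ⊤) (IsPGroup.of_card (n := 1) (by rw [Nat.card_zpowers, hzo, pow_one]))
  have hmem : g * (z : Q) * g⁻¹ ∈ zpowers x := hle ⟨z, mem_zpowers _, rfl⟩
  have hgen : zpowers (g * (z : Q) * g⁻¹) = zpowers x := Subgroup.eq_of_le_of_card_ge (zpowers_le.2 hmem)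
    (by rw [Nat.card_zpowers, Nat.card_zpowers, hxo,
      show g * (z : Q) * g⁻¹ = MulAut.conj g (z : Q) from rfl, MulEquiv.orderOf_eq, hzo])
  have hc : Commute (g * y * g⁻¹) x := by
    obtain ⟨k, hk⟩ := mem_zpowers_iff.1 (hgen ▸ mem_zpowers x : x ∈ zpowers (g * (z : Q) * g⁻¹))
    rw [← hk]
    exact ((Commute.conj_iff g).2 (mem_centralizer_singleton_iff.1 z.2 : Commute (z : Q) y).symm).zpow_right k
  refine hx ?_
  have h := Subgroup.orderOf_dvd_natCard (centralizer ({x} : Set Q)) (mem_centralizer_singleton_iff.2 hc.eq)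
  rwa [show g * y * g⁻¹ = MulAut.conj g y from rfl, MulEquiv.orderOf_eq, hy] at h

/-- **The mover.** -/
theorem exists_mover_five (hJ : JTData Q t F) (h5 : Fintype.card F = 5) {s : ℕ}
    (hs : s = 7 ∨ s = 11 ∨ s = 19) :
    ∃ (y c : Q) (r : ℕ), orderOf y = s ∧ Odd (orderOf c) ∧ c * y * c⁻¹ = y ^ r ∧ r % s ≠ 1 := by
  haveI := hJ.simple
  haveI : Fact (Nat.Prime 2) := ⟨Nat.prime_two⟩
  have hsp : s.Prime := by rcases hs with rfl | rfl | rfl <;> norm_num
  haveI := Fact.mk hsp
  have hG := hJ.card_five h5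
  obtain ⟨y, hy⟩ := exists_prime_orderOf_dvd_card' (G := Q) s (by
    rw [hG]; rcases hs with rfl | rfl | rfl <;> norm_num)
  obtain ⟨P, hP⟩ := (IsPGroup.of_card (p := s) (n := 1) (G := zpowers y)
    (by rw [Nat.card_zpowers, hy, pow_one])).exists_le_sylow
  have hPy : (P : Subgroup Q) = zpowers y := by
    refine (Subgroup.eq_of_le_of_card_ge hP ?_).symm
    obtain ⟨n, hn⟩ := IsPGroup.iff_card.1 P.2
    have h1 : s ^ n ∣ 175560 := hG ▸ hn ▸ card_subgroup_dvd_card _
    rw [Nat.card_zpowers, hy, hn]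
    rcases Nat.lt_or_ge n 2 with h2 | h2
    · exact (Nat.pow_le_pow_right hsp.pos (show n ≤ 1 by omega)).trans (pow_one s).le
    · exfalso
      have h3 := (pow_dvd_pow s h2).trans h1
      rcases hs with rfl | rfl | rfl <;> norm_num at h3
  obtain ⟨j, hj1, hjd, hCj, hsC, -⟩ := SmallOrders.exists_card_centralizer_mul hJ.nonab hy P hPy
  set C := centralizer ({y} : Set Q) with hC
  set N := normalizer ((P : Subgroup Q) : Set Q) with hN
  have hmul : Nat.card N * Nat.card (Sylow s Q) = 175560 := hG ▸ SmallOrders.card_normalizer_mul_card_sylow P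
  have hmod : Nat.card (Sylow s Q) % s = 1 := by
    have h := card_sylow_modEq_one s Q
    unfold Nat.ModEq at h
    rwa [Nat.one_mod_eq_one.2 hsp.ne_one] at h
  have hCdvd : Nat.card C ∣ 175560 := hG ▸ card_subgroup_dvd_card C
  have h2C : ¬ 2 ∣ Nat.card C := fun h => by
    obtain ⟨u, hu⟩ := exists_prime_orderOf_dvd_card' (G := C) 2 h
    refine not_dvd_cent_invol hJ h5 hs (u := (u : Q)) (by rw [Subgroup.orderOf_coe, hu]) ?_
    exact hy ▸ Subgroup.orderOf_dvd_natCard _
      (mem_centralizer_singleton_iff.2 (mem_centralizer_singleton_iff.1 u.2).symm)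
  have h3C := not_commute_small hJ h5 hs hy (Or.inl rfl : 3 = 3 ∨ 3 = 5)
  have h5C := not_commute_small hJ h5 hs hy (Or.inr rfl : 5 = 3 ∨ 5 = 5)
  have hcop : Nat.Coprime (Nat.card C) 120 := by
    rw [show 120 = 2 ^ 3 * (3 * 5) by norm_num]
    exact Nat.Coprime.mul_right ((Nat.prime_two.coprime_iff_not_dvd.2 h2C).symm.pow_right 3)
      (Nat.Coprime.mul_right (Nat.prime_three.coprime_iff_not_dvd.2 h3C).symm
        (Nat.prime_five.coprime_iff_not_dvd.2 h5C).symm)
  have hC1463 : Nat.card C ∣ 1463 :=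
    hcop.dvd_of_dvd_mul_left (show Nat.card C ∣ 120 * 1463 by norm_num; exact hCdvd)
  obtain ⟨m, hm⟩ := hsC
  rw [← hCj, hm] at hmul
  rw [hm] at hC1463
  obtain ⟨l, hlc, hlj⟩ : ∃ l, (l = 3 ∨ l = 5) ∧ l ∣ j := by
    rcases hs with rfl | rfl | rfl
    · refine ⟨3, Or.inl rfl, ?_⟩
      have hm' : m ∣ 11 * 19 := Nat.dvd_of_mul_dvd_mul_left (show 0 < 7 by norm_num) (hC1463.trans (by norm_num))
      obtain ⟨a, b, ha, hb, rfl⟩ := exists_dvd_and_dvd_of_dvd_mul hm'
      have hjle : j ≤ 6 := Nat.le_of_dvd (by norm_num) hjd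
      rcases (Nat.dvd_prime (by norm_num)).1 ha with rfl | rfl <;>
        rcases (Nat.dvd_prime (by norm_num)).1 hb with rfl | rfl <;>
        interval_cases j <;> first | decide | omega
    · refine ⟨5, Or.inr rfl, ?_⟩
      have hm' : m ∣ 7 * 19 := Nat.dvd_of_mul_dvd_mul_left (show 0 < 11 by norm_num) (hC1463.trans (by norm_num))
      obtain ⟨a, b, ha, hb, rfl⟩ := exists_dvd_and_dvd_of_dvd_mul hm'
      have hjle : j ≤ 10 := Nat.le_of_dvd (by norm_num) hjd
      rcases (Nat.dvd_prime (by norm_num)).1 ha with rfl | rfl <;>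
        rcases (Nat.dvd_prime (by norm_num)).1 hb with rfl | rfl <;>
        interval_cases j <;> first | decide | omega
    · refine ⟨3, Or.inl rfl, ?_⟩
      have hm' : m ∣ 7 * 11 := Nat.dvd_of_mul_dvd_mul_left (show 0 < 19 by norm_num) (hC1463.trans (by norm_num))
      obtain ⟨a, b, ha, hb, rfl⟩ := exists_dvd_and_dvd_of_dvd_mul hm'
      have hjle : j ≤ 18 := Nat.le_of_dvd (by norm_num) hjd
      rcases (Nat.dvd_prime (by norm_num)).1 ha with rfl | rfl <;>
        rcases (Nat.dvd_prime (by norm_num)).1 hb with rfl | rfl <;>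
        interval_cases j <;> first | decide | omega
  haveI hl : Fact l.Prime := ⟨by rcases hlc with rfl | rfl <;> norm_num⟩
  obtain ⟨⟨c, hcN⟩, hc⟩ := exists_prime_orderOf_dvd_card' (G := N) l (hCj ▸ dvd_mul_of_dvd_right hlj _)
  rw [Subgroup.orderOf_mk] at hc
  have hmem : c * y * c⁻¹ ∈ zpowers y := by
    have h := (mem_normalizer_iff.1 hcN y).1 (hPy ▸ mem_zpowers y : y ∈ (P : Subgroup Q))
    rwa [hPy] at h
  obtain ⟨r, hr⟩ := Submonoid.mem_powers_iff _ _ |>.1 (mem_powers_iff_mem_zpowers.2 hmem)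
  refine ⟨y, c, r, hy, hc ▸ by rcases hlc with rfl | rfl <;> decide, hr.symm, fun hr1 => ?_⟩
  have hcy : c ∈ C := mem_centralizer_singleton_iff.2 (by
    have h1 : c * y * c⁻¹ = y := by rw [← hr, ← pow_mod_orderOf, hy, hr1, pow_one]
    exact mul_inv_eq_iff_eq_mul.1 h1)
  exact not_commute_small hJ h5 hs hy hlc (hc ▸ Subgroup.orderOf_dvd_natCard _ hcy)

end Cfsg.Agent.AbelianSylow.Field
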