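import Cfsg.Agent.EqLemmas
import Cfsg.Agent.Lib.AbelianSylow.Cent.FieldTransfer
import Cfsg.Agent.Lib.AbelianSylow.Cent.FieldAut
import Cfsg.Agent.Lib.AbelianSylow.Cent.FieldFiveMover
import Cfsg.Agent.Lib.Transfer.Focal

/-!
# No field automorphism, case (B) with `q₀ = 5` (owner: helper55)

* `exists_lift_mover`     : a mover (`FieldFiveMover`) lifts to a central extension by a group of order `s`
* `FieldFrame.five_false` : `CompData` with `|F₀| = 5` and `f` of prime order `s ≥ 5` is impossible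
-/

set_option autoImplicit false
set_option linter.style.haveILetI false

namespace Cfsg.Agent.AbelianSylow.Field

open Subgroup

universe u

/-- Lifting a mover to a central extension by a group of order `s`. -/
theorem exists_lift_mover {M : Type u} [Group M] [Finite M] {Q : Type u} [Group Q] (π : M →* Q)
    (hπ : Function.Surjective π) {f : M} (hker : π.ker = zpowers f) (hcen : ∀ x : M, Commute x f)
    {s : ℕ} [hs : Fact s.Prime] (hs2 : s ≠ 2) (hf : orderOf f = s) {y' c' : Q} {r : ℕ} (hy : orderOf y' = s)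
    (hc : Odd (orderOf c')) (hcy : c' * y' * c'⁻¹ = y' ^ r) (hr : r % s ≠ 1) :
    ∃ y c : M, orderOf y = s ∧ y ∉ zpowers f ∧ Odd (orderOf c) ∧ c * y * c⁻¹ = y ^ r ∧ ¬ Commute c y := by
  have hπf : π f = 1 := MonoidHom.mem_ker.1 (hker ▸ mem_zpowers f)
  have hfs : f ^ s = 1 := by rw [← hf, pow_orderOf_eq_one]
  have hmemk : ∀ x : M, π x = 1 → ∃ n : ℕ, f ^ n = x := fun x hx =>
    Submonoid.mem_powers_iff _ _ |>.1 (mem_powers_iff_mem_zpowers.2 (hker ▸ MonoidHom.mem_ker.2 hx))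
  obtain ⟨y₀, hy₀⟩ := hπ y'
  obtain ⟨c, hc₀⟩ := hπ c'
  obtain ⟨j, hj⟩ := hmemk ((y₀ ^ r)⁻¹ * (c * y₀ * c⁻¹)) (by
    rw [map_mul, map_inv, map_pow, map_mul, map_mul, map_inv, hy₀, hc₀, hcy, inv_mul_cancel])
  have hconj : c * y₀ * c⁻¹ = y₀ ^ r * f ^ j := by rw [hj, mul_inv_cancel_left]
  obtain ⟨m, hm⟩ := hmemk (y₀ ^ s) (by rw [map_pow, hy₀, ← hy, pow_orderOf_eq_one])
  have hr0 : (r : ZMod s) - 1 ≠ 0 := fun e => hr (by
    have h1 : (r : ZMod s) = ((1 : ℕ) : ZMod s) := by rw [Nat.cast_one]; linear_combination e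
    rw [ZMod.natCast_eq_natCast_iff'] at h1
    rwa [Nat.one_mod_eq_one.2 hs.out.ne_one] at h1)
  have hfpow : ∀ a b : ℕ, (a : ZMod s) = b → f ^ a = f ^ b := fun a b e => by
    rw [pow_eq_pow_iff_modEq, hf]; exact (ZMod.natCast_eq_natCast_iff a b s).1 e
  have hcomm : ∀ a b : ℕ, Commute (y₀ ^ a) (f ^ b) := fun a b => (hcen y₀).pow_pow a b
  have hy0s : y₀ ^ s = 1 := by
    have e1 : c * y₀ ^ s * c⁻¹ = y₀ ^ s := by rw [← hm, ((hcen c).pow_right m).eq, mul_inv_cancel_right]
    rw [← conj_pow, hconj, (hcomm r j).mul_pow, ← pow_mul, ← pow_mul, mul_comm r s, mul_comm j s, pow_mul,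
      pow_mul, hfs, one_pow, mul_one, ← hm, ← pow_mul, pow_eq_pow_iff_modEq, hf,
      ← ZMod.natCast_eq_natCast_iff, Nat.cast_mul] at e1
    have h0 : (m : ZMod s) = 0 :=
      (mul_eq_zero.1 (show (m : ZMod s) * ((r : ZMod s) - 1) = 0 by linear_combination e1)).resolve_right hr0
    rw [← hm, hfpow m 0 (by rw [h0, Nat.cast_zero]), pow_zero]
  haveI : NeZero s := ⟨hs.out.ne_zero⟩
  obtain ⟨i, hi⟩ : ∃ i : ℕ, (i : ZMod s) * ((r : ZMod s) - 1) = j :=
    ⟨((j : ZMod s) * ((r : ZMod s) - 1)⁻¹).val, by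
      rw [ZMod.natCast_zmod_val, inv_mul_cancel_right₀ hr0]⟩
  set y := y₀ * f ^ i with hy_def
  have hπy : π y = y' := by rw [hy_def, map_mul, map_pow, hπf, one_pow, mul_one, hy₀]
  have hys : y ^ s = 1 := by
    rw [hy_def, ((hcen y₀).pow_right i).mul_pow, hy0s, ← pow_mul, mul_comm i s, pow_mul, hfs, one_pow, one_mul]
  have hy1 : y' ≠ 1 := fun e => by rw [e, orderOf_one] at hy; exact hs.out.one_lt.ne hy
  have hcy' : c * y * c⁻¹ = y ^ r := by
    calc c * y * c⁻¹ = c * y₀ * (f ^ i * c⁻¹) := by rw [hy_def]; group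
      _ = c * y₀ * c⁻¹ * f ^ i := by rw [(((hcen c).inv_left).pow_right i).symm.eq]; group
      _ = y₀ ^ r * f ^ (j + i) := by rw [hconj, pow_add]; group
      _ = y ^ r := by
          rw [hy_def, ((hcen y₀).pow_right i).mul_pow, ← pow_mul,
            hfpow (i * r) (j + i) (by push_cast; linear_combination hi)]
  refine ⟨y, c, orderOf_eq_prime hys fun e => hy1 (by rw [← hπy, e, map_one]), fun hyf => hy1 ?_, ?_, hcy',
    fun hcomm' => ?_⟩
  · rw [← hπy]; exact MonoidHom.mem_ker.1 (hker ▸ hyf)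
  · obtain ⟨n, hn⟩ := hmemk (c ^ orderOf c') (by rw [map_pow, hc₀, pow_orderOf_eq_one])
    refine Odd.of_dvd_nat (hc.mul (hs.out.odd_of_ne_two hs2)) (orderOf_dvd_of_pow_eq_one (?_ :
      c ^ (orderOf c' * s) = 1))
    rw [pow_mul, ← hn, ← pow_mul, mul_comm n s, pow_mul, hfs, one_pow]
  · refine hr ?_
    have h1 : y ^ r = y ^ 1 := by rw [pow_one, ← hcy', hcomm'.eq, mul_inv_cancel_right]
    rw [pow_eq_pow_iff_modEq, orderOf_eq_prime hys fun e => hy1 (by rw [← hπy, e, map_one])] at h1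
    exact (show r % s = 1 % s from h1).trans (Nat.one_mod_eq_one.2 hs.out.ne_one)

variable {G : Type u} [Group G] [Finite G] {t : G} {F : Type} [Field F] [Fintype F]
  {E L : Subgroup G} {A : Sylow 2 G} {V D : Subgroup G}

/-- **Case (B) with `q₀ = 5`.** -/
theorem FieldFrame.five_false (fr : FieldFrame G t F E L A V D) {f : G} (hfD : f ∈ D) {F₀ : Type} [Field F₀]
    [Fintype F₀] {Kc : Subgroup G} (hC : CompData G t f F₀ L Kc) (h5 : Fintype.card F₀ = 5) {s : ℕ}
    [hsf : Fact s.Prime] (hs5 : 5 ≤ s) (hf : orderOf f = s) : False := by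
  classical
  have hsp : s.Prime := hsf.out
  have hft : Commute f t := fr.frame.comm f (fr.D_le hfD)
  have hfs : f ^ s = 1 := by rw [← hf, pow_orderOf_eq_one]
  -- the field of `f`
  have hL60 : Nat.card ↥(L ⊓ centralizer ({f} : Set G)) = 60 := by
    obtain ⟨e⟩ := hC.iso
    have h := card_psl_odd (F := F₀) (by rw [h5]; decide)
    rw [h5, ← Nat.card_congr e.toEquiv] at h
    omega
  have hF : Fintype.card F = 5 ^ s := by
    obtain ⟨F₁, _, _, hF₁, ⟨e₁⟩⟩ := fr.exists_field hfD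
    have hodd : Odd (Fintype.card F₁) := (Nat.odd_pow_iff (orderOf_pos f).ne').1
      (hF₁ ▸ Nat.odd_iff.2 (by have := fr.shape.mod8; omega))
    have hc : Nat.card (PSL2.PSL2 F₁) = 60 := by rw [← Nat.card_congr e₁.toEquiv, hL60]
    have h := card_psl_odd hodd
    rw [hc] at h
    have hle : Fintype.card F₁ ≤ 120 := Nat.le_of_dvd (by norm_num) ⟨_, h⟩
    have h2 : 2 ≤ Fintype.card F₁ := Fintype.one_lt_card
    rw [← hF₁, hf]
    congr 1
    rcases Nat.lt_or_ge (Fintype.card F₁) 6 with h6 | h6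
    · interval_cases hx : Fintype.card F₁ <;> omega
    · exfalso
      have := Nat.mul_le_mul h6 (Nat.mul_le_mul (show 7 ≤ Fintype.card F₁ + 1 by omega)
        (show 5 ≤ Fintype.card F₁ - 1 by omega))
      omega
  -- `D = ⟨f⟩`
  have hD : D = zpowers f := by
    haveI := fr.D_cyclic
    refine (Subgroup.eq_of_le_of_card_ge (zpowers_le.2 hfD) ?_).symm
    obtain ⟨⟨d, hd⟩, hgen⟩ := IsCyclic.exists_ofOrder_eq_natCard (α := D)
    rw [Subgroup.orderOf_mk] at hgen
    rw [Nat.card_zpowers, hf, ← hgen]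
    obtain ⟨F₂, _, _, hF₂, -⟩ := fr.exists_field hd
    obtain ⟨e, -, he⟩ := (Nat.dvd_prime_pow Nat.prime_five).1
      (hF ▸ hF₂ ▸ dvd_pow_self (Fintype.card F₂) (orderOf_pos d).ne')
    rw [he, hF, ← pow_mul] at hF₂
    exact Nat.le_of_dvd hsp.pos ⟨e, (Nat.pow_right_injective (by norm_num : 2 ≤ 5) hF₂).symm.trans (mul_comm _ _)⟩
  have hcardD : Nat.card D = s := by rw [hD, Nat.card_zpowers, hf]
  set Ct := centralizer ({t} : Set G) with hCt
  set Cf := centralizer ({f} : Set G) with hCf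
  have hmeet : Nat.card ↥(Ct ⊓ Cf) = 120 * s := by rw [fr.card_cent_inf hfD, hL60, hcardD]
  have hle : Ct ⊓ Cf ≤ Kc := by
    rw [fr.cent_inf hfD, hD, ← hC.cent]; exact inf_le_left
  have hKc : Kc = Cf := by
    refine le_antisymm hC.le fun x hx => ?_
    have hxf : Commute x f := mem_centralizer_singleton_iff.1 hx
    obtain ⟨z, hz, hzt⟩ := hC.invol_mem (x * t * x⁻¹)
      (by rw [show x * t * x⁻¹ = MulAut.conj x t from rfl, MulEquiv.orderOf_eq]; exact fr.frame.ht)
      ((hxf.mul_left hft.symm).mul_left hxf.inv_left)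
    have hzf : Commute z f := mem_centralizer_singleton_iff.1 (hC.le hz)
    have h1 : z⁻¹ * x ∈ Ct ⊓ Cf := mem_inf.2 ⟨mem_centralizer_singleton_iff.2 (by
      calc z⁻¹ * x * t = z⁻¹ * (x * t * x⁻¹) * x := by group
        _ = t * (z⁻¹ * x) := by rw [← hzt]; group),
      mem_centralizer_singleton_iff.2 (hzf.inv_left.mul_left hxf).eq⟩
    have h2 := mul_mem hz (hle h1)
    rwa [mul_inv_cancel_left] at h2
  -- the quotient
  obtain ⟨Q, _, _, π, hπ, hker, hJ⟩ := hC.quot
  have hcardKc : Nat.card Kc = 175560 * s := by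
    rw [← π.ker.card_mul_index, Subgroup.index_ker, MonoidHom.range_eq_top.2 hπ, Subgroup.card_top, hJ.card_five h5,
      hker, Nat.card_congr (subgroupOfEquivOfLe (zpowers_le.2 hC.f_mem)).toEquiv, Nat.card_zpowers, hf, mul_comm]
  have hcardCf : Nat.card Cf = 175560 * s := hKc ▸ hcardKc
  -- `s` is one of `7, 11, 19`
  have hs3 : s = 7 ∨ s = 11 ∨ s = 19 := by
    have h := fr.prime_dvd hfD (l := s) (k := 0) (by rw [hf, pow_one])
    set K := Ct.subgroupOf Cf with hK
    have hKcard : Nat.card K = 120 * s := by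
      rw [← hmeet, hK, ← Subgroup.inf_subgroupOf_right Ct Cf]
      exact Nat.card_congr (subgroupOfEquivOfLe inf_le_right).toEquiv
    have hidx : Nat.card (Cf ⧸ K) = 1463 := by
      have h1 := K.card_mul_index
      rw [hKcard, hcardCf, Subgroup.index_eq_card] at h1
      exact Nat.eq_of_mul_eq_mul_left (show 0 < 120 * s by omega)
        (h1.trans (show 175560 * s = 120 * s * 1463 by ring))
    let φ : Cf → {u : G // orderOf u = 2 ∧ Commute u f} := fun x => ⟨(x : G) * t * (x : G)⁻¹,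
      by rw [show (x : G) * t * (x : G)⁻¹ = MulAut.conj (x : G) t from rfl, MulEquiv.orderOf_eq]; exact fr.frame.ht,
      ((show Commute (x : G) f from mem_centralizer_singleton_iff.1 x.2).mul_left hft.symm).mul_left
        (show Commute (x : G) f from mem_centralizer_singleton_iff.1 x.2).inv_left⟩
    have hφ : ∀ a b : Cf, (a : G) * t * (a : G)⁻¹ = b * t * (b : G)⁻¹ ↔ a⁻¹ * b ∈ K := fun a b => by
      rw [hK, mem_subgroupOf, Subgroup.coe_mul, Subgroup.coe_inv, hCt, mem_centralizer_singleton_iff]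
      constructor
      · intro h
        calc (a : G)⁻¹ * b * t = (a : G)⁻¹ * ((b : G) * t * (b : G)⁻¹) * b := by group
          _ = t * ((a : G)⁻¹ * b) := by rw [← h]; group
      · intro h
        calc (a : G) * t * (a : G)⁻¹ = a * (t * ((a : G)⁻¹ * b)) * (b : G)⁻¹ := by group
          _ = b * t * (b : G)⁻¹ := by rw [← h]; group
    have hbij : Nat.card (Cf ⧸ K) = Nat.card {u : G // orderOf u = 2 ∧ Commute u f} := by
      refine Nat.card_eq_of_bijective (fun x => φ x.out) ⟨fun a b e => ?_, fun u => ?_⟩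
      · rw [← Quotient.out_eq a, ← Quotient.out_eq b]
        exact QuotientGroup.eq.2 ((hφ _ _).1 (congrArg Subtype.val e))
      · obtain ⟨x, hx, hxt⟩ := hC.invol_mem u.1 u.2.1 u.2.2
        refine ⟨((⟨x, hC.le hx⟩ : Cf) : Cf ⧸ K), Subtype.ext (Eq.trans ((hφ _ ⟨x, hC.le hx⟩).2 ?_) hxt)⟩
        exact QuotientGroup.eq.1 (Quotient.out_eq _)
    rw [← hbij, hidx, show 1463 = 7 * (11 * 19) by norm_num] at h
    rcases (Nat.Prime.dvd_mul hsp).1 h with h | h
    · exact Or.inl ((Nat.prime_dvd_prime_iff_eq hsp (by norm_num)).1 h)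
    · rcases (Nat.Prime.dvd_mul hsp).1 h with h | h
      · exact Or.inr (Or.inl ((Nat.prime_dvd_prime_iff_eq hsp (by norm_num)).1 h))
      · exact Or.inr (Or.inr ((Nat.prime_dvd_prime_iff_eq hsp (by norm_num)).1 h))
  -- the mover
  obtain ⟨y', c', r, hy', hc', hcy', hr⟩ := exists_mover_five hJ h5 hs3
  obtain ⟨⟨y, hyK⟩, ⟨c, hcK⟩, hy, hyf, hc, hcy, hmove⟩ := exists_lift_mover π hπ (f := ⟨f, hC.f_mem⟩)
    (by
      rw [hker]
      ext x
      rw [mem_subgroupOf, mem_zpowers_iff, mem_zpowers_iff]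
      simp [Subtype.ext_iff])
    (fun x => Subtype.ext (mem_centralizer_singleton_iff.1 (hC.le x.2))) (s := s) (by omega)
    (by rw [Subgroup.orderOf_mk]; exact hf) (y' := y') (c' := c') (r := r) hy' hc' hcy' hr
  rw [Subgroup.orderOf_mk] at hy hc
  have hcyG : c * y * c⁻¹ = y ^ r := congrArg Subtype.val hcy
  have hfy : Commute f y := (show Commute y f from mem_centralizer_singleton_iff.1 (hC.le hyK)).symm
  have hcf : Commute c f := mem_centralizer_singleton_iff.1 (hC.le hcK)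
  have hmove' : ¬ Commute c y := fun h => hmove (Subtype.ext h.eq)
  -- distinct powers of `f` are not conjugate
  have hN : ∀ g : G, g * f * g⁻¹ ∈ zpowers f → Commute g f := by
    intro g hg
    have ho : orderOf (g * f * g⁻¹) = s := by
      rw [show g * f * g⁻¹ = MulAut.conj g f from rfl, MulEquiv.orderOf_eq, hf]
    have hfmem : f ∈ zpowers (g * f * g⁻¹) := by
      rw [Subgroup.eq_of_le_of_card_ge (zpowers_le.2 hg) (by rw [Nat.card_zpowers, Nat.card_zpowers, ho, hf])]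
      exact mem_zpowers f
    have huf : Commute (g * t * g⁻¹) f := by
      obtain ⟨k, hk⟩ := mem_zpowers_iff.1 hfmem
      rw [← hk]
      exact ((Commute.conj_iff g).2 hft.symm).zpow_right k
    obtain ⟨x, hxf, hxu⟩ := fr.one_class hfD
      (by rw [show g * t * g⁻¹ = MulAut.conj g t from rfl, MulEquiv.orderOf_eq]; exact fr.frame.ht) huf
    obtain ⟨i, hi⟩ := mem_zpowers_iff.1 hg
    haveI := fr.D_cyclic
    letI : CommGroup D := IsCyclic.commGroup
    obtain ⟨ρ, hρ⟩ := fr.exists_rho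
    have hfC : f ∈ Ct := mem_centralizer_singleton_iff.2 hft.eq
    have hhC : x⁻¹ * g ∈ Ct := mem_centralizer_singleton_iff.2 (by
      calc x⁻¹ * g * t = x⁻¹ * (g * t * g⁻¹) * g := by group
        _ = t * (x⁻¹ * g) := by rw [← hxu]; group)
    have e : (⟨x⁻¹ * g, hhC⟩ : Ct) * ⟨f, hfC⟩ * (⟨x⁻¹ * g, hhC⟩ : Ct)⁻¹ = ⟨f, hfC⟩ ^ i := Subtype.ext (by
      show x⁻¹ * g * f * (x⁻¹ * g)⁻¹ = ((⟨f, hfC⟩ ^ i : Ct) : G)
      rw [Subgroup.coe_zpow]
      calc x⁻¹ * g * f * (x⁻¹ * g)⁻¹ = x⁻¹ * (g * f * g⁻¹) * x := by group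
        _ = f ^ i := by rw [← hi, mul_assoc, ← (hxf.zpow_right i).eq, inv_mul_cancel_left])
    have e2 := congrArg ρ e
    rw [map_mul, map_mul, map_inv, map_zpow, mul_inv_cancel_comm,
      hρ ⟨f, hfC⟩ 1 f (one_mem L) hfD (Or.inl (one_mul f).symm)] at e2
    have e3 : f = f ^ i := by
      have := congrArg Subtype.val e2
      rwa [Subgroup.coe_zpow] at this
    exact mul_inv_eq_iff_eq_mul.1 (hi.symm.trans e3.symm)
  -- `C(y)` has odd order
  have hodd : Odd (Nat.card (centralizer ({y} : Set G))) := by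
    rw [← Nat.not_even_iff_odd, even_iff_two_dvd]
    intro h2
    haveI : Fact (Nat.Prime 2) := ⟨Nat.prime_two⟩
    obtain ⟨u, hu⟩ := exists_prime_orderOf_dvd_card' (G := centralizer ({y} : Set G)) 2 h2
    obtain ⟨g, hg⟩ := fr.shape.elem.one_class fr.frame.ht (w := (u : G)) (by rw [Subgroup.orderOf_coe, hu])
    set y₁ := g⁻¹ * y * g with hy₁
    have hy₁C : zpowers y₁ ≤ Ct := zpowers_le.2 (mem_centralizer_singleton_iff.2 (by
      have h1 : Commute (u : G) y := mem_centralizer_singleton_iff.1 u.2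
      calc g⁻¹ * y * g * t = g⁻¹ * (y * (g * t * g⁻¹)) * g := by group
        _ = t * (g⁻¹ * y * g) := by rw [hg, ← h1.eq, ← hg]; group))
    have hy₁o : orderOf y₁ = s := by
      rw [hy₁, show g⁻¹ * y * g = MulAut.conj g⁻¹ y by simp, MulEquiv.orderOf_eq, hy]
    have hrel : ¬ s ∣ (zpowers f).relIndex Ct := by
      have h1 := relIndex_mul_relIndex ⊥ (zpowers f) Ct bot_le
        (zpowers_le.2 (mem_centralizer_singleton_iff.2 hft.eq))
      rw [relIndex_bot_left, relIndex_bot_left, Nat.card_zpowers, hf, fr.card_cent, hcardD, mul_comm _ s] at h1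
      rw [Nat.eq_of_mul_eq_mul_left hsp.pos h1]
      obtain ⟨eL⟩ := fr.shape.iso
      have h3 := card_psl_odd (F := F) (Nat.odd_iff.2 (by have := fr.shape.mod8; omega))
      rw [Nat.card_congr eL.toEquiv, h3, hF]
      intro hd
      haveI := Fact.mk hsp
      have e1 := (ZMod.natCast_eq_zero_iff _ s).2 hd
      push_cast [Nat.one_le_pow s 5 (by norm_num)] at e1
      rw [ZMod.pow_card] at e1
      have e2 : ((120 : ℕ) : ZMod s) = 0 := by push_cast; linear_combination e1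
      have h4 := (ZMod.natCast_eq_zero_iff 120 s).1 e2
      rcases hs3 with rfl | rfl | rfl <;> norm_num at h4
    obtain ⟨h, -, hle'⟩ := Transfer.exists_conj_le_of_not_dvd_relIndex
      (zpowers_le.2 (mem_centralizer_singleton_iff.2 hft.eq))
      (IsPGroup.of_card (n := 1) (by rw [Nat.card_zpowers, hf, pow_one])) hrel hy₁C
      (IsPGroup.of_card (n := 1) (by rw [Nat.card_zpowers, hy₁o, pow_one]))
    set z := h * g⁻¹ with hz
    have hzy : z * y * z⁻¹ ∈ zpowers f := by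
      have := hle' ⟨y₁, mem_zpowers y₁, rfl⟩
      simp only [MulEquiv.coe_toMonoidHom, MulAut.conj_apply, hy₁] at this
      convert this using 1
      rw [hz]; group
    have hzo : orderOf (z * y * z⁻¹) = s := by
      rw [show z * y * z⁻¹ = MulAut.conj z y from rfl, MulEquiv.orderOf_eq, hy]
    have hgen : zpowers (z * y * z⁻¹) = zpowers f := Subgroup.eq_of_le_of_card_ge (zpowers_le.2 hzy)
      (by rw [Nat.card_zpowers, Nat.card_zpowers, hzo, hf])
    obtain ⟨k, hk⟩ := mem_zpowers_iff.1 (hgen ▸ mem_zpowers f : f ∈ zpowers (z * y * z⁻¹))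
    obtain ⟨i, hi⟩ := mem_zpowers_iff.1 hzy
    have h5' : Commute (z * c * z⁻¹) f := hN _ (by
      have e1 : z * c * z⁻¹ * (z * y * z⁻¹) * (z * c * z⁻¹)⁻¹ = (z * y * z⁻¹) ^ r := by
        rw [conj_pow, ← hcyG]; group
      rw [← hgen, ← hk, ← conj_zpow, e1]
      exact zpow_mem (pow_mem (mem_zpowers _) r) k)
    have h6 : Commute (z * c * z⁻¹) (z * y * z⁻¹) := hi ▸ h5'.zpow_right i
    exact hmove' ((Commute.conj_iff z).1 h6)
  -- conclusion
  haveI := fr.shape.elem.simple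
  have hperf : _root_.commutator G = ⊤ := by
    rcases Subgroup.Normal.eq_bot_or_eq_top (inferInstance : (_root_.commutator G).Normal) with h | h
    · refine absurd ⟨⟨fun a b => ?_⟩⟩ fr.shape.elem.nonab
      exact commutatorElement_eq_one_iff_mul_comm.1 ((Subgroup.eq_bot_iff_forall _).1 h _
        (Subgroup.commutator_mem_commutator (mem_top a) (mem_top b)))
    · exact h
  refine false_of_mover (f := f) (y := y) (c := c) hperf (by omega) hf hy hfy
    (fun h => hyf ?_) hcf (hcyG ▸ pow_mem (mem_zpowers y) r) hmove' hc hN ?_ ?_ hodd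
  · obtain ⟨k, hk⟩ := mem_zpowers_iff.1 h
    exact mem_zpowers_iff.2 ⟨k, Subtype.ext (by rw [Subgroup.coe_zpow]; exact hk)⟩
  · rw [← hCf, hcardCf, pow_succ', mul_comm 175560 s]
    intro hd
    have h1 := Nat.dvd_of_mul_dvd_mul_left hsp.pos hd
    rcases hs3 with rfl | rfl | rfl <;> norm_num at h1
  · rw [← hCf, hcardCf]
    exact Dvd.dvd.mul_right (by norm_num) s

end Cfsg.Agent.AbelianSylow.Field
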