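import Cfsg.Agent.Lib.PSL2.KleinCentre
import Cfsg.Agent.Lib.PSL2.SubfieldConj
import Cfsg.Agent.Lib.FieldAut.Tools

/-!
# Automorphisms of odd order of `L₂(q)` fixing a four group pointwise (owner: helper29)

* `exists_conj_semi` : conjugate to a field automorphism of the same order
* `exists_fixed_equiv` : the fixed group of such an automorphism of order `r` is `L₂(q₀)`, `q = q₀^r`
-/

set_option autoImplicit false
set_option linter.unusedSectionVars false

open Matrix Subgroup

namespace Cfsg.Agent.AbelianSylow.Field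

open PSL2

variable {F : Type} [Field F] [Finite F]

theorem semi_pow (g : GL (Fin 2) F) (σ : F ≃+* F) (n : ℕ) :
    (AutPSL.semi g σ : MulAut (PSL2 F)) ^ n = AutPSL.semi (FieldAut.twNorm σ n g) (σ ^ n) := by
  induction n with
  | zero => rw [pow_zero, pow_zero]; exact AutPSL.semi_one.symm
  | succ n ih =>
    rw [pow_succ', ih, pow_succ' σ, AutPSL.semi_mul]
    rfl

theorem pow_fix {M : Type*} [Group M] {α : MulAut M} {v : M} (h : α v = v) (n : ℕ) : (α ^ n) v = v := by
  induction n with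
  | zero => rfl
  | succ n ih => rw [pow_succ, MulAut.mul_apply, h, ih]

/-- A linear automorphism of odd order fixing a four group pointwise is trivial. -/
theorem eq_one_of_linear (hodd : Odd (Nat.card F)) {V : Subgroup (PSL2 F)} (hV : IsKleinFour V)
    {g : GL (Fin 2) F} (hfix : ∀ v ∈ V, AutPSL.semi g (RingEquiv.refl F) v = v)
    (ho : Odd (orderOf (AutPSL.semi g (RingEquiv.refl F) : MulAut (PSL2 F)))) :
    (AutPSL.semi g (RingEquiv.refl F) : MulAut (PSL2 F)) = 1 := by
  have := Fintype.ofFinite F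
  have h2 : (2 : F) ≠ 0 := two_ne_zero_iff_odd.2 hodd
  have hmem : ProjGenLinGroup.mk g ∈
      V.map (ProjectiveSpecialLinearGroup.toPGL : PSL2 F →* PGL2 F) := by
    refine mem_map_klein h2 hV fun v hv => ?_
    have h1 : ProjectiveSpecialLinearGroup.toPGL (outConj g v) = ProjectiveSpecialLinearGroup.toPGL v :=
      congrArg _ (hfix v hv)
    rw [toPGL_outConj, mul_inv_eq_iff_eq_mul] at h1
    exact h1.symm
  obtain ⟨v, hv, hvg⟩ := hmem
  have hα : (AutPSL.semi g (RingEquiv.refl F) : MulAut (PSL2 F)) = MulAut.conj v := by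
    refine MulEquiv.ext fun x => ProjectiveSpecialLinearGroup.toPGL_injective ?_
    show ProjectiveSpecialLinearGroup.toPGL (outConj g x) = _
    rw [toPGL_outConj, MulAut.conj_apply, map_mul, map_mul, map_inv, hvg]
  rw [hα] at ho ⊢
  have hv2 : v ^ 2 = 1 := by
    rw [pow_two]
    exact congrArg Subtype.val (IsKleinFour.mul_self (⟨v, hv⟩ : V))
  have h1 : orderOf (MulAut.conj v : MulAut (PSL2 F)) ∣ 2 :=
    orderOf_dvd_of_pow_eq_one (by rw [← map_pow, hv2, map_one])
  refine orderOf_eq_one_iff.1 (((Nat.dvd_prime Nat.prime_two).1 h1).resolve_right fun e => ?_)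
  rw [e] at ho
  exact absurd ho (by decide)

/-- An automorphism of odd order fixing a four group pointwise is conjugate to a field automorphism. -/
theorem exists_conj_semi (hodd : Odd (Nat.card F)) {V : Subgroup (PSL2 F)} (hV : IsKleinFour V)
    {α : MulAut (PSL2 F)} (hfix : ∀ v ∈ V, α v = v) (ho : Odd (orderOf α)) :
    ∃ (σ : F ≃+* F) (β : MulAut (PSL2 F)), orderOf σ = orderOf α ∧ β * AutPSL.semi 1 σ * β⁻¹ = α := by
  have := Fintype.ofFinite F
  obtain ⟨g, σ, rfl⟩ := AutPSL.exists_semi_of_two α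
  set r := orderOf (AutPSL.semi g σ : MulAut (PSL2 F)) with hr
  have hone : ∀ n : ℕ, σ ^ n = 1 → (AutPSL.semi g σ : MulAut (PSL2 F)) ^ n = 1 := fun n hn => by
    have e : (AutPSL.semi g σ : MulAut (PSL2 F)) ^ n =
        AutPSL.semi (FieldAut.twNorm σ n g) (RingEquiv.refl F) := by
      rw [semi_pow, hn]; rfl
    rw [e]
    refine eq_one_of_linear hodd hV (fun v hv => ?_) ?_
    · rw [← e]
      exact pow_fix (hfix v hv) n
    · rw [← e]
      exact Odd.of_dvd_nat ho (orderOf_pow_dvd n)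
  have hσo : orderOf σ = r := by
    refine Nat.dvd_antisymm (orderOf_dvd_of_pow_eq_one ?_)
      (orderOf_dvd_of_pow_eq_one (hone _ (pow_orderOf_eq_one σ)))
    have h1 := pow_orderOf_eq_one (AutPSL.semi g σ : MulAut (PSL2 F))
    rw [← hr, semi_pow] at h1
    exact (AutPSL.semi_eq_one_iff.1 h1).1
  have hpos : 0 < r := orderOf_pos _
  obtain ⟨z, hz⟩ : ∃ z : Fˣ, FieldAut.twNorm σ r g = FieldAut.scal z := by
    have h1 := pow_orderOf_eq_one (AutPSL.semi g σ : MulAut (PSL2 F))
    rw [← hr, semi_pow] at h1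
    have h2 := (AutPSL.semi_eq_one_iff.1 h1).2
    rw [Matrix.GeneralLinearGroup.center_eq_range_scalar] at h2
    obtain ⟨z, hz⟩ := h2
    exact ⟨z, hz.symm⟩
  obtain ⟨a, k, hgk⟩ := FieldAut.exists_twist_of_scalar hσo hpos hz
  refine ⟨σ, AutPSL.semi k (RingEquiv.refl F), hσo, ?_⟩
  rw [AutPSL.semi_inv, AutPSL.semi_mul, AutPSL.semi_mul, AutPSL.semi_eq_semi]
  refine ⟨RingEquiv.ext fun x => rfl, ?_⟩
  rw [Matrix.GeneralLinearGroup.center_eq_range_scalar]
  refine ⟨a, ?_⟩
  rw [hgk, map_one, mul_one]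
  rw [FieldAut.scal_comm]
  have e : ∀ (x y : GL (Fin 2) F), x = (FieldAut.galGL σ k)⁻¹ →
      y = k * (FieldAut.galGL σ k)⁻¹ * FieldAut.scal a →
      (k * x)⁻¹ * y = (FieldAut.scal a : GL (Fin 2) F) := by
    rintro x y rfl rfl
    rw [inv_mul_cancel_left]
  refine (e _ _ ?_ rfl).symm
  exact map_inv (FieldAut.galGL σ) k

theorem fixed_semi_eq {σ : F ≃+* F} (hodd : Odd (Nat.card F)) (hσ : Odd (orderOf σ)) :
    MonoidHom.eqLocus (AutPSL.semi 1 σ : MulAut (PSL2 F)).toMonoidHom (MonoidHom.id _) =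
      stdPSL (FieldAut.fixF σ).subtype := by
  have := Fintype.ofFinite F
  have h2 : (2 : F) ≠ 0 := two_ne_zero_iff_odd.2 hodd
  have hK : ∀ s : SL2 (FieldAut.fixF σ), toK (FieldAut.fixF σ).subtype (QuotientGroup.mk s) =
      ProjectiveSpecialLinearGroup.toPGL
        (QuotientGroup.mk (Matrix.SpecialLinearGroup.map (FieldAut.fixF σ).subtype s) : PSL2 F) := fun s => by
    rw [toK, MonoidHom.comp_apply, ProjectiveSpecialLinearGroup.toPGL_mk, ProjGenLinGroup.map_mk,
      ProjectiveSpecialLinearGroup.toPGL_mk]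
    congr 1
    exact Units.ext (Matrix.ext fun i j => rfl)
  ext x
  obtain ⟨s, rfl⟩ := QuotientGroup.mk_surjective x
  have hs : AutPSL.semi 1 σ (QuotientGroup.mk s : PSL2 F) =
      QuotientGroup.mk (Matrix.SpecialLinearGroup.map (σ : F →+* F) s) := by
    refine AutPSL.semi_proj_eq _ _ ?_
    simp [Matrix.SpecialLinearGroup.map_apply_coe]
  constructor
  · intro hx
    have hx' : (QuotientGroup.mk (Matrix.SpecialLinearGroup.map (σ : F →+* F) s) : PSL2 F) =
        QuotientGroup.mk s := hs.symm.trans hx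
    rcases mk_eq_mk_iff.1 hx' with he | he
    · have hfix : ∀ i j, s.1 i j ∈ FieldAut.fixF σ := fun i j => (FieldAut.mem_fixF σ).2
        (congrArg (fun y : SL2 F => y.1 i j) he)
      let s₀ : SL2 (FieldAut.fixF σ) := ⟨Matrix.of fun i j => ⟨s.1 i j, hfix i j⟩, by
        apply (FieldAut.fixF σ).subtype_injective
        rw [RingHom.map_det, map_one]
        exact s.2⟩
      refine ⟨QuotientGroup.mk s₀, ?_⟩
      rw [hK]
      congr 2
    · exfalso
      have hneg : ∀ n : ℕ, ∀ i j, (σ ^ n) (s.1 i j) = (-1) ^ n * s.1 i j := by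
        intro n
        induction n with
        | zero => intro i j; simp
        | succ n ih =>
          intro i j
          have h1 : σ (s.1 i j) = - s.1 i j := congrArg (fun y : SL2 F => y.1 i j) he
          rw [pow_succ, RingAut.mul_apply, h1, map_neg, ih, pow_succ]
          ring
      have h0 : ∀ i j, s.1 i j = 0 := fun i j => by
        have h1 := hneg (orderOf σ) i j
        rw [pow_orderOf_eq_one, hσ.neg_one_pow, RingAut.one_apply, neg_one_mul] at h1
        have h3 : (2 : F) * s.1 i j = 0 := by linear_combination h1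
        exact (mul_eq_zero.1 h3).resolve_left h2
      have := s.2
      rw [show s.1 = 0 from Matrix.ext h0, Matrix.det_zero] at this
      exact zero_ne_one this
  · rintro ⟨y, hy⟩
    obtain ⟨s₀, rfl⟩ := QuotientGroup.mk_surjective y
    rw [hK] at hy
    rw [← ProjectiveSpecialLinearGroup.toPGL_injective hy]
    show AutPSL.semi 1 σ _ = _
    refine AutPSL.semi_proj_eq _ _ ?_
    have h1 : ∀ i j, σ ((s₀.1 i j : FieldAut.fixF σ) : F) = ((s₀.1 i j : FieldAut.fixF σ) : F) := fun i j =>
      (FieldAut.mem_fixF σ).1 (s₀.1 i j).2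
    ext i j
    simp [Matrix.SpecialLinearGroup.map_apply_coe, h1]

/-- The fixed group of an automorphism of odd order fixing a four group pointwise. -/
theorem exists_fixed_equiv (hodd : Odd (Nat.card F)) {V : Subgroup (PSL2 F)} (hV : IsKleinFour V)
    {α : MulAut (PSL2 F)} (hfix : ∀ v ∈ V, α v = v) (ho : Odd (orderOf α)) :
    ∃ (F₀ : Type) (_ : Field F₀) (_ : Fintype F₀), Fintype.card F₀ ^ orderOf α = Nat.card F ∧
      Nonempty (↥(MonoidHom.eqLocus α.toMonoidHom (MonoidHom.id (PSL2 F))) ≃* PSL2 F₀) := by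
  obtain ⟨σ, β, hσ, hβ⟩ := exists_conj_semi hodd hV hfix ho
  letI ifx : Fintype (FieldAut.fixF σ) := Fintype.ofFinite _
  refine ⟨FieldAut.fixF σ, inferInstance, ifx, ?_, ?_⟩
  · rw [← Nat.card_eq_fintype_card, FieldAut.pow_card_fixed σ hσ]
  · obtain ⟨e⟩ := nonempty_stdPSL_equiv (F := F) (FieldAut.fixF σ).subtype
    have hm : (MonoidHom.eqLocus (AutPSL.semi 1 σ : MulAut (PSL2 F)).toMonoidHom (MonoidHom.id _)).map
        β.toMonoidHom = MonoidHom.eqLocus α.toMonoidHom (MonoidHom.id (PSL2 F)) := by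
      rw [← hβ]
      ext x
      constructor
      · rintro ⟨y, hy, rfl⟩
        show β (AutPSL.semi 1 σ (β⁻¹ (β y))) = β y
        rw [MulAut.inv_apply_self, show AutPSL.semi 1 σ y = y from hy]
      · intro hx
        refine ⟨β⁻¹ x, ?_, MulAut.apply_inv_self _ _ x⟩
        show AutPSL.semi 1 σ (β⁻¹ x) = β⁻¹ x
        apply β.injective
        rw [MulAut.apply_inv_self]
        exact hx
    exact ⟨((MulEquiv.subgroupCongr hm).symm.trans
      (Subgroup.equivMapOfInjective _ β.toMonoidHom β.injective).symm).trans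
      ((MulEquiv.subgroupCongr (fixed_semi_eq hodd (hσ ▸ ho))).trans e)⟩

end Cfsg.Agent.AbelianSylow.Field
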