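import Cfsg.Agent.Lib.AbelianSylow.Cent.FieldCtx
import Cfsg.Agent.Lib.AbelianSylow.Cent.FieldPSL

/-!
# Part (a): a complement of field automorphisms (owner: helper29)

* `fieldAct` : conjugation on `L` as automorphisms of `L₂(q)`
* `exists_fieldFrame` : every `CShape` has a `FieldFrame`
-/

set_option autoImplicit false
set_option linter.style.haveILetI false

namespace Cfsg.Agent.AbelianSylow.Field

open Subgroup AbelianTwoPSL
open scoped Pointwise

universe u

variable {G : Type u} [Group G] [Finite G] {t : G} {F : Type} [Field F] [Fintype F] {E L : Subgroup G}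
  {A : Sylow 2 G} {V : Subgroup G}

/-- `E` acts on `L ≅ L₂(q)` by conjugation. -/
def fieldAct (ctx : Ctx t E L) (e : ↥L ≃* PSL2.PSL2 F) : ↥E →* MulAut (PSL2.PSL2 F) :=
  (MulAut.congr e).toMonoidHom.comp
    (L.normalizerMonoidHom.comp (inclusion fun x hx => Coprime.mem_normalizer_of_forall (ctx.norm x hx)))

theorem fieldAct_apply (ctx : Ctx t E L) (e : ↥L ≃* PSL2.PSL2 F) (d : ↥E) (x : ↥L) :
    fieldAct ctx e d (e x) = e ⟨(d : G) * x * (d : G)⁻¹, ctx.norm d d.2 x x.2⟩ := by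
  show e ((L.normalizerMonoidHom _) (e.symm (e x))) = _
  rw [e.symm_apply_apply]
  rfl

/-- What commutes with `t`, normalises `V` and fixes one of its involutions centralises `V`. -/
theorem commute_of_fix (h : Elem8 G) (f : Frame t E L A V) {n u : G}
    (hn : ∀ v ∈ V, n * v * n⁻¹ ∈ V) (hu : u ∈ V) (hu1 : u ≠ 1) (hfix : n * u * n⁻¹ = u) :
    ∀ v ∈ V, Commute n v := by
  classical
  haveI : Fact (Nat.Prime 2) := ⟨Nat.prime_two⟩
  intro v hv
  -- the square centralises `V`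
  have hinj : ∀ a b : G, n * a * n⁻¹ = n * b * n⁻¹ → a = b := fun a b e => by simpa using e
  have hfour : ∀ w ∈ V, w = 1 ∨ w = u ∨ w = v ∨ w = u * v ∨ v = 1 ∨ v = u := by
    intro w hw
    by_cases hv1 : v = 1
    · simp [hv1]
    by_cases hvu : v = u
    · simp [hvu]
    by_contra hne
    push Not at hne
    obtain ⟨h1, h2, h3, h4, -, -⟩ := hne
    have hsub : ({1, u, v, u * v, w} : Set G) ⊆ V := by
      rintro x (rfl | rfl | rfl | rfl | rfl)
      exacts [one_mem V, hu, hv, mul_mem hu hv, hw]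
    have h5 : ({1, u, v, u * v, w} : Set G).ncard = 5 := by
      have e1 : u * v ≠ 1 := fun e => hvu (by
        rw [mul_eq_one_iff_eq_inv, inv_eq_of_mul_eq_one_right (f.sq_V hv)] at e; exact e.symm)
      have e2 : u * v ≠ u := fun e => hv1 (mul_eq_left.1 e)
      have e3 : u * v ≠ v := fun e => hu1 (mul_eq_right.1 e)
      rw [Set.ncard_insert_of_notMem (by simp [hu1.symm, Ne.symm hv1, e1.symm, h1.symm]) (Set.toFinite _),
        Set.ncard_insert_of_notMem (by simp [Ne.symm hvu, e2.symm, h2.symm]) (Set.toFinite _),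
        Set.ncard_insert_of_notMem (by simp [e3.symm, h3.symm]) (Set.toFinite _), Set.ncard_pair h4.symm]
    have := Nat.card_mono (Set.toFinite _) hsub
    rw [Nat.card_coe_set_eq, h5, SetLike.coe_sort_coe, f.card_V] at this
    omega
  have hsq : n * (n * v * n⁻¹) * n⁻¹ = v := by
    rcases hfour _ (hn v hv) with e | e | e | e | rfl | rfl
    · rw [conj_eq_one_iff.1 e]; simp
    · rw [hinj v u (e.trans hfix.symm)]; rw [hfix, hfix]
    · rw [e, e]
    · rw [e, show n * (u * v) * n⁻¹ = (n * u * n⁻¹) * (n * v * n⁻¹) by group, hfix, e, ← mul_assoc,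
        f.sq_V hu, one_mul]
    · simp
    · rw [hfix, hfix]
  -- the `2`-part
  obtain ⟨k, m, hm, ho⟩ := Nat.exists_eq_two_pow_mul_odd (orderOf_pos n).ne'
  have hwc : ∀ j : ℕ, n ^ (2 * j) * v * (n ^ (2 * j))⁻¹ = v := by
    intro j
    induction j with
    | zero => simp
    | succ j ih =>
      calc n ^ (2 * (j + 1)) * v * (n ^ (2 * (j + 1)))⁻¹
          = n * (n * (n ^ (2 * j) * v * (n ^ (2 * j))⁻¹) * n⁻¹) * n⁻¹ := by
            rw [mul_add, mul_one, pow_succ', pow_succ']; group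
        _ = v := by rw [ih, hsq]
  obtain ⟨j, rfl⟩ := hm
  set w := n ^ (2 * j + 1) with hw
  have hw2 : w ^ (2 ^ k) = 1 := by rw [hw, ← pow_mul, mul_comm, ← ho, pow_orderOf_eq_one]
  have hnorm : zpowers w ≤ normalizer (V : Set G) := by
    rw [zpowers_le]
    exact pow_mem (Coprime.mem_normalizer_of_forall hn) _
  obtain ⟨S, hS⟩ : ∃ S : Sylow 2 G, V ⊔ zpowers w ≤ (S : Subgroup G) := by
    refine IsPGroup.exists_le_sylow ?_
    rw [sup_comm]
    refine IsPGroup.to_sup_of_normal_right' ?_ ?_ hnorm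
    · exact fun x => ⟨k, Subtype.ext (by
        obtain ⟨i, hi⟩ := mem_zpowers_iff.1 x.2
        rw [SubmonoidClass.coe_pow, ← hi, ← zpow_natCast, ← zpow_mul, mul_comm, zpow_mul, zpow_natCast, hw2,
          one_zpow]; rfl)⟩
    · exact IsPGroup.of_card (n := 2) (by rw [f.card_V]; norm_num)
  have hcw : Commute w v := h.commute_mem S (hS (mem_sup_right (mem_zpowers w))) (hS (mem_sup_left hv))
  have e : w * v * w⁻¹ = v := by rw [hcw.eq, mul_inv_cancel_right]
  rw [hw, pow_succ', show n * n ^ (2 * j) * v * (n * n ^ (2 * j))⁻¹ =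
    n * (n ^ (2 * j) * v * (n ^ (2 * j))⁻¹) * n⁻¹ by group, hwc] at e
  exact mul_inv_eq_iff_eq_mul.1 e

/-- Frattini: `E = L C_E(V)`. -/
theorem exists_split (h : Elem8 G) (f : Frame t E L A V) {x : G} (hx : x ∈ E) :
    ∃ y ∈ L, ∀ v ∈ V, Commute (y⁻¹ * x) v := by
  haveI : Fact (Nat.Prime 2) := ⟨Nat.prime_two⟩
  haveI := f.four
  set V₀ := V.subgroupOf L
  have hV₀ : IsPGroup 2 V₀ := IsPGroup.of_card (n := 2) (by rw [IsKleinFour.card_four]; norm_num)
  obtain ⟨P, hP⟩ := hV₀.exists_le_sylow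
  have hPV : (P : Subgroup L) = V₀ := (eq_of_le_of_card_ge hP
    (by rw [(f.data.sylow P).card_four, IsKleinFour.card_four])).symm
  let α : ↥L ≃* ↥L := L.normalizerMonoidHom ⟨x, Coprime.mem_normalizer_of_forall (f.norm x hx)⟩
  obtain ⟨y, hy⟩ := MulAction.exists_smul_eq L P (P.mapSurjective (f := α.toMonoidHom) α.surjective)
  have hymem : ∀ v ∈ V, ((y : G)⁻¹ * x) * v * ((y : G)⁻¹ * x)⁻¹ ∈ V := by
    intro v hv
    have h1 : α ⟨v, f.memE₀ hv⟩ ∈ ((y • P : Sylow 2 L) : Subgroup L) := by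
      rw [hy]
      show _ ∈ (P : Subgroup L).map α.toMonoidHom
      exact mem_map_of_mem _ (hPV.ge hv)
    change α ⟨v, f.memE₀ hv⟩ ∈ MulAut.conj y • (P : Subgroup L) at h1
    rw [Coprime.mem_conj, hPV] at h1
    have h2 : ((y⁻¹ * α ⟨v, f.memE₀ hv⟩ * y⁻¹⁻¹ : L) : G) ∈ V := by
      simpa [V₀, mem_subgroupOf] using h1
    convert h2 using 1
    show _ = (y : G)⁻¹ * (x * v * x⁻¹) * (y : G)⁻¹⁻¹
    group
  obtain ⟨u, hu, hu1⟩ : ∃ u ∈ V, u ≠ 1 := by
    by_contra hc
    push Not at hc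
    have := f.card_V
    rw [(eq_bot_iff_forall _).2 hc, card_bot] at this
    omega
  set n := (y : G)⁻¹ * x
  obtain ⟨m, hmL, hmA, hm⟩ := f.exists_normalizer hu hu1 (hymem u hu) fun e => hu1 (conj_eq_one_iff.1 e)
  have hmV : ∀ v ∈ V, m⁻¹ * v * m ∈ V := fun v hv => by
    have h1 := (mem_normalizer_iff.1 (inv_mem hmA) v).1 (f.memA hv)
    rw [inv_inv] at h1
    exact f.vdef.ge (mem_inf.2 ⟨h1, mul_mem (mul_mem (inv_mem hmL) (f.memE₀ hv)) hmL⟩)
  refine ⟨y * m, mul_mem y.2 hmL, ?_⟩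
  refine commute_of_fix h f (fun v hv => ?_) hu hu1 ?_
  · convert hmV _ (hymem v hv) using 1
    show _ = m⁻¹ * (((y : G)⁻¹ * x) * v * ((y : G)⁻¹ * x)⁻¹) * m
    group
  · calc ((y : G) * m)⁻¹ * x * u * (((y : G) * m)⁻¹ * x)⁻¹ = m⁻¹ * (n * u * n⁻¹) * m := by
          show _ = m⁻¹ * (((y : G)⁻¹ * x) * u * ((y : G)⁻¹ * x)⁻¹) * m
          group
      _ = u := by rw [← hm]; group

/-- **The complement.** -/
theorem exists_fieldFrame (h : CShape G t F E L) :
    ∃ (A : Sylow 2 G) (V D : Subgroup G), FieldFrame G t F E L A V D := by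
  classical
  haveI : Fact (Nat.Prime 2) := ⟨Nat.prime_two⟩
  obtain ⟨A, V, f⟩ := h.ctx.exists_frame
  set W := E ⊓ centralizer (V : Set G) with hW
  have hWc : ∀ w ∈ W, ∀ v ∈ V, Commute w v := fun w hw v hv => (mem_centralizer_iff.1 hw.2 v hv).symm
  have hVW : V ≤ W := fun v hv => ⟨f.le (f.memE₀ hv),
    mem_centralizer_iff.2 fun w hw => (h.elem.commute_mem A (f.memA hw) (f.memA hv)).eq⟩
  haveI : (V.subgroupOf W).Normal := ⟨fun v hv g => by
    rw [mem_subgroupOf] at hv ⊢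
    rw [coe_mul, coe_mul, coe_inv, (hWc g g.2 v hv).eq, mul_inv_cancel_right]
    exact hv⟩
  have hVc : Nat.card (V.subgroupOf W) = 4 := by
    rw [Nat.card_congr (subgroupOfEquivOfLe hVW).toEquiv, f.card_V]
  obtain ⟨P⟩ : Nonempty (Sylow 2 W) := inferInstance
  have hPle : (P : Subgroup W) ≤ V.subgroupOf W := fun x hx => by
    obtain ⟨k, hk⟩ := P.isPGroup' ⟨x, hx⟩
    refine f.toCtx.mem_four (fun v hv => f.memE₀ hv) f.four x.2.1 (hWc x x.2) (Or.inl ⟨k, ?_⟩)
    exact congrArg (fun z : (P : Subgroup W) => ((z : W) : G)) hk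
  have hV2 : IsPGroup 2 (V.subgroupOf W) := IsPGroup.of_card (n := 2) (by rw [hVc]; norm_num)
  have hPV : (P : Subgroup W) = V.subgroupOf W := le_antisymm hPle (hV2.le_sylow_of_normal P)
  have hodd : ¬ 2 ∣ (V.subgroupOf W).index := hPV ▸ P.not_dvd_index
  obtain ⟨D₀, hD₀⟩ := exists_right_complement'_of_coprime (N := V.subgroupOf W) (by
    rw [hVc, show 4 = 2 ^ 2 by norm_num]
    exact Nat.Coprime.pow_left 2 (Nat.prime_two.coprime_iff_not_dvd.2 hodd))
  set D := D₀.map W.subtype with hD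
  have hDW : D ≤ W := map_subtype_le _
  have hDodd : Odd (Nat.card D) := by
    rw [hD, card_map_of_injective W.subtype_injective, ← hD₀.symm.index_eq_card]
    exact Nat.odd_iff.2 (Nat.two_dvd_ne_zero.1 hodd)
  have hcA : D ≤ centralizer ((A : Subgroup G) : Set G) := fun d hd => mem_centralizer_iff.2 fun a ha => by
    rcases (f.mem a ha).2 with hv | ⟨v, hv, rfl⟩
    · exact (hWc d (hDW hd) a hv).eq.symm
    · exact ((f.comm d (hDW hd).1).mul_right (hWc d (hDW hd) v hv)).eq.symm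
  have hinf : D ⊓ L = ⊥ := by
    refine (eq_bot_iff_forall _).2 fun x hx => ?_
    have hxV : x ∈ V := f.data.cent _ f.four ⟨x, hx.2⟩ fun v hv => Subtype.ext (hWc x (hDW hx.1) _ hv).eq
    by_contra hne
    have h2 := f.orderOf_V hxV hne
    have h3 := hDodd.of_dvd_nat (orderOf_dvd_natCard D hx.1)
    rw [h2] at h3
    exact absurd h3 (by decide)
  have hsplit : ∀ x ∈ E, ∃ y ∈ L, ∃ d ∈ D, x = y * d := by
    intro x hx
    obtain ⟨y, hy, hc⟩ := exists_split h.elem f hx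
    have hW' : y⁻¹ * x ∈ W := mem_inf.2 ⟨mul_mem (inv_mem (f.le hy)) hx,
      mem_centralizer_iff.2 fun v hv => (hc v hv).eq.symm⟩
    obtain ⟨⟨v, d⟩, hvd⟩ := hD₀.2 ⟨_, hW'⟩
    refine ⟨y * ((v : W) : G), mul_mem hy (f.memE₀ v.2), ((d : W) : G), mem_map_of_mem _ d.2, ?_⟩
    have e : ((v : W) : G) * ((d : W) : G) = y⁻¹ * x := congrArg Subtype.val hvd
    rw [mul_assoc, e, mul_inv_cancel_left]
  have hcard : Nat.card D = L.relIndex E := by
    have hbij : Function.Bijective fun p : ↥L × ↥D =>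
        (⟨(p.1 : G) * p.2, mul_mem (f.le p.1.2) (hDW p.2.2).1⟩ : ↥E) := by
      constructor
      · rintro ⟨a, b⟩ ⟨a', b'⟩ he
        have he' : (a : G) * b = a' * b' := congrArg Subtype.val he
        have h1 : (a' : G)⁻¹ * a ∈ D ⊓ L := mem_inf.2 ⟨by
          rw [show (a' : G)⁻¹ * a = b' * (b : G)⁻¹ by
            rw [eq_mul_inv_iff_mul_eq, mul_assoc, he', inv_mul_cancel_left]]
          exact mul_mem b'.2 (inv_mem b.2), mul_mem (inv_mem a'.2) a.2⟩
        rw [hinf, mem_bot, inv_mul_eq_one] at h1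
        refine Prod.ext (Subtype.ext h1.symm) (Subtype.ext ?_)
        rw [h1] at he'
        exact mul_left_cancel he'
      · rintro ⟨x, hx⟩
        obtain ⟨y, hy, d, hd, rfl⟩ := hsplit x hx
        exact ⟨(⟨y, hy⟩, ⟨d, hd⟩), rfl⟩
    have h1 := Nat.card_congr (Equiv.ofBijective _ hbij)
    rw [Nat.card_prod] at h1
    have h2 := relIndex_mul_relIndex ⊥ L E bot_le f.le
    rw [relIndex_bot_left, relIndex_bot_left, ← h1] at h2
    exact (Nat.eq_of_mul_eq_mul_left Nat.card_pos h2).symm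
  -- cyclic
  obtain ⟨e⟩ := h.iso
  have hq : Odd (Nat.card F) := by
    rw [Nat.card_eq_fintype_card, Nat.odd_iff]
    have := h.mod8
    omega
  set Vp := (V.subgroupOf L).map e.toMonoidHom with hVp
  have hk : IsKleinFour Vp := PSL2.isKleinFour_map e f.four
  let θ : ↥D →* MulAut (PSL2.PSL2 F) := (fieldAct f.toCtx e).comp (inclusion fun d hd => (hDW hd).1)
  have hθfix : ∀ d, ∀ v ∈ Vp, θ d v = v := by
    rintro d _ ⟨v, hv, rfl⟩
    show fieldAct f.toCtx e _ (e v) = e v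
    rw [fieldAct_apply]
    refine congrArg e (Subtype.ext ?_)
    show (d : G) * v * (d : G)⁻¹ = v
    rw [show (d : G) * (v : G) = (v : G) * (d : G) from (hWc d (hDW d.2) _ hv).eq, mul_inv_cancel_right]
  have hθo : ∀ d, Odd (orderOf (θ d)) := fun d =>
    hDodd.of_dvd_nat ((orderOf_map_dvd θ d).trans (_root_.orderOf_dvd_natCard d))
  have hθinj : Function.Injective θ := by
    refine (injective_iff_map_eq_one θ).2 fun d hd => Subtype.ext (f.cent d (hDW d.2).1 fun x hx => ?_)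
    have h1 := DFunLike.congr_fun hd (e ⟨x, hx⟩)
    rw [show θ d (e ⟨x, hx⟩) = fieldAct f.toCtx e _ (e ⟨x, hx⟩) from rfl, fieldAct_apply, MulAut.one_apply] at h1
    exact mul_inv_eq_iff_eq_mul.1 (congrArg Subtype.val (e.injective h1))
  choose g σ hσ using fun d => AutPSL.exists_semi_of_two (θ d)
  have hmul : ∀ a b, σ (a * b) = σ a * σ b := fun a b => by
    have h1 := hσ (a * b)
    rw [map_mul, hσ a, hσ b, AutPSL.semi_mul, AutPSL.semi_eq_semi] at h1
    exact h1.1.symm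
  let ψ : ↥D →* (F ≃+* F) := MonoidHom.mk' σ hmul
  have hψ : Function.Injective ψ := by
    refine (injective_iff_map_eq_one ψ).2 fun d hd => hθinj ?_
    rw [map_one, hσ, show σ d = RingEquiv.refl F from hd]
    have e' : θ d = AutPSL.semi (g d) (RingEquiv.refl F) := by
      rw [hσ, show σ d = RingEquiv.refl F from hd]
    exact eq_one_of_linear hq hk (fun v hv => e' ▸ hθfix d v hv) (e' ▸ hθo d)
  have hcyc : IsCyclic D := by
    obtain ⟨p, hp⟩ := CharP.exists F
    haveI : Fact p.Prime := ⟨CharP.char_is_prime F p⟩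
    obtain ⟨n, -, hn⟩ := FiniteField.card F p
    obtain ⟨hc, -⟩ := AutPSL.fieldAut_facts (F := F) p n n.pos hn
    exact isCyclic_of_injective ψ hψ
  -- the normaliser of `A`
  set N := normalizer ((A : Subgroup G) : Set G) with hN
  have hmemD : ∀ z, (∀ a ∈ (A : Subgroup G), Commute z a) → Odd (orderOf z) → z ∈ D := by
    intro z hz ho
    have hzW : z ∈ W := ⟨f.toCtx.mem_of_odd (hz t f.htA) ho,
      mem_centralizer_iff.2 fun v hv => (hz v (f.memA hv)).eq.symm⟩
    obtain ⟨⟨v, d⟩, hvd⟩ := hD₀.2 ⟨z, hzW⟩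
    have e' : ((v : W) : G) * ((d : W) : G) = z := congrArg Subtype.val hvd
    have hdD : ((d : W) : G) ∈ D := mem_map_of_mem _ d.2
    rcases eq_or_ne ((v : W) : G) 1 with h1 | h1
    · rwa [← e', h1, one_mul]
    exfalso
    have hco : Commute ((v : W) : G) ((d : W) : G) := (hWc _ (d : W).2 _ v.2).symm
    have h2 : orderOf ((v : W) : G) = 2 := f.orderOf_V v.2 h1
    have hcop : (orderOf ((v : W) : G)).Coprime (orderOf ((d : W) : G)) := by
      rw [h2]; exact Nat.coprime_two_left.2 (hDodd.of_dvd_nat (Subgroup.orderOf_dvd_natCard D hdD))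
    rw [← e', hco.orderOf_mul_eq_mul_orderOf_of_coprime hcop, h2] at ho
    exact absurd ho (Nat.not_odd_iff_even.2 ⟨_, (two_mul _)⟩)
  have hnD : N ≤ normalizer (D : Set G) := fun n hn => Coprime.mem_normalizer_of_forall fun d hd => by
    refine hmemD _ (fun a ha => ?_) ?_
    · have h1 : Commute d (n⁻¹ * a * n) := by
        have := (mem_normalizer_iff.1 (inv_mem hn) a).1 ha
        rw [inv_inv] at this
        exact (mem_centralizer_iff.1 (hcA hd) _ this).symm
      have h2 := h1.map (MulAut.conj n).toMonoidHom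
      simpa [mul_assoc] using h2
    · rw [show n * d * n⁻¹ = MulAut.conj n d from rfl, MulEquiv.orderOf_eq]
      exact hDodd.of_dvd_nat (Subgroup.orderOf_dvd_natCard D hd)
  let μ : ↥N →* MulAut ↥D := D.normalizerMonoidHom.comp (inclusion hnD)
  have hμ : ∀ n : ↥N, μ n = 1 ↔ ∀ d ∈ D, Commute (n : G) d := by
    intro n
    constructor
    · intro hn d hd
      have h1 := congrArg Subtype.val (DFunLike.congr_fun hn ⟨d, hd⟩)
      exact mul_inv_eq_iff_eq_mul.1 h1
    · intro hn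
      exact MulEquiv.ext fun d => Subtype.ext (mul_inv_eq_iff_eq_mul.2 (hn d d.2).eq)
  have hstab : ∀ n : ↥N, Commute (n : G) t → μ n = 1 := by
    intro n hn
    rw [hμ]
    have key : ∀ x ∈ E, x ∈ N → ∀ d ∈ D, Commute x d := by
      intro x hx hxN d hd
      obtain ⟨y, hy, d', hd', rfl⟩ := hsplit x hx
      have hdd : Commute d' d := by
        haveI := hcyc
        haveI := IsCyclic.isMulCommutative (α := D)
        exact congrArg Subtype.val (mul_comm' (⟨d', hd'⟩ : D) ⟨d, hd⟩)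
      have hd'N : d' ∈ N := Coprime.mem_normalizer_of_forall fun a ha => by
        rw [← mem_centralizer_iff.1 (hcA hd') a ha, mul_inv_cancel_right]; exact ha
      have hyN : y ∈ N := by simpa using mul_mem hxN (inv_mem hd'N)
      have h1 : y * d * y⁻¹ * d⁻¹ ∈ D ⊓ L := mem_inf.2 ⟨mul_mem ((mem_normalizer_iff.1 (hnD hyN) d).1 hd) (inv_mem hd),
        by rw [show y * d * y⁻¹ * d⁻¹ = y * (d * y⁻¹ * d⁻¹) by group]
           exact mul_mem hy (f.norm d (hDW hd).1 _ (inv_mem hy))⟩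
      rw [hinf, mem_bot, mul_inv_eq_one, mul_inv_eq_iff_eq_mul] at h1
      exact (show Commute y d from h1).mul_left hdd
    intro d hd
    rcases f.split n hn with hx | ⟨x, hx, he⟩
    · exact key n hx n.2 d hd
    · rw [he]
      refine (f.comm d (hDW hd).1).symm.mul_left (key x hx ?_ d hd)
      have : t * (n : G) ∈ N := mul_mem (le_normalizer f.htA) n.2
      rwa [he, ← mul_assoc, f.mul_self_t, one_mul] at this
  letI : MulAction ↥N G := MulAction.compHom G (ConjAct.toConjAct.toMonoidHom.comp N.subtype)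
  have hsmul : ∀ (n : ↥N) (x : G), n • x = (n : G) * x * (n : G)⁻¹ := fun n x => by
    show ConjAct.toConjAct (n : G) • x = _
    rw [ConjAct.toConjAct_smul]
  have horb : MulAction.orbit ↥N t = ((A : Subgroup G) : Set G) \ {1} := by
    ext a
    constructor
    · rintro ⟨n, rfl⟩
      show n • t ∈ _
      rw [hsmul]
      exact ⟨(mem_normalizer_iff.1 n.2 t).1 f.htA, fun e => Involution.ne_one f.ht (conj_eq_one_iff.1 e)⟩
    · rintro ⟨ha, ha1⟩
      obtain ⟨n, hn, hna⟩ := h.elem.normalizer_transitive A f.htA (Involution.ne_one f.ht) ha ha1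
      exact ⟨⟨n, hn⟩, by rw [← hna]; exact hsmul ⟨n, hn⟩ t⟩
  have h7 : μ.ker.index ∣ 7 := by
    have h1 : (MulAction.stabilizer ↥N t).index = 7 := by
      rw [MulAction.index_stabilizer, horb, Set.ncard_sdiff_singleton_of_mem (one_mem (A : Subgroup G)),
        ← Nat.card_coe_set_eq]
      show Nat.card (A : Subgroup G) - 1 = 7
      rw [(h.elem.sylow A).2]
    rw [← h1]
    refine index_dvd_of_le fun n hn => hstab n ?_
    rw [MulAction.mem_stabilizer_iff, hsmul] at hn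
    exact mul_inv_eq_iff_eq_mul.1 hn
  obtain ⟨v₀, hv₀, hv₀1⟩ : ∃ v ∈ V, v ≠ 1 := by
    by_contra hc
    push Not at hc
    have := f.card_V
    rw [(eq_bot_iff_forall _).2 hc, card_bot] at this
    omega
  obtain ⟨n₁, hn₁, hn₁'⟩ := h.elem.normalizer_transitive A f.htA (Involution.ne_one f.ht) (f.memA hv₀) hv₀1
  obtain ⟨n₂, hn₂, hn₂'⟩ := h.elem.normalizer_transitive A f.htA (Involution.ne_one f.ht)
    (mul_mem f.htA (f.memA hv₀)) (fun e => f.mul_not_mem hv₀ (e ▸ one_mem V))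
  have hmove : ∀ (n m k : ↥N), Commute (m : G) t → (n : G) * t * (n : G)⁻¹ = (m : G) * ((k : G) * t * (k : G)⁻¹) * (m : G)⁻¹ →
      μ n = μ k := by
    intro n m k hm he
    have h1 : μ ((m * k)⁻¹ * n) = 1 := hstab _ (mul_inv_eq_iff_eq_mul.1 (by
      show ((m : G) * k)⁻¹ * n * t * (((m : G) * k)⁻¹ * n)⁻¹ = t
      calc ((m : G) * k)⁻¹ * n * t * (((m : G) * k)⁻¹ * n)⁻¹
          = ((m : G) * k)⁻¹ * ((n : G) * t * (n : G)⁻¹) * ((m : G) * k) := by group
        _ = t := by rw [he]; group))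
    rw [map_mul, map_inv, inv_mul_eq_one, map_mul, hstab m hm, one_mul] at h1
    exact h1.symm
  have hrange : (μ.range : Set (MulAut ↥D)) ⊆ {1, μ ⟨n₁, hn₁⟩, μ ⟨n₂, hn₂⟩} := by
    rintro _ ⟨n, rfl⟩
    have ha : (n : G) * t * (n : G)⁻¹ ∈ (A : Subgroup G) := (mem_normalizer_iff.1 n.2 t).1 f.htA
    have ha1 : (n : G) * t * (n : G)⁻¹ ≠ 1 := fun e => Involution.ne_one f.ht (conj_eq_one_iff.1 e)
    rcases (f.mem _ ha).2 with hv | ⟨v, hv, hv'⟩
    · obtain ⟨m, hm, hmN, hm'⟩ := f.exists_normalizer hv₀ hv₀1 hv ha1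
      refine Or.inr (Or.inl (hmove n ⟨m, hmN⟩ ⟨n₁, hn₁⟩ (f.commute_of_mem hm) ?_))
      rw [hn₁', hm']
    · by_cases hv1 : v = 1
      · rw [hv1, mul_one, mul_inv_eq_iff_eq_mul] at hv'
        exact Or.inl (hstab n hv')
      obtain ⟨m, hm, hmN, hm'⟩ := f.exists_normalizer hv₀ hv₀1 hv hv1
      refine Or.inr (Or.inr (hmove n ⟨m, hmN⟩ ⟨n₂, hn₂⟩ (f.commute_of_mem hm) ?_))
      show (n : G) * t * (n : G)⁻¹ = m * (n₂ * t * n₂⁻¹) * m⁻¹
      rw [hn₂', hv', show m * (t * v₀) * m⁻¹ = m * t * m⁻¹ * (m * v₀ * m⁻¹) by group, hm',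
        (f.commute_of_mem hm).eq, mul_inv_cancel_right]
  have hker : μ.ker.index = 1 := by
    refine ((Nat.dvd_prime (by norm_num : Nat.Prime 7)).1 h7).resolve_right fun e7 => ?_
    rw [index_ker] at e7
    have h3 := Nat.card_mono (Set.toFinite _) hrange
    rw [SetLike.coe_sort_coe, e7, Nat.card_coe_set_eq] at h3
    have h4 := Set.ncard_insert_le (1 : MulAut ↥D) {μ ⟨n₁, hn₁⟩, μ ⟨n₂, hn₂⟩}
    have h5 := Set.ncard_insert_le (μ ⟨n₁, hn₁⟩) ({μ ⟨n₂, hn₂⟩} : Set (MulAut ↥D))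
    rw [Set.ncard_singleton] at h5
    omega
  refine ⟨A, V, D, h, f, fun d hd => (hDW hd).1, hDodd, hcyc, hinf, hcard, hsplit, hcA, fun n hn => ?_⟩
  rw [index_eq_one] at hker
  have h1 : μ ⟨n, hn⟩ = 1 := by
    rw [← MonoidHom.mem_ker, hker]; exact mem_top _
  exact mem_centralizer_iff.2 fun d hd => ((hμ ⟨n, hn⟩).1 h1 d hd).eq.symm

end Cfsg.Agent.AbelianSylow.Field
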