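import Cfsg.Agent.EqLemmas
import Mathlib

/-!
# No field automorphism: an inverted group with one fixed line (owner: helper82; `FIELD.md` step 5)

* `smul_conj_eq` : `τ` inverts the `3`-group `D`, fixes only the line of `y`, the `D`-orbit of `y` spans, and an
  element `h` of odd order fixes `y` and normalises `D`; then `h` acts trivially on the image of `D`
-/

set_option autoImplicit false
set_option linter.style.haveILetI false

namespace Cfsg.Agent.AbelianSylow.Field

/-- **The rotation lemma.** -/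
theorem smul_conj_eq {Γ V : Type*} [Group Γ] [AddCommGroup V] [DistribMulAction Γ V] {l : ℕ} [Fact l.Prime]
    (hl3 : l ≠ 3) (hV : ∀ v : V, l • v = 0) {τ h : Γ} (hτ : τ * τ = 1) (hh : Odd (orderOf h))
    (D : Subgroup Γ) (hD : IsPGroup 3 D) (hinv : ∀ d ∈ D, τ * d * τ⁻¹ = d⁻¹) (hhD : ∀ d ∈ D, h * d * h⁻¹ ∈ D)
    {y : V} (hτy : τ • y = y) (hhy : h • y = y) (hfix : ∀ v : V, τ • v = v → v ∈ AddSubgroup.zmultiples y)
    (hspan : AddSubgroup.closure ((fun d : Γ => d • y) '' (D : Set Γ)) = ⊤) :
    ∀ d ∈ D, ∀ v : V, (h * d * h⁻¹) • v = d • v := by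
  have hcomm : ∀ a ∈ D, ∀ b ∈ D, a * b = b * a := fun a ha b hb => by
    have h1 := hinv _ (D.mul_mem ha hb)
    rw [show τ * (a * b) * τ⁻¹ = τ * a * τ⁻¹ * (τ * b * τ⁻¹) by group, hinv a ha, hinv b hb, mul_inv_rev] at h1
    simpa using congrArg (·⁻¹) h1.symm
  -- additive maps commuting with `D` and killing `y` are zero
  have hzero : ∀ f : V →+ V, (∀ d ∈ D, ∀ v, f (d • v) = d • f v) → f y = 0 → ∀ v, f v = 0 := fun f hf hy v => by
    have hle : AddSubgroup.closure ((fun d : Γ => d • y) '' (D : Set Γ)) ≤ f.ker := by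
      rw [AddSubgroup.closure_le]
      rintro _ ⟨d, hd, rfl⟩
      show f (d • y) = 0
      rw [hf d hd, hy, smul_zero]
    rw [hspan] at hle
    exact hle (AddSubgroup.mem_top v)
  have hact : ∀ a ∈ D, ∀ b ∈ D, ∀ v : V, a • b • v = b • a • v := fun a ha b hb v => by
    rw [← mul_smul, hcomm a ha b hb, mul_smul]
  -- squares of elements of `D`
  have hsq : ∀ d ∈ D, ∀ v : V, d • d • v = v → d • v = v := by
    intro d hd v hv
    obtain ⟨k, hk⟩ := hD ⟨d, hd⟩
    have hk' : d ^ (3 ^ k) = 1 := congrArg Subtype.val hk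
    obtain ⟨m, hm⟩ : Odd (3 ^ k) := (by decide : Odd 3).pow
    have he : ∀ n : ℕ, d ^ (2 * n) • v = v := fun n => by
      induction n with
      | zero => simp
      | succ n ih => rw [Nat.mul_succ, pow_add, mul_smul, pow_two, mul_smul, hv, ih]
    calc d • v = d • d ^ (2 * m) • v := by rw [he]
      _ = v := by rw [← mul_smul, ← pow_succ', ← hm, hk', one_smul]
  have hgen : ∀ z ∈ AddSubgroup.zmultiples y, z ≠ 0 → y ∈ AddSubgroup.zmultiples z := by
    intro z hz hz0
    have hy0 : y ≠ 0 := by
      rintro rfl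
      exact hz0 (by simpa using hz)
    have hord : addOrderOf y = l := addOrderOf_eq_prime (hV y) hy0
    haveI : Fact (Nat.card (AddSubgroup.zmultiples y)).Prime := ⟨by rw [Nat.card_zmultiples, hord]; exact Fact.out⟩
    have := (AddSubgroup.zmultiples (⟨z, hz⟩ : AddSubgroup.zmultiples y)).eq_bot_or_eq_top_of_prime_card
    rcases this with h | h
    · exact absurd (congrArg Subtype.val ((AddSubgroup.zmultiples_eq_bot).1 h)) hz0
    · obtain ⟨i, hi⟩ : (⟨y, AddSubgroup.mem_zmultiples y⟩ : AddSubgroup.zmultiples y) ∈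
          AddSubgroup.zmultiples (⟨z, hz⟩ : AddSubgroup.zmultiples y) := h ▸ AddSubgroup.mem_top _
      exact ⟨i, congrArg Subtype.val hi⟩
  intro d hd
  set b := h * d * h⁻¹ with hb
  have hbD : b ∈ D := hhD d hd
  -- `b` and `d` satisfy the same quadratic equation
  obtain ⟨c, hc⟩ : d • y + d⁻¹ • y ∈ AddSubgroup.zmultiples y := by
    refine hfix _ ?_
    rw [smul_add, ← mul_smul, ← mul_smul, show τ * d = τ * d * τ⁻¹ * τ by group,
      show τ * d⁻¹ = τ * d⁻¹ * τ⁻¹ * τ by group, hinv d hd, hinv _ (D.inv_mem hd), mul_smul, mul_smul, hτy,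
      inv_inv, add_comm]
  have hc' : b • y + b⁻¹ • y = c • y := by
    have hhi : h⁻¹ • y = y := by rw [inv_smul_eq_iff, hhy]
    rw [show b⁻¹ = h * d⁻¹ * h⁻¹ by rw [hb]; group, hb, mul_smul, mul_smul, mul_smul, mul_smul, hhi, ← smul_add,
      ← show c • y = d • y + d⁻¹ • y from hc]
    exact ((DistribSMul.toAddMonoidHom V h).map_zsmul c y).trans (congrArg (c • ·) hhy)
  let A : Γ → V →+ V := fun g => DistribSMul.toAddMonoidHom V g
  have hquad : ∀ v : V, b • v + b⁻¹ • v = d • v + d⁻¹ • v := by
    intro v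
    have := hzero (A b + A b⁻¹ - A d - A d⁻¹) (fun e he w => by
      show b • e • w + b⁻¹ • e • w - d • e • w - d⁻¹ • e • w = e • (b • w + b⁻¹ • w - d • w - d⁻¹ • w)
      rw [smul_sub, smul_sub, smul_add, hact b hbD e he, hact _ (D.inv_mem hbD) e he, hact d hd e he,
        hact _ (D.inv_mem hd) e he]) (by
      show b • y + b⁻¹ • y - d • y - d⁻¹ • y = 0
      rw [sub_sub, hc', ← show c • y = d • y + d⁻¹ • y from hc, sub_self]) v
    rw [← sub_eq_zero, sub_add_eq_sub_sub]; exact this
  -- the kernel of `b - d⁻¹`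
  let K : AddSubgroup V := (A b - A d⁻¹).ker
  have hK : ∀ v : V, v ∈ K ↔ b • v = d⁻¹ • v := fun v => sub_eq_zero
  have himg : ∀ v : V, b • v - d • v ∈ K := fun v => by
    rw [hK, smul_sub, smul_sub, ← mul_smul d⁻¹ d, inv_mul_cancel, one_smul]
    have h1 := congrArg (b • ·) (hquad v)
    simp only [smul_add] at h1
    rw [← mul_smul b b⁻¹, mul_inv_cancel, one_smul, hact b hbD _ (D.inv_mem hd)] at h1
    rw [sub_eq_sub_iff_add_eq_add]; exact h1.trans (add_comm _ _)
  by_cases hyK : y ∈ K
  · -- `b = d⁻¹`: iterate `h`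
    have hinv' : ∀ v : V, b • v = d⁻¹ • v := by
      have := hzero (A b - A d⁻¹) (fun e he w => by
        show b • e • w - d⁻¹ • e • w = e • (b • w - d⁻¹ • w)
        rw [smul_sub, hact b hbD e he, hact _ (D.inv_mem hd) e he]) hyK
      exact fun v => sub_eq_zero.1 (this v)
    have hit : ∀ k : ℕ, ∀ v : V, (h ^ k * d * (h ^ k)⁻¹) • v = (if Even k then d else d⁻¹) • v := by
      intro k
      induction k with
      | zero => simp
      | succ k ih =>
        intro v
        have h2 : ∀ e : Γ, (∀ w : V, e • w = d⁻¹ • w) → ∀ w : V, e⁻¹ • w = d • w := fun e he w => by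
          rw [inv_smul_eq_iff, he, ← mul_smul, inv_mul_cancel, one_smul]
        rw [show h ^ (k + 1) * d * (h ^ (k + 1))⁻¹ = h * (h ^ k * d * (h ^ k)⁻¹) * h⁻¹ by rw [pow_succ']; group,
          mul_smul, mul_smul, ih]
        by_cases he : Even k
        · rw [if_pos he, if_neg (by simpa [Nat.even_add_one] using he), ← mul_smul, ← mul_smul]
          exact hinv' v
        · rw [if_neg he, if_pos (by simpa [Nat.even_add_one] using he), ← mul_smul, ← mul_smul,
            show h * d⁻¹ * h⁻¹ = b⁻¹ by rw [hb]; group]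
          exact h2 b hinv' v
    have htriv : ∀ v : V, d • v = v := fun v => by
      refine hsq d hd v ?_
      have h1 := hit (orderOf h) v
      rw [pow_orderOf_eq_one, one_mul, inv_one, mul_one, if_neg (Nat.not_even_iff_odd.2 hh)] at h1
      nth_rewrite 1 [show d • v = d⁻¹ • v from h1]
      rw [← mul_smul, mul_inv_cancel, one_smul]
    intro v
    rw [hinv', inv_smul_eq_iff, htriv, htriv]
  · -- `τ` is `-1` on the kernel, where both act trivially
    have hneg : ∀ v ∈ K, τ • v = -v := by
      intro v hv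
      rw [hK] at hv
      have hτv : τ • v ∈ K := by
        rw [hK, ← mul_smul, ← mul_smul, show b * τ = τ * (τ⁻¹ * b * τ) by group,
          show d⁻¹ * τ = τ * (τ⁻¹ * d⁻¹ * τ) by group,
          show τ⁻¹ = τ from inv_eq_of_mul_eq_one_right hτ]
        have e1 : τ * b * τ = b⁻¹ := by
          have := hinv b hbD; rwa [show τ⁻¹ = τ from inv_eq_of_mul_eq_one_right hτ] at this
        have e2 : τ * d⁻¹ * τ = d := by
          have := hinv _ (D.inv_mem hd); rwa [show τ⁻¹ = τ from inv_eq_of_mul_eq_one_right hτ, inv_inv] at this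
        rw [e1, e2, mul_smul, mul_smul]
        congr 1
        rw [inv_smul_eq_iff, hact b hbD d hd, hv, ← mul_smul, mul_inv_cancel, one_smul]
      have hs : τ • (v + τ • v) = v + τ • v := by rw [smul_add, ← mul_smul, hτ, one_smul, add_comm]
      by_contra hne
      have h0 : v + τ • v ≠ 0 := fun e => hne (eq_neg_of_add_eq_zero_right e)
      obtain ⟨i, hi⟩ := hgen _ (hfix _ hs) h0
      exact hyK (hi ▸ K.zsmul_mem (K.add_mem ((hK v).2 hv) hτv) i)
    have hone : ∀ v ∈ K, b • v = v ∧ d • v = v := by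
      intro v hv
      have h1 := hneg v hv
      have hb2 : b⁻¹ • v = b • v := by
        have e : (τ * b * τ⁻¹) • v = b • v := by
          rw [show τ⁻¹ = τ from inv_eq_of_mul_eq_one_right hτ, mul_smul, mul_smul, h1, smul_neg, smul_neg,
            hneg _ (by
              rw [hK]
              show b • b • v = d⁻¹ • b • v
              rw [← hact b hbD _ (D.inv_mem hd), (hK v).1 hv]), neg_neg]
        rwa [hinv b hbD] at e
      have hb1 : b • v = v := hsq b hbD v (by rw [← hb2, ← mul_smul, mul_inv_cancel, one_smul])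
      refine ⟨hb1, ?_⟩
      have := (hK v).1 hv
      rw [hb1, eq_inv_smul_iff] at this
      exact this
    -- so `d⁻¹ b` is unipotent of order prime to `l`
    intro v
    set e := d⁻¹ * b with he
    set w := e • v - v with hw
    have hew : e • w = w := by
      have hwK : w ∈ K := by
        have h2 : d⁻¹ • (b • v - d • v) = w := by
          rw [smul_sub, ← mul_smul, ← mul_smul, inv_mul_cancel, one_smul]
        have h3 := hone _ (himg v)
        rw [← h2, inv_smul_eq_iff.2 h3.2.symm]
        exact himg v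
      rw [he, mul_smul, (hone w hwK).1, inv_smul_eq_iff, (hone w hwK).2]
    have hn : ∀ n : ℕ, e ^ n • v = v + n • w := fun n => by
      induction n with
      | zero => simp
      | succ n ih =>
        have : e • (n • w) = n • w := ((DistribSMul.toAddMonoidHom V e).map_nsmul n w).trans (congrArg (n • ·) hew)
        rw [pow_succ', mul_smul, ih, smul_add, this, succ_nsmul', ← add_assoc, hw]
        abel
    obtain ⟨k, hk⟩ := hD ⟨e, D.mul_mem (D.inv_mem hd) hbD⟩
    have h4 := hn (3 ^ k)
    rw [show e ^ (3 ^ k) = 1 from congrArg Subtype.val hk, one_smul, left_eq_add] at h4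
    have hw0 : w = 0 := by
      obtain ⟨i, j, hij⟩ := Nat.isCoprime_iff_coprime.2
        (((Nat.coprime_primes (Fact.out : l.Prime) Nat.prime_three).2 hl3).pow_right k)
      rw [← one_zsmul w, ← hij, add_zsmul, mul_zsmul, mul_zsmul, natCast_zsmul, natCast_zsmul, hV, h4,
        smul_zero, smul_zero, add_zero]
    rw [hw, sub_eq_zero, he, mul_smul, inv_smul_eq_iff] at hw0
    exact hw0

end Cfsg.Agent.AbelianSylow.Field
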