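import Cfsg.Agent.EqLemmas
import Cfsg.Agent.Lib.Coprime.Action
import Mathlib

/-!
# No field automorphism, case `s = 3`, `q = 27`: a group with at most nine Sylow two-subgroups (owner: helper4)

For an elementary `A` whose nontrivial elements lie in no other conjugate and with at most nine conjugates:
* `Nine.card_inverted_le` : an invariant `3`-subgroup has at most nine elements inverted by `t`
* `Nine.exists_cyclic`    : they lie in one cyclic group of order dividing nine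
* `Nine.not_commute`      : an inverted element of order nine commutes with no fixed `3`-element
-/

set_option autoImplicit false
set_option linter.unusedSectionVars false
set_option linter.style.haveILetI false

namespace Cfsg.Agent.AbelianSylow.Field

open Subgroup

universe u

/-- The two candidates for a permutation of the plane fail. -/
theorem no_plane (σ : ZMod 3 × ZMod 3 → ZMod 3 × ZMod 3) (hσ : ∀ x, σ (σ x) = x) (hn : ∀ x, σ (-x) = -σ x)
    (h0 : σ 0 = 0) (h1 : σ (1, 0) = (0, 1)) (hf : σ (1, 1) ≠ (1, 1)) (hf' : σ (1, 1) ≠ -(1, 1))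
    (hc : ∀ x, σ ((2, 0) - σ ((0, 2) - x)) = (0, 2) - σ ((2, 0) - σ x)) : False := by
  have h01 : σ (0, 1) = (1, 0) := by rw [← h1, hσ]
  have h20 : σ (2, 0) = (0, 2) := by
    rw [show ((2, 0) : ZMod 3 × ZMod 3) = -(1, 0) by decide, hn, h1]; decide
  have h02 : σ (0, 2) = (2, 0) := by
    rw [show ((0, 2) : ZMod 3 × ZMod 3) = -(0, 1) by decide, hn, h01]; decide
  have hall : ∀ p : ZMod 3 × ZMod 3, p = 0 ∨ p = (1, 0) ∨ p = (2, 0) ∨ p = (0, 1) ∨ p = (0, 2) ∨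
      p = (1, 1) ∨ p = -(1, 1) ∨ p = (1, 2) ∨ p = (2, 1) := by decide
  have hq : σ ((2, 0) + σ (1, 1)) = (0, 2) + σ (1, 1) := by
    have h := hc (1, 0)
    rw [show ((0, 2) : ZMod 3 × ZMod 3) - (1, 0) = -(1, 1) by decide, hn, sub_neg_eq_add, h1,
      show ((2, 0) : ZMod 3 × ZMod 3) - (0, 1) = -(1, 1) by decide, hn, sub_neg_eq_add] at h
    exact h
  rcases hall (σ (1, 1)) with h | h | h | h | h | h | h | h | h
  · have := congrArg σ h; rw [hσ, h0] at this; exact absurd this (by decide)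
  · have := congrArg σ h; rw [hσ, h1] at this; exact absurd this (by decide)
  · have := congrArg σ h; rw [hσ, h20] at this; exact absurd this (by decide)
  · have := congrArg σ h; rw [hσ, h01] at this; exact absurd this (by decide)
  · have := congrArg σ h; rw [hσ, h02] at this; exact absurd this (by decide)
  · exact hf h
  · exact hf' h
  · rw [h, show ((2, 0) : ZMod 3 × ZMod 3) + (1, 2) = (0, 2) by decide, h02] at hq
    exact absurd hq (by decide)
  · rw [h, show ((2, 0) : ZMod 3 × ZMod 3) + (2, 1) = (1, 1) by decide, h] at hq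
    exact absurd hq (by decide)

variable {Γ : Type u} [Group Γ] [Finite Γ]

/-- At most nine conjugates of `A`, pairwise meeting trivially. -/
structure Nine (t : Γ) (A : Subgroup Γ) : Prop where
  t_mem : t ∈ A
  t_ne : t ≠ 1
  sq : ∀ a ∈ A, a * a = 1
  ti : ∀ x : Γ, ∀ a ∈ A, a ≠ 1 → x * a * x⁻¹ ∈ A → x ∈ normalizer (A : Set Γ)
  invol_mem : ∀ n ∈ normalizer (A : Set Γ), n * n = 1 → n ∈ A
  index_le : (normalizer (A : Set Γ)).index ≤ 9
  fixed : ∀ z : Γ, Commute z t → (∃ k : ℕ, z ^ 3 ^ k = 1) → z ≠ 1 →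
    z ∈ normalizer (A : Set Γ) ∧ ∃ a ∈ A, z * a * z⁻¹ ≠ a
  third : ∃ s ∈ A, s ≠ 1 ∧ s ≠ t

namespace Nine

variable {t : Γ} {A : Subgroup Γ}

theorem comm (h : Nine t A) {a b : Γ} (ha : a ∈ A) (hb : b ∈ A) : a * b = b * a := by
  have h1 := h.sq _ (A.mul_mem ha hb)
  calc a * b = (a * b)⁻¹ := (inv_eq_of_mul_eq_one_right h1).symm
    _ = b * a := by
      rw [mul_inv_rev, inv_eq_of_mul_eq_one_right (h.sq b hb), inv_eq_of_mul_eq_one_right (h.sq a ha)]

theorem tt (h : Nine t A) : t * t = 1 := h.sq t h.t_mem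

theorem t_inv (h : Nine t A) : t⁻¹ = t := inv_eq_of_mul_eq_one_right h.tt

theorem le_norm : A ≤ normalizer (A : Set Γ) := le_normalizer

theorem eq_one_of_mem (h : Nine t A) {w : Γ} {k : ℕ} (hw : w ∈ A) (hk : w ^ 3 ^ k = 1) : w = 1 :=
  orderOf_eq_one_iff.1 (Nat.eq_one_of_dvd_coprimes
    (((Nat.coprime_primes Nat.prime_two Nat.prime_three).2 (by decide)).pow_right k)
    (orderOf_dvd_of_pow_eq_one (by rw [pow_two]; exact h.sq w hw)) (orderOf_dvd_of_pow_eq_one hk))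

/-- Square roots in a `3`-group are unique. -/
theorem sq_inj {Q : Subgroup Γ} (hQ : IsPGroup 3 Q) {x y : Γ} (hx : x ∈ Q) (hy : y ∈ Q) (h : x * x = y * y) :
    x = y := by
  obtain ⟨i, hi⟩ := hQ ⟨x, hx⟩
  obtain ⟨j, hj⟩ := hQ ⟨y, hy⟩
  replace hi : x ^ 3 ^ i = 1 := by simpa using congrArg Subtype.val hi
  replace hj : y ^ 3 ^ j = 1 := by simpa using congrArg Subtype.val hj
  obtain ⟨m, hm⟩ : Odd (3 ^ (i + j)) := (Nat.odd_iff.2 (by norm_num : 3 % 2 = 1)).pow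
  have e : ∀ w : Γ, w ^ 3 ^ (i + j) = 1 → (w * w) ^ (m + 1) = w := fun w hw => by
    rw [← pow_two, ← pow_mul, show 2 * (m + 1) = 2 * m + 1 + 1 by ring, pow_succ, ← hm, hw, one_mul]
  rw [← e x (by rw [pow_add, pow_mul, hi, one_pow]), ← e y (by rw [pow_add, mul_comm, pow_mul, hj, one_pow]), h]

theorem eq_of_coset (h : Nine t A) {Q : Subgroup Γ} (hQ : IsPGroup 3 Q) {x y : Γ} (hx : x ∈ Q) (hy : y ∈ Q)
    (hxi : t * x * t⁻¹ = x⁻¹) (hyi : t * y * t⁻¹ = y⁻¹) (hn : y⁻¹ * x ∈ normalizer (A : Set Γ)) : x = y := by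
  have h1 : y⁻¹ * x * t * (y⁻¹ * x)⁻¹ ∈ A := (mem_normalizer_iff.1 hn t).1 h.t_mem
  have e : y⁻¹ * x * t * (y⁻¹ * x)⁻¹ = y⁻¹ * (x * x) * y⁻¹ * t := by
    calc y⁻¹ * x * t * (y⁻¹ * x)⁻¹ = y⁻¹ * x * (t * x * t⁻¹)⁻¹ * (t * y * t⁻¹) * t := by group
      _ = _ := by rw [hxi, hyi]; group
  rw [e] at h1
  have h2 : y⁻¹ * (x * x) * y⁻¹ ∈ A := by simpa using A.mul_mem h1 (A.inv_mem h.t_mem)
  obtain ⟨k, hk⟩ := hQ ⟨_, Q.mul_mem (Q.mul_mem (Q.inv_mem hy) (Q.mul_mem hx hx)) (Q.inv_mem hy)⟩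
  have h3 := h.eq_one_of_mem h2 (k := k) (by simpa using congrArg Subtype.val hk)
  refine sq_inj hQ hx hy ?_
  calc x * x = y * (y⁻¹ * (x * x) * y⁻¹) * y := by group
    _ = y * y := by rw [h3, mul_one]

/-- The inverted elements. -/
def inverted (t : Γ) (Q : Subgroup Γ) : Set Γ := {x | x ∈ Q ∧ t * x * t⁻¹ = x⁻¹}

theorem coset_injective (h : Nine t A) {Q : Subgroup Γ} (hQ : IsPGroup 3 Q) :
    Function.Injective (fun x : inverted t Q => ((x : Γ) : Γ ⧸ normalizer (A : Set Γ))) := fun x y e =>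
  Subtype.ext (h.eq_of_coset hQ x.2.1 y.2.1 x.2.2 y.2.2 (QuotientGroup.eq.1 e.symm))

theorem card_inverted_le (h : Nine t A) {Q : Subgroup Γ} (hQ : IsPGroup 3 Q) :
    Nat.card (inverted t Q) ≤ 9 :=
  (Nat.card_le_card_of_injective _ (h.coset_injective hQ)).trans (by
    rw [← index_eq_card]; exact h.index_le)

theorem exists_rep (h : Nine t A) {Q : Subgroup Γ} (hQ : IsPGroup 3 Q) (hc : 9 ≤ Nat.card (inverted t Q)) (g : Γ) :
    ∃ x ∈ inverted t Q, x⁻¹ * g ∈ normalizer (A : Set Γ) := by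
  have hb := (Nat.bijective_iff_injective_and_card _).2 ⟨h.coset_injective hQ, le_antisymm
    (Nat.card_le_card_of_injective _ (h.coset_injective hQ))
    (le_trans (by rw [← index_eq_card]; exact h.index_le) hc)⟩
  obtain ⟨x, hx⟩ := hb.2 (g : Γ ⧸ normalizer (A : Set Γ))
  exact ⟨x, x.2, QuotientGroup.eq.1 hx⟩

/-- Nothing moving `A` fixes all the conjugates. -/
theorem not_fix_all (h : Nine t A) {x : Γ} (hx : x ∉ normalizer (A : Set Γ)) {z a : Γ}
    (hz : ∀ g : Γ, g⁻¹ * z * g ∈ normalizer (A : Set Γ)) (ha : a ∈ A) : z * a * z⁻¹ = a := by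
  by_contra hne
  set w := a * (z * a * z⁻¹) with hw
  have hzN : z ∈ normalizer (A : Set Γ) := by simpa using hz 1
  have hza : z * a * z⁻¹ ∈ A := (mem_normalizer_iff.1 hzN a).1 ha
  have hwA : w ∈ A := A.mul_mem ha hza
  have hw1 : w ≠ 1 := fun e => hne (by
    rw [eq_inv_of_mul_eq_one_right e, inv_eq_of_mul_eq_one_right (h.sq a ha)])
  have hwx : x⁻¹ * w * x ∈ normalizer (A : Set Γ) := by
    have e : x⁻¹ * w * x = ((a⁻¹ * x)⁻¹ * z * (a⁻¹ * x)) * (x⁻¹ * z * x)⁻¹ := by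
      calc x⁻¹ * w * x = x⁻¹ * (a * z * a⁻¹) * z⁻¹ * x := by
            rw [hw, inv_eq_of_mul_eq_one_right (h.sq a ha)]; group
        _ = _ := by group
    rw [e]
    exact mul_mem (hz _) (inv_mem (hz _))
  have h2 : x⁻¹ * w * x ∈ A := h.invol_mem _ hwx (by
    rw [show x⁻¹ * w * x * (x⁻¹ * w * x) = x⁻¹ * (w * w) * x by group, h.sq w hwA]; group)
  exact hx (inv_mem_iff.1 (h.ti x⁻¹ w hwA hw1 (by simpa using h2)))

theorem not_mem_norm (h : Nine t A) {Q : Subgroup Γ} (hQ : IsPGroup 3 Q) {x : Γ} (hx : x ∈ Q)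
    (hxi : t * x * t⁻¹ = x⁻¹) (hx1 : x ≠ 1) : x ∉ normalizer (A : Set Γ) := fun hn =>
  hx1 (h.eq_of_coset hQ hx Q.one_mem hxi (by simp) (by simpa using hn))

/-- A fixed element commutes with no set of representatives of the conjugates. -/
theorem false_of_fixed_central (h : Nine t A) {Q : Subgroup Γ} (hQ : IsPGroup 3 Q)
    (hc : 9 ≤ Nat.card (inverted t Q)) {z : Γ} (hzt : Commute z t) (hz3 : ∃ k : ℕ, z ^ 3 ^ k = 1) (hz1 : z ≠ 1)
    (hcomm : ∀ x ∈ inverted t Q, Commute z x) : False := by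
  obtain ⟨hzN, a, ha, hne⟩ := h.fixed z hzt hz3 hz1
  have hall : ∀ g : Γ, g⁻¹ * z * g ∈ normalizer (A : Set Γ) := fun g => by
    obtain ⟨x, hx, hxg⟩ := h.exists_rep hQ hc g
    have e : g⁻¹ * z * g = (x⁻¹ * g)⁻¹ * z * (x⁻¹ * g) := by
      calc g⁻¹ * z * g = g⁻¹ * (z * x) * (x⁻¹ * g) := by group
        _ = g⁻¹ * (x * z) * (x⁻¹ * g) := by rw [(hcomm x hx).eq]
        _ = _ := by group
    rw [e]
    exact mul_mem (mul_mem (inv_mem hxg) hzN) hxg
  haveI : Nontrivial (inverted t Q) := Finite.one_lt_card_iff_nontrivial.1 (by omega)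
  obtain ⟨⟨x, hx⟩, hx1⟩ := exists_ne (⟨1, Q.one_mem, by simp⟩ : inverted t Q)
  exact hne (h.not_fix_all (h.not_mem_norm hQ hx.1 hx.2 fun e => hx1 (Subtype.ext e)) hall ha)

/-- An inverted element of order nine commutes with no fixed element. -/
theorem not_commute (h : Nine t A) {d z : Γ} (hd : orderOf d = 9) (hdi : t * d * t⁻¹ = d⁻¹) (hzt : Commute z t)
    (hz3 : ∃ k : ℕ, z ^ 3 ^ k = 1) (hz1 : z ≠ 1) : ¬ Commute d z := by
  intro hdz
  set Q := zpowers d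
  have hQ : IsPGroup 3 Q := IsPGroup.of_card (n := 2) (by rw [Nat.card_zpowers, hd]; norm_num)
  have hall : ∀ x ∈ Q, t * x * t⁻¹ = x⁻¹ := by
    rintro _ ⟨i, rfl⟩
    show t * d ^ i * t⁻¹ = (d ^ i)⁻¹
    rw [← conj_zpow, hdi, inv_zpow]
  refine h.false_of_fixed_central hQ ?_ hzt hz3 hz1 fun x hx => ?_
  · calc 9 = Nat.card Q := by rw [Nat.card_zpowers, hd]
      _ ≤ Nat.card (inverted t Q) := Nat.card_le_card_of_injective (fun x => ⟨x, x.2, hall x x.2⟩)
          fun a b e => Subtype.ext (congrArg Subtype.val e :)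
  · obtain ⟨i, rfl⟩ := mem_zpowers_iff.1 hx.1
    exact hdz.symm.zpow_right i

/-- No inverted elementary group of order nine. -/
theorem false_of_plane (h : Nine t A) {x y : Γ} (hxy : Commute x y) (hx : x ^ 3 = 1) (hy : y ^ 3 = 1)
    (hxi : t * x * t⁻¹ = x⁻¹) (hyi : t * y * t⁻¹ = y⁻¹) (hx1 : x ≠ 1) (hyx : y ∉ zpowers x) : False := by
  classical
  set N := normalizer (A : Set Γ)
  set Q := zpowers x ⊔ zpowers y
  have hnorm : zpowers y ≤ normalizer (zpowers x : Set Γ) := zpowers_le.2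
    (Coprime.mem_normalizer_of_forall fun z hz => by
      obtain ⟨i, rfl⟩ := mem_zpowers_iff.1 hz
      rw [(hxy.zpow_left i).symm.eq, mul_inv_cancel_right]
      exact hz)
  have ex : orderOf x = 3 := orderOf_eq_prime hx hx1
  have hy1 : y ≠ 1 := fun e => hyx (e ▸ one_mem _)
  have ey : orderOf y = 3 := orderOf_eq_prime hy hy1
  have hinf : zpowers x ⊓ zpowers y = ⊥ := by
    haveI : Fact (Nat.Prime 3) := ⟨Nat.prime_three⟩
    haveI : Fact (Nat.card (zpowers y)).Prime := ⟨by rw [Nat.card_zpowers, ey]; norm_num⟩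
    rcases ((zpowers x ⊓ zpowers y).subgroupOf (zpowers y)).eq_bot_or_eq_top_of_prime_card with e | e
    · rwa [subgroupOf_eq_bot, disjoint_iff, inf_assoc, inf_idem] at e
    · refine absurd ((inf_le_left : zpowers x ⊓ zpowers y ≤ zpowers x) ?_) hyx
      exact (subgroupOf_eq_top.1 e) (mem_zpowers y)
  let v : ZMod 3 × ZMod 3 → Γ := fun p => x ^ p.1.val * y ^ p.2.val
  have hvadd : ∀ p q, v (p + q) = v p * v q := by
    intro p q
    simp only [v, Prod.fst_add, Prod.snd_add, ZMod.val_add]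
    rw [← pow_eq_pow_mod _ hx, ← pow_eq_pow_mod _ hy, pow_add, pow_add]
    exact (hxy.pow_pow _ _).mul_mul_mul_comm _ _
  have hv0 : v 0 = 1 := by simp [v]
  have hvneg : ∀ p, v (-p) = (v p)⁻¹ := fun p =>
    eq_inv_of_mul_eq_one_left (by rw [← hvadd, neg_add_cancel, hv0])
  have hvsub : ∀ p q, v (p - q) = v p * (v q)⁻¹ := fun p q => by rw [sub_eq_add_neg, hvadd, hvneg]
  have hvi : ∀ p, t * v p * t⁻¹ = (v p)⁻¹ := fun p => by
    rw [show t * v p * t⁻¹ = (t * x ^ p.1.val * t⁻¹) * (t * y ^ p.2.val * t⁻¹) by simp only [v]; group,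
      ← conj_pow, ← conj_pow, hxi, hyi, mul_inv_rev, inv_pow, inv_pow]
    exact ((hxy.pow_pow _ _).inv_inv).eq
  have hvQ : ∀ p, v p ∈ Q := fun p =>
    mul_mem (mem_sup_left (pow_mem (mem_zpowers x) _)) (mem_sup_right (pow_mem (mem_zpowers y) _))
  have hQ : IsPGroup 3 Q := IsPGroup.to_sup_of_normal_left'
    (IsPGroup.of_card (n := 1) (by rw [Nat.card_zpowers, ex, pow_one]))
    (IsPGroup.of_card (n := 1) (by rw [Nat.card_zpowers, ey, pow_one])) hnorm
  have hvinj : Function.Injective v := by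
    intro p q e
    have e1 : v (p - q) = 1 := by rw [hvsub, e, mul_inv_cancel]
    have hmem : x ^ (p - q).1.val ∈ zpowers x ⊓ zpowers y := by
      refine mem_inf.2 ⟨pow_mem (mem_zpowers x) _, ?_⟩
      rw [eq_inv_of_mul_eq_one_left e1]
      exact inv_mem (pow_mem (mem_zpowers y) _)
    rw [hinf, mem_bot] at hmem
    have h2 : y ^ (p - q).2.val = 1 := by
      have : x ^ (p - q).1.val * y ^ (p - q).2.val = 1 := e1
      rwa [hmem, one_mul] at this
    have z1 : (p - q).1 = 0 := by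
      rw [← ZMod.natCast_zmod_val (p - q).1, ZMod.natCast_eq_zero_iff]
      exact (dvd_of_eq ex.symm).trans (orderOf_dvd_of_pow_eq_one hmem)
    have z2 : (p - q).2 = 0 := by
      rw [← ZMod.natCast_zmod_val (p - q).2, ZMod.natCast_eq_zero_iff]
      exact (dvd_of_eq ey.symm).trans (orderOf_dvd_of_pow_eq_one h2)
    exact sub_eq_zero.1 (Prod.ext z1 z2)
  let π : ZMod 3 × ZMod 3 → Γ ⧸ N := fun p => (v p : Γ ⧸ N)
  have hπinj : Function.Injective π := fun p q e =>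
    hvinj (h.eq_of_coset hQ (hvQ p) (hvQ q) (hvi p) (hvi q) (QuotientGroup.eq.1 e.symm))
  have hbij : Function.Bijective π := (Nat.bijective_iff_injective_and_card π).2 ⟨hπinj,
    le_antisymm (Nat.card_le_card_of_injective π hπinj) (by
      rw [← index_eq_card, Nat.card_eq_fintype_card, Fintype.card_prod, ZMod.card]
      exact h.index_le)⟩
  -- reflection in a point
  let R : ZMod 3 × ZMod 3 → Γ := fun c => v c * t * (v c)⁻¹
  have hR : ∀ c p, R c • π p = π (c + c - p) := by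
    intro c p
    show (((v c * t * (v c)⁻¹) * v p : Γ) : Γ ⧸ N) = (v (c + c - p) : Γ ⧸ N)
    have e : v c * t * (v c)⁻¹ * v p = v (c + c - p) * t := by
      calc v c * t * (v c)⁻¹ * v p = v c * (t * (v c)⁻¹ * t⁻¹) * (t * v p * t⁻¹) * t := by group
        _ = v (c + c - p) * t := by
          rw [show t * (v c)⁻¹ * t⁻¹ = (t * v c * t⁻¹)⁻¹ by group, hvi c, hvi p, inv_inv, hvsub, hvadd]
    rw [e, QuotientGroup.eq, show (v (c + c - p) * t)⁻¹ * v (c + c - p) = t⁻¹ by group]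
    exact inv_mem (le_norm h.t_mem)
  have hconj : ∀ g : Γ, ∀ c : ZMod 3 × ZMod 3, ∀ r : Γ, r ∈ N → g = v c * r → ∀ a ∈ A,
      g * a * g⁻¹ ∈ A.map (MulAut.conj (v c)).toMonoidHom := fun g c r hr e a ha =>
    ⟨r * a * r⁻¹, (mem_normalizer_iff.1 hr a).1 ha, by
      rw [e]; show v c * (r * a * r⁻¹) * (v c)⁻¹ = v c * r * a * (v c * r)⁻¹; group⟩
  have hR' : ∀ c, R c ∈ A.map (MulAut.conj (v c)).toMonoidHom := fun c => ⟨t, h.t_mem, rfl⟩
  -- the permutation of an element of `A`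
  obtain ⟨s, hs, hs1, hst⟩ := h.third
  have hss := h.sq s hs
  choose σ hσ using fun p => hbij.2 (s • π p)
  have hst' : Commute s t := h.comm hs h.t_mem
  have hneg : ∀ p, t • π p = π (-p) := fun p => by
    have h1 := hR 0 p
    rwa [show R 0 = t by simp [R, hv0], zero_add, zero_sub] at h1
  have hfix : ∀ a ∈ A, a ≠ 1 → ∀ p, a • π p = π p → p = 0 := by
    intro a ha ha1 p hp
    rw [show a • π p = ((a * v p : Γ) : Γ ⧸ N) from rfl, QuotientGroup.eq] at hp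
    have h2 : (v p)⁻¹ * a * v p ∈ N := by
      have := inv_mem hp
      rwa [mul_inv_rev, inv_inv, ← mul_assoc] at this
    have h3 : (v p)⁻¹ * a * v p ∈ A := h.invol_mem _ h2 (by
      rw [show (v p)⁻¹ * a * v p * ((v p)⁻¹ * a * v p) = (v p)⁻¹ * (a * a) * v p by group, h.sq a ha]; group)
    have h4 : (v p)⁻¹ ∈ N := h.ti _ a ha ha1 (by simpa using h3)
    refine hπinj ?_
    show (v p : Γ ⧸ N) = (v 0 : Γ ⧸ N)
    rw [QuotientGroup.eq, hv0, mul_one]
    exact h4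
  have hsi : ∀ p, σ (σ p) = p := fun p => hπinj (by rw [hσ, hσ, ← mul_smul, hss, one_smul])
  have hsn : ∀ p, σ (-p) = -σ p := fun p => hπinj (by
    rw [hσ, ← hneg, ← hneg, hσ, ← mul_smul, ← mul_smul, hst'.eq])
  have hs0 : σ 0 = 0 := hπinj (by
    rw [hσ]
    show ((s * v 0 : Γ) : Γ ⧸ N) = (v 0 : Γ ⧸ N)
    rw [QuotientGroup.eq, hv0, mul_one, mul_one]
    exact inv_mem (le_norm hs))
  have hne1 : ∀ p, p ≠ 0 → σ p ≠ p := fun p hp e => hp (hfix s hs hs1 p (by rw [← hσ, e]))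
  have hne2 : ∀ p, p ≠ 0 → σ p ≠ -p := fun p hp e => hp (hfix (t * s) (A.mul_mem h.t_mem hs)
    (fun e' => hst (by rw [eq_inv_of_mul_eq_one_right e', h.t_inv])) p (by
      rw [mul_smul, ← hσ, e, hneg, neg_neg]))
  have hcc : ∀ c p, σ (c + c - σ (σ c + σ c - p)) = σ c + σ c - σ (c + c - σ p) := by
    intro c p
    obtain ⟨r, hr, hr'⟩ : ∃ r ∈ N, s * v c = v (σ c) * r := by
      refine ⟨(v (σ c))⁻¹ * (s * v c), ?_, by group⟩
      have := hσ c
      exact QuotientGroup.eq.1 this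
    have h1 : s * R c * s⁻¹ ∈ A.map (MulAut.conj (v (σ c))).toMonoidHom := by
      have := hconj _ _ r hr hr' t h.t_mem
      rwa [show s * v c * t * (s * v c)⁻¹ = s * R c * s⁻¹ by simp only [R]; group] at this
    obtain ⟨a, ha, hae⟩ := h1
    obtain ⟨b, hb, hbe⟩ := hR' (σ c)
    have hcom : s * R c * s⁻¹ * R (σ c) = R (σ c) * (s * R c * s⁻¹) := by
      rw [← hae, ← hbe, ← map_mul, ← map_mul, h.comm ha hb]
    refine hπinj ?_
    have hsv : s⁻¹ = s := inv_eq_of_mul_eq_one_right hss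
    have hL := congrArg (· • π p) hcom
    simp only [mul_smul, hR, hsv, ← hσ] at hL
    exact hL
  -- choose the coordinates
  obtain ⟨M, hM⟩ : ∃ M : ZMod 3 × ZMod 3, M = σ (1, 0) := ⟨_, rfl⟩
  have hindep : ∀ p : ZMod 3 × ZMod 3, p ≠ 0 → p ≠ (1, 0) → p ≠ -(1, 0) → p.2 ≠ 0 := by decide
  have hM0 : M.2 ≠ 0 := hindep M
    (fun e => absurd (by rw [← hsi (1, 0), ← hM, e, hs0] : ((1, 0) : ZMod 3 × ZMod 3) = 0) (by decide))
    (hM ▸ hne1 _ (by decide)) (hM ▸ hne2 _ (by decide))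
  let φ : ZMod 3 × ZMod 3 → ZMod 3 × ZMod 3 := fun p => (p.1 + p.2 * M.1, p.2 * M.2)
  let ψ : ZMod 3 × ZMod 3 → ZMod 3 × ZMod 3 := fun p => (p.1 - p.2 * M.2 * M.1, p.2 * M.2)
  have hMsq : M.2 * M.2 = 1 := (show ∀ z : ZMod 3, z ≠ 0 → z * z = 1 by decide) _ hM0
  have hφψ : ∀ p, φ (ψ p) = p := fun p => by
    simp only [φ, ψ]
    exact Prod.ext (by simp) (by simp [mul_assoc, hMsq])
  have hψφ : ∀ p, ψ (φ p) = p := fun p => by
    simp only [φ, ψ]
    refine Prod.ext ?_ ?_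
    · show p.1 + p.2 * M.1 - p.2 * M.2 * M.2 * M.1 = p.1
      rw [mul_assoc p.2 M.2, hMsq]; ring
    · show p.2 * M.2 * M.2 = p.2
      rw [mul_assoc, hMsq, mul_one]
  have hφn : ∀ p, φ (-p) = -φ p := fun p => by
    simp only [φ]; exact Prod.ext (by simp; ring) (by simp)
  have hφs : ∀ p q, φ (p - q) = φ p - φ q := fun p q => by
    simp only [φ]; exact Prod.ext (by simp; ring) (by simp; ring)
  have hφ0 : φ 0 = 0 := by simp [φ]
  have hφ1 : φ (1, 0) = (1, 0) := by simp [φ]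
  have hφ2 : φ (0, 1) = M := by simp [φ]
  refine no_plane (fun p => ψ (σ (φ p))) (fun p => by rw [hφψ, hsi, hψφ]) (fun p => ?_) ?_ ?_ ?_ ?_ ?_
  · rw [hφn, hsn]
    exact (congrArg ψ (by rw [hφn, hφψ] : -σ (φ p) = φ (-ψ (σ (φ p))))).trans (hψφ _)
  · rw [hφ0, hs0, ← hφ0, hψφ, hφ0]
  · rw [hφ1, ← hM, ← hφ2, hψφ]
  · intro e
    refine hne1 (φ (1, 1)) (fun e' => absurd ((hψφ (1, 1)).symm.trans ((congrArg ψ (e'.trans hφ0.symm)).trans (hψφ 0))) (by decide)) ?_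
    rw [← hφψ (σ (φ (1, 1))), e]
  · intro e
    refine hne2 (φ (1, 1)) (fun e' => absurd ((hψφ (1, 1)).symm.trans ((congrArg ψ (e'.trans hφ0.symm)).trans (hψφ 0))) (by decide)) ?_
    rw [← hφψ (σ (φ (1, 1))), e, hφn]
  · intro p
    have h2 : φ (2, 0) = (1, 0) + (1, 0) := by simp only [φ]; exact Prod.ext (by simp; decide) (by simp)
    have h3 : φ (0, 2) = M + M := by simp only [φ]; exact Prod.ext (by simp; ring) (by simp; ring)
    rw [hφs, hφψ, hφs, h2, h3, hφs, hφψ, h2]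
    have := hcc (1, 0) (φ p)
    rw [← hM] at this
    rw [this]
    refine (congrArg ψ (?_ : _ = φ ((0, 2) - ψ (σ ((1, 0) + (1, 0) - σ (φ p)))))).trans (hψφ _)
    rw [hφs, hφψ, h3]

/-- **The inverted `3`-elements lie in one cyclic group.** -/
theorem exists_cyclic (h : Nine t A) {Q : Subgroup Γ} (hQ : IsPGroup 3 Q) (htQ : t ∈ normalizer (Q : Set Γ)) :
    ∃ a : Γ, a ^ 9 = 1 ∧ t * a * t⁻¹ = a⁻¹ ∧ ∀ x ∈ inverted t Q, x ∈ zpowers a := by
  classical
  haveI : Fact (Nat.Prime 3) := ⟨Nat.prime_three⟩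
  set I := inverted t Q
  have h9 := h.card_inverted_le hQ
  have hpow : ∀ x ∈ I, ∀ i : ℤ, x ^ i ∈ I := fun x hx i =>
    ⟨Q.zpow_mem hx.1 i, by rw [← conj_zpow, hx.2, inv_zpow]⟩
  have hzle : ∀ x ∈ I, orderOf x ≤ Nat.card I := fun x hx => by
    rw [← Nat.card_zpowers]
    exact Nat.card_le_card_of_injective (fun z : zpowers x => (⟨z, by
      obtain ⟨i, hi⟩ := mem_zpowers_iff.1 z.2
      exact hi ▸ hpow x hx i⟩ : I)) fun a b e => Subtype.ext (congrArg Subtype.val e :)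
  have hcube : ∀ x ∈ I, x ^ 3 = 1 ∨ orderOf x = 9 := by
    intro x hx
    obtain ⟨k, hk⟩ := hQ ⟨x, hx.1⟩
    obtain ⟨j, -, hj⟩ := (Nat.dvd_prime_pow Nat.prime_three).1
      (orderOf_dvd_of_pow_eq_one (by simpa using congrArg Subtype.val hk : x ^ 3 ^ k = 1))
    have h2 : j ≤ 2 := (Nat.pow_le_pow_iff_right (show 1 < 3 by norm_num)).1 (hj ▸ (hzle x hx).trans h9)
    interval_cases j
    · exact Or.inl (by rw [orderOf_eq_one_iff.1 (hj.trans (pow_zero 3)), one_pow])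
    · exact Or.inl (by rw [← pow_one 3, ← hj]; exact pow_orderOf_eq_one x)
    · exact Or.inr (by rw [hj]; norm_num)
  have hcov : ∀ x ∈ I, Nat.card I ≤ orderOf x → ∀ y ∈ I, y ∈ zpowers x := by
    intro x hx hle y hy
    let ι : zpowers x → I := fun z => ⟨z, by
      obtain ⟨i, hi⟩ := mem_zpowers_iff.1 z.2
      exact hi ▸ hpow x hx i⟩
    have hι : Function.Injective ι := fun a b e => Subtype.ext (congrArg Subtype.val e :)
    obtain ⟨z, hz⟩ := ((Nat.bijective_iff_injective_and_card ι).2 ⟨hι, le_antisymm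
      (Nat.card_le_card_of_injective ι hι) (by rw [Nat.card_zpowers]; exact hle)⟩).2 ⟨y, hy⟩
    rw [show y = (z : Γ) from (congrArg Subtype.val hz).symm]
    exact z.2
  by_cases hnine : ∃ x ∈ I, orderOf x = 9
  · obtain ⟨x, hx, ho⟩ := hnine
    exact ⟨x, ho ▸ pow_orderOf_eq_one x, hx.2, hcov x hx (ho ▸ h9)⟩
  have h3 : ∀ x ∈ I, x ^ 3 = 1 := fun x hx => (hcube x hx).resolve_right fun e => hnine ⟨x, hx, e⟩
  by_cases hall : ∃ x ∈ I, ∀ y ∈ I, y ∈ zpowers x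
  · obtain ⟨x, hx, hxy⟩ := hall
    exact ⟨x, by rw [show 9 = 3 * 3 from rfl, pow_mul, h3 x hx, one_pow], hx.2, hxy⟩
  exfalso
  -- there are nine inverted elements
  set C := Q ⊓ centralizer ({t} : Set Γ)
  have hsurj : ∃ e : Q ⧸ C.subgroupOf Q → I, Function.Bijective e := by
    have hmem : ∀ q : Q, (q : Γ) * t * (q : Γ)⁻¹ * t ∈ I := fun q => by
      refine ⟨?_, ?_⟩
      · have : (q : Γ) * t * (q : Γ)⁻¹ * t = q * (t * (q : Γ)⁻¹ * t⁻¹) := by rw [h.t_inv]; group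
        rw [this]
        exact Q.mul_mem q.2 ((mem_normalizer_iff.1 htQ _).1 (Q.inv_mem q.2))
      · calc t * ((q : Γ) * t * (q : Γ)⁻¹ * t) * t⁻¹ = t * q * t * (q : Γ)⁻¹ := by group
          _ = ((q : Γ) * t * (q : Γ)⁻¹ * t)⁻¹ := by
            rw [mul_inv_rev, mul_inv_rev, mul_inv_rev, h.t_inv, inv_inv]; group
    let e : Q ⧸ C.subgroupOf Q → I := Quotient.lift (fun q => ⟨_, hmem q⟩) fun a b hab => by
      have hc : a⁻¹ * b ∈ C.subgroupOf Q := QuotientGroup.leftRel_apply.1 hab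
      have hct : Commute ((a : Γ)⁻¹ * b) t := mem_centralizer_singleton_iff.1 (mem_subgroupOf.1 hc).2
      refine Subtype.ext ?_
      show (a : Γ) * t * (a : Γ)⁻¹ * t = b * t * (b : Γ)⁻¹ * t
      calc (a : Γ) * t * (a : Γ)⁻¹ * t = a * (t * ((a : Γ)⁻¹ * b)) * (b : Γ)⁻¹ * t := by group
        _ = _ := by rw [← hct.eq]; group
    refine ⟨e, ?_, ?_⟩
    · intro p q
      refine Quotient.inductionOn₂ p q fun a b hab => ?_
      have hab' : (a : Γ) * t * (a : Γ)⁻¹ * t = b * t * (b : Γ)⁻¹ * t := congrArg Subtype.val hab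
      refine Quotient.sound (QuotientGroup.leftRel_apply.2 (mem_subgroupOf.2 ⟨(a⁻¹ * b).2,
        mem_centralizer_singleton_iff.2 ?_⟩))
      show (a : Γ)⁻¹ * b * t = t * ((a : Γ)⁻¹ * b)
      have h1 := mul_right_cancel hab'
      calc (a : Γ)⁻¹ * b * t = (a : Γ)⁻¹ * (b * t * (b : Γ)⁻¹) * b := by group
        _ = _ := by rw [← h1]; group
    · rintro ⟨z, hz⟩
      obtain ⟨i, hi⟩ : ∃ i : ℕ, (z ^ i) * (z ^ i) = z := ⟨2, by
        rw [← pow_add, show 2 + 2 = 3 + 1 from rfl, pow_succ, h3 z hz, one_mul]⟩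
      refine ⟨QuotientGroup.mk (⟨z ^ i, Q.pow_mem hz.1 i⟩ : Q), Subtype.ext ?_⟩
      show z ^ i * t * (z ^ i)⁻¹ * t = z
      have hzi : t * (z ^ i)⁻¹ * t⁻¹ = z ^ i := by
        rw [show t * (z ^ i)⁻¹ * t⁻¹ = (t * z ^ i * t⁻¹)⁻¹ by group, ← conj_pow, hz.2, inv_pow, inv_inv]
      rw [h.t_inv] at hzi
      rw [mul_assoc, mul_assoc (z ^ i), ← mul_assoc t, hzi, hi]
  obtain ⟨e, he⟩ := hsurj
  obtain ⟨k, hk⟩ : ∃ k, Nat.card I = 3 ^ k := by
    obtain ⟨n, hn⟩ := IsPGroup.iff_card.1 hQ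
    have hd := (C.subgroupOf Q).index_dvd_card
    rw [index_eq_card, Nat.card_congr (Equiv.ofBijective e he), hn] at hd
    obtain ⟨k, -, hk⟩ := (Nat.dvd_prime_pow Nat.prime_three).1 hd
    exact ⟨k, hk⟩
  have h1I : (1 : Γ) ∈ I := ⟨Q.one_mem, by simp⟩
  obtain ⟨y0, hy0, hy01⟩ : ∃ y ∈ I, y ≠ 1 := by
    by_contra hn
    exact hall ⟨1, h1I, fun y hy => by
      rw [show y = 1 from not_not.1 fun hne => hn ⟨y, hy, hne⟩]; exact one_mem _⟩
  have hge : 9 ≤ Nat.card I := by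
    by_contra hlt
    have hk1 : k ≤ 1 := by
      by_contra hk2
      exact hlt (hk ▸ le_trans (by norm_num) (Nat.pow_le_pow_right (by norm_num) (show 2 ≤ k by omega)))
    refine hall ⟨y0, hy0, hcov y0 hy0 ?_⟩
    rw [hk, orderOf_eq_prime (h3 y0 hy0) hy01]
    exact le_trans (Nat.pow_le_pow_right (by norm_num) hk1) (by norm_num)
  -- a central element of `Q`
  haveI : Nontrivial Q := (nontrivial_iff_exists_ne_one _).2 ⟨y0, hy0.1, hy01⟩
  haveI := hQ.center_nontrivial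
  obtain ⟨⟨z, hz⟩, hz1⟩ := exists_ne (1 : center Q)
  have hz1' : (z : Γ) ≠ 1 := fun e => hz1 (Subtype.ext (Subtype.ext e))
  have hzc : ∀ q ∈ Q, Commute (z : Γ) q := fun q hq =>
    (congrArg Subtype.val ((mem_center_iff.1 hz) ⟨q, hq⟩)).symm
  set z' := (z : Γ) * t * (z : Γ)⁻¹ * t with hz'
  by_cases hz't : z' = 1
  · refine h.false_of_fixed_central hQ hge (z := (z : Γ)) ?_ ?_ hz1' fun x hx => hzc x hx.1
    · have := eq_inv_of_mul_eq_one_left hz't
      rw [h.t_inv] at this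
      exact mul_inv_eq_iff_eq_mul.1 this
    · obtain ⟨k, hk⟩ := hQ z
      exact ⟨k, by simpa using congrArg Subtype.val hk⟩
  · have he' : z' = z * (t * (z : Γ)⁻¹ * t⁻¹) := by rw [hz', h.t_inv]; group
    have htz : t * (z : Γ)⁻¹ * t⁻¹ ∈ Q := (mem_normalizer_iff.1 htQ _).1 (Q.inv_mem z.2)
    have hz'Q : z' ∈ Q := he' ▸ Q.mul_mem z.2 htz
    have hz'i : t * z' * t⁻¹ = z'⁻¹ := by
      rw [hz']
      calc t * ((z : Γ) * t * (z : Γ)⁻¹ * t) * t⁻¹ = t * z * t * (z : Γ)⁻¹ := by group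
        _ = _ := by rw [mul_inv_rev, mul_inv_rev, mul_inv_rev, h.t_inv, inv_inv]; group
    have hz'c : ∀ q ∈ Q, Commute z' q := fun q hq => by
      rw [he']
      refine (hzc q hq).mul_left ?_
      have hq' : t⁻¹ * q * t ∈ Q := by
        rw [h.t_inv]; simpa [h.t_inv] using (mem_normalizer_iff.1 htQ q).1 hq
      have := ((hzc _ hq').inv_left).map (MulAut.conj t)
      simpa [mul_assoc] using this
    obtain ⟨y, hy, hyz⟩ : ∃ y ∈ I, y ∉ zpowers z' := by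
      by_contra hn
      exact hall ⟨z', ⟨hz'Q, hz'i⟩, fun y hy => not_not.1 fun hne => hn ⟨y, hy, hne⟩⟩
    exact h.false_of_plane (hz'c y hy.1) (h3 z' ⟨hz'Q, hz'i⟩) (h3 y hy) hz'i hy.2 hz't hyz

end Nine

end Cfsg.Agent.AbelianSylow.Field
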