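import Cfsg.Agent.Lib.AbelianSylow.Cent.CoreMain
import Cfsg.Agent.Lib.AbelianTwoPSL.Centralizer
import Cfsg.Agent.Lib.GWKlein.General.Main
import Cfsg.Agent.Lib.AbelianSylowTwo.SolvCent
import Cfsg.Agent.Lib.PSL2.Centralizers
import Cfsg.Agent.Lib.PSL2.Soluble

/-!
# Part (a): the centraliser of an involution up to a field automorphism (owner: helper29)

* `CShape G t F E L` : `C(t) = ⟨t⟩ × E`, `L ⊴ E` of odd index, `L ≅ L₂(q)`, `q = |F| ≡ 3, 5 (mod 8)`, `q ≥ 5`
* `Elem8.exists_not_solvable` : some involution has a non-solvable centraliser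
* `exists_cshape`   : every `Elem8` group has a `CShape`
* `CShape.jtData`   : `E = L` gives `JTData`
-/

set_option autoImplicit false
set_option linter.style.haveILetI false

namespace Cfsg.Agent.AbelianSylow

open Subgroup

universe u

variable {G : Type u} [Group G] [Finite G]

/-- The centraliser of an involution, before the field automorphisms are excluded. -/
structure CShape (G : Type u) [Group G] [Finite G] (t : G) (F : Type) [Field F] [Fintype F]
    (E L : Subgroup G) : Prop where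
  elem : Elem8 G
  ctx : AbelianTwoPSL.Ctx t E L
  iso : Nonempty (↥L ≃* PSL2.PSL2 F)
  five : 5 ≤ Fintype.card F
  mod8 : Fintype.card F % 8 = 3 ∨ Fintype.card F % 8 = 5
  odd_index : Odd (L.relIndex E)

omit [Finite G] in
theorem eq_one_or_eq_invol {x y : G} (hx : x * x = 1) (hy : y ∈ zpowers x) : y = 1 ∨ y = x := by
  obtain ⟨i, rfl⟩ := mem_zpowers_iff.1 hy
  rcases Int.even_or_odd' i with ⟨k, rfl | rfl⟩
  · left; rw [zpow_mul, show x ^ (2 : ℤ) = x * x from by rw [zpow_two], hx, one_zpow]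
  · right; rw [zpow_add, zpow_mul, show x ^ (2 : ℤ) = x * x from by rw [zpow_two], hx, one_zpow, one_mul, zpow_one]

/-- The order of `L₂(q)` for odd `q`. -/
theorem card_psl_odd {F : Type} [Field F] [Fintype F] (hF : Odd (Fintype.card F)) :
    2 * Nat.card (PSL2.PSL2 F) = Fintype.card F * ((Fintype.card F + 1) * (Fintype.card F - 1)) := by
  have h := PSL2.card_psl_mul (F := F)
  rw [Nat.card_eq_fintype_card (α := F)] at h
  rw [Nat.odd_iff] at hF
  rwa [Nat.gcd_eq_left (by omega : 2 ∣ Fintype.card F - 1)] at h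

theorem eight_not_dvd {q : ℕ} (h8 : q % 8 = 3 ∨ q % 8 = 5) {c : ℕ}
    (hc : 2 * c = q * ((q + 1) * (q - 1))) : ¬ 8 ∣ c := by
  intro hd
  have h16 : 16 ∣ q * ((q + 1) * (q - 1)) := hc ▸ (Nat.mul_dvd_mul_left 2 hd : 2 * 8 ∣ 2 * c)
  have hco : Nat.Coprime 16 q := by
    rw [show 16 = 2 ^ 4 by norm_num]
    exact Nat.Coprime.pow_left 4 (Nat.prime_two.coprime_iff_not_dvd.2 (by omega))
  have h2 := hco.dvd_of_dvd_mul_left h16
  obtain ⟨k, hk⟩ : ∃ k, q = 8 * k + 3 ∨ q = 8 * k + 5 := ⟨q / 8, by omega⟩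
  obtain ⟨m, hm⟩ := h2
  rcases hk with rfl | rfl
  · have : (8 * k + 3 + 1) * (8 * k + 3 - 1) = 16 * (4 * k * k + 3 * k) + 8 := by
      rw [show 8 * k + 3 - 1 = 8 * k + 2 by omega]; ring
    omega
  · have : (8 * k + 5 + 1) * (8 * k + 5 - 1) = 16 * (4 * k * k + 5 * k + 1) + 8 := by
      rw [show 8 * k + 5 - 1 = 8 * k + 4 by omega]; ring
    omega

/-- Some involution of an `Elem8` group has a non-solvable centraliser. -/
theorem Elem8.exists_not_solvable (h : Elem8 G) :
    ∃ t : G, orderOf t = 2 ∧ ¬ Group.IsSolvable ↥(centralizer ({t} : Set G)) := by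
  by_contra hcon
  push Not at hcon
  haveI : Fact (Nat.Prime 2) := ⟨Nat.prime_two⟩
  haveI := h.simple
  obtain ⟨S⟩ : Nonempty (Sylow 2 G) := inferInstance
  obtain ⟨hSe, hS8⟩ := h.sylow S
  have hGdvd : 8 ∣ Nat.card G := hS8 ▸ card_subgroup_dvd_card _
  have hO : Cfsg.oddCore G = ⊥ := by
    refine (Cores.pPrimeCore_normal 2 G).eq_bot_or_eq_top.resolve_right fun htop => ?_
    have hd := Cores.coprime_card_pPrimeCore (G := G) 2
    rw [htop, card_top] at hd
    exact Nat.prime_two.coprime_iff_not_dvd.1 hd.symm (dvd_trans (by norm_num) hGdvd)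
  rcases AbelianSylowTwo.solvable_or_psl GWKlein.kleinGWSolvable S hSe.1 hcon with
    hs | ⟨F, _, _, hF, N, hN, ⟨e⟩, -⟩
  · exact h.nonab ⟨⟨IsSimpleGroup.comm_iff_isSolvable.2 hs⟩⟩
  haveI := Cores.pPrimeCore_normal 2 G
  let π : G ≃* G ⧸ Cfsg.oddCore G :=
    (QuotientGroup.quotientBot.symm.trans (QuotientGroup.quotientMulEquivOfEq hO.symm))
  haveI : Nontrivial (G ⧸ Cfsg.oddCore G) := π.toEquiv.symm.nontrivial
  haveI : IsSimpleGroup (G ⧸ Cfsg.oddCore G) :=
    IsSimpleGroup.isSimpleGroup_of_surjective π.toMonoidHom π.surjective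
  have h5 : 4 ≤ Fintype.card F := by
    rcases hF with ⟨-, h5⟩ | ⟨n, hn, hq⟩
    · omega
    · rw [hq]; exact (show 2 ^ 2 = 4 by norm_num) ▸ Nat.pow_le_pow_right two_pos hn
  haveI : Nontrivial (PSL2.PSL2 F) := by
    refine Finite.one_lt_card_iff_nontrivial.1 ?_
    have hc := PSL2.card_psl_mul (F := F)
    rw [Nat.card_eq_fintype_card (α := F)] at hc
    have hg : Nat.gcd 2 (Fintype.card F - 1) ≤ 2 := Nat.le_of_dvd two_pos (Nat.gcd_dvd_left _ _)
    have hbig : 4 * (5 * 3) ≤ Fintype.card F * ((Fintype.card F + 1) * (Fintype.card F - 1)) :=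
      Nat.mul_le_mul h5 (Nat.mul_le_mul (by omega) (by omega))
    by_contra h1
    have : Nat.gcd 2 (Fintype.card F - 1) * Nat.card (PSL2.PSL2 F) ≤ 2 * 1 :=
      Nat.mul_le_mul hg (by omega)
    omega
  have hNtop : N = ⊤ := hN.eq_bot_or_eq_top.resolve_left fun hb => by
    subst hb
    exact not_subsingleton (PSL2.PSL2 F) e.symm.toEquiv.injective.subsingleton
  subst hNtop
  let φ : G ≃* PSL2.PSL2 F := (π.trans Subgroup.topEquiv.symm).trans e
  rcases hF with ⟨h8, -⟩ | ⟨n, hn, hq⟩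
  · have hc := card_psl_odd (F := F) (by rw [Nat.odd_iff]; omega)
    rw [← Nat.card_congr φ.toEquiv] at hc
    exact eight_not_dvd h8 hc hGdvd
  · haveI : CharP F 2 := charP_of_card_eq_prime_pow hq
    have hc := PSL2.card_psl_mul (F := F)
    rw [Nat.card_eq_fintype_card (α := F), ← Nat.card_congr φ.toEquiv] at hc
    have heven : Fintype.card F % 2 = 0 := by rw [hq]; simp [Nat.pow_mod, show n ≠ 0 by omega]
    rw [Nat.Coprime.gcd_eq_one (Nat.prime_two.coprime_iff_not_dvd.2 (by omega)), one_mul] at hc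
    have hq8 : Fintype.card F = 8 := by
      have hodd : ¬ 2 ∣ (Fintype.card F + 1) * (Fintype.card F - 1) := fun hd => by
        rcases Nat.prime_two.dvd_mul.1 hd with h' | h' <;> omega
      have := SmallOrders.card_sylow_subgroup (e := n) (p := 2)
        (m := (Fintype.card F + 1) * (Fintype.card F - 1)) (by rw [hc, hq]) hodd S
      omega
    have hcent : ∀ t : G, orderOf t = 2 → t ∈ (S : Subgroup G) →
        centralizer ({t} : Set G) ≤ normalizer ((S : Subgroup G) : Set G) := by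
      intro t ht htS
      have hle : (S : Subgroup G) ≤ centralizer ({t} : Set G) := fun s hs =>
        mem_centralizer_singleton_iff.2 (h.commute_mem S hs htS).eq
      have hcard : Nat.card ↥(centralizer ({t} : Set G)) = 8 := by
        have h1 := PSL2.card_centralizer_char (F := F) 2 (x := φ t) (by rw [MulEquiv.orderOf_eq, ht])
        rw [Nat.card_eq_fintype_card (α := F), hq8] at h1
        rw [← h1]
        refine Nat.card_congr (φ.toEquiv.subtypeEquiv fun g => ?_)
        rw [mem_centralizer_singleton_iff, mem_centralizer_singleton_iff]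
        show g * t = t * g ↔ φ g * φ t = φ t * φ g
        rw [← map_mul, ← map_mul, φ.injective.eq_iff]
      rw [← eq_of_le_of_card_ge hle (by rw [hcard, hS8])]
      exact le_normalizer
    refine h.notSE ⟨_, AbelianSylowTwo.isStronglyEmbedded_normalizer S hSe.1
      (dvd_trans (by norm_num) hGdvd) (fun htop => ?_) hcent⟩
    rcases (normalizer_eq_top_iff.1 htop).eq_bot_or_eq_top with hb | ht
    · rw [hb, Subgroup.card_bot] at hS8; omega
    · haveI := hSe.1
      exact h.nonab ⟨⟨fun a b => congrArg Subtype.val (mul_comm'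
        (⟨a, ht.ge (mem_top a)⟩ : (S : Subgroup G)) ⟨b, ht.ge (mem_top b)⟩)⟩⟩

/-- A group of order `12` is not non-abelian simple. -/
theorem card_ne_twelve {K : Type u} [Group K] [Finite K] [IsSimpleGroup K] (hna : ¬ IsMulCommutative K) :
    Nat.card K ≠ 12 := fun h12 => hna ⟨⟨IsSimpleGroup.comm_iff_isSolvable.2
      (PSL2.isSolvable_of_card_two_three (G := K) (by rw [h12]; decide))⟩⟩

/-- **The shape.** -/
theorem exists_cshape (h : Elem8 G) :
    ∃ (t : G) (F : Type) (_ : Field F) (_ : Fintype F) (E L : Subgroup G), CShape G t F E L := by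
  classical
  haveI : Fact (Nat.Prime 2) := ⟨Nat.prime_two⟩
  haveI := h.simple
  obtain ⟨t, ht, hns⟩ := h.exists_not_solvable
  set C := centralizer ({t} : Set G)
  have hO : Cfsg.oddCore C = ⊥ :=
    (map_eq_bot_iff_of_injective _ C.subtype_injective).1 (Core.coreTarget h ht hns)
  obtain ⟨S₀, htS₀⟩ := Core.exists_sylow_mem (Involution.mul_self ht)
  have hS₀C : (S₀ : Subgroup G) ≤ C := fun s hs =>
    mem_centralizer_singleton_iff.2 (h.commute_mem S₀ hs htS₀).eq
  have hS : ∀ T : Sylow 2 C, Cfsg.IsElementaryAbelian 2 (T : Subgroup C) ∧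
      Nat.card (T : Subgroup C) = 8 := by
    intro T
    obtain ⟨Q, hQ⟩ := (T.isPGroup'.map C.subtype).exists_le_sylow
    have hc : Nat.card (T : Subgroup C) = 8 := by
      rw [Nat.card_congr (T.equiv (S₀.subtype hS₀C)).toEquiv, Sylow.coe_subtype,
        Nat.card_congr (subgroupOfEquivOfLe hS₀C).toEquiv, (h.sylow S₀).2]
    refine ⟨⟨⟨⟨fun a b => Subtype.ext (Subtype.ext ?_)⟩⟩, fun x hx => Subtype.ext ?_⟩, hc⟩
    · exact (h.commute_mem Q (hQ (mem_map_of_mem C.subtype a.2)) (hQ (mem_map_of_mem C.subtype b.2))).eq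
    · exact (h.sylow Q).1.2 _ (hQ (mem_map_of_mem C.subtype hx))
  set z : C := ⟨t, mem_centralizer_singleton_iff.2 rfl⟩
  have hz2 : orderOf z = 2 := by rw [← orderOf_coe]; exact ht
  have hzc : z ∈ center C := mem_center_iff.2 fun g => Subtype.ext
    (mem_centralizer_singleton_iff.1 g.2)
  obtain ⟨L₀, hL⟩ := Core.exists_shape hO hS hzc hz2 hns
  haveI := hL.simple
  obtain ⟨T⟩ : Nonempty (Sylow 2 C) := inferInstance
  obtain ⟨P, -, hP⟩ := hL.exists_sylow T
  obtain ⟨F, _, _, hodd, ⟨e⟩⟩ := GWKlein.kleinGW L₀ hL.simple hL.nonab P hP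
  -- the congruence
  have hcF := card_psl_odd (F := F) hodd
  rw [← Nat.card_congr e.toEquiv] at hcF
  have h8not : ¬ 8 ∣ Nat.card L₀ := fun hd => by
    have h1 := P.pow_dvd_card_of_pow_dvd_card (n := 3) (by norm_num; exact hd)
    rw [hP.card_four] at h1
    exact absurd (Nat.le_of_dvd (by norm_num) h1) (by norm_num)
  have hq1 : 2 ≤ Fintype.card F := Fintype.one_lt_card
  have h8 : Fintype.card F % 8 = 3 ∨ Fintype.card F % 8 = 5 := by
    rw [Nat.odd_iff] at hodd
    by_contra hne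
    push Not at hne
    refine h8not ?_
    obtain ⟨k, hk⟩ : ∃ k, Fintype.card F = 8 * k + 1 ∨ Fintype.card F = 8 * k + 7 :=
      ⟨Fintype.card F / 8, by omega⟩
    have h16 : 16 ∣ 2 * Nat.card L₀ := by
      rw [hcF]
      refine Dvd.dvd.mul_left ?_ _
      rcases hk with e' | e' <;> rw [e']
      · exact ⟨k * (4 * k + 1), by rw [Nat.add_sub_cancel]; ring⟩
      · exact ⟨(k + 1) * (4 * k + 3), by rw [show 8 * k + 7 - 1 = 8 * k + 6 by omega]; ring⟩
    exact (Nat.dvd_of_mul_dvd_mul_left two_pos (show 2 * 8 ∣ 2 * Nat.card L₀ from h16))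
  have h5 : 5 ≤ Fintype.card F := by
    by_contra h5
    have hq3 : Fintype.card F = 3 := by omega
    rw [hq3] at hcF
    exact card_ne_twelve hL.nonab (by omega)
  -- a normal complement to `⟨t⟩` above `L₀`
  haveI := hL.normal
  set π := QuotientGroup.mk' L₀
  let R : Sylow 2 (C ⧸ L₀) := T.mapSurjective (QuotientGroup.mk'_surjective L₀)
  have hzR : ∀ r ∈ (R : Subgroup (C ⧸ L₀)), r = 1 ∨ r = π z := by
    rintro r hr
    rw [Sylow.coe_mapSurjective] at hr
    obtain ⟨x, hx, rfl⟩ := hr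
    rcases hL.decomp x (by rw [← pow_two]; exact (hS T).1.2 x hx) with hxL | hxz
    · exact Or.inl ((QuotientGroup.eq_one_iff x).2 hxL)
    · refine Or.inr ?_
      have h1 : π (x * z) = 1 := (QuotientGroup.eq_one_iff _).2 hxz
      rw [map_mul] at h1
      rw [eq_inv_of_mul_eq_one_left h1, ← map_inv,
        inv_eq_of_mul_eq_one_right (Involution.mul_self hz2)]
  have hNC : normalizer ((R : Subgroup (C ⧸ L₀)) : Set (C ⧸ L₀)) ≤ centralizer ↑(R : Subgroup (C ⧸ L₀)) :=
    fun g _ => mem_centralizer_iff.2 fun r hr => by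
      obtain ⟨g', rfl⟩ := QuotientGroup.mk'_surjective L₀ g
      rcases hzR r hr with rfl | rfl
      · simp
      · rw [← map_mul, ← map_mul, mem_center_iff.1 hzc g']
  have hcompl := MonoidHom.ker_transferSylow_isComplement' R hNC
  set K := (MonoidHom.transferSylow R hNC).ker with hK
  set E₀ : Subgroup C := K.comap π with hE₀
  haveI : E₀.Normal := Normal.comap (MonoidHom.normal_ker _) π
  have hLE : L₀ ≤ E₀ := fun x hx => by
    rw [hE₀, mem_comap, show π x = 1 from (QuotientGroup.eq_one_iff x).2 hx]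
    exact one_mem _
  have hzT : z ∈ (T : Subgroup C) := by
    have hp : IsPGroup 2 (zpowers z) := IsPGroup.of_card (n := 1) (by rw [Nat.card_zpowers, hz2, pow_one])
    haveI : (zpowers z).Normal := ⟨fun m hm g => by
      rwa [mem_center_iff.1 ((zpowers_le.2 hzc) hm) g, mul_inv_cancel_right]⟩
    exact hp.le_sylow_of_normal T (mem_zpowers z)
  have hπz : π z ∈ (R : Subgroup (C ⧸ L₀)) := by
    rw [Sylow.coe_mapSurjective]; exact mem_map_of_mem π hzT
  have hπz1 : π z ≠ 1 := fun e => hL.z_not_mem hz2 ((QuotientGroup.eq_one_iff z).1 e)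
  have hzE : z ∉ E₀ := fun hzE => by
    exact hπz1 ((disjoint_iff_inf_le.1 hcompl.disjoint) ⟨mem_comap.1 hzE, hπz⟩)
  have hsplit : ∀ c : C, c ∈ E₀ ∨ ∃ e ∈ E₀, c = z * e := by
    intro c
    obtain ⟨⟨k, r⟩, hkr⟩ := hcompl.2 (π c)
    have hkr' : (k : C ⧸ L₀) * r = π c := hkr
    rcases hzR r r.2 with e | e <;> rw [e] at hkr'
    · exact Or.inl (by rw [hE₀, mem_comap, ← hkr', mul_one]; exact k.2)
    · refine Or.inr ⟨z⁻¹ * c, ?_, by group⟩
      rw [hE₀, mem_comap, map_mul, ← hkr', map_inv]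
      have hcz : Commute (π z) (k : C ⧸ L₀) := by
        obtain ⟨k', hk'⟩ := QuotientGroup.mk'_surjective L₀ (k : C ⧸ L₀)
        rw [← hk']
        exact (show Commute z k' from (mem_center_iff.1 hzc k').symm).map π
      rw [← hcz.eq, inv_mul_cancel_left]
      exact k.2
  -- in `G`
  set E := E₀.map C.subtype
  set L := L₀.map C.subtype
  let eL : ↥L₀ ≃* ↥L := equivMapOfInjective L₀ C.subtype C.subtype_injective
  have hEC : E ≤ C := map_subtype_le _
  have hLEG : L ≤ E := map_mono hLE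
  have hprod : Cfsg.IsInternalDirectProduct (zpowers t) E C := by
    refine ⟨zpowers_le.2 z.2, hEC, fun a ha b hb => ?_, ?_, le_antisymm (sup_le (zpowers_le.2 z.2) hEC) ?_⟩
    · obtain ⟨i, rfl⟩ := mem_zpowers_iff.1 ha
      exact ((show Commute t b from (mem_centralizer_singleton_iff.1 (hEC hb)).symm).zpow_left i).eq
    · refine (eq_bot_iff_forall _).2 fun x ⟨hx, hxE⟩ => ?_
      rcases eq_one_or_eq_invol (Involution.mul_self ht) hx with e | e
      · exact e
      · subst e
        obtain ⟨y, hy, hyt⟩ := hxE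
        exact absurd ((Subtype.ext hyt : y = z) ▸ hy) hzE
    · intro c hc
      rcases hsplit ⟨c, hc⟩ with h1 | ⟨e', he', heq⟩
      · exact mem_sup_right ⟨_, h1, rfl⟩
      · rw [show c = t * (e' : G) from congrArg Subtype.val heq]
        exact mul_mem_sup (mem_zpowers t) ⟨e', he', rfl⟩
  have hctx : AbelianTwoPSL.Ctx t E L := by
    refine AbelianTwoPSL.Ctx.of_statement S₀ (h.sylow S₀).1.1 ht hprod hLEG
      ⟨fun x hx g => ?_⟩ ⟨F, _, _, hodd, ⟨eL.symm.trans e⟩⟩ ((eq_bot_iff_forall _).2 fun x hx => ?_)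
    · rw [mem_subgroupOf] at hx ⊢
      obtain ⟨a, ha, hax⟩ := hx
      obtain ⟨b, hb, hbg⟩ := g.2
      refine ⟨b * a * b⁻¹, hL.normal.conj_mem a ha b, ?_⟩
      simp only [map_mul, map_inv, hax, hbg]
      rfl
    · obtain ⟨⟨y, hy, rfl⟩, hxc⟩ := hx
      have h1 : y ∈ centralizer (L₀ : Set C) := mem_centralizer_iff.2 fun a ha =>
        Subtype.ext (mem_centralizer_iff.1 hxc _ (mem_map_of_mem C.subtype ha))
      rw [hL.cent] at h1
      rcases eq_one_or_eq_invol (Involution.mul_self hz2) h1 with e | e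
      · rw [e]; rfl
      · exact absurd (e ▸ hy) hzE
  refine ⟨t, F, _, _, E, L, h, hctx, ⟨eL.symm.trans e⟩, h5, h8, ?_⟩
  rw [show L.relIndex E = L₀.relIndex E₀ from relIndex_map_map_of_injective L₀ E₀ C.subtype_injective,
    ← Nat.not_even_iff_odd, even_iff_two_dvd]
  intro h2
  have h3 : L₀.relIndex E₀ ∣ Nat.card K := by
    rw [show Nat.card K = Nat.card ↥(E₀.map π) by rw [hE₀, map_comap_eq_self_of_surjective (QuotientGroup.mk'_surjective L₀)],
      ← relIndex_bot_left, ← map_bot π, relIndex_map_map, QuotientGroup.ker_mk', bot_sup_eq,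
      sup_eq_left.2 hLE]
  exact MonoidHom.not_dvd_card_ker_transferSylow R hNC (h2.trans h3)

/-- Without field automorphisms it is the Janko-Thompson situation. -/
theorem CShape.jtData {t : G} {F : Type} [Field F] [Fintype F] {E L : Subgroup G}
    (h : CShape G t F E L) (hEL : E = L) : JTData G t F := by
  refine ⟨h.elem.simple, h.elem.nonab, h.elem.sylow, h.ctx.ht, h.five, h.mod8, ?_⟩
  obtain ⟨e⟩ := h.iso
  have hEC : ∀ x ∈ E, x ∈ centralizer ({t} : Set G) := fun x hx =>
    mem_centralizer_singleton_iff.2 (h.ctx.comm x hx).eq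
  have htt := h.ctx.mul_self_t
  let τ : centralizer ({t} : Set G) := ⟨t, mem_centralizer_singleton_iff.2 rfl⟩
  have hττ : τ * τ = 1 := Subtype.ext htt
  let ι : Multiplicative (ZMod 2) →* centralizer ({t} : Set G) :=
    { toFun := fun i => if i = 1 then 1 else τ
      map_one' := if_pos rfl
      map_mul' := fun i j => by
        have h2 : ∀ i : Multiplicative (ZMod 2), i = 1 ∨ i = Multiplicative.ofAdd 1 := by decide
        have hne : Multiplicative.ofAdd (1 : ZMod 2) ≠ 1 := by decide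
        have hmul : Multiplicative.ofAdd (1 : ZMod 2) * Multiplicative.ofAdd 1 = 1 := by decide
        rcases h2 i with rfl | rfl <;> rcases h2 j with rfl | rfl <;> simp [hne, hmul, hττ] }
  let κ : PSL2.PSL2 F →* centralizer ({t} : Set G) :=
    (L.subtype.comp e.symm.toMonoidHom).codRestrict _ fun x => hEC _ (hEL ▸ (e.symm x).2)
  have hι : ι (Multiplicative.ofAdd 1) = ⟨t, mem_centralizer_singleton_iff.2 rfl⟩ :=
    if_neg (t := (1 : centralizer ({t} : Set G))) (show Multiplicative.ofAdd (1 : ZMod 2) ≠ 1 by decide)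
  have h01 : ∀ i : Multiplicative (ZMod 2), i = 1 ∨ i = Multiplicative.ofAdd 1 := by decide
  have hιv : ∀ i, ((ι i : centralizer ({t} : Set G)) : G) = 1 ∧ i = 1 ∨
      ((ι i : centralizer ({t} : Set G)) : G) = t ∧ i = Multiplicative.ofAdd 1 := fun i => by
    rcases h01 i with e' | e' <;> subst e'
    · exact Or.inl ⟨by rw [map_one]; rfl, rfl⟩
    · exact Or.inr ⟨by rw [hι], rfl⟩
  have hcomm : ∀ i x, Commute (ι i) (κ x) := fun i x => Subtype.ext (by
    show (ι i : G) * κ x = κ x * ι i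
    rcases hιv i with ⟨e', -⟩ | ⟨e', -⟩ <;> rw [e']
    · simp
    · exact (h.ctx.comm _ (hEL ▸ (e.symm x).2)).symm.eq)
  let f := ι.noncommCoprod κ hcomm
  refine ⟨(MulEquiv.ofBijective f ⟨(injective_iff_map_eq_one f).2 ?_, ?_⟩).symm⟩
  · rintro ⟨i, x⟩ hix
    have h1 : (ι i : G) * (e.symm x : L) = 1 := congrArg Subtype.val hix
    rcases hιv i with ⟨e', hi⟩ | ⟨e', hi⟩ <;> rw [e'] at h1
    · refine Prod.ext hi (e.symm.injective (Subtype.ext ?_))
      show ((e.symm x : L) : G) = ((e.symm 1 : L) : G)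
      rw [map_one]
      simpa using h1
    · refine absurd ?_ h.ctx.htE
      rw [eq_inv_of_mul_eq_one_left h1]
      exact inv_mem (hEL ▸ (e.symm x).2)
  · rintro ⟨c, hc⟩
    rcases h.ctx.split c (mem_centralizer_singleton_iff.1 hc) with hcE | ⟨w, hw, rfl⟩
    · exact ⟨(1, e ⟨c, hEL ▸ hcE⟩), Subtype.ext (by simp [f, κ])⟩
    · refine ⟨(Multiplicative.ofAdd 1, e ⟨w, hEL ▸ hw⟩), Subtype.ext ?_⟩
      show ((ι _ * κ _ : centralizer ({t} : Set G)) : G) = t * w
      rw [hι]
      simp [κ]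

end Cfsg.Agent.AbelianSylow
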