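import Cfsg.Agent.Lib.AbelianSylow.TwoTrans.Borel
import Cfsg.Agent.Lib.AbelianSylow.Cent.FieldShape
import Cfsg.Agent.Lib.PSL2.Centralizers

/-!
# Part (a), case `s = 3`: `L₂(3ⁿ)`, `n` odd, inside `G` (owner: helper82)

* `LThree L U Bl T q` : Borel data plus the centraliser orders
* `exists_lthree`     : it exists for `L ≅ L₂(q)`, around any prescribed element of order `3`
* `LThree.borel_max`  : a Borel subgroup and anything outside it generate `L`
-/

set_option autoImplicit false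
set_option linter.style.haveILetI false

namespace Cfsg.Agent.AbelianSylow.Field

open Subgroup

universe u

/-- `L₂(q)`, `q ≡ 3 (mod 8)` a power of `3`. -/
structure LThree {G : Type u} [Group G] (L U Bl T : Subgroup G) (q n : ℕ) : Prop where
  borel : TwoTrans.BorelData L U Bl T q
  q_eq : q = 3 ^ n
  n_odd : Odd n
  card : 2 * Nat.card L = q * ((q + 1) * (q - 1))
  cent_three : ∀ u ∈ L, orderOf u = 3 → Nat.card (L ⊓ centralizer ({u} : Set G) : Subgroup G) = q
  cent_tor : ∀ x ∈ L, ¬ orderOf x ∣ 3 → 3 ≤ orderOf x →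
    ∃ z ∈ L, L ⊓ centralizer ({x} : Set G) = zpowers z ∧ (2 * orderOf z = q - 1 ∨ 2 * orderOf z = q + 1)

theorem map_inf_centralizer {G H : Type*} [Group G] [Group H] (f : G →* H) (hf : Function.Injective f) (x : G) :
    (centralizer ({x} : Set G)).map f = (⊤ : Subgroup G).map f ⊓ centralizer ({f x} : Set H) := by
  ext z
  constructor
  · rintro ⟨w, hw, rfl⟩
    exact ⟨mem_map_of_mem f (mem_top w), mem_centralizer_singleton_iff.2
      ((show Commute w x from mem_centralizer_singleton_iff.1 hw).map f).eq⟩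
  · rintro ⟨⟨w, -, rfl⟩, hw⟩
    refine ⟨w, mem_centralizer_singleton_iff.2 (hf ?_), rfl⟩
    rw [map_mul, map_mul]
    exact mem_centralizer_singleton_iff.1 hw

variable {G : Type u} [Group G] [Finite G]

theorem exists_lthree_any {L : Subgroup G} {F : Type} [Field F] [Fintype F] (e : ↥L ≃* PSL2.PSL2 F) {n : ℕ}
    (hn : Odd n) (hF : Fintype.card F = 3 ^ n) : ∃ U Bl T : Subgroup G, LThree L U Bl T (3 ^ n) n := by
  haveI : Fact (Nat.Prime 3) := ⟨Nat.prime_three⟩
  obtain ⟨p, hpc⟩ := CharP.exists F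
  haveI := hpc
  obtain ⟨k, hp, hk⟩ := FiniteField.card F p
  obtain rfl : p = 3 := by
    have h1 : p ∣ 3 ^ n := hF ▸ hk ▸ dvd_pow_self p k.pos.ne'
    exact (Nat.prime_dvd_prime_iff_eq hp Nat.prime_three).1 (hp.dvd_of_dvd_pow h1)
  have hN : Nat.card F = 3 ^ n := by rw [Nat.card_eq_fintype_card, hF]
  have h8 : 3 ^ n % 8 = 3 := by obtain ⟨m, rfl⟩ := hn; exact TwoTrans.mod_eight_three_pow m
  obtain ⟨U, B, T, hD⟩ := TwoTrans.exists_borelData_psl (F := F) 3 rfl (by rw [hN]; omega) hN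
  set ι : PSL2.PSL2 F →* G := L.subtype.comp e.symm.toMonoidHom with hι
  have hinj : Function.Injective ι := L.subtype_injective.comp e.symm.injective
  have htop : (⊤ : Subgroup (PSL2.PSL2 F)).map ι = L := by
    rw [hι, ← Subgroup.map_map, Subgroup.map_top_of_surjective _ e.symm.surjective,
      ← MonoidHom.range_eq_map, Subgroup.range_subtype]
  have hlift : ∀ x ∈ L, ∃ v, ι v = x := fun x hx => ⟨e ⟨x, hx⟩, by simp [hι]⟩
  have hgcd : Nat.gcd 2 (Nat.card F - 1) = 2 := Nat.gcd_eq_left (by rw [hN]; omega)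
  refine ⟨U.map ι, B.map ι, T.map ι, htop ▸ hN ▸ hD.map ι hinj, rfl, hn, ?_, ?_, ?_⟩
  · have := PSL2.card_psl_mul (F := F)
    rw [hgcd, hN, ← Nat.card_congr e.toEquiv] at this
    exact this
  · intro u hu ho
    obtain ⟨v, rfl⟩ := hlift u hu
    rw [← htop, ← map_inf_centralizer ι hinj v, card_map_of_injective hinj,
      PSL2.card_centralizer_char (F := F) 3 (by rw [← orderOf_injective ι hinj v, ho]), hN]
  · intro x hx h3 h3'
    obtain ⟨v, rfl⟩ := hlift x hx
    rw [orderOf_injective ι hinj v] at h3 h3'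
    obtain ⟨z, -, hz, hzo⟩ := PSL2.centralizer_torus (F := F) 3 h3 h3'
    refine ⟨ι z, htop ▸ mem_map_of_mem ι (mem_top z), ?_, ?_⟩
    · rw [← htop, ← map_inf_centralizer ι hinj v, hz, MonoidHom.map_zpowers]
    · rw [orderOf_injective ι hinj z]
      rw [hgcd, hN] at hzo
      omega

variable {L U Bl T : Subgroup G} {q n : ℕ}

theorem LThree.q_mod (h : LThree L U Bl T q n) : q % 8 = 3 := by
  obtain ⟨m, rfl⟩ := h.n_odd
  rw [h.q_eq]; exact TwoTrans.mod_eight_three_pow m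

theorem LThree.borel_odd (h : LThree L U Bl T q n) : Odd (Nat.card Bl) := by
  obtain ⟨k, hk⟩ : ∃ k, q = 8 * k + 3 := ⟨q / 8, by have := h.q_mod; omega⟩
  have h1 := h.borel.cardB
  rw [hk, show 8 * k + 3 - 1 = 2 * (4 * k + 1) by omega, ← mul_assoc, mul_comm _ 2, mul_assoc] at h1
  rw [Nat.eq_of_mul_eq_mul_left two_pos h1, Nat.odd_mul]
  exact ⟨Nat.odd_iff.2 (by omega), Nat.odd_iff.2 (by omega)⟩

theorem LThree.U_three (h : LThree L U Bl T q n) : IsPGroup 3 U :=
  IsPGroup.of_card (n := n) (h.borel.cardU.trans h.q_eq)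

theorem LThree.three_not_dvd (h : LThree L U Bl T q n) : ¬ 3 ∣ q - 1 := by
  have h3 : 3 ∣ q := h.q_eq ▸ dvd_pow_self 3 (fun e => by have := h.n_odd; subst e; exact absurd this (by decide))
  have := h.q_mod
  omega

/-- A `3`-element of the Borel subgroup lies in `U`. -/
theorem LThree.mem_U (h : LThree L U Bl T q n) {x : G} (hx : x ∈ Bl) {k : ℕ} (hk : x ^ (3 ^ k) = 1) : x ∈ U := by
  have hn : Bl ≤ normalizer (U : Set G) := fun b hb => Coprime.mem_normalizer_of_forall (h.borel.norm b hb)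
  haveI : (U.subgroupOf Bl).Normal := normal_subgroupOf_of_le_normalizer hn
  have hidx : ¬ 3 ∣ (U.subgroupOf Bl).index := fun hd => by
    have h1 := (U.subgroupOf Bl).card_mul_index
    rw [Cores.card_subgroupOf h.borel.leU, h.borel.cardU] at h1
    have h2 := h.borel.cardB
    rw [← h1, mul_left_comm] at h2
    have hq0 : 0 < q := by have := h.q_mod; omega
    exact h.three_not_dvd (Nat.eq_of_mul_eq_mul_left hq0 h2 ▸ hd.mul_left 2)
  refine mem_subgroupOf.1 ((QuotientGroup.eq_one_iff (⟨x, hx⟩ : Bl)).1 (orderOf_eq_one_iff.1 ?_))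
  refine Nat.eq_one_of_dvd_coprimes ((Nat.prime_three.coprime_iff_not_dvd.2 hidx).pow_left k) ?_
    (by rw [index_eq_card]; exact _root_.orderOf_dvd_natCard _)
  refine orderOf_dvd_of_pow_eq_one ?_
  rw [← QuotientGroup.mk_pow, show (⟨x, hx⟩ : Bl) ^ (3 ^ k) = 1 from Subtype.ext hk, QuotientGroup.mk_one]

/-- **Maximality.** A subgroup containing a Borel subgroup and something outside it is everything. -/
theorem LThree.borel_max (h : LThree L U Bl T q n) {M : Subgroup G} (hB : Bl ≤ M) {l : G} (hlM : l ∈ M)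
    (hlL : l ∈ L) (hl : l ∉ Bl) : L ≤ M := by
  classical
  set M' := M ⊓ L
  have hB' : Bl ≤ M' := le_inf hB h.borel.le
  have hU' : ∀ u : U, (u : G) ∈ M' := fun u => hB' (h.borel.leU u.2)
  let φ : (U × Bl) ⊕ Bl → M' := Sum.elim
    (fun p => ⟨(p.1 : G) * l * p.2, M'.mul_mem (M'.mul_mem (hU' p.1) ⟨hlM, hlL⟩) (hB' p.2.2)⟩)
    fun b => ⟨b, hB' b.2⟩
  have hout : ∀ (u : U) (b b' : Bl), (u : G) * l * b ≠ b' := fun u b b' e => hl (by
    rw [show l = (u : G)⁻¹ * b' * (b : G)⁻¹ by rw [← e]; group]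
    exact Bl.mul_mem (Bl.mul_mem (Bl.inv_mem (h.borel.leU u.2)) b'.2) (Bl.inv_mem b.2))
  have hφ : Function.Injective φ := by
    rintro (⟨u, b⟩ | b) (⟨u', b'⟩ | b') e <;> have e' := congrArg (Subtype.val : M' → G) e
    · have e1 : l⁻¹ * ((u' : G)⁻¹ * u) * l = b' * (b : G)⁻¹ := by
        have : (u : G) * l * b = u' * l * b' := e'
        calc l⁻¹ * ((u' : G)⁻¹ * u) * l = l⁻¹ * (u' : G)⁻¹ * ((u : G) * l * b) * (b : G)⁻¹ := by group
          _ = b' * (b : G)⁻¹ := by rw [this]; group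
      have hmB : l⁻¹ * ((u' : G)⁻¹ * u) * l ∈ Bl := e1 ▸ Bl.mul_mem b'.2 (Bl.inv_mem b.2)
      have hmU : l⁻¹ * ((u' : G)⁻¹ * u) * l⁻¹⁻¹ ∈ U := by
        rw [inv_inv]
        obtain ⟨k, hk⟩ := h.U_three ((u'⁻¹ * u : U))
        refine h.mem_U hmB (k := k) ?_
        have hk' : ((u' : G)⁻¹ * u) ^ (3 ^ k) = 1 := by simpa using congrArg (Subtype.val : U → G) hk
        rw [show l⁻¹ * ((u' : G)⁻¹ * u) * l = l⁻¹ * ((u' : G)⁻¹ * u) * l⁻¹⁻¹ by group, conj_pow, hk']
        group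
      have h1 := h.borel.disj l⁻¹ (L.inv_mem hlL) (fun hc => hl (by simpa using Bl.inv_mem hc)) _
        (U.mul_mem (U.inv_mem u'.2) u.2) hmU
      have hu : u = u' := Subtype.ext (inv_mul_eq_one.1 h1).symm
      subst hu
      have hb : (b : G) = b' := by
        have : (u : G) * l * b = u * l * b' := e'
        simpa using this
      rw [Subtype.ext hb]
    · exact absurd e' (hout u b b')
    · exact absurd e'.symm (hout u' b' b)
    · rw [Subtype.ext (show (b : G) = b' from e')]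
  have hc := Nat.card_le_card_of_injective φ hφ
  rw [Nat.card_sum, Nat.card_prod, h.borel.cardU] at hc
  have h2 : 2 * Nat.card L ≤ 2 * Nat.card M' := by
    refine le_trans (le_of_eq ?_) (Nat.mul_le_mul_left 2 hc)
    rw [h.card, show 2 * (q * Nat.card Bl + Nat.card Bl) = (q + 1) * (2 * Nat.card Bl) by ring, h.borel.cardB]
    ring
  exact (eq_of_le_of_card_ge (inf_le_right : M' ≤ L) (Nat.le_of_mul_le_mul_left h2 two_pos)).ge.trans inf_le_left

/-- Around a prescribed element of order `3`. -/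
theorem LThree.exists_conj (h : LThree L U Bl T q n) {u : G} (hu : u ∈ L) (hu3 : orderOf u = 3) :
    ∃ U' Bl' T' : Subgroup G, LThree L U' Bl' T' q n ∧ u ∈ U' := by
  haveI : Fact (Nat.Prime 3) := ⟨Nat.prime_three⟩
  -- `U` is a Sylow subgroup of `L`
  have hidx : ¬ 3 ∣ (U.subgroupOf L).index := fun hd => by
    have h1 := (U.subgroupOf L).card_mul_index
    rw [Cores.card_subgroupOf (h.borel.leU.trans h.borel.le), h.borel.cardU] at h1
    have h2 := h.card
    rw [← h1, mul_left_comm] at h2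
    have hq0 : 0 < q := by have := h.q_mod; omega
    have h3 := Nat.eq_of_mul_eq_mul_left hq0 h2
    have h4 : 3 ∣ (q + 1) * (q - 1) := h3 ▸ hd.mul_left 2
    have h5 : 3 ∣ q := h.q_eq ▸ dvd_pow_self 3 (fun e => by have := h.n_odd; subst e; exact absurd this (by decide))
    rcases (Nat.Prime.dvd_mul Nat.prime_three).1 h4 with h6 | h6
    · omega
    · exact h.three_not_dvd h6
  let P : Sylow 3 L := (h.U_three.comap_subtype (K := L)).toSylow hidx
  have hup : IsPGroup 3 (zpowers (⟨u, hu⟩ : L)) := IsPGroup.of_card (n := 1) (by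
    rw [Nat.card_zpowers, Subgroup.orderOf_mk, hu3, pow_one])
  obtain ⟨Q, hQ⟩ := hup.exists_le_sylow
  obtain ⟨g, hg⟩ := MulAction.exists_smul_eq L P Q
  set c : G →* G := (MulAut.conj (g : G)).toMonoidHom
  have hcL : L.map c = L := by
    refine eq_of_le_of_card_ge ?_ (le_of_eq (card_map_of_injective (MulAut.conj (g : G)).injective).symm)
    rintro _ ⟨x, hx, rfl⟩
    exact L.mul_mem (L.mul_mem g.2 hx) (L.inv_mem g.2)
  refine ⟨U.map c, Bl.map c, T.map c, ⟨?_, h.q_eq, h.n_odd, h.card, h.cent_three, h.cent_tor⟩, ?_⟩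
  · exact hcL ▸ h.borel.map c (MulAut.conj (g : G)).injective
  · have hmem : (⟨u, hu⟩ : L) ∈ (Q : Subgroup L) := hQ (mem_zpowers _)
    rw [← hg, Sylow.coe_subgroup_smul] at hmem
    obtain ⟨x, hx, hxe⟩ := hmem
    exact ⟨x, mem_subgroupOf.1 hx, congrArg (Subtype.val : L → G) hxe⟩

theorem LThree.orderOf_three (h : LThree L U Bl T q n) {x : G} (hx : x ∈ U) (hx1 : x ≠ 1) : orderOf x = 3 := by
  obtain ⟨k, hk⟩ := h.U_three ⟨x, hx⟩
  have hk' : x ^ (3 ^ k) = 1 := by simpa using congrArg (Subtype.val : U → G) hk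
  obtain ⟨i, -, hi⟩ := (Nat.dvd_prime_pow Nat.prime_three).1 (orderOf_dvd_of_pow_eq_one hk')
  rcases Nat.lt_trichotomy i 1 with h0 | h0 | h0
  · rw [show i = 0 by omega, pow_zero] at hi
    exact absurd (orderOf_eq_one_iff.1 hi) hx1
  · rw [hi, h0, pow_one]
  exfalso
  have h9 : 3 ^ 2 ≤ 3 ^ i := Nat.pow_le_pow_right (by norm_num) h0
  obtain ⟨z, -, hz, hzo⟩ := h.cent_tor x (h.borel.le (h.borel.leU hx))
    (fun e => by have := Nat.le_of_dvd (by norm_num) e; omega) (by omega)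
  have hxz : x ∈ zpowers z := hz ▸ ⟨h.borel.le (h.borel.leU hx), mem_centralizer_singleton_iff.2 rfl⟩
  have h3z : 3 ∣ orderOf z := (dvd_pow_self 3 (by omega : i ≠ 0)).trans (hi ▸ (by
    have := Subgroup.orderOf_dvd_natCard _ hxz; rwa [Nat.card_zpowers] at this))
  have h3 : 3 ∣ q := h.q_eq ▸ dvd_pow_self 3 (fun e => by have := h.n_odd; subst e; exact absurd this (by decide))
  have := h.three_not_dvd
  have := h.q_mod
  rcases hzo with e | e <;> omega

/-- A `3`-subgroup of `L` meeting `U` nontrivially lies in `U`. -/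
theorem LThree.le_U (h : LThree L U Bl T q n) {X : Subgroup G} (hX : X ≤ L) (h3 : IsPGroup 3 X) {u : G}
    (hu : u ∈ U) (hu1 : u ≠ 1) (huX : u ∈ X) : X ≤ U := by
  haveI : Fact (Nat.Prime 3) := ⟨Nat.prime_three⟩
  have hUL : U ≤ L := h.borel.leU.trans h.borel.le
  have hidx : ¬ 3 ∣ (U.subgroupOf L).index := fun hd => by
    have h1 := (U.subgroupOf L).card_mul_index
    rw [Cores.card_subgroupOf hUL, h.borel.cardU] at h1
    have h2 := h.card
    rw [← h1, mul_left_comm] at h2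
    have hq0 : 0 < q := by have := h.q_mod; omega
    have h4 : 3 ∣ (q + 1) * (q - 1) := Nat.eq_of_mul_eq_mul_left hq0 h2 ▸ hd.mul_left 2
    have h5 : 3 ∣ q := h.q_eq ▸ dvd_pow_self 3 (fun e => by have := h.n_odd; subst e; exact absurd this (by decide))
    rcases (Nat.Prime.dvd_mul Nat.prime_three).1 h4 with h6 | h6
    · omega
    · exact h.three_not_dvd h6
  let P : Sylow 3 L := (h.U_three.comap_subtype (K := L)).toSylow hidx
  obtain ⟨Q, hQ⟩ := (h3.comap_subtype (K := L)).exists_le_sylow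
  obtain ⟨g, hg⟩ := MulAction.exists_smul_eq L P Q
  rw [← hg, Sylow.coe_subgroup_smul] at hQ
  have hmem : ∀ x (hx : x ∈ X), (g : G)⁻¹ * x * g ∈ U := fun x hx => by
    obtain ⟨w, hw, hwe⟩ := hQ (show (⟨x, hX hx⟩ : L) ∈ X.subgroupOf L from mem_subgroupOf.2 hx)
    have e : (g : G) * w * (g : G)⁻¹ = x := congrArg (Subtype.val : L → G) hwe
    rw [← e, show (g : G)⁻¹ * ((g : G) * w * (g : G)⁻¹) * g = w by group]
    exact mem_subgroupOf.1 hw
  have hgB : (g : G)⁻¹ ∈ Bl := by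
    by_contra hg'
    exact hu1 (h.borel.disj _ (L.inv_mem g.2) hg' u hu (by rw [inv_inv]; exact hmem u huX))
  intro x hx
  have := h.borel.norm _ (Bl.inv_mem hgB) _ (hmem x hx)
  rwa [inv_inv, show (g : G) * ((g : G)⁻¹ * x * g) * (g : G)⁻¹ = x by group] at this

theorem LThree.cent_U (h : LThree L U Bl T q n) {u : G} (hu : u ∈ U) (hu1 : u ≠ 1) :
    L ⊓ centralizer ({u} : Set G) = U := by
  have hc := h.cent_three u (h.borel.le (h.borel.leU hu)) (h.orderOf_three hu hu1)
  exact eq_of_le_of_card_ge (h.le_U inf_le_left (IsPGroup.of_card (n := n) (hc.trans h.q_eq)) hu hu1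
    ⟨h.borel.le (h.borel.leU hu), mem_centralizer_singleton_iff.2 rfl⟩) (by rw [hc, h.borel.cardU])

theorem LThree.comm_U (h : LThree L U Bl T q n) {a b : G} (ha : a ∈ U) (hb : b ∈ U) : Commute a b := by
  rcases eq_or_ne a 1 with e | e
  · subst e; exact Commute.one_left b
  · exact ((mem_centralizer_singleton_iff.1 ((h.cent_U ha e).ge hb).2 : b * a = a * b)).symm

end Cfsg.Agent.AbelianSylow.Field
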