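import Cfsg.Agent.Lib.AbelianSylow.Cent.CoreBasic
import Cfsg.Agent.Lib.AbelianSylow.Cent.Growth
import Cfsg.Agent.Lib.HallHigman.PSolvable
import Cfsg.Agent.Lib.HallOrders.Basic

/-!
# No field automorphism: a `3`-local covering the Borel centraliser (owner: helper82; `FIELD.md` step 3)

* `three_local` : `t` fixes a Sylow `3`-subgroup `P` over `U` with `B` in `N(Z(J(P)))`, where `B` is the odd part
  of the normaliser of `U` in `C(t)`
-/

set_option autoImplicit false
set_option linter.style.haveILetI false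

namespace Cfsg.Agent.AbelianSylow.Field

open Subgroup
open scoped Pointwise

universe u

variable {G : Type u} [Group G] [Finite G]

/-- **The 3-local.** -/
theorem three_local (h : Elem8 G) {t : G} (ht : orderOf t = 2) {U B : Subgroup G}
    (hBt : B ≤ centralizer ({t} : Set G)) (hBodd : Odd (Nat.card B)) (hUB : U ≤ B) (hU : IsPGroup 3 U)
    (hU1 : U ≠ ⊥) (hBU : B ≤ normalizer (U : Set G))
    (hnc : ∀ X : Subgroup G, X ≤ B → B ≤ normalizer (X : Set G) → ¬ 3 ∣ Nat.card X → X = ⊥)
    (hsmall : ∀ Z : Subgroup G, Z ≠ ⊥ → IsPGroup 3 Z → t ∈ normalizer (Z : Set G) →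
      B ≤ normalizer (Z : Set G) → ¬ 4 ∣ Nat.card (normalizer (Z : Set G)))
    (hmax : ∀ X : Subgroup G, B ≤ X → X ≤ centralizer ({t} : Set G) → Odd (Nat.card X) → X ≤ B) :
    ∃ P : Sylow 3 G, U ≤ (P : Subgroup G) ∧ t ∈ normalizer ((P : Subgroup G) : Set G) ∧
      B ≤ normalizer (Cfsg.centerThompsonAOf (P : Subgroup G) : Set G) ∧
      t ∈ normalizer (Cfsg.centerThompsonAOf (P : Subgroup G) : Set G) ∧
      ¬ 4 ∣ Nat.card (normalizer (Cfsg.centerThompsonAOf (P : Subgroup G) : Set G)) := by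
  haveI : Fact (Nat.Prime 2) := ⟨Nat.prime_two⟩
  haveI : Fact (Nat.Prime 3) := ⟨Nat.prime_three⟩
  have h2 : ∀ T : Sylow 2 G, IsMulCommutative (T : Subgroup G) := h.abelian
  obtain ⟨T, ⟨hT, hUT, htT, hBT⟩, hTmax⟩ := Set.Finite.exists_maximal
    (s := {T : Subgroup G | IsPGroup 3 T ∧ U ≤ T ∧ t ∈ normalizer (T : Set G) ∧
      B ≤ normalizer (Cfsg.centerThompsonAOf T : Set G)}) (Set.toFinite _)
    ⟨U, hU, le_rfl, centralizer_le_normalizer _ (mem_centralizer_iff.2 fun x hx =>
      mem_centralizer_singleton_iff.1 (hBt (hUB hx))), hBU.trans (GWKlein.normalizer_le_normalizer_zj U)⟩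
  have hT1 : T ≠ ⊥ := fun e => hU1 (le_bot_iff.1 (e ▸ hUT))
  set Z := Cfsg.centerThompsonAOf T
  have htZ : t ∈ normalizer (Z : Set G) := GWKlein.normalizer_le_normalizer_zj T htT
  have h4 : ¬ 4 ∣ Nat.card (normalizer (Z : Set G)) := hsmall Z (GWKlein.centerThompsonAOf_ne_bot hT hT1)
    (hT.to_le (GWKlein.centerThompsonAOf_le T)) htZ hBT
  set N := normalizer (Z : Set G) with hN
  have hTN : T ≤ N := le_normalizer.trans (GWKlein.normalizer_le_normalizer_zj T)
  -- the odd core of `N`
  set K := (Cfsg.pPrimeCore 2 N).map N.subtype with hK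
  have hKodd : ¬ 2 ∣ Nat.card K := by rw [hK, Cores.card_map_subtype]; exact Cores.not_dvd_card_pPrimeCore
  have hodd : ∀ X : Subgroup G, X ≤ N → Odd (Nat.card X) → X ≤ K := by
    intro X hX hXo x hx
    haveI : (Cfsg.pPrimeCore 2 N).Normal := Cores.pPrimeCore_normal 2 N
    refine ⟨⟨x, hX hx⟩, ?_, rfl⟩
    obtain ⟨S0⟩ : Nonempty (Sylow 2 N) := inferInstance
    have heven : 2 ∣ Nat.card N := by
      rw [← ht, ← Subgroup.orderOf_mk t htZ]; exact _root_.orderOf_dvd_natCard _
    have hS0 : Nat.card (S0 : Subgroup N) = 2 := by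
      obtain ⟨k, hk⟩ := IsPGroup.iff_card.1 S0.2
      have h2d := S0.dvd_card_of_dvd_card heven
      rcases k with _ | _ | k
      · rw [hk] at h2d; norm_num at h2d
      · simpa using hk
      · exact absurd ((show (4 : ℕ) ∣ 2 ^ (k + 2) from ⟨2 ^ k, by ring⟩).trans
          (hk ▸ card_subgroup_dvd_card _)) h4
    have hidx := KleinOrder.card_pPrimeCore_of_cyclic S0 (isCyclic_of_prime_card hS0) heven
    have h1 := (Cfsg.pPrimeCore 2 N).card_mul_index
    have h3 := (S0 : Subgroup N).card_mul_index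
    rw [hidx] at h1
    rw [hS0, ← h1, mul_comm 2] at h3
    have h2i := (Nat.eq_of_mul_eq_mul_left (Nat.pos_of_ne_zero index_ne_zero_of_finite) h3).symm
    have hxo : Nat.Coprime 2 (orderOf (⟨x, hX hx⟩ : N)) := by
      rw [Subgroup.orderOf_mk, ← Subgroup.orderOf_mk x hx]
      exact Nat.Coprime.coprime_dvd_right (_root_.orderOf_dvd_natCard _) (Nat.coprime_two_left.2 hXo)
    have hq : orderOf (QuotientGroup.mk' (Cfsg.pPrimeCore 2 N) ⟨x, hX hx⟩) = 1 := Nat.eq_one_of_dvd_coprimes hxo
      ((_root_.orderOf_dvd_natCard _).trans (by rw [← index_eq_card, h2i])) (orderOf_map_dvd _ _)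
    exact (QuotientGroup.eq_one_iff _).1 (orderOf_eq_one_iff.1 hq)
  have h3odd : ∀ X : Subgroup G, IsPGroup 3 X → Odd (Nat.card X) := fun X hX => by
    obtain ⟨k, hk⟩ := IsPGroup.iff_card.1 hX
    rw [hk]; exact (by decide : Odd 3).pow
  have hBK : B ≤ K := hodd B hBT hBodd
  have hNK : N ≤ normalizer (K : Set G) := le_normalizer.trans (Cores.normalizer_le_normalizer_map _)
  have htK : zpowers t ≤ normalizer (K : Set G) := zpowers_le.2 (hNK htZ)
  have hcopt : (Nat.card (zpowers t)).Coprime (Nat.card K) := by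
    rw [Nat.card_zpowers, ht]; exact Nat.prime_two.coprime_iff_not_dvd.2 hKodd
  haveI hsolK : Group.IsSolvable K :=
    OddOrderTheorem.solvable (Nat.not_even_iff_odd.1 fun e => hKodd (even_iff_two_dvd.1 e))
  obtain ⟨R, hTR, hRK, hRt, hRc⟩ := Coprime.exists_invariant_card htK hcopt (Or.inr hsolK) 3
    (hodd T hTN (h3odd T hT)) hT (zpowers_le.2 htT)
  have hR : IsPGroup 3 R := Coprime.isPGroup_of_card hRc
  -- `B` normalises `ZJ(R)`
  have hBR : B ≤ normalizer (Cfsg.centerThompsonAOf R : Set G) := by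
    set W := Cfsg.pPrimeCore 3 K
    haveI : W.Normal := Cores.pPrimeCore_normal 3 K
    set f := QuotientGroup.mk' W
    have hker : (Nat.card f.ker).Coprime 3 := by
      rw [QuotientGroup.ker_mk']; exact Cores.coprime_card_pPrimeCore 3
    obtain ⟨R0, hR0⟩ := Coprime.exists_sylow_map_eq hRK hRc
    have hn := PLocal.zj_normal (p := 3) (by decide) PLocal.goodClass_abelian
      (Constrained.isPConstrained_iff.1 HallHigman.isPConstrained_of_isSolvable)
      (fun Q _ hQ => GWKlein.pStableSections_of_abelian (by decide) h2 K W Q hQ)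
      (R0.mapSurjective (f := f) (QuotientGroup.mk'_surjective W))
    rw [PLocal.sInf_maxIn_abelian, ← PLocal.thompsonSubgroupAOf_eq, Sylow.coe_mapSurjective] at hn
    change (Cfsg.centerThompsonAOf ((R0 : Subgroup K).map f)).Normal at hn
    rw [← PLocal.map_centerThompsonAOf f (PLocal.injOn_of_pGroup f hker R0.2)] at hn
    set Z0 := Cfsg.centerThompsonAOf (R0 : Subgroup K)
    have hZ0p : IsPGroup 3 Z0 := R0.2.to_le (GWKlein.centerThompsonAOf_le _)
    have hZ0 : Z0.map K.subtype = Cfsg.centerThompsonAOf R := by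
      rw [PLocal.map_centerThompsonAOf _ K.subtype_injective.injOn, hR0]
    set ZR := Cfsg.centerThompsonAOf R
    set W' := W.map K.subtype with hW'
    have hW'3 : ¬ 3 ∣ Nat.card W' := by
      rw [hW', Cores.card_map_subtype]; exact Cores.not_dvd_card_pPrimeCore
    have hKW : normalizer (K : Set G) ≤ normalizer (W' : Set G) := Cores.normalizer_le_normalizer_map _
    intro b hb
    obtain ⟨n, hn', hne⟩ : f ⟨b, hBK hb⟩ ∈ (normalizer (Z0 : Set K)).map f := by
      rw [← PLocal.normalizer_map_eq f (QuotientGroup.mk'_surjective W) hker hZ0p, normalizer_eq_top_iff.2 hn]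
      exact mem_top _
    have hw : (⟨b, hBK hb⟩ : K) * n⁻¹ ∈ W := by
      rw [← QuotientGroup.eq_one_iff, ← QuotientGroup.mk'_apply, map_mul, map_inv]
      exact mul_inv_eq_one.2 hne.symm
    have hnZ : (n : G) ∈ normalizer (ZR : Set G) := by
      rw [← hZ0]; exact le_normalizer_map K.subtype ⟨n, hn', rfl⟩
    set j : G := b * (n : G)⁻¹
    have hjW : j ∈ W' := ⟨_, hw, rfl⟩
    have hbZ : MulAut.conj b • ZR = MulAut.conj j • ZR := by
      conv_rhs => rw [← Coprime.conj_eq_of_mem_normalizer hnZ, ← mul_smul, ← map_mul]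
      simp only [j, inv_mul_cancel_right]
    have htZR : zpowers t ≤ normalizer (ZR : Set G) :=
      hRt.trans (GWKlein.normalizer_le_normalizer_zj R)
    have htbZ : zpowers t ≤ normalizer ((MulAut.conj j • ZR : Subgroup G) : Set G) := by
      rw [← hbZ]
      refine zpowers_le.2 (Coprime.mem_normalizer_of_conj_eq ?_)
      rw [← mul_smul, ← map_mul, ← mem_centralizer_singleton_iff.1 (hBt hb), map_mul, mul_smul,
        Coprime.conj_eq_of_mem_normalizer (htZR (mem_zpowers t))]
    obtain ⟨c, hc, hce⟩ := Coprime.exists_mem_centralizer_conj (A := zpowers t) (K := W')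
      (zpowers_le.2 (hKW (hNK htZ)))
      (hcopt.coprime_dvd_right (card_dvd_of_le (map_subtype_le _)))
      (Or.inr (Coprime.isSolvable_of_le (map_subtype_le _) hsolK)) hjW htZR htbZ
    -- fixed points of `t` on `O_3'(K)` are trivial
    set X := W' ⊓ centralizer ({t} : Set G) with hX
    have hXbot : X = ⊥ := by
      have hBX : B ≤ normalizer (X : Set G) := le_trans (le_inf (hBK.trans (le_normalizer.trans hKW))
        (hBt.trans le_normalizer)) inf_normalizer_le_normalizer_inf
      have hXo : Odd (Nat.card (X ⊔ B : Subgroup G)) := by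
        refine Nat.not_even_iff_odd.1 fun e => hKodd (even_iff_two_dvd.1 e |>.trans (card_dvd_of_le ?_))
        exact sup_le (inf_le_left.trans (map_subtype_le _)) hBK
      exact hnc X (le_sup_left.trans (hmax _ le_sup_right (sup_le inf_le_right hBt) hXo)) hBX
        fun e => hW'3 (e.trans (card_dvd_of_le inf_le_left))
    have hc1 : c = 1 := by
      have : c ∈ X := ⟨hc.1, mem_centralizer_singleton_iff.2 (mem_centralizer_iff.1 hc.2 t (mem_zpowers t)).symm⟩
      rw [hXbot, mem_bot] at this; exact this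
    refine Coprime.mem_normalizer_of_conj_eq ?_
    rw [hbZ]
    rw [hc1] at hce
    simpa using hce.symm
  have hmem : R ∈ {T : Subgroup G | IsPGroup 3 T ∧ U ≤ T ∧ t ∈ normalizer (T : Set G) ∧
      B ≤ normalizer (Cfsg.centerThompsonAOf T : Set G)} := ⟨hR, hUT.trans hTR, hRt (mem_zpowers t), hBR⟩
  have hRT : R = T := le_antisymm (hTmax hmem hTR) hTR
  obtain ⟨P, hP⟩ := hT.exists_le_sylow
  refine ⟨P, hUT.trans hP, ?_⟩
  have hPT : (P : Subgroup G) = T := by
    by_contra hne
    have hlt := PLocal.normalizer_inf_of_lt P.2 (lt_of_le_of_ne hP (Ne.symm hne))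
    have hle : normalizer (T : Set G) ⊓ (P : Subgroup G) ≤ K := hodd _
      (inf_le_left.trans (GWKlein.normalizer_le_normalizer_zj T)) (h3odd _ (P.2.to_le inf_le_right))
    refine hlt.ne (eq_of_le_of_card_ge hlt.le ?_)
    rw [← hRT] at hle ⊢
    rw [hRc]
    exact Coprime.card_le_of_isPGroup (P.2.to_le inf_le_right) hle
  rw [hPT]
  exact ⟨htT, hBT, htZ, h4⟩

end Cfsg.Agent.AbelianSylow.Field
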