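import Cfsg.Agent.EqLemmas
import Cfsg.Agent.Lib.OddOrderTheorem.Basic
import Mathlib

/-!
# No field automorphism: groups of 2 x 2 matrices normalised by `diag(1, μ)` (owner: helper80)

* `triangular_of_odd` : an odd group of 2 x 2 matrices normalised by `diag(1, μ)`, `μ² ≠ 1`, fixes one of the
  coordinate lines
* `diag_of_sprime`    : a group of order prime to `s` in the stabiliser of a line, containing `diag(1, μ)`, is diagonal
* `stab_line`         : automiser of `⟨f⟩ × ⟨y⟩` in which only the identity scalar occurs on `f`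
-/

set_option autoImplicit false

namespace Cfsg.Agent.AbelianSylow.Field.Plane

open Matrix Subgroup
open scoped commutatorElement

variable {K : Type*} [Field K]

local notation "GL2" => GL (Fin 2) K

theorem mul_entries (g h : GL2) :
    (↑(g * h) : Matrix (Fin 2) (Fin 2) K) 0 0 = g 0 0 * h 0 0 + g 0 1 * h 1 0 ∧
    (↑(g * h) : Matrix (Fin 2) (Fin 2) K) 0 1 = g 0 0 * h 0 1 + g 0 1 * h 1 1 ∧
    (↑(g * h) : Matrix (Fin 2) (Fin 2) K) 1 0 = g 1 0 * h 0 0 + g 1 1 * h 1 0 ∧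
    (↑(g * h) : Matrix (Fin 2) (Fin 2) K) 1 1 = g 1 0 * h 0 1 + g 1 1 * h 1 1 := by
  simp [Matrix.mul_apply, Fin.sum_univ_two]

theorem ext_entries {g h : GL2} (h00 : g 0 0 = h 0 0) (h01 : g 0 1 = h 0 1) (h10 : g 1 0 = h 1 0)
    (h11 : g 1 1 = h 1 1) : g = h := by
  refine Units.ext (Matrix.ext fun i j => ?_)
  fin_cases i <;> fin_cases j <;> assumption

/-- `g` is a scalar. -/
def IsScal (g : GL2) : Prop := g 0 1 = 0 ∧ g 1 0 = 0 ∧ g 0 0 = g 1 1

theorem IsScal.comm {g : GL2} (hg : IsScal g) (h : GL2) : g * h = h * g := by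
  obtain ⟨hb, hd, he⟩ := hg
  obtain ⟨a1, b1, d1, e1⟩ := mul_entries g h
  obtain ⟨a2, b2, d2, e2⟩ := mul_entries h g
  refine ext_entries ?_ ?_ ?_ ?_
  · rw [a1, a2, hb, hd, he]; ring
  · rw [b1, b2, hb, he]; ring
  · rw [d1, d2, hd, he]; ring
  · rw [e1, e2, hb, hd]; ring

theorem det_ne_zero' (g : GL2) : g 0 0 * g 1 1 - g 0 1 * g 1 0 ≠ 0 := by
  have h : IsUnit (Matrix.det (g : Matrix (Fin 2) (Fin 2) K)) := (Matrix.isUnit_iff_isUnit_det _).1 g.isUnit
  rw [Matrix.det_fin_two] at h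
  exact h.ne_zero

theorem one_entries : (1 : GL2) 0 0 = 1 ∧ (1 : GL2) 0 1 = 0 ∧ (1 : GL2) 1 0 = 0 ∧ (1 : GL2) 1 1 = 1 := by
  simp

/-- In a group of odd order the squares generate. -/
theorem exists_sq_pow {D : Subgroup GL2} [Finite D] (hodd : Odd (Nat.card D)) {d : GL2} (hd : d ∈ D) :
    ∃ n : ℕ, (d * d) ^ n = d := by
  obtain ⟨k, hk⟩ := hodd
  have h1 : d ^ Nat.card D = 1 := by
    have := congrArg (Subtype.val : D → GL2) (pow_card_eq_one' (G := D) (x := ⟨d, hd⟩))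
    rwa [SubmonoidClass.coe_pow, OneMemClass.coe_one] at this
  refine ⟨k + 1, ?_⟩
  rw [← pow_two, ← pow_mul, show 2 * (k + 1) = Nat.card D + 1 by omega, pow_succ, h1, one_mul]

theorem eq_one_of_sq {D : Subgroup GL2} [Finite D] (hodd : Odd (Nat.card D)) {d : GL2} (hd : d ∈ D)
    (h : d * d = 1) : d = 1 := by
  obtain ⟨n, hn⟩ := exists_sq_pow hodd hd
  rw [← hn, h, one_pow]

/-- A diagonal `diag(1, μ)`. -/
structure IsMover (c : GL2) : Prop where
  e00 : c 0 0 = 1
  e01 : c 0 1 = 0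
  e10 : c 1 0 = 0
  sq : c 1 1 * c 1 1 ≠ 1

theorem IsMover.ne_one {c : GL2} (hc : IsMover c) : c 1 1 ≠ 1 := fun h => hc.sq (by rw [h, one_mul])

theorem IsMover.ne_zero {c : GL2} (hc : IsMover c) : c 1 1 ≠ 0 := fun h => by
  have := det_ne_zero' c
  rw [hc.e01, hc.e10, h] at this
  simp at this

theorem IsMover.not_scal {c : GL2} (hc : IsMover c) : ¬ IsScal c := fun h => by
  have := h.2.2
  rw [hc.e00] at this
  exact hc.ne_one this.symm

theorem IsMover.conj {c : GL2} (hc : IsMover c) (h : GL2) :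
    (c * h * c⁻¹) 0 0 = h 0 0 ∧ (c * h * c⁻¹) 0 1 * c 1 1 = h 0 1 ∧
    (c * h * c⁻¹) 1 0 = c 1 1 * h 1 0 ∧ (c * h * c⁻¹) 1 1 = h 1 1 := by
  set k := c * h * c⁻¹ with hk
  have e : k * c = c * h := by rw [hk, inv_mul_cancel_right]
  obtain ⟨a1, b1, d1, e1⟩ := mul_entries k c
  obtain ⟨a2, b2, d2, e2⟩ := mul_entries c h
  rw [e] at a1 b1 d1 e1
  rw [a2, hc.e00, hc.e01, hc.e10] at a1
  rw [b2, hc.e00, hc.e01] at b1
  rw [d2, hc.e00, hc.e10] at d1
  rw [e2, hc.e01, hc.e10] at e1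
  refine ⟨by linear_combination -a1, by linear_combination -b1, by linear_combination -d1, ?_⟩
  have e3 : (k 1 1 - h 1 1) * c 1 1 = 0 := by linear_combination -e1
  exact sub_eq_zero.1 ((mul_eq_zero.1 e3).resolve_right hc.ne_zero)

/-- An element commuting with its conjugate by the mover. -/
theorem IsMover.commute_conj {c : GL2} (hc : IsMover c) {h : GL2} (hcomm : Commute h (c * h * c⁻¹)) :
    h 0 1 * h 1 0 = 0 ∧ (h 0 1 ≠ 0 → h 0 0 = h 1 1) ∧ (h 1 0 ≠ 0 → h 0 0 = h 1 1) := by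
  obtain ⟨ka, kb, kd, ke⟩ := hc.conj h
  obtain ⟨a1, b1, d1, -⟩ := mul_entries h (c * h * c⁻¹)
  obtain ⟨a2, b2, d2, -⟩ := mul_entries (c * h * c⁻¹) h
  rw [hcomm.eq, a2, ka, kd] at a1
  rw [hcomm.eq, b2, ka, ke] at b1
  rw [hcomm.eq, d2, ka, kd, ke] at d1
  set μ := c 1 1
  have hμ : μ * μ - 1 ≠ 0 := sub_ne_zero.2 hc.sq
  have hμ1 : μ - 1 ≠ 0 := sub_ne_zero.2 hc.ne_one
  set k01 := (c * h * c⁻¹) 0 1
  have p1 : h 0 1 * h 1 0 * (μ * μ - 1) = 0 := by
    linear_combination (-μ) * a1 + (h 1 0) * kb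
  refine ⟨(mul_eq_zero.1 p1).resolve_right hμ, fun hb => ?_, fun hd => ?_⟩
  · have p2 : h 0 1 * (h 0 0 - h 1 1) * (μ - 1) = 0 := by
      linear_combination μ * b1 - (h 1 1 - h 0 0) * kb
    rcases mul_eq_zero.1 p2 with p | p
    · exact sub_eq_zero.1 ((mul_eq_zero.1 p).resolve_left hb)
    · exact absurd p hμ1
  · have p2 : h 1 0 * (h 0 0 - h 1 1) * (μ - 1) = 0 := by linear_combination d1
    rcases mul_eq_zero.1 p2 with p | p
    · exact sub_eq_zero.1 ((mul_eq_zero.1 p).resolve_left hd)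
    · exact absurd p hμ1

/-- The derived series of `D`, in the ambient group. -/
def derived (D : Subgroup GL2) : ℕ → Subgroup GL2
  | 0 => D
  | n + 1 => ⁅derived D n, derived D n⁆

theorem derived_eq (D : Subgroup GL2) : ∀ n, derived D n = (derivedSeries D n).map D.subtype
  | 0 => by simp [derived, ← MonoidHom.range_eq_map]
  | n + 1 => by rw [derived, derived_eq D n, derivedSeries_succ, Subgroup.map_commutator]

theorem derived_le (D : Subgroup GL2) (n : ℕ) : derived D n ≤ D := by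
  rw [derived_eq]; exact map_subtype_le _

theorem derived_conj {D : Subgroup GL2} {g : GL2} (hg : D.map (MulAut.conj g).toMonoidHom = D) :
    ∀ n, (derived D n).map (MulAut.conj g).toMonoidHom = derived D n
  | 0 => hg
  | n + 1 => by rw [derived, Subgroup.map_commutator, derived_conj hg n]

/-- **An odd group normalised by the mover fixes a coordinate line.** -/
theorem triangular_of_odd {D : Subgroup GL2} [Finite D] (hodd : Odd (Nat.card D)) {c : GL2} (hc : IsMover c)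
    (hnorm : D.map (MulAut.conj c).toMonoidHom = D) :
    (∀ d ∈ D, d 0 1 = 0) ∨ (∀ d ∈ D, d 1 0 = 0) := by
  classical
  by_cases hall : ∀ d ∈ D, IsScal d
  · exact Or.inl fun d hd => (hall d hd).1
  haveI : Group.IsSolvable D := OddOrderTheorem.solvable hodd
  have hsol : ∃ n, ∀ d ∈ derived D n, IsScal d := by
    obtain ⟨n, hn⟩ := Group.IsSolvable.solvable (G := D)
    refine ⟨n, fun d hd => ?_⟩
    rw [derived_eq, hn, Subgroup.map_bot, Subgroup.mem_bot] at hd
    subst hd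
    exact ⟨one_entries.2.1, one_entries.2.2.1, one_entries.1.trans one_entries.2.2.2.symm⟩
  obtain ⟨k, hk, hk1⟩ : ∃ k, (¬ ∀ d ∈ derived D k, IsScal d) ∧ ∀ d ∈ derived D (k + 1), IsScal d := by
    have h0 : ¬ ∀ d ∈ derived D 0, IsScal d := hall
    refine ⟨Nat.find hsol - 1, Nat.find_min hsol ?_, ?_⟩ <;>
      have : Nat.find hsol ≠ 0 := fun h => h0 (h ▸ Nat.find_spec hsol)
    · omega
    · rw [Nat.sub_add_cancel (Nat.pos_of_ne_zero this)]; exact Nat.find_spec hsol
  set A := derived D k with hA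
  have habel : ∀ x ∈ A, ∀ z ∈ A, Commute x z := by
    intro x hx z hz
    have hm : ⁅x, z⁆ ∈ derived D (k + 1) := commutator_mem_commutator hx hz
    obtain ⟨hb, hd, he⟩ := hk1 _ hm
    have hdet : Matrix.det (↑(⁅x, z⁆ : GL2) : Matrix (Fin 2) (Fin 2) K) = 1 := by
      have h1 : Matrix.GeneralLinearGroup.det (⁅x, z⁆ : GL2) = 1 := by
        rw [map_commutatorElement, commutatorElement_eq_one_iff_commute]
        exact Commute.all _ _
      exact congrArg (Units.val : Kˣ → K) h1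
    rw [Matrix.det_fin_two, hb, hd] at hdet
    have hsq : ⁅x, z⁆ * ⁅x, z⁆ = 1 := by
      obtain ⟨a1, b1, d1, e1⟩ := mul_entries ⁅x, z⁆ ⁅x, z⁆
      refine ext_entries ?_ ?_ ?_ ?_
      · rw [a1, hb, he, one_entries.1]; linear_combination (⁅x, z⁆ 1 1) * 0 + hdet - (⁅x, z⁆ 1 1) * he
      · rw [b1, hb, one_entries.2.1]; ring
      · rw [d1, hd, one_entries.2.2.1]; ring
      · rw [e1, hb, ← he, one_entries.2.2.2]; linear_combination hdet + (⁅x, z⁆ 0 0) * he
    exact commutatorElement_eq_one_iff_commute.1 (eq_one_of_sq hodd (derived_le D _ hm) hsq)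
  have hconjc : ∀ x ∈ A, c * x * c⁻¹ ∈ A := fun x hx => by
    rw [hA, ← derived_conj hnorm k]
    exact ⟨x, hx, by simp⟩
  have hconjd : ∀ g ∈ D, ∀ x ∈ A, g * x * g⁻¹ ∈ A := fun g hg x hx => by
    have hgD : D.map (MulAut.conj g).toMonoidHom = D := by
      refine Subgroup.ext fun u => ⟨?_, fun hu => ⟨g⁻¹ * u * g, mul_mem (mul_mem (inv_mem hg) hu) hg, ?_⟩⟩
      · rintro ⟨v, hv, rfl⟩; exact mul_mem (mul_mem hg hv) (inv_mem hg)
      · simp [mul_assoc]
    rw [hA, ← derived_conj hgD k]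
    exact ⟨x, hx, by simp⟩
  have hshape : ∀ h ∈ A, h 0 1 * h 1 0 = 0 ∧ (h 0 1 ≠ 0 → h 0 0 = h 1 1) ∧
      (h 1 0 ≠ 0 → h 0 0 = h 1 1) := fun h hh => hc.commute_conj (habel h hh _ (hconjc h hh))
  by_cases hdiag : ∀ h ∈ A, h 0 1 = 0 ∧ h 1 0 = 0
  · obtain ⟨h, hh, hns⟩ : ∃ h ∈ A, ¬ IsScal h := by simpa using hk
    have hne : h 0 0 ≠ h 1 1 := fun e => hns ⟨(hdiag h hh).1, (hdiag h hh).2, e⟩
    have hne' : h 1 1 - h 0 0 ≠ 0 := sub_ne_zero.2 (Ne.symm hne)
    have key : ∀ g ∈ D, (g 0 1 = 0 ∧ g 1 0 = 0) ∨ (g 0 0 = 0 ∧ g 1 1 = 0) := by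
      intro g hg
      set k' := g * h * g⁻¹ with hk'
      obtain ⟨kb, kd⟩ := hdiag k' (hconjd g hg h hh)
      obtain ⟨hb, hd⟩ := hdiag h hh
      have e : k' * g = g * h := by rw [hk', inv_mul_cancel_right]
      obtain ⟨a1, b1, d1, e1⟩ := mul_entries k' g
      obtain ⟨a2, b2, d2, e2⟩ := mul_entries g h
      rw [e, a2, kb, hd] at a1
      rw [e, b2, kb, hb] at b1
      rw [e, d2, kd, hd] at d1
      rw [e, e2, kd, hb] at e1
      have q1 : g 0 0 * g 0 1 * (h 1 1 - h 0 0) = 0 := by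
        linear_combination (g 0 0) * b1 - (g 0 1) * a1
      have q2 : g 1 0 * g 1 1 * (h 1 1 - h 0 0) = 0 := by
        linear_combination (g 1 0) * e1 - (g 1 1) * d1
      have r1 := (mul_eq_zero.1 q1).resolve_right hne'
      have r2 := (mul_eq_zero.1 q2).resolve_right hne'
      have hdet := det_ne_zero' g
      rcases mul_eq_zero.1 r1 with z | z <;> rcases mul_eq_zero.1 r2 with w | w
      · exact absurd (by rw [z, w]; ring) hdet
      · exact Or.inr ⟨z, w⟩
      · exact Or.inl ⟨z, w⟩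
      · exact absurd (by rw [z, w]; ring) hdet
    refine Or.inl fun g hg => ?_
    rcases key g hg with ⟨z, -⟩ | ⟨z, w⟩
    · exact z
    · exfalso
      obtain ⟨a1, b1, d1, e1⟩ := mul_entries g g
      have hsc : IsScal (g * g) := ⟨by rw [b1, z, w]; ring, by rw [d1, z, w]; ring, by rw [a1, e1, z, w]; ring⟩
      obtain ⟨n, hn⟩ := exists_sq_pow hodd hg
      have hpow : ∀ n : ℕ, IsScal ((g * g) ^ n) := by
        intro n
        induction n with
        | zero => rw [pow_zero]; exact ⟨one_entries.2.1, one_entries.2.2.1, one_entries.1.trans one_entries.2.2.2.symm⟩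
        | succ n ih =>
          obtain ⟨a3, b3, d3, e3⟩ := mul_entries ((g * g) ^ n) (g * g)
          rw [pow_succ]
          refine ⟨?_, ?_, ?_⟩
          · rw [b3, ih.1, hsc.1]; ring
          · rw [d3, ih.2.1, hsc.2.1]; ring
          · rw [a3, e3, ih.1, ih.2.1, hsc.1, hsc.2.1, ih.2.2, hsc.2.2]; ring
      obtain ⟨hb0, hd0, -⟩ := hn ▸ hpow n
      exact det_ne_zero' g (by rw [z, hb0]; ring)
  · obtain ⟨h, hh, hnd⟩ : ∃ h ∈ A, ¬ (h 0 1 = 0 ∧ h 1 0 = 0) := by simpa using hdiag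
    by_cases hb : h 0 1 = 0
    · have hd : h 1 0 ≠ 0 := fun e => hnd ⟨hb, e⟩
      have hae := (hshape h hh).2.2 hd
      refine Or.inl fun g hg => ?_
      by_contra hg01
      set k' := g * h * g⁻¹ with hk'
      have hkh : Commute k' h := habel _ (hconjd g hg h hh) h hh
      obtain ⟨a1, b1, d1, e1⟩ := mul_entries k' h
      obtain ⟨a2, b2, d2, e2⟩ := mul_entries h k'
      rw [hkh.eq, a2, hb] at a1
      rw [hkh.eq, d2, ← hae] at d1
      have kb : k' 0 1 = 0 := (mul_eq_zero.1 (by linear_combination -a1 : k' 0 1 * h 1 0 = 0)).resolve_right hd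
      have kae : k' 0 0 = k' 1 1 := by
        have : h 1 0 * (k' 0 0 - k' 1 1) = 0 := by linear_combination d1
        exact sub_eq_zero.1 ((mul_eq_zero.1 this).resolve_left hd)
      have e : k' * g = g * h := by rw [hk', inv_mul_cancel_right]
      obtain ⟨a1', b1', -, e1'⟩ := mul_entries k' g
      obtain ⟨a2', b2', -, e2'⟩ := mul_entries g h
      rw [e, a2', kb] at a1'
      rw [e, b2', kb, hb, ← hae] at b1'
      have hka : k' 0 0 = h 0 0 := by
        have : g 0 1 * (k' 0 0 - h 0 0) = 0 := by linear_combination -b1'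
        exact sub_eq_zero.1 ((mul_eq_zero.1 this).resolve_left hg01)
      have : g 0 1 * h 1 0 = 0 := by rw [hka] at a1'; linear_combination a1'
      exact (mul_ne_zero hg01 hd) this
    · have hd : h 1 0 = 0 := (mul_eq_zero.1 (hshape h hh).1).resolve_left hb
      have hae := (hshape h hh).2.1 hb
      refine Or.inr fun g hg => ?_
      by_contra hg10
      set k' := g * h * g⁻¹ with hk'
      have hkh : Commute k' h := habel _ (hconjd g hg h hh) h hh
      obtain ⟨a1, b1, d1, e1⟩ := mul_entries k' h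
      obtain ⟨a2, b2, d2, e2⟩ := mul_entries h k'
      rw [hkh.eq, e2, hd] at e1
      rw [hkh.eq, b2, ← hae] at b1
      have kd : k' 1 0 = 0 := (mul_eq_zero.1 (by linear_combination -e1 : k' 1 0 * h 0 1 = 0)).resolve_right hb
      have kae : k' 0 0 = k' 1 1 := by
        have : h 0 1 * (k' 0 0 - k' 1 1) = 0 := by linear_combination -b1
        exact sub_eq_zero.1 ((mul_eq_zero.1 this).resolve_left hb)
      have e : k' * g = g * h := by rw [hk', inv_mul_cancel_right]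
      obtain ⟨-, -, d1', e1'⟩ := mul_entries k' g
      obtain ⟨-, -, d2', e2'⟩ := mul_entries g h
      rw [e, d2', kd, hd] at d1'
      rw [e, e2', kd, ← hae] at e1'
      have hka : k' 1 1 = h 0 0 := by
        have : g 1 0 * (k' 1 1 - h 0 0) = 0 := by linear_combination -d1'
        exact sub_eq_zero.1 ((mul_eq_zero.1 this).resolve_left hg10)
      have : g 1 0 * h 0 1 = 0 := by rw [hka] at e1'; linear_combination e1'
      exact (mul_ne_zero hg10 hb) this

/-- A unipotent triangular matrix has order dividing the characteristic. -/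
theorem pow_char_of_unip {s : ℕ} [CharP K s] {g : GL2} (h0 : g 0 0 = 1) (h1 : g 1 1 = 1)
    (hz : g 0 1 = 0 ∨ g 1 0 = 0) : g ^ s = 1 := by
  have key : ∀ n : ℕ, (g ^ n) 0 0 = 1 ∧ (g ^ n) 0 1 = n * g 0 1 ∧ (g ^ n) 1 0 = n * g 1 0 ∧
      (g ^ n) 1 1 = 1 := by
    intro n
    induction n with
    | zero => simp
    | succ n ih =>
      obtain ⟨i0, i1, i2, i3⟩ := ih
      obtain ⟨a, b, d, e⟩ := mul_entries (g ^ n) g
      rw [pow_succ]
      refine ⟨?_, ?_, ?_, ?_⟩
      · rw [a, i0, i1, h0]; rcases hz with z | z <;> rw [z] <;> ring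
      · rw [b, i0, i1, h1]; push_cast; ring
      · rw [d, i2, i3, h0]; push_cast; ring
      · rw [e, i2, i3, h1]; rcases hz with z | z <;> rw [z] <;> ring
  obtain ⟨a, b, d, e⟩ := key s
  refine ext_entries ?_ ?_ ?_ ?_
  · rw [a, one_entries.1]
  · rw [b, CharP.cast_eq_zero, zero_mul, one_entries.2.1]
  · rw [d, CharP.cast_eq_zero, zero_mul, one_entries.2.2.1]
  · rw [e, one_entries.2.2.2]

/-- The commutator with the mover of a triangular element is unipotent. -/
theorem commutator_unip {c d : GL2} (hc : IsMover c) (hd : d 0 1 = 0 ∨ d 1 0 = 0) :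
    (d * c * d⁻¹ * c⁻¹) 0 0 = 1 ∧ (d * c * d⁻¹ * c⁻¹) 1 1 = 1 ∧
      (d 0 1 = 0 → (d * c * d⁻¹ * c⁻¹) 0 1 = 0) ∧ (d 1 0 = 0 → (d * c * d⁻¹ * c⁻¹) 1 0 = 0) := by
  set u := d * c * d⁻¹ * c⁻¹ with hu
  have e : u * (c * d) = d * c := by
    rw [hu, ← mul_assoc, inv_mul_cancel_right, inv_mul_cancel_right]
  obtain ⟨a1, b1, d1, e1⟩ := mul_entries u (c * d)
  obtain ⟨a2, b2, d2, e2⟩ := mul_entries c d
  obtain ⟨a3, b3, d3, e3⟩ := mul_entries d c
  rw [e, a3, a2, d2, hc.e00, hc.e01, hc.e10] at a1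
  rw [e, b3, b2, e2, hc.e00, hc.e01, hc.e10] at b1
  rw [e, d3, a2, d2, hc.e00, hc.e01, hc.e10] at d1
  rw [e, e3, b2, e2, hc.e00, hc.e01, hc.e10] at e1
  set μ := c 1 1
  have hμ := hc.ne_zero
  have hdet := det_ne_zero' d
  rcases hd with z | z
  · rw [z] at a1 b1 e1 hdet
    have ha : d 0 0 ≠ 0 := fun w => hdet (by rw [w]; ring)
    have he : d 1 1 ≠ 0 := fun w => hdet (by rw [w]; ring)
    have u01 : u 0 1 = 0 := by
      have : u 0 1 * (μ * d 1 1) = 0 := by linear_combination -b1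
      exact (mul_eq_zero.1 this).resolve_right (mul_ne_zero hμ he)
    have u00 : u 0 0 = 1 := by
      have : d 0 0 * (u 0 0 - 1) = 0 := by rw [u01] at a1; linear_combination -a1
      exact sub_eq_zero.1 ((mul_eq_zero.1 this).resolve_left ha)
    have u11 : u 1 1 = 1 := by
      have : (μ * d 1 1) * (u 1 1 - 1) = 0 := by linear_combination -e1
      exact sub_eq_zero.1 ((mul_eq_zero.1 this).resolve_left (mul_ne_zero hμ he))
    refine ⟨u00, u11, fun _ => u01, fun w => ?_⟩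
    have d1' := d1
    rw [u11] at d1'
    exact (mul_eq_zero.1 (by linear_combination -d1' - (μ - 1) * w : u 1 0 * d 0 0 = 0)).resolve_right ha
  · rw [z] at a1 d1 e1 hdet
    have ha : d 0 0 ≠ 0 := fun w => hdet (by rw [w]; ring)
    have he : d 1 1 ≠ 0 := fun w => hdet (by rw [w]; ring)
    have u10 : u 1 0 = 0 :=
      (mul_eq_zero.1 (by linear_combination -d1 : u 1 0 * d 0 0 = 0)).resolve_right ha
    have u00 : u 0 0 = 1 := by
      have : d 0 0 * (u 0 0 - 1) = 0 := by linear_combination -a1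
      exact sub_eq_zero.1 ((mul_eq_zero.1 this).resolve_left ha)
    have u11 : u 1 1 = 1 := by
      have : (μ * d 1 1) * (u 1 1 - 1) = 0 := by rw [u10] at e1; linear_combination -e1
      exact sub_eq_zero.1 ((mul_eq_zero.1 this).resolve_left (mul_ne_zero hμ he))
    refine ⟨u00, u11, fun w => ?_, fun _ => u10⟩
    rw [u00] at b1
    exact (mul_eq_zero.1 (by linear_combination -b1 + (μ - 1) * w : u 0 1 * (μ * d 1 1) = 0)).resolve_right
      (mul_ne_zero hμ he)

/-- An element commuting with the mover is diagonal. -/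
theorem diag_of_commute {c d : GL2} (hc : IsMover c) (h : Commute d c) : d 0 1 = 0 ∧ d 1 0 = 0 := by
  obtain ⟨-, b1, d1, -⟩ := mul_entries d c
  obtain ⟨-, b2, d2, -⟩ := mul_entries c d
  rw [h.eq, b2, hc.e00, hc.e01] at b1
  rw [h.eq, d2, hc.e00, hc.e10] at d1
  have hμ := sub_ne_zero.2 hc.ne_one
  exact ⟨(mul_eq_zero.1 (by linear_combination -b1 : d 0 1 * (c 1 1 - 1) = 0)).resolve_right hμ,
    (mul_eq_zero.1 (by linear_combination d1 : d 1 0 * (c 1 1 - 1) = 0)).resolve_right hμ⟩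

/-- A triangular element whose commutator with the mover lies in a group without elements of order `s`. -/
theorem diag_of_sprime {s : ℕ} [Fact s.Prime] [CharP K s] {A : Subgroup GL2}
    (hA : ¬ s ∣ Nat.card A) [Finite A] {c d : GL2} (hc : IsMover c)
    (hm : d * c * d⁻¹ * c⁻¹ ∈ A) (hd : d 0 1 = 0 ∨ d 1 0 = 0) : d 0 1 = 0 ∧ d 1 0 = 0 := by
  obtain ⟨u0, u1, u01, u10⟩ := commutator_unip hc hd
  have hz : (d * c * d⁻¹ * c⁻¹) 0 1 = 0 ∨ (d * c * d⁻¹ * c⁻¹) 1 0 = 0 := hd.imp u01 u10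
  have h1 : (⟨_, hm⟩ : A) ^ s = 1 := Subtype.ext (pow_char_of_unip u0 u1 hz)
  have h2 : (⟨_, hm⟩ : A) = 1 := orderOf_eq_one_iff.1
    (((Nat.dvd_prime Fact.out).1 (orderOf_dvd_of_pow_eq_one h1)).resolve_right fun e =>
      hA (e ▸ orderOf_dvd_natCard _))
  refine diag_of_commute hc ?_
  have h3 : d * c * d⁻¹ * c⁻¹ = 1 := congrArg Subtype.val h2
  exact mul_inv_eq_iff_eq_mul.1 (mul_inv_eq_one.1 h3)

/-- **The automiser of `⟨f⟩ × ⟨y⟩`.** -/
theorem stab_line {s : ℕ} [Fact s.Prime] [CharP K s] {A : Subgroup GL2} [Finite A]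
    (hA : ¬ s ∣ Nat.card A) {c : GL2} (hcA : c ∈ A) (hc : IsMover c)
    (hstab : ∀ a ∈ A, a 1 0 = 0 → a 0 0 = 1) : ∀ a ∈ A, a 0 1 = 0 := by
  classical
  set H := A ⊓ Matrix.GeneralLinearGroup.det.ker with hH
  have hHA : H ≤ A := inf_le_left
  haveI : Finite H := Finite.of_injective (Subgroup.inclusion hHA) (Subgroup.inclusion_injective _)
  have hdet : ∀ h ∈ H, h 0 0 * h 1 1 - h 0 1 * h 1 0 = 1 := fun h hh => by
    have h1 : Matrix.det (h : Matrix (Fin 2) (Fin 2) K) = 1 := by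
      simpa using congrArg (Units.val : Kˣ → K) (MonoidHom.mem_ker.1 hh.2)
    rwa [Matrix.det_fin_two] at h1
  have hodd : Odd (Nat.card H) := by
    rw [Nat.odd_iff]
    by_contra h2
    obtain ⟨z, hz⟩ := exists_prime_orderOf_dvd_card' (G := H) 2 (Nat.dvd_of_mod_eq_zero (by omega))
    have hzz : (z : GL2) * z = 1 := by
      have := pow_orderOf_eq_one z
      rw [hz, pow_two] at this
      exact congrArg Subtype.val this
    obtain ⟨a1, b1, d1, e1⟩ := mul_entries (z : GL2) z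
    rw [hzz] at a1 b1 d1 e1
    simp only [one_entries] at a1 b1 d1 e1
    have hd' := hdet z z.2
    have ha : z.1 0 0 * (z.1 0 0 + z.1 1 1) = 2 := by linear_combination hd' - a1
    have h20 : (2 : K) ≠ 0 := fun h20 => by
      rcases (Nat.dvd_prime Nat.prime_two).1 ((CharP.cast_eq_zero_iff K s 2).1 h20) with h | h
      · exact (Fact.out : s.Prime).one_lt.ne' h
      · subst h
        exact hA (((Nat.dvd_of_mod_eq_zero (by omega) : 2 ∣ Nat.card H)).trans (card_dvd_of_le hHA))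
    have hae : z.1 0 0 + z.1 1 1 ≠ 0 := fun h => h20 (by rw [← ha, h, mul_zero])
    have hb : z.1 0 1 = 0 :=
      (mul_eq_zero.1 (by linear_combination -b1 : z.1 0 1 * (z.1 0 0 + z.1 1 1) = 0)).resolve_right hae
    have hd0 : z.1 1 0 = 0 :=
      (mul_eq_zero.1 (by linear_combination -d1 : z.1 1 0 * (z.1 0 0 + z.1 1 1) = 0)).resolve_right hae
    have h00 : z.1 0 0 = 1 := hstab z (hHA z.2) hd0
    rw [hb, hd0, h00] at hd'
    have hz1 : (z : GL2) = 1 := ext_entries (by rw [h00, one_entries.1]) (by rw [hb, one_entries.2.1])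
      (by rw [hd0, one_entries.2.2.1]) (by rw [one_entries.2.2.2]; linear_combination hd')
    rw [show z = 1 from Subtype.ext hz1, orderOf_one] at hz
    omega
  have hnorm : H.map (MulAut.conj c).toMonoidHom = H := by
    refine Subgroup.ext fun u => ⟨?_, fun hu => ⟨c⁻¹ * u * c, ⟨A.mul_mem (A.mul_mem (A.inv_mem hcA) hu.1) hcA, ?_⟩, ?_⟩⟩
    · rintro ⟨v, hv, rfl⟩
      refine ⟨A.mul_mem (A.mul_mem hcA hv.1) (A.inv_mem hcA), MonoidHom.mem_ker.2 ?_⟩
      simp [map_mul, MonoidHom.mem_ker.1 hv.2]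
    · refine MonoidHom.mem_ker.2 ?_
      simp [map_mul, MonoidHom.mem_ker.1 hu.2]
    · simp [mul_assoc]
  have hH1 : ∀ h ∈ H, h = 1 := by
    intro h hh
    have htri : h 0 1 = 0 ∨ h 1 0 = 0 := (triangular_of_odd hodd hc hnorm).imp (· h hh) (· h hh)
    obtain ⟨hb, hd⟩ := diag_of_sprime hA hc
      (A.mul_mem (A.mul_mem (A.mul_mem (hHA hh) hcA) (A.inv_mem (hHA hh))) (A.inv_mem hcA)) htri
    have h00 := hstab h (hHA hh) hd
    have := hdet h hh
    rw [hb, hd, h00] at this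
    exact ext_entries (by rw [h00, one_entries.1]) (by rw [hb, one_entries.2.1])
      (by rw [hd, one_entries.2.2.1]) (by rw [one_entries.2.2.2]; linear_combination this)
  intro a ha
  refine (diag_of_commute hc ?_).1
  have h3 : a * c * a⁻¹ * c⁻¹ = 1 := hH1 _ ⟨A.mul_mem (A.mul_mem (A.mul_mem ha hcA) (A.inv_mem ha)) (A.inv_mem hcA),
    MonoidHom.mem_ker.2 (by simp [map_mul, mul_comm])⟩
  exact mul_inv_eq_iff_eq_mul.1 (mul_inv_eq_one.1 h3)

end Cfsg.Agent.AbelianSylow.Field.Plane
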