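import Cfsg.Agent.Lib.AbelianSylow.Cent.FieldAut
import Cfsg.Agent.Lib.AbelianSylow.SimpleCases

/-!
# Part (a), field automorphisms: the component of `C(f)` (owner: helper29)

* `FieldFrame.core_cent` : `O(C(f)) = ⟨f⟩` when `q₀ ≥ 5`
* `FieldFrame.exists_comp` : the component, by induction
-/

set_option autoImplicit false
set_option linter.style.haveILetI false

namespace Cfsg.Agent.AbelianSylow.Field

open Subgroup AbelianTwoPSL

universe u

variable {G : Type u} [Group G] [Finite G] {t : G} {F : Type} [Field F] [Fintype F] {E L : Subgroup G}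
  {A : Sylow 2 G} {V D : Subgroup G}

theorem FieldFrame.mem_X (fr : FieldFrame G t F E L A V D) {f n : G} (hf : f ∈ D)
    (hn : n ∈ normalizer ((A : Subgroup G) : Set G)) : n ∈ centralizer ({f} : Set G) :=
  mem_centralizer_singleton_iff.2 (mem_centralizer_iff.1 (fr.norm_A hn) f hf).symm

theorem FieldFrame.V_le_fixed (fr : FieldFrame G t F E L A V D) {f : G} (hf : f ∈ D) :
    V ≤ L ⊓ centralizer ({f} : Set G) := fun v hv => mem_inf.2 ⟨fr.frame.memE₀ hv,
  mem_centralizer_singleton_iff.2 (mem_centralizer_iff.1 (fr.cent_A hf) v (fr.frame.memA hv))⟩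

theorem isSimple_of_iso {F₀ : Type} [Field F₀] [Fintype F₀] {S : Type u} [Group S]
    (e : S ≃* PSL2.PSL2 F₀) (h5 : 5 ≤ Fintype.card F₀) : IsSimpleGroup S ∧ ¬ IsMulCommutative S := by
  have h : 4 ≤ Nat.card F₀ := by rw [Nat.card_eq_fintype_card]; omega
  haveI := PSL2.isSimpleGroup_psl h
  refine ⟨e.isSimpleGroup, fun hc => PSL2.not_comm_psl (L := F₀) (by omega) fun a b => e.symm.injective ?_⟩
  rw [map_mul, map_mul]
  exact hc.is_comm.comm _ _

theorem not_solvable_of_iso {F₀ : Type} [Field F₀] [Fintype F₀] {S : Type u} [Group S]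
    (e : S ≃* PSL2.PSL2 F₀) (h5 : 5 ≤ Fintype.card F₀) : ¬ Group.IsSolvable S := fun hs => by
  obtain ⟨hsimp, hna⟩ := isSimple_of_iso e h5
  haveI := hsimp
  exact hna ⟨⟨IsSimpleGroup.comm_iff_isSolvable.2 hs⟩⟩

/-- `O(C(f)) = ⟨f⟩`. -/
theorem FieldFrame.core_cent (fr : FieldFrame G t F E L A V D) {f : G} (hf : f ∈ D)
    {F₀ : Type} [Field F₀] [Fintype F₀] (e₀ : ↥(L ⊓ centralizer ({f} : Set G)) ≃* PSL2.PSL2 F₀)
    (h5 : 5 ≤ Fintype.card F₀) :
    (Cfsg.oddCore ↥(centralizer ({f} : Set G))).map (centralizer ({f} : Set G)).subtype = zpowers f := by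
  classical
  haveI : Fact (Nat.Prime 2) := ⟨Nat.prime_two⟩
  set X := centralizer ({f} : Set G) with hX
  set O := Cfsg.oddCore X with hO
  haveI hOn : O.Normal := Cores.pPrimeCore_normal 2 X
  have hOodd : Odd (Nat.card O) := Nat.odd_iff.2 (Nat.two_dvd_ne_zero.1 Cores.not_dvd_card_pPrimeCore)
  set K := O.map X.subtype
  have hKodd : Odd (Nat.card K) := by rwa [card_map_of_injective X.subtype_injective]
  have hKX : ∀ n ∈ X, ∀ x ∈ K, n * x * n⁻¹ ∈ K := by
    rintro n hn _ ⟨x, hx, rfl⟩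
    exact ⟨⟨n, hn⟩ * x * ⟨n, hn⟩⁻¹, hOn.conj_mem x hx _, rfl⟩
  have hfX : f ∈ X := mem_centralizer_singleton_iff.2 rfl
  refine le_antisymm ?_ (zpowers_le.2 ?_)
  swap
  · refine ⟨⟨f, hfX⟩, ?_, rfl⟩
    haveI : (zpowers (⟨f, hfX⟩ : X)).Normal := ⟨fun z hz g => by
      obtain ⟨i, rfl⟩ := mem_zpowers_iff.1 hz
      have hc : Commute g (⟨f, hfX⟩ : X) := Subtype.ext (mem_centralizer_singleton_iff.1 g.2)
      rw [(hc.zpow_right i).eq, mul_inv_cancel_right]
      exact hz⟩
    refine Cores.le_pPrimeCore inferInstance ?_ (mem_zpowers _)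
    rw [Nat.card_zpowers, Subgroup.orderOf_mk]
    exact Nat.coprime_two_right.2 (fr.D_odd.of_dvd_nat (Subgroup.orderOf_dvd_natCard D hf))
  -- the fixed points of `t`
  obtain ⟨hsimp, hna⟩ := isSimple_of_iso e₀ h5
  haveI := hsimp
  have htfix : ∀ x ∈ K, Commute x t → x ∈ zpowers f := by
    intro x hx hxt
    have hxo : Odd (orderOf x) := hKodd.of_dvd_nat (Subgroup.orderOf_dvd_natCard K hx)
    have hxE : x ∈ E := fr.frame.toCtx.mem_of_odd hxt hxo
    have hxX : x ∈ X := map_subtype_le O hx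
    set M := L ⊓ centralizer ({f} : Set G) with hM
    set N := (K.subgroupOf M) with hN
    haveI : N.Normal := ⟨fun n hn g => by
      rw [hN, mem_subgroupOf] at hn ⊢
      exact hKX g g.2.2 n hn⟩
    have hN0 : N = ⊥ := by
      refine (inferInstance : N.Normal).eq_bot_or_eq_top.resolve_right fun htop => ?_
      haveI : Group.IsSolvable M := OddOrderTheorem.solvable (hKodd.of_dvd_nat (card_dvd_of_le
        fun m hm => mem_subgroupOf.1 (htop.ge (mem_top (⟨m, hm⟩ : M)))))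
      exact hna ⟨⟨IsSimpleGroup.comm_iff_isSolvable.2 inferInstance⟩⟩
    have hcomm : ∀ m ∈ M, Commute m x := by
      intro m hm
      have h1 : m * x * m⁻¹ * x⁻¹ ∈ M := by
        refine mem_inf.2 ⟨?_, mul_mem (mul_mem (mul_mem hm.2 hxX) (inv_mem hm.2)) (inv_mem hxX)⟩
        rw [show m * x * m⁻¹ * x⁻¹ = m * (x * m⁻¹ * x⁻¹) by group]
        exact mul_mem hm.1 (fr.frame.norm x hxE _ (inv_mem hm.1))
      have h2 : (⟨_, h1⟩ : M) ∈ N := mem_subgroupOf.2 (mul_mem (hKX m hm.2 x hx) (inv_mem hx))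
      rw [hN0, mem_bot] at h2
      exact mul_inv_eq_iff_eq_mul.1 (mul_inv_eq_one.1 (congrArg Subtype.val h2))
    obtain ⟨y, hy, d, hd, rfl⟩ := fr.split x hxE
    have hyV : y ∈ V := fr.frame.data.cent _ fr.frame.four ⟨y, hy⟩ fun v hv => Subtype.ext (by
      have h1 : Commute (v : G) (y * d) := hcomm _ (fr.V_le_fixed hf hv)
      have h2 : Commute (v : G) d := mem_centralizer_iff.1 (fr.cent_A hd) _ (fr.frame.memA hv)
      have h3 := (h1.mul_right h2.inv_right).symm
      show y * (v : G) = v * y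
      simpa using h3.eq)
    have hy1 : y = 1 := by
      by_contra hne
      have hco : Commute y d := mem_centralizer_iff.1 (fr.cent_A hd) _ (fr.frame.memA hyV)
      have hdo := fr.D_odd.of_dvd_nat (Subgroup.orderOf_dvd_natCard D hd)
      have hcop : (orderOf y).Coprime (orderOf d) := by
        rw [fr.frame.orderOf_V hyV hne]; exact Nat.coprime_two_left.2 hdo
      rw [hco.orderOf_mul_eq_mul_orderOf_of_coprime hcop, fr.frame.orderOf_V hyV hne] at hxo
      exact absurd hxo (Nat.not_odd_iff_even.2 ⟨_, two_mul _⟩)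
    subst hy1
    rw [one_mul] at hcomm ⊢
    exact fr.eq_zpowers hf hd fun m hm hmf => hcomm m (mem_inf.2 ⟨hm, mem_centralizer_singleton_iff.2 hmf.eq⟩)
  haveI : IsMulCommutative V := ⟨⟨fun a b => Subtype.ext
    (fr.shape.elem.commute_mem A (fr.frame.memA a.2) (fr.frame.memA b.2)).eq⟩⟩
  refine Coprime.le_of_noncyclic (A := V) ?_ ?_ ?_ fun v hv hv1 => ?_
  · intro hc
    obtain ⟨g, hg⟩ := IsCyclic.exists_ofOrder_eq_natCard (α := V)
    have h1 : orderOf g ∣ 2 := orderOf_dvd_of_pow_eq_one (Subtype.ext (by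
      rw [SubmonoidClass.coe_pow, pow_two, OneMemClass.coe_one]
      exact fr.frame.sq_V g.2))
    rw [hg, fr.frame.card_V] at h1
    norm_num at h1
  · exact fun v hv => Coprime.mem_normalizer_of_forall fun x hx => hKX v (fr.V_le_fixed hf hv).2 x hx
  · rw [fr.frame.card_V, show 4 = 2 ^ 2 by norm_num]
    exact Nat.Coprime.pow_left 2 (Nat.coprime_two_left.2 hKodd)
  · intro x hx
    obtain ⟨n, hn, hnv⟩ := fr.shape.elem.normalizer_transitive A fr.frame.htA (Involution.ne_one fr.frame.ht)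
      (fr.frame.memA hv) hv1
    have hnX := fr.mem_X hf hn
    have hxv : Commute x v := mem_centralizer_singleton_iff.1 hx.2
    have h1 : Commute (n⁻¹ * x * n) t := by
      have e : n⁻¹ * v * n⁻¹⁻¹ = t := by rw [← hnv]; group
      have := hxv.map (MulAut.conj n⁻¹).toMonoidHom
      simp only [MulEquiv.coe_toMonoidHom, MulAut.conj_apply, e] at this
      simpa using this
    have h2 := hKX _ (inv_mem hnX) x hx.1
    rw [inv_inv] at h2
    obtain ⟨i, hi⟩ := mem_zpowers_iff.1 (htfix _ h2 h1)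
    refine mem_zpowers_iff.2 ⟨i, ?_⟩
    have hc : Commute n (f ^ i) := (show Commute n f from mem_centralizer_singleton_iff.1 hnX).zpow_right i
    calc f ^ i = n * f ^ i * n⁻¹ := by rw [hc.eq, mul_inv_cancel_right]
      _ = x := by rw [hi]; group

/-- The involutions congruent modulo a central odd subgroup are equal. -/
theorem eq_of_mod {X : Type u} [Group X] [Finite X] {O : Subgroup X} (hO : ∀ o ∈ O, o ∈ center X)
    (hodd : Odd (Nat.card O)) {a b : X} (ha : a * a = 1) (hb : b * b = 1) (h : a⁻¹ * b ∈ O) : a = b := by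
  have hc : Commute a (a⁻¹ * b) := mem_center_iff.1 (hO _ h) a
  have e : b = a * (a⁻¹ * b) := by group
  have h2 : (a⁻¹ * b) ^ 2 = 1 := by
    have h3 : (a * (a⁻¹ * b)) ^ 2 = 1 := by rw [← e, pow_two, hb]
    rwa [hc.mul_pow, pow_two a, ha, one_mul] at h3
  have h4 : a⁻¹ * b = 1 := orderOf_eq_one_iff.1 (Nat.eq_one_of_dvd_coprimes (Nat.coprime_two_left.2 hodd)
    (orderOf_dvd_of_pow_eq_one h2) (Subgroup.orderOf_dvd_natCard O h))
  exact inv_mul_eq_one.1 h4

theorem map_centralizer_equiv {M N : Type u} [Group M] [Group N] (e : M ≃* N) (x : M) :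
    (centralizer ({x} : Set M)).map (e : M →* N) = centralizer ({e x} : Set N) := by
  ext y
  constructor
  · rintro ⟨z, hz, rfl⟩
    exact mem_centralizer_singleton_iff.2
      ((show Commute z x from mem_centralizer_singleton_iff.1 hz).map (e : M →* N)).eq
  · intro hy
    refine ⟨e.symm y, mem_centralizer_singleton_iff.2 (e.injective ?_), e.apply_symm_apply y⟩
    rw [map_mul, map_mul, e.apply_symm_apply]
    exact mem_centralizer_singleton_iff.1 hy

/-- The cardinality of a field with a group of field automorphisms of odd order. -/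
theorem mod_eight_of_pow {a r : ℕ} (hr : Odd r) (h : a ^ r % 8 = 3 ∨ a ^ r % 8 = 5) :
    a % 8 = 3 ∨ a % 8 = 5 := by
  obtain ⟨k, rfl⟩ := hr
  have ha : a % 2 = 1 := by
    by_contra hne
    have h2 : 2 ∣ a ^ (2 * k + 1) := dvd_pow (by omega) (by omega)
    omega
  have h2 : a ^ 2 % 8 = 1 := by
    rw [Nat.pow_mod]
    have hlt : a % 8 < 8 := Nat.mod_lt _ (by norm_num)
    have h' : a % 8 % 2 = 1 := by omega
    interval_cases hv : a % 8 <;> simp_all
  have e : a ^ (2 * k + 1) % 8 = a % 8 := by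
    rw [pow_succ, pow_mul, Nat.mul_mod, Nat.pow_mod, h2, one_pow, Nat.one_mod, one_mul, Nat.mod_mod]
  omega

/-- **The component**, by induction. -/
theorem FieldFrame.exists_comp (fr : FieldFrame G t F E L A V D)
    (IH : ∀ (K : Type u) [Group K] [Finite K], Elem8 K → Nat.card K < Nat.card G →
      ∃ (s : K) (F₁ : Type) (_ : Field F₁) (_ : Fintype F₁), JTData K s F₁)
    {f : G} (hf : f ∈ D) (hf1 : f ≠ 1) {F₀ : Type} [Field F₀] [Fintype F₀]
    (hcard : Fintype.card F₀ ^ orderOf f = Fintype.card F)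
    (e₀ : ↥(L ⊓ centralizer ({f} : Set G)) ≃* PSL2.PSL2 F₀) (h5 : 5 ≤ Fintype.card F₀) :
    ∃ Kc : Subgroup G, CompData G t f F₀ L Kc := by
  classical
  haveI : Fact (Nat.Prime 2) := ⟨Nat.prime_two⟩
  have hcore := fr.core_cent hf e₀ h5
  set X := centralizer ({f} : Set G) with hX
  set O := Cfsg.oddCore X with hO
  haveI hOn : O.Normal := Cores.pPrimeCore_normal 2 X
  have hOodd : Odd (Nat.card O) := Nat.odd_iff.2 (Nat.two_dvd_ne_zero.1 Cores.not_dvd_card_pPrimeCore)
  have hOc : ∀ o ∈ O, o ∈ center X := fun o ho => mem_center_iff.2 fun g => Subtype.ext (by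
    obtain ⟨i, hi⟩ := mem_zpowers_iff.1 (hcore.le (mem_map_of_mem X.subtype ho))
    show (g : G) * o = o * g
    rw [show (o : G) = f ^ i from hi.symm]
    exact ((show Commute (g : G) f from mem_centralizer_singleton_iff.1 g.2).zpow_right i).eq)
  set π := QuotientGroup.mk' O with hπ
  have hπs : Function.Surjective π := QuotientGroup.mk'_surjective O
  have hmod : ∀ {a b : X}, a * a = 1 → b * b = 1 → π a = π b → a = b := fun ha hb h =>
    eq_of_mod hOc hOodd ha hb (QuotientGroup.eq.1 h)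
  have hfX : f ∈ X := mem_centralizer_singleton_iff.2 rfl
  have hAX : (A : Subgroup G) ≤ X := fun a ha =>
    mem_centralizer_singleton_iff.2 (mem_centralizer_iff.1 (fr.cent_A hf) a ha)
  have htX : t ∈ X := hAX fr.frame.htA
  set t' : X := ⟨t, htX⟩ with ht'
  have ht'2 : t' * t' = 1 := Subtype.ext fr.frame.mul_self_t
  set τ := π t'
  have ht'1 : t' ≠ 1 := fun e => Involution.ne_one fr.frame.ht (congrArg Subtype.val e)
  have hτ2 : orderOf τ = 2 := by
    refine Involution.orderOf_of_sq (by rw [← map_mul, ht'2, map_one]) fun e => ht'1 ?_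
    exact hmod ht'2 (one_mul 1) (by rw [map_one]; exact e)
  -- Sylow subgroups of the quotient
  set TA : Sylow 2 X := A.subtype hAX with hTA
  have hSQ : ∀ S : Sylow 2 (X ⧸ O), Cfsg.IsElementaryAbelian 2 (S : Subgroup (X ⧸ O)) ∧
      Nat.card (S : Subgroup (X ⧸ O)) = 8 := by
    intro S
    obtain ⟨T, hT⟩ := Sylow.mapSurjective_surjective hπs 2 S
    obtain ⟨T', hT'⟩ := (T.2.map X.subtype).exists_le_sylow
    have h8T : Nat.card (T : Subgroup X) = 8 := by
      rw [Nat.card_congr (T.equiv TA).toEquiv, Sylow.coe_subtype,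
        Nat.card_congr (subgroupOfEquivOfLe hAX).toEquiv, (fr.shape.elem.sylow A).2]
    rw [← hT, Sylow.coe_mapSurjective]
    refine ⟨⟨⟨⟨?_⟩⟩, ?_⟩, ?_⟩
    · rintro ⟨_, a, ha, rfl⟩ ⟨_, b, hb, rfl⟩
      refine Subtype.ext ?_
      show π a * π b = π b * π a
      rw [← map_mul, ← map_mul, show a * b = b * a from Subtype.ext
        (fr.shape.elem.commute_mem T' (hT' ⟨a, ha, rfl⟩) (hT' ⟨b, hb, rfl⟩)).eq]
    · rintro _ ⟨a, ha, rfl⟩
      rw [← map_pow, show a ^ 2 = 1 from Subtype.ext (by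
        rw [SubmonoidClass.coe_pow, pow_two]; exact fr.shape.elem.sq T' (hT' ⟨a, ha, rfl⟩)), map_one]
    · rw [← h8T]
      have hinj : Function.Injective (π.comp (T : Subgroup X).subtype) :=
        (injective_iff_map_eq_one _).2 fun a ha => Subtype.ext (hmod
          (Subtype.ext (fr.shape.elem.sq T' (hT' ⟨a, a.2, rfl⟩))) (one_mul 1) (by rw [OneMemClass.coe_one, map_one]; exact ha))
      rw [Nat.card_congr (MonoidHom.ofInjective hinj).toEquiv, MonoidHom.range_comp, range_subtype]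
  have hOQ : Cfsg.oddCore (X ⧸ O) = ⊥ := Cores.pPrimeCore_quotient_self 2
  -- the fixed field group
  set L₀ : Subgroup X := L.subgroupOf X with hL₀
  have eL : ↥L₀ ≃* PSL2.PSL2 F₀ :=
    ((MulEquiv.subgroupCongr (inf_subgroupOf_right L X).symm).trans
      (subgroupOfEquivOfLe (inf_le_right : L ⊓ X ≤ X))).trans e₀
  have hL₀ns := not_solvable_of_iso eL h5
  obtain ⟨hL₀s, hL₀na⟩ := isSimple_of_iso eL h5
  haveI := hL₀s
  have hπL : Function.Injective (π.comp L₀.subtype) := by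
    refine (MonoidHom.ker_eq_bot_iff _).1 ((MonoidHom.normal_ker _).eq_bot_or_eq_top.resolve_right fun htop => ?_)
    haveI := OddOrderTheorem.solvable hOodd
    have hle : L₀ ≤ O := fun x hx => (QuotientGroup.eq_one_iff x).1 (htop.ge (mem_top (⟨x, hx⟩ : L₀)))
    exact hL₀ns (Group.isSolvable_of_isSolvable_injective (inclusion_injective hle))
  have hQns : ¬ Group.IsSolvable (X ⧸ O) := fun hs => hL₀ns (by
    haveI := hs
    exact Group.isSolvable_of_isSolvable_injective hπL)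
  -- no normal 2-subgroup
  have hO2 : Cfsg.pCore 2 (X ⧸ O) = ⊥ := by
    by_contra hne
    set R := Cfsg.pCore 2 (X ⧸ O)
    haveI : R.Normal := Cores.pCore_normal 2 _
    obtain ⟨k, hk⟩ := IsPGroup.iff_card.1 (Cores.isPGroup_pCore 2 (X ⧸ O))
    rcases k with _ | _ | k
    · exact hne (card_eq_one.1 (by simpa using hk))
    · -- order two: a central involution
      haveI : Fintype R := Fintype.ofFinite _
      have hR2 : Nat.card R = 2 := by simpa using hk
      obtain ⟨⟨r, hrR⟩, hr⟩ := exists_prime_orderOf_dvd_card' (G := R) 2 (by rw [hR2])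
      rw [Subgroup.orderOf_mk] at hr
      have hrS : r ∈ ((TA.mapSurjective hπs : Sylow 2 (X ⧸ O)) : Subgroup (X ⧸ O)) :=
        (Cores.isPGroup_pCore 2 (X ⧸ O)).le_sylow_of_normal _ hrR
      rw [Sylow.coe_mapSurjective] at hrS
      obtain ⟨a, ha, rfl⟩ := hrS
      rw [hTA, Sylow.coe_subtype, SetLike.mem_coe, mem_subgroupOf] at ha
      have ha2 : a * a = 1 := Subtype.ext (fr.shape.elem.sq A ha)
      have ha1 : (a : G) ≠ 1 := fun e => Involution.ne_one hr (by
        rw [show a = 1 from Subtype.ext e, map_one])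
      have hR : ∀ x ∈ R, x = 1 ∨ x = π a := by
        intro x hx
        by_contra hc
        push Not at hc
        have h3 : ({(⟨1, one_mem R⟩ : R), ⟨π a, hrR⟩, ⟨x, hx⟩} : Finset R).card ≤ 2 := by
          refine (Finset.card_le_univ _).trans ?_
          rw [← Nat.card_eq_fintype_card, hR2]
        rw [Finset.card_insert_of_notMem, Finset.card_insert_of_notMem, Finset.card_singleton] at h3
        · omega
        · simp [hc.2.symm]
        · simp [hc.1.symm, (Involution.ne_one hr).symm]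
      have hall : ∀ b ∈ (A : Subgroup G), b ≠ 1 → b = a := by
        intro b hb hb1
        obtain ⟨n, hn, hnb⟩ := fr.shape.elem.normalizer_transitive A ha ha1 hb hb1
        set n' : X := ⟨n, fr.mem_X hf hn⟩
        have h1 : π n' * π a * (π n')⁻¹ ∈ R := (inferInstance : R.Normal).conj_mem _ hrR _
        rcases hR _ h1 with h2 | h2
        · exact absurd (conj_eq_one_iff.1 h2) (Involution.ne_one hr)
        · rw [← map_inv, ← map_mul, ← map_mul] at h2
          have hb2 : (n' * a * n'⁻¹) * (n' * a * n'⁻¹) = 1 := by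
            rw [show (n' * a * n'⁻¹) * (n' * a * n'⁻¹) = n' * (a * a) * n'⁻¹ by group, ha2]; group
          rw [← hnb]
          exact congrArg Subtype.val (hmod hb2 ha2 h2)
      have := Nat.card_mono (Set.toFinite ({1, (a : G)} : Set G)) (fun b (hb : b ∈ (A : Subgroup G)) => by
        by_cases hb1 : b = 1
        · exact Or.inl hb1
        · exact Or.inr (hall b hb hb1))
      rw [SetLike.coe_sort_coe, (fr.shape.elem.sylow A).2, Nat.card_coe_set_eq,
        Set.ncard_pair (Ne.symm ha1)] at this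
      omega
    · refine hQns (Core.solvable_of_normal_two hSQ (Cores.isPGroup_pCore 2 (X ⧸ O)) ?_)
      rw [hk]
      exact ⟨2 ^ k, by ring⟩
  obtain ⟨M, hMn, hMs, hMna, -, hMS⟩ := Core.exists_simple_normal_eight hOQ hO2 hSQ
  haveI := hMs
  haveI := hMn
  have hτA : ∀ a : X, (a : G) ∈ (A : Subgroup G) → π a ∈ M := fun a ha => hMS (TA.mapSurjective hπs) (by
    rw [Sylow.coe_mapSurjective]
    exact mem_map_of_mem π (by rw [hTA, Sylow.coe_subtype]; exact mem_subgroupOf.2 ha))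
  have hτM : τ ∈ M := hτA t' fr.frame.htA
  -- `L₀` lies in `M`
  have hLM : ∀ x ∈ L₀, π x ∈ M := by
    set N := (M.comap π).subgroupOf L₀
    have hN : N = ⊤ := (inferInstance : N.Normal).eq_bot_or_eq_top.resolve_left fun hb => by
      obtain ⟨v, hv, hv1⟩ : ∃ v ∈ V, v ≠ 1 := by
        by_contra hc
        push Not at hc
        have := fr.frame.card_V
        rw [(eq_bot_iff_forall _).2 hc, Subgroup.card_bot] at this
        omega
      have hvX : v ∈ X := hAX (fr.frame.memA hv)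
      have h1 : (⟨⟨v, hvX⟩, fr.frame.memE₀ hv⟩ : L₀) ∈ N := hτA ⟨v, hvX⟩ (fr.frame.memA hv)
      rw [hb, mem_bot] at h1
      exact hv1 (congrArg (fun z : L₀ => ((z : X) : G)) h1)
    exact fun x hx => hN.ge (mem_top (⟨x, hx⟩ : L₀))
  set τM : M := ⟨τ, hτM⟩ with hτMdef
  have hτM2 : orderOf τM = 2 := by rw [hτMdef, Subgroup.orderOf_mk]; exact hτ2
  have hLt : ∀ x ∈ L₀, Commute x t' := fun x hx =>
    Subtype.ext (fr.frame.commute_of_mem (mem_subgroupOf.1 hx)).eq
  let ψ : ↥L₀ →* ↥(centralizer ({τM} : Set M)) :=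
    (((π.comp L₀.subtype).codRestrict M fun x => hLM x x.2)).codRestrict _ fun x =>
      mem_centralizer_singleton_iff.2 (Subtype.ext ((hLt x x.2).map π).eq)
  have hψ : Function.Injective ψ := fun a b h => hπL (congrArg
    (fun z : ↥(centralizer ({τM} : Set M)) => ((z : M) : X ⧸ O)) h)
  -- `M` is an `Elem8` group
  have hMS8 : ∀ P : Sylow 2 M, Cfsg.IsElementaryAbelian 2 (P : Subgroup M) ∧ Nat.card (P : Subgroup M) = 8 := by
    intro P
    obtain ⟨T, hT⟩ := (P.2.map M.subtype).exists_le_sylow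
    have h8 : 8 ∣ Nat.card M := (hSQ T).2 ▸ card_dvd_of_le (hMS T)
    refine ⟨⟨⟨⟨fun a b => ?_⟩⟩, fun x hx => ?_⟩, le_antisymm ?_ ?_⟩
    · haveI := (hSQ T).1.1
      exact Subtype.ext (Subtype.ext (congrArg Subtype.val (mul_comm'
        (⟨_, hT (mem_map_of_mem M.subtype a.2)⟩ : (T : Subgroup (X ⧸ O)))
        ⟨_, hT (mem_map_of_mem M.subtype b.2)⟩) :))
    · exact Subtype.ext ((hSQ T).1.2 _ (hT (mem_map_of_mem M.subtype hx)))
    · rw [← card_map_of_injective (K := (P : Subgroup M)) M.subtype_injective, ← (hSQ T).2]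
      exact card_le_of_le hT
    · exact Nat.le_of_dvd Nat.card_pos (P.pow_dvd_card_of_pow_dvd_card (n := 3) h8)
  have hE8 : Elem8 M := by
    refine ⟨hMs, hMna, hMS8, ?_⟩
    rintro ⟨H, hH⟩
    obtain ⟨P⟩ : Nonempty (Sylow 2 M) := inferInstance
    obtain ⟨n, -, K, _, _, hK, ⟨φ⟩⟩ := embedded_case hMna P (hMS8 P).1.1 hH
    haveI : CharP K 2 := charP_of_card_eq_prime_pow hK
    have hc : Nat.card ↥(centralizer ({τM} : Set M)) = 2 ^ n := by
      have h1 := PSL2.card_centralizer_char (F := K) 2 (x := φ τM) (by rw [MulEquiv.orderOf_eq, hτM2])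
      rw [Nat.card_eq_fintype_card (α := K), hK] at h1
      rw [← h1]
      refine Nat.card_congr (φ.toEquiv.subtypeEquiv fun g => ?_)
      rw [mem_centralizer_singleton_iff, mem_centralizer_singleton_iff]
      show g * τM = τM * g ↔ φ g * φ τM = φ τM * φ g
      rw [← map_mul, ← map_mul, φ.injective.eq_iff]
    haveI := (IsPGroup.of_card hc).isNilpotent
    exact hL₀ns (Group.isSolvable_of_isSolvable_injective hψ)
  have hlt : Nat.card M < Nat.card G := by
    refine lt_of_le_of_lt ((card_le_card_group M).trans (Nat.card_le_card_of_surjective π hπs)) ?_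
    refine lt_of_le_of_ne (card_le_card_group X) fun e => ?_
    have htop : X = ⊤ := (card_eq_iff_eq_top X).1 e
    haveI := fr.shape.elem.simple
    have hz : f ∈ center G := mem_center_iff.2 fun g =>
      mem_centralizer_singleton_iff.1 (htop ▸ mem_top g : g ∈ X)
    rcases (inferInstance : (center G).Normal).eq_bot_or_eq_top with h | h
    · exact hf1 (mem_bot.1 (h ▸ hz))
    · exact fr.shape.elem.nonab ⟨⟨fun a b => mem_center_iff.1 (h ▸ mem_top b : b ∈ center G) a⟩⟩
  obtain ⟨s, F₁, _, _, hJ⟩ := IH M hE8 hlt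
  obtain ⟨g, hg⟩ := hE8.one_class hτM2 hJ.invol
  obtain ⟨φ₁⟩ := hJ.cent
  -- transport to `τ`
  let γ : ↥(centralizer ({τM} : Set M)) ≃* ↥(centralizer ({s} : Set M)) :=
    ((MulAut.conj g).subgroupMap _).trans (MulEquiv.subgroupCongr (by
      rw [← hg]
      exact map_centralizer_equiv (MulAut.conj g) τM))
  let ε := γ.trans φ₁
  let σ : ↥L₀ →* PSL2.PSL2 F₁ := (MonoidHom.snd _ _).comp (ε.toMonoidHom.comp ψ)
  have hσi : Function.Injective σ := by
    refine (MonoidHom.ker_eq_bot_iff _).1 ((MonoidHom.normal_ker σ).eq_bot_or_eq_top.resolve_right fun htop => ?_)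
    refine hL₀na ⟨⟨fun a b => hψ (ε.injective ?_)⟩⟩
    have h1 : ∀ x : L₀, (ε (ψ x)).2 = 1 := fun x => MonoidHom.mem_ker.1 (htop.ge (mem_top x))
    refine Prod.ext ?_ ?_
    · rw [map_mul ψ, map_mul ψ, map_mul ε, map_mul ε, Prod.fst_mul, Prod.fst_mul, mul_comm]
    · rw [h1, h1]
  haveI hF1 : IsSimpleGroup (PSL2.PSL2 F₁) :=
    PSL2.isSimpleGroup_psl (by rw [Nat.card_eq_fintype_card]; have := hJ.five; omega)
  have hC : ∀ c : M, Commute c τM → ∃ x : X, Commute x t' ∧ π x = c := by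
    intro c hc
    obtain ⟨x, hx⟩ := hπs (c : X ⧸ O)
    refine ⟨x, ?_, hx⟩
    have h1 : π (x * t' * x⁻¹) = π t' := by
      rw [map_mul, map_mul, map_inv, hx]
      exact mul_inv_eq_iff_eq_mul.2 (congrArg Subtype.val hc.eq)
    refine mul_inv_eq_iff_eq_mul.1 (hmod ?_ ht'2 h1)
    rw [show x * t' * x⁻¹ * (x * t' * x⁻¹) = x * (t' * t') * x⁻¹ by group, ht'2]; group
  have hLn : ∀ x : X, Commute x t' → ∀ y ∈ L₀, x * y * x⁻¹ ∈ L₀ := fun x hx y hy => mem_subgroupOf.2
    (fr.frame.toCtx.conj_mem (congrArg Subtype.val hx.eq) (mem_subgroupOf.1 hy))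
  have hσs : Function.Surjective σ := by
    rw [← MonoidHom.range_eq_top]
    haveI : σ.range.Normal := ⟨by
      rintro _ ⟨y, rfl⟩ z
      obtain ⟨c, hc⟩ : ∃ c, (ε c).2 = z := ⟨ε.symm (1, z), by rw [MulEquiv.apply_symm_apply]⟩
      obtain ⟨x, hxt, hxc⟩ := hC (c : M) (mem_centralizer_singleton_iff.1 c.2)
      refine ⟨⟨x * y * x⁻¹, hLn x hxt y y.2⟩, ?_⟩
      have e : ψ ⟨x * y * x⁻¹, hLn x hxt y y.2⟩ = c * ψ y * c⁻¹ := Subtype.ext (Subtype.ext (by
        show π (x * y * x⁻¹) = ((c : M) : X ⧸ O) * π y * ((c : M) : X ⧸ O)⁻¹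
        rw [map_mul, map_mul, map_inv, hxc]))
      show (ε (ψ _)).2 = z * (ε (ψ y)).2 * z⁻¹
      rw [e, map_mul, map_mul, map_inv, Prod.snd_mul, Prod.snd_mul, Prod.snd_inv, hc]⟩
    refine (inferInstance : σ.range.Normal).eq_bot_or_eq_top.resolve_left fun hb => hL₀na ⟨⟨fun a b => hσi ?_⟩⟩
    have h1 : ∀ x, σ x = 1 := fun x => mem_bot.1 (hb.le ⟨x, rfl⟩)
    rw [h1, h1]
  let eF : PSL2.PSL2 F₁ ≃* PSL2.PSL2 F₀ := (MulEquiv.ofBijective σ ⟨hσi, hσs⟩).symm.trans eL
  -- the centraliser is `⟨τ⟩ L₀`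
  have hcardC : Nat.card ↥(centralizer ({τM} : Set M)) = 2 * Nat.card L₀ := by
    rw [Nat.card_congr ε.toEquiv, Nat.card_prod, Nat.card_congr eL.toEquiv,
      ← Nat.card_congr eF.toEquiv]
    simp
  set Kc := (M.comap π).map X.subtype with hKc
  have hKmem : ∀ {x : G}, x ∈ Kc ↔ ∃ h : x ∈ X, π ⟨x, h⟩ ∈ M := fun {x} => by
    constructor
    · rintro ⟨y, hy, rfl⟩; exact ⟨y.2, hy⟩
    · rintro ⟨h, hx⟩; exact ⟨⟨x, h⟩, hx, rfl⟩
  have hfO : (⟨f, hfX⟩ : X) ∈ O := by
    obtain ⟨o, ho, hof⟩ := hcore.ge (mem_zpowers f)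
    exact (Subtype.ext hof : o = ⟨f, hfX⟩) ▸ ho
  have hKcent : Kc ⊓ centralizer ({t} : Set G) = zpowers t ⊔ (L ⊓ X) ⊔ zpowers f := by
    refine le_antisymm (fun x hx => ?_) (sup_le (sup_le ?_ ?_) ?_)
    · obtain ⟨hxX, hxM⟩ := hKmem.1 hx.1
      set x' : X := ⟨x, hxX⟩
      set Y : Subgroup ↥(centralizer ({τM} : Set M)) :=
        zpowers ⟨τM, mem_centralizer_singleton_iff.2 rfl⟩ ⊔ ψ.range with hY
      have hYtop : Y = ⊤ := by
        refine (card_eq_iff_eq_top Y).1 (le_antisymm (card_le_card_group Y) ?_)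
        rw [hcardC]
        set τc : ↥(centralizer ({τM} : Set M)) := ⟨τM, mem_centralizer_singleton_iff.2 rfl⟩
        have hτc : orderOf τc = 2 := by rw [Subgroup.orderOf_mk]; exact hτM2
        have hτn : τc ∉ ψ.range := by
          rintro ⟨y, hy⟩
          have h1 : π (y : X) = π t' := congrArg (fun z : ↥(centralizer ({τM} : Set M)) => ((z : M) : X ⧸ O)) hy
          have hy2 : y * y = 1 := hψ (by rw [map_mul, hy, map_one]; exact Involution.mul_self hτc)
          have h2 : (y : X) = t' := hmod (congrArg Subtype.val hy2) ht'2 h1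
          exact fr.frame.htE (fr.frame.le (by
            have := mem_subgroupOf.1 (h2 ▸ y.2 : t' ∈ L₀)
            exact this))
        have hd : Nat.card L₀ ∣ Nat.card Y := by
          rw [Nat.card_congr (MonoidHom.ofInjective hψ).toEquiv]
          exact card_dvd_of_le le_sup_right
        obtain ⟨m, hm⟩ := hd
        rcases m with _ | _ | m
        · simp at hm; exact absurd hm Nat.card_pos.ne'
        · exfalso
          refine hτn ((eq_of_le_of_card_ge (le_sup_right : ψ.range ≤ Y) ?_).ge (mem_sup_left (mem_zpowers τc)))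
          rw [hm, ← Nat.card_congr (MonoidHom.ofInjective hψ).toEquiv]
          omega
        · rw [hm]
          calc 2 * Nat.card L₀ = Nat.card L₀ * 2 := mul_comm _ _
            _ ≤ Nat.card L₀ * (m + 2) := Nat.mul_le_mul_left _ (by omega)
      have hxt : Commute x' t' := Subtype.ext (mem_centralizer_singleton_iff.1 hx.2)
      have hmemY : (⟨⟨π x', hxM⟩, mem_centralizer_singleton_iff.2 (Subtype.ext (hxt.map π).eq)⟩ :
          ↥(centralizer ({τM} : Set M))) ∈ Y := hYtop ▸ mem_top _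
      have hYle : Y ≤ (((zpowers t' ⊔ L₀).map π).subgroupOf M).subgroupOf (centralizer ({τM} : Set M)) := by
        refine sup_le (zpowers_le.2 ⟨t', mem_sup_left (mem_zpowers t'), rfl⟩) ?_
        rintro _ ⟨y, rfl⟩
        exact ⟨(y : X), mem_sup_right y.2, rfl⟩
      obtain ⟨y, hy, hyx⟩ := hYle hmemY
      have ho : y⁻¹ * x' ∈ O := QuotientGroup.eq.1 hyx
      have hx' : x = (y : G) * ((y⁻¹ * x' : X) : G) := by simp [x']
      rw [hx']
      refine mul_mem (mem_sup_left ?_) (mem_sup_right (hcore.le (mem_map_of_mem X.subtype ho)))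
      have hmap : (zpowers t' ⊔ L₀).map X.subtype ≤ zpowers t ⊔ (L ⊓ X) := by
        rw [Subgroup.map_sup, MonoidHom.map_zpowers]
        refine sup_le_sup le_rfl ?_
        rintro _ ⟨z, hz, rfl⟩
        exact mem_inf.2 ⟨mem_subgroupOf.1 hz, z.2⟩
      exact hmap ⟨y, hy, rfl⟩
    · exact zpowers_le.2 (mem_inf.2 ⟨hKmem.2 ⟨htX, hτM⟩, mem_centralizer_singleton_iff.2 rfl⟩)
    · intro z hz
      exact mem_inf.2 ⟨hKmem.2 ⟨hz.2, hLM _ (mem_subgroupOf.2 hz.1)⟩,
        mem_centralizer_singleton_iff.2 (fr.frame.commute_of_mem hz.1).eq⟩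
    · refine zpowers_le.2 (mem_inf.2 ⟨hKmem.2 ⟨hfX, ?_⟩,
        mem_centralizer_singleton_iff.2 (fr.frame.comm f (fr.D_le hf)).eq⟩)
      rw [show π ⟨f, hfX⟩ = 1 from (QuotientGroup.eq_one_iff _).2 hfO]
      exact one_mem M
  refine ⟨Kc, map_subtype_le _, ?_, hKmem.2 ⟨hfX, ?_⟩, hKmem.2 ⟨htX, hτM⟩, fun u hu huf => ?_, ⟨e₀⟩, hKcent, ?_⟩
  · intro x hx
    refine Coprime.mem_normalizer_of_forall fun y hy => ?_
    obtain ⟨hyX, hyM⟩ := hKmem.1 hy
    refine hKmem.2 ⟨mul_mem (mul_mem hx hyX) (inv_mem hx), ?_⟩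
    rw [show (⟨x * y * x⁻¹, _⟩ : X) = ⟨x, hx⟩ * ⟨y, hyX⟩ * ⟨x, hx⟩⁻¹ from rfl, map_mul, map_mul, map_inv]
    exact hMn.conj_mem _ hyM _
  · rw [show π ⟨f, hfX⟩ = 1 from (QuotientGroup.eq_one_iff _).2 hfO]
    exact one_mem M
  · -- all involutions are conjugate under the component
    have huX : u ∈ X := mem_centralizer_singleton_iff.2 huf.eq
    set u' : X := ⟨u, huX⟩
    have hu2 : u' * u' = 1 := Subtype.ext (Involution.mul_self hu)
    have hu1 : u' ≠ 1 := fun e => Involution.ne_one hu (congrArg Subtype.val e)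
    have huO : orderOf (π u') = 2 := by
      refine Involution.orderOf_of_sq (by rw [← map_mul, hu2, map_one]) fun e => hu1 ?_
      exact hmod hu2 (one_mul 1) (by rw [map_one]; exact e)
    obtain ⟨S, hS⟩ := Core.exists_sylow_mem (Involution.mul_self huO)
    have huM : π u' ∈ M := hMS S hS
    obtain ⟨m, hm⟩ := hE8.one_class hτM2 (w := ⟨π u', huM⟩) (by rw [Subgroup.orderOf_mk]; exact huO)
    obtain ⟨x, hx⟩ := hπs (m : X ⧸ O)
    refine ⟨x, hKmem.2 ⟨x.2, by rw [show (⟨(x : G), x.2⟩ : X) = x from rfl, hx]; exact m.2⟩, ?_⟩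
    have h1 : π (x * t' * x⁻¹) = π u' := by
      rw [map_mul, map_mul, map_inv, hx]
      exact congrArg Subtype.val hm
    have h2 : x * t' * x⁻¹ = u' := hmod (by
      rw [show x * t' * x⁻¹ * (x * t' * x⁻¹) = x * (t' * t') * x⁻¹ by group, ht'2]; group) hu2 h1
    exact congrArg Subtype.val h2
  · let ι : ↥Kc →* ↥X := inclusion (map_subtype_le _)
    let π' : ↥Kc →* ↥M := (π.comp ι).codRestrict M fun k => (hKmem.1 k.2).2
    refine ⟨M, inferInstance, inferInstance, π', fun m => ?_, ?_, ?_⟩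
    · obtain ⟨x, hx⟩ := hπs (m : X ⧸ O)
      exact ⟨⟨x, hKmem.2 ⟨x.2, hx ▸ m.2⟩⟩, Subtype.ext hx⟩
    · ext k
      rw [MonoidHom.mem_ker, mem_subgroupOf, Subtype.ext_iff, ← hcore]
      show π (ι k) = 1 ↔ _
      rw [hπ, QuotientGroup.mk'_apply, QuotientGroup.eq_one_iff]
      exact ⟨fun h => ⟨ι k, h, rfl⟩, fun ⟨o, ho, hok⟩ => (Subtype.ext hok : o = ι k) ▸ ho⟩
    · refine ⟨hE8.simple, hE8.nonab, hE8.sylow, hτM2, h5, ?_, ⟨?_⟩⟩
      · exact mod_eight_of_pow (fr.D_odd.of_dvd_nat (Subgroup.orderOf_dvd_natCard D hf))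
          (hcard ▸ fr.shape.mod8)
      · exact (show ↥(centralizer ({π' ⟨t, hKmem.2 ⟨htX, hτM⟩⟩} : Set M)) ≃* _ from ε).trans
          (MulEquiv.prodCongr (MulEquiv.refl _) eF)

end Cfsg.Agent.AbelianSylow.Field
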