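import Cfsg.Agent.Lib.Solvable.Fitting
import Cfsg.Agent.Lib.OddOrderTheorem.Basic
import Cfsg.Agent.Lib.Coprime.Basic

/-!
# No field automorphism, case (B): the rotation lemma (owner: helper88)

* `rot_fixes`          : `τ` has one fixed line `⟨f₀⟩` on `V`, `η` of order three fixes it; a `τ`-inverted `m`
  commuting with its `η`-conjugate fixes `f₀`
* `mem_cent_of_comm`   : an odd subgroup without normal `s`-subgroups modulo the centraliser of such a `V` is
  centralised by `τ` modulo that centraliser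
-/

set_option autoImplicit false
set_option linter.style.haveILetI false
set_option linter.unusedSectionVars false

namespace Cfsg.Agent.AbelianSylow.Scalar

open Subgroup
open scoped commutatorElement

section Line

variable {V : Type*} [CommGroup V] {s : ℕ} [Fact s.Prime]

theorem zpow_eq_one_of_dvd (hV : ∀ x : V, x ^ s = 1) {n : ℤ} (h : (s : ℤ) ∣ n) (x : V) : x ^ n = 1 := by
  obtain ⟨j, rfl⟩ := h
  rw [zpow_mul, zpow_natCast, hV, one_zpow]

theorem eq_one_of_zpow (hV : ∀ x : V, x ^ s = 1) {n : ℤ} (h : ¬ (s : ℤ) ∣ n) {x : V} (hx : x ^ n = 1) :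
    x = 1 := by
  obtain ⟨a, b, hab⟩ := ((Nat.prime_iff_prime_int.1 (Fact.out : s.Prime)).coprime_iff_not_dvd.2 h)
  calc x = x ^ (a * (s : ℤ) + b * n) := by rw [hab, zpow_one]
    _ = 1 := by rw [zpow_add, mul_comm a, mul_comm b, zpow_mul, zpow_mul, zpow_natCast, hV, hx, one_zpow, one_zpow,
        one_mul]

theorem not_dvd_two (hs2 : s ≠ 2) : ¬ (s : ℤ) ∣ 2 := fun h =>
  hs2 ((Nat.prime_dvd_prime_iff_eq (Fact.out : s.Prime) Nat.prime_two).1 (by exact_mod_cast h))

theorem sq_inj (hV : ∀ x : V, x ^ s = 1) (hs2 : s ≠ 2) {x y : V} (h : x * x = y * y) : x = y := by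
  refine div_eq_one.1 (eq_one_of_zpow hV (not_dvd_two hs2) ?_)
  rw [show (2 : ℤ) = 1 + 1 from rfl, zpow_add, zpow_one, div_mul_div_comm, h, div_self']

/-- The second iterate of `m / n` on an element on which `m * n` is a power. -/
theorem diff_diff {m n : V →* V} (hmn : ∀ x, m (n x) = x) (hnm : ∀ x, n (m x) = x) {x : V} {c : ℤ}
    (h : m x * n x = x ^ c) : m (m x / n x) / n (m x / n x) = x ^ (c * c - 4) := by
  have h1 := congrArg m h
  have h2 := congrArg n h
  rw [map_mul, hmn, map_zpow] at h1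
  rw [map_mul, hnm, map_zpow] at h2
  have h3 : m (m x) * x * (x * n (n x)) = x ^ (c * c) := by rw [h1, h2, ← mul_zpow, h, ← zpow_mul]
  rw [map_div, map_div, hmn, hnm, zpow_sub, ← h3, show (4 : ℤ) = 1 + 1 + (1 + 1) from rfl, zpow_add, zpow_add,
    zpow_one]
  simp only [div_eq_mul_inv, mul_inv_rev, inv_inv, mul_comm, mul_left_comm, mul_assoc]
  group

/-- **The rotation lemma.** -/
theorem rot_fixes (hs2 : s ≠ 2) (hV : ∀ x : V, x ^ s = 1) {τ η m n m' n' : V →* V}
    (hmn : ∀ x, m (n x) = x) (hnm : ∀ x, n (m x) = x) (hτ : ∀ x, τ (τ x) = x)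
    (hη3 : ∀ x, η (η (η x)) = x) (hτη : ∀ x, τ (η x) = η (τ x)) (hτm : ∀ x, τ (m x) = n (τ x))
    (hηm : ∀ x, η (m x) = m' (η x)) (hηn : ∀ x, η (n x) = n' (η x))
    {f0 : V} (hτf : τ f0 = f0) (hηf : η f0 = f0) (hfix : ∀ x, τ x = x → x ∈ zpowers f0)
    (hy : ∀ x, τ x = x⁻¹ → η x = x → x = 1)
    (U : Subgroup V) (hfU : f0 ∈ U) (hmU : ∀ x ∈ U, m x ∈ U) (hnU : ∀ x ∈ U, n x ∈ U)
    (hηU : ∀ x ∈ U, η x ∈ U)
    (hcomm : ∀ x ∈ U, m (m' x) = m' (m x) ∧ m (n' x) = n' (m x) ∧ n (m' x) = m' (n x) ∧ n (n' x) = n' (n x))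
    (hk : ∃ k : ℕ, Odd k ∧ ¬ s ∣ k ∧ ∀ x, m^[k] x = x) :
    m f0 = f0 := by
  obtain ⟨k, hkodd, hks, hkm⟩ := hk
  have hτn : ∀ x, τ (n x) = m (τ x) := fun x => by
    have h1 := hτm (τ x)
    rw [hτ] at h1
    rw [← h1, hτ]
  obtain ⟨c, hc⟩ := mem_zpowers_iff.1 (hfix (m f0 * n f0) (by rw [map_mul, hτm, hτn, hτf, mul_comm]))
  set v := m f0 / n f0 with hv
  have hτv : τ v = v⁻¹ := by rw [hv, map_div, hτm, hτn, hτf, inv_div]
  have hdd : m v / n v = f0 ^ (c * c - 4) := diff_diff hmn hnm hc.symm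
  set v' := η v with hv'
  have hv'e : v' = m' f0 / n' f0 := by rw [hv', hv, map_div, hηm, hηn, hηf]
  have hτv' : τ v' = v'⁻¹ := by rw [hv', hτη, hτv, map_inv]
  have hP : m v' * n v' = v' ^ c := by
    obtain ⟨e1, e2, e3, e4⟩ := hcomm f0 hfU
    rw [hv'e, map_div, map_div, e1, e2, e3, e4, div_mul_div_comm, ← map_mul, ← map_mul, ← hc, map_zpow, map_zpow,
      div_zpow]
  obtain ⟨a, ha⟩ := mem_zpowers_iff.1 (hfix (m v' / n v') (by
    rw [map_div, hτm, hτn, hτv', map_inv, map_inv, inv_div_inv]))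
  have hva : v ^ a = v' ^ (c * c - 4) := by
    rw [← diff_diff hmn hnm hP, ← ha, map_zpow, map_zpow, ← div_zpow]
  have hm_of_v : v = 1 → m f0 = f0 := fun h1 => by
    have he : m f0 = n f0 := div_eq_one.1 h1
    have h2 : m (m f0) = f0 := by rw [he, hmn]
    obtain ⟨j, rfl⟩ := hkodd
    have h3 : ∀ i : ℕ, m^[2 * i] f0 = f0 := fun i => by
      induction i with
      | zero => rfl
      | succ i ih => rw [Nat.mul_succ, Function.iterate_add_apply, show m^[2] f0 = f0 from h2, ih]
    have h4 := hkm f0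
    rw [show 2 * j + 1 = 1 + 2 * j by ring, Function.iterate_add_apply, h3] at h4
    exact h4
  by_cases hd : (s : ℤ) ∣ c * c - 4
  · -- a unipotent element
    obtain ⟨e, he, hec⟩ : ∃ e : ℤ, (e = 1 ∨ e = -1) ∧ (s : ℤ) ∣ c - 2 * e := by
      rw [show c * c - 4 = (c - 2 * 1) * (c - 2 * -1) by ring] at hd
      rcases (Nat.prime_iff_prime_int.1 (Fact.out : s.Prime)).dvd_or_dvd hd with h | h
      · exact ⟨1, Or.inl rfl, h⟩
      · exact ⟨-1, Or.inr rfl, h⟩
    have hce : ∀ x : V, x ^ c = x ^ e * x ^ e := fun x => by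
      rw [← zpow_add, ← div_eq_one, div_eq_mul_inv, ← zpow_sub]
      exact zpow_eq_one_of_dvd hV (by rwa [← two_mul]) x
    have hmv0 : m v = n v := div_eq_one.1 (hdd.trans (zpow_eq_one_of_dvd hV hd f0))
    have hPv : m v * n v = v ^ c := by
      have h1 := congrArg m hc.symm
      have h2 := congrArg n hc.symm
      rw [map_mul, hmn, map_zpow] at h1
      rw [map_mul, hnm, map_zpow] at h2
      rw [hv, map_div, map_div, hmn, hnm, div_mul_div_comm, div_zpow, ← h1, ← h2]
    have hmv : m v = v ^ e := sq_inj hV hs2 (by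
      nth_rewrite 2 [hmv0]
      rw [hPv, hce])
    set g := f0 * f0 with hg
    have hmg : m g = g ^ e * v := by
      rw [hg, map_mul, mul_zpow, ← hce f0, hc, hv, mul_div_assoc', mul_assoc, mul_comm (n f0), ← mul_assoc,
        mul_div_assoc, div_self', mul_one]
    have hee : e * e = 1 := by rcases he with rfl | rfl <;> rfl
    have hmg2 : ∀ j : ℕ, m^[2 * j + 1] g = g ^ e * v ^ (2 * (j : ℤ) + 1) := fun j => by
      induction j with
      | zero => simp [hmg]
      | succ j ih =>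
        rw [show 2 * (j + 1) + 1 = 2 + (2 * j + 1) by ring, Function.iterate_add_apply, ih]
        show m (m (g ^ e * v ^ (2 * (j : ℤ) + 1))) = _
        have a1 : m (m v) = v := by rw [hmv, map_zpow, hmv, ← zpow_mul, hee, zpow_one]
        have a2 : m (m (g ^ e)) = g ^ e * (v * v) := by
          rw [map_zpow, hmg, mul_zpow, ← zpow_mul, hee, zpow_one, map_mul, map_zpow, hmg, hmv, ← zpow_mul, hee,
            zpow_one, mul_assoc]
        rw [map_mul, map_mul, a2, map_zpow, map_zpow, a1, mul_assoc, mul_assoc, ← zpow_one_add, ← zpow_one_add]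
        congr 2
        push_cast
        ring
    obtain ⟨j, rfl⟩ := hkodd
    have hgk := hkm g
    rw [hmg2] at hgk
    have hgt := congrArg τ hgk
    rw [map_mul, map_zpow, map_zpow, hτv, show τ g = g by rw [hg, map_mul, hτf]] at hgt
    have h2 := mul_left_cancel (hgt.trans hgk.symm)
    have hv1 : v = 1 := by
      refine eq_one_of_zpow hV (n := 2 * (2 * (j : ℤ) + 1)) ?_ ?_
      · intro h
        rcases (Nat.prime_iff_prime_int.1 (Fact.out : s.Prime)).dvd_or_dvd h with h | h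
        · exact not_dvd_two hs2 h
        · exact hks (by exact_mod_cast h)
      · rw [two_mul, zpow_add]
        nth_rewrite 2 [← h2]
        rw [inv_zpow, mul_inv_cancel]
    exact hm_of_v hv1
  · -- `η v` is a power of `v`
    obtain ⟨κ, hκ⟩ : ∃ κ : ℤ, v' = v ^ κ := by
      obtain ⟨p, q, hpq⟩ := ((Nat.prime_iff_prime_int.1 (Fact.out : s.Prime)).coprime_iff_not_dvd.2 hd)
      refine ⟨q * a, ?_⟩
      calc v' = v' ^ (p * (s : ℤ) + q * (c * c - 4)) := by rw [hpq, zpow_one]
        _ = _ := by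
          rw [zpow_add, mul_comm p, zpow_mul, zpow_natCast, hV, one_zpow, one_mul, mul_comm q (c * c - 4),
            mul_comm q a, zpow_mul, zpow_mul, hva]
    by_cases hv1 : v = 1
    · exact hm_of_v hv1
    exfalso
    have h3 : (s : ℤ) ∣ κ * κ * κ - 1 := by
      by_contra h
      refine hv1 (eq_one_of_zpow hV h ?_)
      have := hη3 v
      rw [← hv', hκ, map_zpow, ← hv', hκ, ← zpow_mul, map_zpow, ← hv', hκ, ← zpow_mul] at this
      rw [zpow_sub, zpow_one, mul_assoc, this, mul_inv_cancel]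
    have h1 : ¬ (s : ℤ) ∣ κ - 1 := fun h => hv1 (hy v hτv (by
      rw [← hv', hκ, ← mul_inv_eq_one]
      nth_rewrite 2 [← zpow_one v]
      rw [← zpow_sub]
      exact zpow_eq_one_of_dvd hV h v))
    have hvU : v ∈ U := U.div_mem (hmU _ hfU) (hnU _ hfU)
    have hD : m' v / n' v = f0 ^ ((c * c - 4) * κ) := by
      obtain ⟨e1, e2, e3, e4⟩ := hcomm f0 hfU
      have e : m' v / n' v = m (m' f0 / n' f0) / n (m' f0 / n' f0) := by
        rw [hv, map_div, map_div, map_div, map_div, e1, e2, e3, e4, div_div_div_comm]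
      rw [e, ← hv'e, hκ, map_zpow, map_zpow, ← div_zpow, hdd, ← zpow_mul]
    have h4 := congrArg η hdd
    rw [map_div, hηm, hηn, ← hv', hκ, map_zpow, map_zpow, ← div_zpow, hD, map_zpow, hηf, ← zpow_mul] at h4
    by_cases hsd : (s : ℤ) ∣ (c * c - 4) * κ * κ - (c * c - 4)
    · rw [show (c * c - 4) * κ * κ - (c * c - 4) = (c * c - 4) * (κ * κ - 1) by ring] at hsd
      rcases (Nat.prime_iff_prime_int.1 (Fact.out : s.Prime)).dvd_or_dvd hsd with h | h
      · exact hd h
      · exact h1 (by rw [show κ - 1 = κ * κ * κ - 1 - κ * (κ * κ - 1) by ring]; exact dvd_sub h3 (h.mul_left κ))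
    · have hf1 : f0 = 1 := eq_one_of_zpow hV hsd (by rw [zpow_sub, h4, mul_inv_cancel])
      exact hv1 (by rw [hv, hf1, map_one, map_one, div_one])

end Line

section Group

variable {N : Type*} [Group N] [Finite N] {s : ℕ} [Fact s.Prime]

/-- An element fixed by an involution modulo a subgroup of odd order has a fixed representative. -/
theorem exists_fixed_mul {E : Subgroup N} (hE : Odd (Nat.card E)) {t k : N} (ht : t * t = 1)
    (hk : t * k * t⁻¹ * k⁻¹ ∈ E) : ∃ e ∈ E, Commute (e * k) t := by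
  obtain ⟨i, hi⟩ := hE
  have hti : t⁻¹ = t := inv_eq_of_mul_eq_one_right ht
  set w := k * t * k⁻¹ * t with hw
  have hwE : w ∈ E := by
    have := E.inv_mem hk
    rwa [mul_inv_rev, inv_inv, mul_inv_rev, inv_inv, mul_inv_rev, ← mul_assoc, ← mul_assoc, hti] at this
  have hw1 : w ^ (2 * i + 1) = 1 := by
    rw [← hi]
    exact congrArg Subtype.val (pow_card_eq_one' (x := (⟨w, hwE⟩ : E)))
  have hinv : t * w * t = w⁻¹ := by
    rw [hw, mul_inv_rev, mul_inv_rev, mul_inv_rev, inv_inv, hti]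
    simp only [mul_assoc, ht, mul_one]
  have hpw : ∀ j : ℕ, t * w ^ j = (w ^ j)⁻¹ * t := fun j => by
    induction j with
    | zero => simp
    | succ j ih =>
      have h1 : t * w = w⁻¹ * t := by
        rw [← hinv, mul_assoc, mul_assoc, ht, mul_one]
      calc t * w ^ (j + 1) = t * w ^ j * w := by rw [pow_succ, mul_assoc]
        _ = (w ^ j)⁻¹ * (t * w) := by rw [ih, mul_assoc]
        _ = (w ^ (j + 1))⁻¹ * t := by rw [h1, ← mul_assoc, ← mul_inv_rev, ← pow_succ']
  refine ⟨w ^ i, pow_mem hwE _, ?_⟩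
  have hkt : k * t = w * t * k := by
    rw [hw]; simp only [mul_assoc]
    rw [← mul_assoc t t, ht, one_mul, inv_mul_cancel, mul_one]
  show w ^ i * k * t = t * (w ^ i * k)
  calc w ^ i * k * t = w ^ i * (w * t * k) := by rw [mul_assoc, hkt]
    _ = w ^ (i + 1) * (t * k) := by rw [pow_succ]; simp only [mul_assoc]
    _ = (w ^ i)⁻¹ * (t * k) := by
        rw [eq_inv_of_mul_eq_one_left (show w ^ (i + 1) * w ^ i = 1 by
          rw [← pow_add, show i + 1 + i = 2 * i + 1 by ring, hw1])]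
    _ = t * (w ^ i * k) := by rw [← mul_assoc, ← hpw, mul_assoc]

/-- **An odd group without normal `s`-subgroups modulo `C(W)` is centralised by `t` modulo `C(W)`.** -/
theorem mem_cent_of_comm (hs2 : s ≠ 2) {K W : Subgroup N} [K.Normal] [W.Normal] (hK : Odd (Nat.card K))
    (hW : ∀ w ∈ W, w ^ s = 1) (hWc : ∀ a ∈ W, ∀ b ∈ W, a * b = b * a) {t y f0 : N} (ht : t * t = 1)
    (hy3 : y ^ 3 = 1) (hty : Commute t y) (hf0 : f0 ∈ W) (hft : Commute f0 t) (hfy : Commute f0 y)
    (hfix : ∀ w ∈ W, Commute w t → w ∈ zpowers f0)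
    (hfpf : ∀ w ∈ W, t * w * t⁻¹ = w⁻¹ → Commute w y → w = 1)
    (hcent : ∀ k ∈ K, Commute k t → Commute k f0)
    (hOs : ∀ L : Subgroup N, L.Normal → L ≤ K → (∀ x ∈ L, ∃ i, x ^ s ^ i ∈ centralizer (W : Set N)) →
      L ≤ centralizer (W : Set N)) :
    ∀ k ∈ K, t * k * t⁻¹ * k⁻¹ ∈ centralizer (W : Set N) := by
  classical
  letI : CommGroup W := { (inferInstance : Group W) with
    mul_comm := fun a b => Subtype.ext (hWc a a.2 b b.2) }
  have hV : ∀ x : W, x ^ s = 1 := fun x => Subtype.ext (by rw [SubgroupClass.coe_pow]; exact hW x x.2)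
  set φ : N →* MulAut W := MulAut.conjNormal with hφ
  have hφC : ∀ {x : N}, φ x = 1 ↔ x ∈ centralizer (W : Set N) := fun {x} => by
    rw [mem_centralizer_iff, MulEquiv.ext_iff]
    constructor
    · intro h w hw
      have := congrArg Subtype.val (h ⟨w, hw⟩)
      rw [hφ, MulAut.conjNormal_apply] at this
      exact (mul_inv_eq_iff_eq_mul.1 this).symm
    · intro h w
      refine Subtype.ext ?_
      rw [hφ, MulAut.conjNormal_apply, ← h w w.2, mul_inv_cancel_right]
      rfl
  set τ := φ t with hτdef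
  set η := φ y with hηdef
  have hτ2 : τ * τ = 1 := by rw [hτdef, ← map_mul, ht, map_one]
  have hτi : τ⁻¹ = τ := inv_eq_of_mul_eq_one_right hτ2
  have hτη : Commute τ η := hty.map φ
  have hap : ∀ (g h : MulAut W) (x : W), g (h x) = (g * h) x := fun _ _ _ => rfl
  set Kb := K.map φ with hKb
  haveI hKsol : Group.IsSolvable Kb := OddOrderTheorem.solvable (hK.of_dvd_nat (card_map_dvd K φ))
  set v0 : W := ⟨f0, hf0⟩
  have hτv : τ v0 = v0 := Subtype.ext (by
    rw [hτdef, hφ, MulAut.conjNormal_apply, ← hft.eq, mul_inv_cancel_right])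
  have hηv : η v0 = v0 := Subtype.ext (by
    rw [hηdef, hφ, MulAut.conjNormal_apply, ← hfy.eq, mul_inv_cancel_right])
  have hfixV : ∀ x : W, τ x = x → x ∈ zpowers v0 := fun x hx => by
    have h1 := congrArg Subtype.val hx
    rw [hτdef, hφ, MulAut.conjNormal_apply] at h1
    obtain ⟨j, hj⟩ := mem_zpowers_iff.1 (hfix x x.2 (mul_inv_eq_iff_eq_mul.1 h1).symm)
    exact mem_zpowers_iff.2 ⟨j, Subtype.ext (by rw [SubgroupClass.coe_zpow]; exact hj)⟩
  have hyV : ∀ x : W, τ x = x⁻¹ → η x = x → x = 1 := fun x h1 h2 => by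
    have e1 := congrArg Subtype.val h1
    have e2 := congrArg Subtype.val h2
    rw [hτdef, hφ, MulAut.conjNormal_apply] at e1
    rw [hηdef, hφ, MulAut.conjNormal_apply] at e2
    exact Subtype.ext (hfpf x x.2 e1 (mul_inv_eq_iff_eq_mul.1 e2).symm)
  -- fixed elements of the image fix the line
  have hfixed : ∀ b ∈ Kb, Commute τ b → b v0 = v0 := by
    rintro _ ⟨k, hk, rfl⟩ hc
    set E := K ⊓ centralizer (W : Set N)
    have hkE : t * k * t⁻¹ * k⁻¹ ∈ E := by
      refine ⟨K.mul_mem ((inferInstance : K.Normal).conj_mem k hk t) (K.inv_mem hk), hφC.1 ?_⟩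
      rw [map_mul, map_mul, map_mul, map_inv, map_inv, ← hτdef, hc.eq, mul_inv_cancel_right, mul_inv_cancel]
    obtain ⟨e, he, hec⟩ := exists_fixed_mul (hK.of_dvd_nat (card_dvd_of_le inf_le_left)) ht hkE
    have h2 : φ (e * k) = φ k := by rw [map_mul, hφC.2 he.2, one_mul]
    rw [← h2]
    exact Subtype.ext (by
      rw [hφ, MulAut.conjNormal_apply, (hcent _ (K.mul_mem he.1 hk) hec).eq, mul_inv_cancel_right])
  -- invariant `s'`-subgroups of the image are centralised
  have key : ∀ n, ∀ B : Subgroup (MulAut W), Nat.card B = n → B ≤ Kb → (∀ b ∈ B, τ * b * τ⁻¹ ∈ B) →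
      (∀ b ∈ B, η * b * η⁻¹ ∈ B) → ¬ s ∣ Nat.card B → ∀ b ∈ B, Commute τ b := by
    intro n
    induction n using Nat.strong_induction_on with
    | _ n ih =>
    intro B hn hBK hBτ hBη hBs b hb
    subst hn
    by_cases hB1 : B = ⊥
    · rw [hB1, mem_bot] at hb
      rw [hb]; exact Commute.one_right τ
    haveI : Group.IsSolvable B := Coprime.isSolvable_of_le hBK hKsol
    set B' := ⁅B, B⁆
    have hlt : B' < B := Solvable.commutator_lt_of_solvable hB1
    have hB'inv : ∀ g, (∀ b ∈ B, g * b * g⁻¹ ∈ B) → ∀ c ∈ B', g * c * g⁻¹ ∈ B' := fun g hg c hc => by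
      have h1 : B'.map (MulAut.conj g).toMonoidHom ≤ B' := by
        rw [map_commutator]
        exact commutator_mono (fun x hx => by obtain ⟨z, hz, rfl⟩ := hx; exact hg z hz)
          (fun x hx => by obtain ⟨z, hz, rfl⟩ := hx; exact hg z hz)
      exact h1 ⟨c, hc, rfl⟩
    have hB's : ∀ c ∈ B', Commute τ c := ih _
      (lt_of_le_of_ne (card_le_of_le hlt.le) fun e => hlt.ne (eq_of_le_of_card_ge hlt.le e.ge)) B' rfl
      (hlt.le.trans hBK) (hB'inv τ hBτ) (hB'inv η hBη) (fun h => hBs (h.trans (card_dvd_of_le hlt.le)))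
    have hBB : ∀ g ∈ B, ∀ c ∈ B', g * c * g⁻¹ ∈ B' := fun g hg =>
      hB'inv g fun x hx => B.mul_mem (B.mul_mem hg hx) (B.inv_mem hg)
    -- inverted elements are trivial
    have hinv : ∀ m ∈ B, τ * m * τ⁻¹ = m⁻¹ → m = 1 := by
      intro m hm hmi
      set U : Subgroup W :=
        { carrier := {x | ∀ c ∈ B', c x = x}
          one_mem' := fun c _ => map_one c
          mul_mem' := fun {a b} ha hb c hc => by rw [map_mul, ha c hc, hb c hc]
          inv_mem' := fun {a} ha c hc => by rw [map_inv, ha c hc] } with hU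
      have hUinv : ∀ g : MulAut W, (∀ c ∈ B', g⁻¹ * c * g ∈ B') → ∀ x ∈ U, g x ∈ U := fun g hg x hx c hc => by
        have h1 := hx _ (hg c hc)
        rw [MulAut.mul_apply, MulAut.mul_apply] at h1
        have := congrArg g h1
        rwa [MulAut.apply_inv_self] at this
      have hmU : ∀ g ∈ B, ∀ x ∈ U, g x ∈ U := fun g hg => hUinv g fun c hc => by
        simpa using hBB g⁻¹ (B.inv_mem hg) c hc
      set m' := η * m * η⁻¹ with hm'
      have hm'B : m' ∈ B := hBη m hm
      have hcB : ∀ a ∈ B, ∀ c ∈ B, ∀ x ∈ U, a (c x) = c (a x) := fun a ha c hc x hx => by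
        have h1 : ⁅a, c⁆ ∈ B' := commutator_mem_commutator ha hc
        have h2 := hmU c hc (a x) (hmU a ha x hx) _ h1
        rwa [hap c a x, ← MulAut.mul_apply, show ⁅a, c⁆ * (c * a) = a * c by
          rw [commutatorElement_def]; group, MulAut.mul_apply, MulAut.mul_apply] at h2
      have hord : ∃ k : ℕ, Odd k ∧ ¬ s ∣ k ∧ m ^ k = 1 := by
        refine ⟨orderOf m, (hK.of_dvd_nat ((card_dvd_of_le hBK).trans (card_map_dvd K φ))).of_dvd_nat ?_, fun h =>
          hBs (h.trans ?_), pow_orderOf_eq_one m⟩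
        all_goals exact orderOf_mk m hm ▸ orderOf_dvd_natCard (⟨m, hm⟩ : B)
      obtain ⟨k, hk, hks, hmk⟩ := hord
      have hiter : ∀ (g : MulAut W) (i : ℕ) (x : W), (g : W →* W)^[i] x = (g ^ i) x := fun g i => by
        induction i with
        | zero => intro x; rfl
        | succ i ih' => intro x; rw [Function.iterate_succ_apply', ih', pow_succ']; rfl
      have hmn : ∀ x, m (m⁻¹ x) = x := fun x => MulAut.apply_inv_self _ _ x
      have hnm : ∀ x, m⁻¹ (m x) = x := fun x => MulAut.inv_apply_self _ _ x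
      have hτm : ∀ x, τ (m x) = m⁻¹ (τ x) := fun x => by
        rw [← MulAut.mul_apply, ← MulAut.mul_apply, ← hmi, inv_mul_cancel_right]
      have hτn : ∀ x, τ (m⁻¹ x) = m (τ x) := fun x => by
        have h1 := hτm (τ x)
        rw [hap τ τ, hτ2, MulAut.one_apply] at h1
        rw [← h1, hap τ τ, hτ2, MulAut.one_apply]
      have hf0' : m v0 = v0 := rot_fixes hs2 hV (τ := (τ : W →* W)) (η := (η : W →* W)) (m := (m : W →* W))
        (n := ((m⁻¹ : MulAut W) : W →* W)) (m' := (m' : W →* W)) (n' := ((m'⁻¹ : MulAut W) : W →* W))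
        hmn hnm (fun x => (hap τ τ x).trans (by rw [hτ2]; rfl))
        (fun x => by
          show η (η (η x)) = x
          rw [← MulAut.mul_apply, ← MulAut.mul_apply, hηdef, ← map_mul, ← map_mul,
            show y * y * y = y ^ 3 by rw [pow_succ, pow_two], hy3, map_one]
          rfl)
        (fun x => by show τ (η x) = η (τ x); rw [← MulAut.mul_apply, ← MulAut.mul_apply, hτη.eq]) hτm
        (fun x => by
          show η (m x) = m' (η x)
          rw [← MulAut.mul_apply, ← MulAut.mul_apply, hm', inv_mul_cancel_right])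
        (fun x => by
          show η (m⁻¹ x) = m'⁻¹ (η x)
          rw [← MulAut.mul_apply, ← MulAut.mul_apply, hm', mul_inv_rev, mul_inv_rev, inv_inv, mul_assoc,
            inv_mul_cancel_right])
        hτv hηv hfixV hyV U
        (fun c hc => hfixed c (hBK (hlt.le hc)) (hB's c hc))
        (hmU m hm) (hmU m⁻¹ (B.inv_mem hm))
        (hUinv η fun c hc => by
          -- `η` has finite order
          have h3 : η⁻¹ = η * η := inv_eq_of_mul_eq_one_right (by
            rw [hηdef, ← map_mul, ← map_mul, show y * (y * y) = y ^ 3 by rw [pow_succ, pow_two, mul_assoc], hy3,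
              map_one])
          have := hB'inv η hBη _ (hB'inv η hBη c hc)
          rwa [show η * (η * c * η⁻¹) * η⁻¹ = η * η * c * (η * η)⁻¹ by group, ← h3, inv_inv] at this)
        (fun x hx => ⟨hcB m hm m' hm'B x hx, hcB m hm _ (B.inv_mem hm'B) x hx,
          hcB _ (B.inv_mem hm) m' hm'B x hx, hcB _ (B.inv_mem hm) _ (B.inv_mem hm'B) x hx⟩)
        ⟨k, hk, hks, fun x => by rw [hiter, hmk]; rfl⟩
      -- so `m` is trivial
      have hneg : ∀ x : W, τ x = x⁻¹ → m x = x := fun x hx => by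
        obtain ⟨a, ha⟩ := mem_zpowers_iff.1 (hfixV (m x / m⁻¹ x) (by
          rw [map_div, hτm, hτn, hx, map_inv, map_inv, inv_div_inv]))
        have h2 : m (m x) = x * v0 ^ a := by
          have := congrArg m ha
          rw [map_zpow, hf0', map_div, hmn] at this
          rw [this, mul_comm, div_mul_cancel]
        have hpow : ∀ j : ℕ, (m ^ (2 * j)) x = x * v0 ^ ((j : ℤ) * a) := fun j => by
          induction j with
          | zero => simp
          | succ j ih' =>
            rw [show 2 * (j + 1) = 2 + 2 * j by ring, pow_add, MulAut.mul_apply, ih', pow_two, MulAut.mul_apply,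
              map_mul, map_mul, map_zpow, map_zpow, hf0', hf0', h2, mul_assoc, ← zpow_add]
            push_cast
            ring_nf
        have h3 := hpow k
        rw [mul_comm 2 k, pow_mul, hmk, one_pow, MulAut.one_apply, left_eq_mul] at h3
        have ha1 : v0 ^ a = 1 := eq_one_of_zpow hV (n := (k : ℤ)) (fun h => hks (by exact_mod_cast h))
          (by rw [← zpow_mul, mul_comm, h3])
        rw [ha1, mul_one] at h2
        obtain ⟨j, rfl⟩ := hk
        have h4 := DFunLike.congr_fun hmk x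
        rw [pow_succ', MulAut.mul_apply] at h4
        have h5 : (m ^ (2 * j)) x = x := by
          rw [hpow j, mul_comm (j : ℤ), zpow_mul, ha1, one_zpow, mul_one]
        rw [h5] at h4
        exact h4
      refine MulEquiv.ext fun x => sq_inj hV hs2 ?_
      have h1 : m (x * τ x) = x * τ x := by
        obtain ⟨j, hj⟩ := mem_zpowers_iff.1 (hfixV (x * τ x) (by
          rw [map_mul, hap τ τ, hτ2, MulAut.one_apply, mul_comm]))
        rw [← hj, map_zpow, hf0']
      have h2 : m (x / τ x) = x / τ x := hneg _ (by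
        rw [map_div, hap τ τ, hτ2, MulAut.one_apply, inv_div])
      have e : x * τ x * (x / τ x) = x * x := by
        rw [mul_comm x (τ x), mul_assoc, mul_comm (τ x), mul_assoc, div_mul_cancel]
      rw [MulAut.one_apply, ← map_mul, ← e, map_mul, h1, h2]
    have hd := hinv (τ * b * τ⁻¹ * b⁻¹) (B.mul_mem (hBτ b hb) (B.inv_mem hb)) (by
      rw [mul_inv_rev, mul_inv_rev, mul_inv_rev, inv_inv, inv_inv, hτi]
      simp only [mul_assoc, ← mul_assoc τ τ, hτ2, one_mul, mul_one])
    show τ * b = b * τ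
    exact mul_inv_eq_iff_eq_mul.1 (mul_inv_eq_one.1 hd)
  -- the Fitting subgroup of the image
  set F := (Cfsg.fittingSubgroup Kb).map Kb.subtype with hF
  have hnorm : ∀ g : N, φ g ∈ normalizer (Kb : Set (MulAut W)) := fun g =>
    le_normalizer_map φ ⟨g, by rw [normalizer_eq_top K]; exact mem_top g, rfl⟩
  have hnF : ∀ g : N, ∀ b ∈ F, φ g * b * (φ g)⁻¹ ∈ F := fun g b hb =>
    (mem_normalizer_iff.1 (Cores.normalizer_le_normalizer_map _ (hnorm g)) b).1 hb
  have hFs : ¬ s ∣ Nat.card F := by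
    rw [hF, Cores.card_map_subtype]
    intro hdvd
    haveI hnil : Group.IsNilpotent (Cfsg.fittingSubgroup Kb) := Cores.isNilpotent_of_le_fittingSubgroup le_rfl
    obtain ⟨P⟩ : Nonempty (Sylow s (Cfsg.fittingSubgroup Kb)) := inferInstance
    have hP : (P : Subgroup (Cfsg.fittingSubgroup Kb)).Normal := Sylow.normal_of_normalizerCondition Group.normalizerCondition_of_isNilpotent P
    have hcore : Cfsg.pCore s Kb = ⊥ := by
      set L' := (Cfsg.pCore s Kb).map Kb.subtype with hL'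
      have hLn : (K ⊓ L'.comap φ).Normal := ⟨fun x hx g => ⟨(inferInstance : K.Normal).conj_mem x hx.1 g, by
        show φ (g * x * g⁻¹) ∈ L'
        rw [map_mul, map_mul, map_inv]
        exact (mem_normalizer_iff.1 (Cores.normalizer_le_normalizer_map _ (hnorm g)) _).1 hx.2⟩⟩
      have hle := hOs _ hLn inf_le_left fun x hx => by
        obtain ⟨i, hi⟩ := ((Cores.isPGroup_pCore s Kb).map Kb.subtype) ⟨φ x, hx.2⟩
        refine ⟨i, hφC.1 ?_⟩
        rw [map_pow]
        exact congrArg Subtype.val hi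
      refine eq_bot_iff.2 fun z hz => ?_
      obtain ⟨k, hk, hkz⟩ := z.2
      have : k ∈ K ⊓ L'.comap φ := ⟨hk, show φ k ∈ L' from hkz ▸ ⟨z, hz, rfl⟩⟩
      exact Subtype.ext (hkz.symm.trans (hφC.2 (hle this)))
    have hcore2 : Cfsg.pCore s (Cfsg.fittingSubgroup Kb) = ⊥ := by
      have := Cores.pCore_fittingSubgroup (G := Kb) s
      rw [hcore] at this
      exact (map_eq_bot_iff_of_injective _ (subtype_injective _)).1 this
    have hPb : (P : Subgroup (Cfsg.fittingSubgroup Kb)) = ⊥ := le_bot_iff.1 (hcore2 ▸ Cores.le_pCore hP P.2)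
    exact (P.dvd_card_of_dvd_card hdvd).trans (by rw [hPb, card_bot]) |> (Fact.out : s.Prime).not_dvd_one
  have hFc : ∀ b ∈ F, Commute τ b := key _ F rfl (map_subtype_le _) (hnF t) (hnF y) hFs
  intro k hk
  rw [← hφC]
  set d := φ (t * k * t⁻¹ * k⁻¹) with hd
  have hdK : d ∈ Kb := ⟨_, K.mul_mem ((inferInstance : K.Normal).conj_mem k hk t) (K.inv_mem hk), rfl⟩
  have hdF : d ∈ F := by
    refine ⟨⟨d, hdK⟩, Solvable.centralizer_fitting_le Kb (mem_centralizer_iff.2 fun v hv => Subtype.ext ?_), rfl⟩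
    have hvF : (v : MulAut W) ∈ F := ⟨v, hv, rfl⟩
    have h1 := hFc _ hvF
    have h2 := hFc _ (hnF k⁻¹ _ hvF)
    rw [map_inv, inv_inv] at h2
    show (v : MulAut W) * d = d * v
    have h3 : φ k * (τ⁻¹ * ((φ k)⁻¹ * v * φ k) * τ) * (φ k)⁻¹ = v := by
      rw [mul_assoc τ⁻¹, ← h2.eq]; group
    rw [hd, map_mul, map_mul, map_mul, map_inv, map_inv, ← hτdef]
    calc (v : MulAut W) * (τ * φ k * τ⁻¹ * (φ k)⁻¹)
        = τ * v * φ k * τ⁻¹ * (φ k)⁻¹ := by rw [← mul_assoc, ← mul_assoc, ← mul_assoc, ← h1.eq]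
      _ = τ * (φ k * (τ⁻¹ * ((φ k)⁻¹ * v * φ k) * τ) * (φ k)⁻¹) * φ k * τ⁻¹ * (φ k)⁻¹ := by rw [h3]
      _ = τ * φ k * τ⁻¹ * (φ k)⁻¹ * v := by group
  -- `d` is both fixed and inverted
  have h1 := hFc d hdF
  have h2 : τ * d * τ⁻¹ = d⁻¹ := by
    rw [hd, map_mul, map_mul, map_mul, map_inv, map_inv, ← hτdef, mul_inv_rev, mul_inv_rev, mul_inv_rev, inv_inv,
      inv_inv, hτi]
    simp only [mul_assoc, ← mul_assoc τ τ, hτ2, one_mul, mul_one]
  rw [h1.eq, mul_inv_cancel_right] at h2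
  obtain ⟨j, hj⟩ := hK.of_dvd_nat (card_map_dvd K φ)
  have h3 : d ^ (2 * j + 1) = 1 := by
    rw [← hj]; exact congrArg Subtype.val (pow_card_eq_one' (x := (⟨d, hdK⟩ : Kb)))
  rwa [pow_succ, pow_mul, pow_two, show d * d = 1 by nth_rewrite 2 [h2]; exact mul_inv_cancel d, one_pow,
    one_mul] at h3

end Group

end Cfsg.Agent.AbelianSylow.Scalar
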