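import Cfsg.Agent.EqLemmas
import Mathlib

/-!
# No field automorphism, case (B): the hypotheses of the transfer argument (owner: helper88)

* `Scalar.Setting` : `f` generates a Sylow `s`-subgroup of `C(t)`, `⟨f⟩ P` is one of `C(f)`, `P` is inverted by `t`,
  and `y` of order three is a scalar on `P`; `Scalar.Setting.false_of_simple` (file `FieldScalar`) is the consequence
-/

set_option autoImplicit false

namespace Cfsg.Agent.AbelianSylow.Scalar

open Subgroup

universe u v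

/-- The hypotheses of the transfer argument. -/
structure Setting {G : Type u} [Group G] [Finite G] {A : Type v} [CommGroup A] (s : ℕ) (t f y : G)
    (P : Subgroup G) (ω : ℕ) (ρ : ↥(centralizer ({t} : Set G)) →* A) : Prop where
  five : 5 ≤ s
  sylow_two : ∀ T : Sylow 2 G, IsMulCommutative ↥(T : Subgroup G)
  one_class : ∀ i : G, orderOf i = 2 → IsConj t i
  invol : orderOf t = 2
  f_cent : Commute f t
  f_ne : f ≠ 1
  f_pgroup : IsPGroup s (zpowers f)
  f_max : ¬ s ∣ (zpowers f).relIndex (centralizer ({t} : Set G))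
  rho_inj : ∀ x ∈ zpowers f, ∀ h : x ∈ centralizer ({t} : Set G), ρ ⟨x, h⟩ = 1 → x = 1
  y_cent : Commute y t
  y_f : Commute y f
  y_cube : y ^ 3 = 1
  P_pgroup : IsPGroup s P
  P_ne : P ≠ ⊥
  P_inv : ∀ x ∈ P, t * x * t⁻¹ = x⁻¹
  P_f : ∀ x ∈ P, Commute x f
  P_max : ¬ s ∣ (zpowers f ⊔ P).relIndex (centralizer ({f} : Set G))
  omega : ∀ x ∈ P, y * x * y⁻¹ = x ^ ω
  omega_ne : (ω : ZMod s) ≠ 1
  three : ∀ c : G, Commute c t → Commute c f → c ^ 3 = 1 → ∀ z ∈ P, z ≠ 1 → c * z * c⁻¹ ∈ P → c ∈ zpowers y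

end Cfsg.Agent.AbelianSylow.Scalar
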