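import Cfsg.Agent.Lib.AbelianSylow.Cent.FieldEigen
import Cfsg.Agent.Lib.AbelianSylow.Cent.FieldScalarRot
import Cfsg.Agent.Lib.AbelianSylow.Cent.FieldScalarSetting
import Cfsg.Agent.Lib.Transfer.Focal
import Cfsg.Agent.Lib.AbelianTwoFactor.Basic
import Cfsg.Agent.Lib.ZStar.KleinOrder

/-!
# No field automorphism, case (B): first consequences of `Scalar.Setting` (owner: helper88)

* `OnR`                          : what is used of a Sylow subgroup normalised by `t` and `y`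
* `Setting.eq_one_of_inverted`   : an `s`-element inverted by an involution and centralised by one is trivial
* `Setting.onR`                  : a `⟨t, y⟩`-invariant `s`-subgroup over `⟨f⟩ P` satisfies `OnR`
-/

set_option autoImplicit false
set_option linter.style.haveILetI false
set_option linter.unusedSectionVars false

namespace Cfsg.Agent.AbelianSylow.Scalar

open Subgroup

universe u v

variable {G : Type u} [Group G] [Finite G]

/-- Conjugation by `g` on a subgroup it normalises. -/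
def conjOn (R : Subgroup G) {g : G} (hg : g ∈ normalizer (R : Set G)) : R →* R :=
  ((MulAut.conj g).toMonoidHom.comp R.subtype).codRestrict R fun x => (mem_normalizer_iff.1 hg x).1 x.2

theorem conjOn_apply (R : Subgroup G) {g : G} (hg : g ∈ normalizer (R : Set G)) (x : R) :
    (conjOn R hg x : G) = g * x * g⁻¹ := rfl

/-- What is used of a Sylow subgroup normalised by `t` and `y`. -/
structure OnR (s ω : ℕ) (t y f : G) (R : Subgroup G) : Prop where
  pgroup : IsPGroup s R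
  ne_two : s ≠ 2
  ne_three : s ≠ 3
  t_norm : t ∈ normalizer (R : Set G)
  y_norm : y ∈ normalizer (R : Set G)
  f_mem : f ∈ R
  fixed : ∀ x ∈ R, Commute x t → x ∈ zpowers f
  pow_cube : ∀ x ∈ R, x ^ (ω ^ 3) = x
  root : (ω : ZMod s) ^ 2 ≠ 1
  scalar : ∀ x ∈ R, t * x * t⁻¹ = x⁻¹ → y * x * y⁻¹ = x ^ ω

theorem sq_one_of_orderOf {t : G} (h : orderOf t = 2) : t * t = 1 := by
  rw [← pow_two, ← h, pow_orderOf_eq_one]

namespace OnR

variable {s ω : ℕ} [Fact s.Prime] {t y f : G} {R : Subgroup G}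

theorem toData (h : OnR s ω t y f R) (ht : t * t = 1) (hy : y ^ 3 = 1) (hty : Commute t y) (hft : Commute f t)
    (hfy : Commute f y) :
    Eigen.Data s ω R (conjOn R h.t_norm) (conjOn R h.y_norm) ⟨f, h.f_mem⟩ where
  pgroup := h.pgroup
  ne_two := h.ne_two
  ne_three := h.ne_three
  sq x := Subtype.ext (by
    simp only [conjOn_apply]
    rw [show t * (t * x * t⁻¹) * t⁻¹ = t * t * x * (t * t)⁻¹ by group, ht]; group)
  cube x := Subtype.ext (by
    simp only [conjOn_apply]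
    rw [show y * (y * (y * x * y⁻¹) * y⁻¹) * y⁻¹ = y ^ 3 * x * (y ^ 3)⁻¹ by
      rw [pow_succ, pow_two]; group, hy]; group)
  comm x := Subtype.ext (by
    simp only [conjOn_apply]
    rw [show y * (t * x * t⁻¹) * y⁻¹ = y * t * x * (y * t)⁻¹ by group,
      show t * (y * x * y⁻¹) * t⁻¹ = t * y * x * (t * y)⁻¹ by group, hty.eq])
  fixf := Subtype.ext (by rw [conjOn_apply]; show t * f * t⁻¹ = f; rw [← hft.eq, mul_inv_cancel_right])
  etaf := Subtype.ext (by rw [conjOn_apply]; show y * f * y⁻¹ = f; rw [← hfy.eq, mul_inv_cancel_right])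
  fixed x hx := by
    have h1 : t * (x : G) * t⁻¹ = x := congrArg Subtype.val hx
    obtain ⟨k, hk⟩ := mem_zpowers_iff.1 (h.fixed x x.2 (mul_inv_eq_iff_eq_mul.1 h1).symm)
    exact mem_zpowers_iff.2 ⟨k, Subtype.ext (by rw [SubgroupClass.coe_zpow]; exact hk)⟩
  pow_cube x := Subtype.ext (by rw [SubgroupClass.coe_pow]; exact h.pow_cube x x.2)
  root := h.root
  scalar x _ hx := Subtype.ext (by rw [SubgroupClass.coe_pow]; exact h.scalar x x.2 (congrArg Subtype.val hx))

/-- An inverted element commuting with `y` is trivial. -/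
theorem eq_one_of_commute (h : OnR s ω t y f R) {x : G} (hx : x ∈ R) (hinv : t * x * t⁻¹ = x⁻¹)
    (hc : Commute x y) : x = 1 := by
  have h1 := h.scalar x hx hinv
  rw [← hc.eq, mul_inv_cancel_right] at h1
  have h3 : (⟨x, hx⟩ : R) ^ (((ω ^ 2 : ℕ) : ℤ) - 1) = 1 := Subtype.ext (by
    rw [SubgroupClass.coe_zpow]
    show x ^ (((ω ^ 2 : ℕ) : ℤ) - 1) = 1
    rw [zpow_sub, zpow_natCast, zpow_one, pow_two, pow_mul, ← h1, ← h1, mul_inv_cancel])
  have h4 := Eigen.eq_one_of_pow h.pgroup (by push_cast; exact sub_ne_zero.2 h.root) h3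
  exact congrArg Subtype.val h4

/-- A nontrivial inverted element gives a central inverted element of order `s`. -/
theorem exists_central_inverted (h : OnR s ω t y f R) (ht : t * t = 1) (hy : y ^ 3 = 1) (hty : Commute t y)
    (hft : Commute f t) (hfy : Commute f y) {x : G} (hx : x ∈ R) (hx1 : x ≠ 1) (hxi : t * x * t⁻¹ = x⁻¹) :
    ∃ z ∈ R, orderOf z = s ∧ t * z * t⁻¹ = z⁻¹ ∧ ∀ g ∈ R, Commute z g := by
  have hD := h.toData ht hy hty hft hfy
  set τ := conjOn R h.t_norm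
  set η := conjOn R h.y_norm
  have hsc : ∀ b : R, τ b = b⁻¹ → η b = b ^ ω := fun b hb =>
    Subtype.ext (by rw [SubgroupClass.coe_pow]; exact h.scalar b b.2 (congrArg Subtype.val hb))
  suffices key : ∃ z : R, z ≠ 1 ∧ τ z = z⁻¹ ∧ z ∈ center R by
    obtain ⟨z, hz1, hzi, hzc⟩ := key
    obtain ⟨k, hk⟩ := h.pgroup.exists_orderOf_eq_pow z
    rcases k with _ | k
    · exact absurd (orderOf_eq_one_iff.1 (by simpa using hk)) hz1
    have ho : orderOf (z ^ s ^ k) = s := by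
      rw [orderOf_pow' z (pow_ne_zero k (Fact.out : s.Prime).ne_zero), hk,
        Nat.gcd_eq_right (pow_dvd_pow s k.le_succ), pow_succ,
        Nat.mul_div_cancel_left _ (pow_pos (Fact.out : s.Prime).pos k)]
    have hi : τ (z ^ s ^ k) = (z ^ s ^ k)⁻¹ := by rw [map_pow, hzi, inv_pow]
    refine ⟨(z ^ s ^ k : R), SetLike.coe_mem _, by rw [orderOf_coe, ho], congrArg Subtype.val hi, fun g hg => ?_⟩
    exact congrArg Subtype.val (mem_center_iff.1 (pow_mem hzc (s ^ k)) ⟨g, hg⟩).symm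
  by_contra hne
  push Not at hne
  set Z := center R with hZdef
  have hZ : ∀ z ∈ Z, ∀ v, Commute z v := fun z hz v => (mem_center_iff.1 hz v).symm
  have hτZ : ∀ z ∈ Z, τ z ∈ Z := fun z hz => mem_center_iff.2 fun g => by
    have e := congrArg τ (mem_center_iff.1 hz (τ g))
    rwa [map_mul, map_mul, hD.sq] at e
  have hA : ∀ z ∈ Z, τ z = z := fun z hz => by
    by_contra hne'
    refine hne (z * (τ z)⁻¹) (fun e => hne' (mul_inv_eq_one.1 e).symm) ?_ (mul_mem hz (inv_mem (hτZ z hz)))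
    rw [map_mul, map_inv, hD.sq, mul_inv_rev, inv_inv]
  have hZf : ∀ z ∈ Z, η z = z := fun z hz => by
    obtain ⟨k, rfl⟩ := mem_zpowers_iff.1 (hD.fixed z (hA z hz))
    rw [map_zpow, hD.etaf]
  -- a commutator of an inverted and a fixed element lying in the centre is trivial
  have hfc : ∀ b g, τ b = b⁻¹ → τ g = g → b * g * b⁻¹ * g⁻¹ ∈ Z → Commute b g := by
    intro b g hb hg hc
    obtain ⟨c, hce⟩ : ∃ c, c = b * g * b⁻¹ * g⁻¹ := ⟨_, rfl⟩
    rw [← hce] at hc
    have h1 : b * g = c * g * b := by rw [hce]; group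
    have h2 : τ c = c⁻¹ := by
      rw [hce, map_mul, map_mul, map_mul, map_inv, map_inv, hb, hg, inv_inv, ← hce]
      have e : b⁻¹ * g = c⁻¹ * g * b⁻¹ := by
        calc b⁻¹ * g = b⁻¹ * (c⁻¹ * (c * g * b)) * b⁻¹ := by group
          _ = c⁻¹ * b⁻¹ * (b * g) * b⁻¹ := by rw [← h1, ← mul_assoc, ← ((hZ c hc b).inv_inv).eq]
          _ = c⁻¹ * g * b⁻¹ := by group
      rw [e]; group
    have h3 := hD.eq_one_of_fixed_inverted (hA c hc) h2
    exact h1.trans (by rw [h3, one_mul])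
  have hprod : ∀ v, ∃ a b, τ a = a ∧ τ b = b⁻¹ ∧ v = a * b := fun v => by
    obtain ⟨w, -, hwf, hw⟩ := hD.exists_fixed_mul v
    exact ⟨v * w, w⁻¹, hwf, by rw [map_inv, hw], by group⟩
  haveI : Nontrivial R := ⟨⟨⟨x, hx⟩, 1, fun e => hx1 (congrArg Subtype.val e)⟩⟩
  haveI : Nontrivial (R ⧸ Z) := by
    rw [← Finite.one_lt_card_iff_nontrivial]
    refine Nat.lt_of_le_of_ne Nat.card_pos fun e => hne ⟨x, hx⟩ (fun e' => hx1 (congrArg Subtype.val e'))
      (Subtype.ext hxi) ?_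
    rw [show Z = ⊤ from index_eq_one.1 e.symm]
    exact mem_top _
  haveI : Nontrivial (center (R ⧸ Z)) := (h.pgroup.to_quotient Z).center_nontrivial
  obtain ⟨⟨u, hu⟩, hu1⟩ := exists_ne (1 : center (R ⧸ Z))
  obtain ⟨v, rfl⟩ := QuotientGroup.mk'_surjective Z u
  have hcen : ∀ g, v * g * v⁻¹ * g⁻¹ ∈ Z := fun g => (QuotientGroup.eq_one_iff _).1 (by
    simp only [QuotientGroup.mk_mul, QuotientGroup.mk_inv]
    rw [show (QuotientGroup.mk v : R ⧸ Z) * QuotientGroup.mk g = QuotientGroup.mk g * QuotientGroup.mk v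
      from (mem_center_iff.1 hu _).symm]
    group)
  have hvZ : v ∉ Z := fun hv => hu1 (Subtype.ext ((QuotientGroup.eq_one_iff v).2 hv))
  obtain ⟨w, hw, hwf, hwi⟩ := hD.exists_fixed_mul v
  have hcenw : ∀ g, w * g * w⁻¹ * g⁻¹ ∈ Z := fun g => (QuotientGroup.eq_one_iff _).1 (by
    have hwc : (QuotientGroup.mk w : R ⧸ Z) ∈ center (R ⧸ Z) := by
      have hτv : (QuotientGroup.mk (τ v) : R ⧸ Z) ∈ center (R ⧸ Z) := mem_center_iff.2 fun g => by
        obtain ⟨g, rfl⟩ := QuotientGroup.mk'_surjective Z g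
        have h1 : τ (v * τ g * v⁻¹ * (τ g)⁻¹) ∈ Z := hτZ _ (hcen (τ g))
        rw [map_mul, map_mul, map_mul, map_inv, map_inv, hD.sq] at h1
        have h2 := (QuotientGroup.eq_one_iff _).2 h1
        simp only [QuotientGroup.mk_mul, QuotientGroup.mk_inv] at h2
        exact (commutatorElement_eq_one_iff_mul_comm.1 h2).symm
      obtain ⟨k, rfl⟩ := mem_zpowers_iff.1 hw
      rw [QuotientGroup.mk_zpow, QuotientGroup.mk_mul, QuotientGroup.mk_inv]
      exact zpow_mem (mul_mem (inv_mem hu) hτv) k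
    simp only [QuotientGroup.mk_mul, QuotientGroup.mk_inv]
    rw [← mem_center_iff.1 hwc (QuotientGroup.mk g)]
    group)
  have hwc : w ∈ Z := mem_center_iff.2 fun g => by
    obtain ⟨a, b, ha, hb, rfl⟩ := hprod g
    refine ((hfc w a hwi ha (hcenw a)).mul_right ?_).eq.symm
    obtain ⟨c, hce⟩ : ∃ c, c = w * b * w⁻¹ * b⁻¹ := ⟨_, rfl⟩
    have hc : c ∈ Z := hce ▸ hcenw b
    have h1 : w * b * w⁻¹ = c * b := by rw [hce]; group
    have hpw : ∀ i : ℕ, w ^ i * b * (w ^ i)⁻¹ = c ^ i * b := fun i => by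
      induction i with
      | zero => simp
      | succ i ih' =>
        calc w ^ (i + 1) * b * (w ^ (i + 1))⁻¹ = w * (w ^ i * b * (w ^ i)⁻¹) * w⁻¹ := by
              rw [pow_succ']; group
          _ = c ^ i * (w * b * w⁻¹) := by rw [ih', ← mul_assoc, ← ((hZ c hc w).pow_left i).eq]; group
          _ = c ^ (i + 1) * b := by rw [h1, ← mul_assoc, ← pow_succ]
    have e := congrArg η h1
    rw [map_mul, map_mul, map_mul, map_inv, hsc w hwi, hsc b hb, hZf c hc] at e
    rw [show w ^ ω * b ^ ω * (w ^ ω)⁻¹ = (w ^ ω * b * (w ^ ω)⁻¹) ^ ω from conj_pow.symm, hpw,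
      ((hZ c hc b).pow_left ω).mul_pow, ← pow_mul, ← pow_two] at e
    have hc1 : c = 1 := hD.eq_one_of_pow_sq (mul_right_cancel e)
    show w * b = b * w
    rw [hc1, one_mul] at h1
    exact mul_inv_eq_iff_eq_mul.1 h1
  have hw1 : w = 1 := hD.eq_one_of_fixed_inverted (hA w hwc) hwi
  rw [hw1, mul_one] at hwf
  refine hvZ (mem_center_iff.2 fun g => ?_)
  obtain ⟨a, b, ha, hb, rfl⟩ := hprod g
  have hva : Commute v a := by
    obtain ⟨i, rfl⟩ := mem_zpowers_iff.1 (hD.fixed v hwf)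
    obtain ⟨j, rfl⟩ := mem_zpowers_iff.1 (hD.fixed a ha)
    exact Commute.zpow_zpow_self _ i j
  have hvb : Commute v b := (hfc b v hb hwf (by
    have := Z.inv_mem (hcen b)
    rwa [mul_inv_rev, mul_inv_rev, mul_inv_rev, inv_inv, inv_inv, ← mul_assoc, ← mul_assoc] at this)).symm
  exact (hva.mul_right hvb).eq.symm

end OnR

namespace Setting

variable {A : Type v} [CommGroup A] {s : ℕ} [Fact s.Prime] {t f y : G} {P : Subgroup G} {ω : ℕ}
  {ρ : ↥(centralizer ({t} : Set G)) →* A}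

theorem ne_two (h : Setting s t f y P ω ρ) : s ≠ 2 := by have := h.five; omega

theorem ne_three (h : Setting s t f y P ω ρ) : s ≠ 3 := by have := h.five; omega

theorem sq (h : Setting s t f y P ω ρ) : t * t = 1 := sq_one_of_orderOf h.invol

theorem eq_one_of_sq_eq (h : Setting s t f y P ω ρ) {X : Subgroup G} (hX : IsPGroup s X) {x : G} (hx : x ∈ X)
    (e : x = x⁻¹) : x = 1 := by
  have h1 := Eigen.eq_one_of_pow hX (x := (⟨x, hx⟩ : X)) (n := 2) (fun e2 => by
      have h2 : ((2 : ℕ) : ZMod s) = 0 := by simpa using e2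
      rw [ZMod.natCast_eq_zero_iff] at h2
      exact h.ne_two ((Nat.prime_dvd_prime_iff_eq (Fact.out : s.Prime) Nat.prime_two).1 h2)) (Subtype.ext (by
    rw [show (2 : ℤ) = 1 + 1 from rfl, zpow_add, zpow_one]
    show x * x = 1
    nth_rewrite 2 [e]
    exact mul_inv_cancel x))
  exact congrArg Subtype.val h1

/-- An element of `C(t)` normalising a subgroup of `⟨f⟩` centralises it. -/
theorem auto (h : Setting s t f y P ω ρ) {c x : G} (hc : Commute c t) (hx : x ∈ zpowers f)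
    (hcx : c * x * c⁻¹ ∈ zpowers f) : Commute c x := by
  have hxC : x ∈ centralizer ({t} : Set G) := by
    obtain ⟨k, rfl⟩ := mem_zpowers_iff.1 hx
    exact mem_centralizer_singleton_iff.2 (h.f_cent.zpow_left k).eq
  have hcC : c ∈ centralizer ({t} : Set G) := mem_centralizer_singleton_iff.2 hc.eq
  have hdC : c * x * c⁻¹ * x⁻¹ ∈ centralizer ({t} : Set G) :=
    mul_mem (mul_mem (mul_mem hcC hxC) (inv_mem hcC)) (inv_mem hxC)
  have h1 := h.rho_inj _ (mul_mem hcx (inv_mem hx)) hdC (by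
    rw [show (⟨c * x * c⁻¹ * x⁻¹, hdC⟩ : centralizer ({t} : Set G)) = ⟨c, hcC⟩ * ⟨x, hxC⟩ * ⟨c, hcC⟩⁻¹ * ⟨x, hxC⟩⁻¹
      from rfl, map_mul, map_mul, map_mul, map_inv, map_inv, mul_comm (ρ ⟨c, hcC⟩), mul_inv_cancel_right,
      mul_inv_cancel])
  exact mul_inv_eq_iff_eq_mul.1 (mul_inv_eq_one.1 h1)

/-- `s`-subgroups of `C(t)` are conjugate into `⟨f⟩`. -/
theorem exists_conj (h : Setting s t f y P ω ρ) {X : Subgroup G} (hX : IsPGroup s X)
    (hXt : ∀ x ∈ X, Commute x t) : ∃ c, Commute c t ∧ ∀ x ∈ X, c * x * c⁻¹ ∈ zpowers f := by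
  obtain ⟨c, hc, hle⟩ := Transfer.exists_conj_le_of_not_dvd_relIndex (S := zpowers f)
    (H := centralizer ({t} : Set G)) (zpowers_le.2 (mem_centralizer_singleton_iff.2 h.f_cent.eq)) h.f_pgroup
    h.f_max (fun x hx => mem_centralizer_singleton_iff.2 (hXt x hx).eq) hX
  exact ⟨c, mem_centralizer_singleton_iff.1 hc, fun x hx => hle ⟨x, hx, rfl⟩⟩

/-- An `s`-subgroup over `⟨f⟩` meets `C(t)` in `⟨f⟩`. -/
theorem fixed (h : Setting s t f y P ω ρ) {X : Subgroup G} (hX : IsPGroup s X) (hfX : f ∈ X) {x : G}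
    (hx : x ∈ X) (hxt : Commute x t) : x ∈ zpowers f := by
  set Y := X ⊓ centralizer ({t} : Set G)
  obtain ⟨c, -, hle⟩ := h.exists_conj (hX.to_le (inf_le_left : Y ≤ X))
    (fun z hz => mem_centralizer_singleton_iff.1 hz.2)
  have h1 : Y.map (MulAut.conj c).toMonoidHom ≤ zpowers f := by
    rintro _ ⟨z, hz, rfl⟩
    exact hle z hz
  have h2 : zpowers f ≤ Y := zpowers_le.2 ⟨hfX, mem_centralizer_singleton_iff.2 h.f_cent.eq⟩
  have h3 : Nat.card Y ≤ Nat.card (zpowers f) := by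
    rw [← card_map_of_injective (K := Y) (f := (MulAut.conj c).toMonoidHom) (show Function.Injective (MulAut.conj c).toMonoidHom from (MulAut.conj c).injective)]
    exact card_le_of_le h1
  rw [eq_of_le_of_card_ge h2 h3]
  exact ⟨hx, mem_centralizer_singleton_iff.2 hxt.eq⟩

/-- An `s`-element centralised by one involution and inverted by another is trivial. -/
theorem eq_one_of_inverted (h : Setting s t f y P ω ρ) {x i j : G} (hx : IsPGroup s (zpowers x))
    (hi : orderOf i = 2) (hxi : Commute x i) (hj : orderOf j = 2) (hxj : j * x * j⁻¹ = x⁻¹) : x = 1 := by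
  haveI : Fact (Nat.Prime 2) := ⟨Nat.prime_two⟩
  -- a conjugate of `i` centralising `x` commutes with `j`
  set C := centralizer ({x} : Set G)
  set N := normalizer (C : Set G) with hN
  have hjN : j ∈ N := mem_normalizer_iff.2 fun g => by
    simp only [C, mem_centralizer_singleton_iff]
    have hj' : j * x⁻¹ * j⁻¹ = x := by rw [← conj_inv, hxj, inv_inv]
    constructor
    · intro hg
      have hg' : Commute g x⁻¹ := Commute.inv_right hg
      have := (Commute.conj_iff j).2 hg'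
      rw [hj'] at this
      exact this.eq
    · intro hg
      have hg' : Commute (j * g * j⁻¹) (j * x⁻¹ * j⁻¹) := by rw [hj']; exact hg
      have := ((Commute.conj_iff j).1 hg').inv_right
      rw [inv_inv] at this
      exact this.eq
  have hiC : i ∈ C := mem_centralizer_singleton_iff.2 hxi.eq.symm
  have hiN : i ∈ N := le_normalizer hiC
  have hz2 : ∀ g : N, orderOf (g : G) = 2 → IsPGroup 2 (zpowers g) := fun g hg =>
    IsPGroup.of_card (n := 1) (by rw [Nat.card_zpowers, ← Subgroup.orderOf_coe g, hg, pow_one])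
  obtain ⟨T1, hT1⟩ := (hz2 ⟨i, hiN⟩ hi).exists_le_sylow
  obtain ⟨T2, hT2⟩ := (hz2 ⟨j, hjN⟩ hj).exists_le_sylow
  obtain ⟨n, hn⟩ := MulAction.exists_smul_eq N T1 T2
  have hconj : (n * ⟨i, hiN⟩ * n⁻¹ : N) ∈ (T2 : Subgroup N) := by
    rw [← hn, Sylow.coe_subgroup_smul]
    exact ⟨⟨i, hiN⟩, hT1 (mem_zpowers _), rfl⟩
  set i' : G := n * i * (n : G)⁻¹ with hi'
  obtain ⟨S, hS⟩ := (T2.2.map N.subtype).exists_le_sylow
  haveI := h.sylow_two S
  have hcomm : Commute i' j := by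
    have h1 : i' ∈ (S : Subgroup G) := hS ⟨_, hconj, rfl⟩
    have h2 : j ∈ (S : Subgroup G) := hS ⟨_, hT2 (mem_zpowers _), rfl⟩
    exact congrArg Subtype.val (mul_comm' (⟨i', h1⟩ : (S : Subgroup G)) ⟨j, h2⟩)
  have hi'o : orderOf i' = 2 := by
    rw [hi', show (n : G) * i * (n : G)⁻¹ = MulAut.conj (n : G) i from rfl]
    exact (orderOf_injective (MulAut.conj (n : G)).toMonoidHom (MulAut.conj (n : G)).injective i).trans hi
  have hi'x : Commute x i' :=
    (mem_centralizer_singleton_iff.1 ((mem_normalizer_iff.1 n.2 i).1 hiC)).symm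
  -- move `i'` to `t`
  obtain ⟨g, hg⟩ := isConj_iff.1 (h.one_class i' hi'o)
  have hg' : g⁻¹ * i' * g = t := by rw [← hg]; group
  set x' := g⁻¹ * x * g with hx'
  set j' := g⁻¹ * j * g with hj'
  have hx't : Commute x' t := by
    rw [← hg', hx']
    simpa using (Commute.conj_iff g⁻¹).2 hi'x
  have hj't : Commute j' t := by
    rw [← hg', hj']
    simpa using (Commute.conj_iff g⁻¹).2 hcomm.symm
  have hinv : j' * x' * j'⁻¹ = x'⁻¹ := by
    rw [hx', hj', show g⁻¹ * j * g * (g⁻¹ * x * g) * (g⁻¹ * j * g)⁻¹ = g⁻¹ * (j * x * j⁻¹) * g by group, hxj]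
    group
  have hx'p : IsPGroup s (zpowers x') := by
    have := hx.map (MulAut.conj g⁻¹).toMonoidHom
    rwa [MonoidHom.map_zpowers, show (MulAut.conj g⁻¹).toMonoidHom x = x' by
      show g⁻¹ * x * (g⁻¹)⁻¹ = x'
      rw [inv_inv]] at this
  obtain ⟨c, hc, hle⟩ := h.exists_conj hx'p (fun z hz => by
    obtain ⟨k, rfl⟩ := mem_zpowers_iff.1 hz; exact hx't.zpow_left k)
  set x'' := c * x' * c⁻¹
  have hx'' : x'' ∈ zpowers f := hle x' (mem_zpowers x')
  set j'' := c * j' * c⁻¹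
  have hj''t : Commute j'' t := (hc.mul_left hj't).mul_left hc.inv_left
  have hinv2 : j'' * x'' * j''⁻¹ = x''⁻¹ := by
    show c * j' * c⁻¹ * (c * x' * c⁻¹) * (c * j' * c⁻¹)⁻¹ = (c * x' * c⁻¹)⁻¹
    rw [show c * j' * c⁻¹ * (c * x' * c⁻¹) * (c * j' * c⁻¹)⁻¹ = c * (j' * x' * j'⁻¹) * c⁻¹ by group, hinv]
    group
  have hc1 := h.auto hj''t hx'' (by rw [hinv2]; exact inv_mem hx'')
  rw [hc1.eq, mul_inv_cancel_right] at hinv2
  have hx1 : x'' = 1 := h.eq_one_of_sq_eq h.f_pgroup hx'' hinv2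
  have e : x = g * (c⁻¹ * x'' * c) * g⁻¹ := by
    show x = g * (c⁻¹ * (c * (g⁻¹ * x * g) * c⁻¹) * c) * g⁻¹
    group
  rw [e, hx1]; group

/-- The elements of `⟨f⟩ P` inverted by `t` lie in `P`. -/
theorem mem_P_of_inverted (h : Setting s t f y P ω ρ) {x : G} (hx : x ∈ zpowers f ⊔ P)
    (hinv : t * x * t⁻¹ = x⁻¹) : x ∈ P := by
  have hn : zpowers f ≤ normalizer (P : Set G) := zpowers_le.2 (Coprime.mem_normalizer_of_forall fun p hp => by
    rwa [← (h.P_f p hp).eq, mul_inv_cancel_right])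
  obtain ⟨a, ha, p, hp, rfl⟩ := (Coprime.mem_sup_iff hn).1 (sup_comm (a := zpowers f) (b := P) ▸ hx)
  obtain ⟨k, rfl⟩ := mem_zpowers_iff.1 hp
  have e : t * (a * f ^ k) * t⁻¹ = a⁻¹ * f ^ k := by
    rw [show t * (a * f ^ k) * t⁻¹ = t * a * t⁻¹ * (t * f ^ k * t⁻¹) by group, h.P_inv a ha,
      ← (h.f_cent.zpow_left k).eq, mul_inv_cancel_right]
  rw [e, mul_inv_rev, ← ((h.P_f a ha).zpow_right k).inv_inv.eq] at hinv
  have h1 : f ^ k = 1 := h.eq_one_of_sq_eq h.f_pgroup (zpow_mem (mem_zpowers f) k) (mul_left_cancel hinv)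
  rw [h1, mul_one]; exact ha

theorem P_le_centralizer (h : Setting s t f y P ω ρ) : zpowers f ⊔ P ≤ centralizer ({f} : Set G) :=
  sup_le (zpowers_le.2 (mem_centralizer_singleton_iff.2 rfl))
    (fun x hx => mem_centralizer_singleton_iff.2 (h.P_f x hx).eq)

theorem isPGroup_base (h : Setting s t f y P ω ρ) : IsPGroup s (zpowers f ⊔ P : Subgroup G) :=
  h.f_pgroup.to_sup_of_normal_left' h.P_pgroup (fun p hp => Coprime.mem_normalizer_of_forall fun z hz => by
    obtain ⟨k, rfl⟩ := mem_zpowers_iff.1 hz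
    rw [((h.P_f p hp).zpow_right k).eq, mul_inv_cancel_right]
    exact zpow_mem (mem_zpowers f) k)

theorem exists_P_inverted (h : Setting s t f y P ω ρ) : ∃ x ∈ P, x ≠ 1 := by
  by_contra hne
  push Not at hne
  exact h.P_ne ((eq_bot_iff_forall _).2 hne)

/-- A congruent exponent with `ω'^3` equal to one modulo any given power of `s`. -/
theorem exists_lift (h : Setting s t f y P ω ρ) (m : ℕ) :
    ∃ ω' : ℕ, (s ^ m) ∣ ω' ^ 3 - 1 ∧ (ω' : ZMod s) ^ 2 ≠ 1 ∧ 1 ≤ ω' ∧ ∀ x ∈ P, y * x * y⁻¹ = x ^ ω' := by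
  have hs := (Fact.out : s.Prime)
  obtain ⟨x, hx, hx1⟩ := h.exists_P_inverted
  -- `ω ^ 3 = 1` modulo `s`
  have hit : ∀ z ∈ P, z ^ (ω ^ 3) = z := fun z hz => by
    have h1 := h.omega z hz
    have h2 : y * (y * z * y⁻¹) * y⁻¹ = z ^ (ω * ω) := by
      rw [h1, h.omega _ (P.pow_mem hz ω), ← pow_mul]
    have h3 : y * (y * (y * z * y⁻¹) * y⁻¹) * y⁻¹ = z ^ (ω * ω * ω) := by
      rw [h2, h.omega _ (P.pow_mem hz (ω * ω)), ← pow_mul]
    rw [show ω ^ 3 = ω * ω * ω by ring, ← h3]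
    rw [show y * (y * (y * z * y⁻¹) * y⁻¹) * y⁻¹ = y ^ 3 * z * (y ^ 3)⁻¹ by rw [pow_succ, pow_two]; group, h.y_cube]
    group
  obtain ⟨z, hz, hzo⟩ : ∃ z ∈ P, orderOf z = s := by
    obtain ⟨k, hk⟩ := h.P_pgroup.exists_orderOf_eq_pow ⟨x, hx⟩
    rcases k with _ | k
    · exact absurd (congrArg Subtype.val (orderOf_eq_one_iff.1
        (show orderOf (⟨x, hx⟩ : P) = 1 by simpa using hk))) hx1
    refine ⟨((⟨x, hx⟩ : P) ^ s ^ k : P), SetLike.coe_mem _, ?_⟩
    rw [orderOf_coe, orderOf_pow' _ (pow_ne_zero k hs.ne_zero), hk, Nat.gcd_eq_right (pow_dvd_pow s k.le_succ),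
      pow_succ, Nat.mul_div_cancel_left _ (pow_pos hs.pos k)]
  have hω3 : (ω : ZMod s) ^ 3 = 1 := by
    have h1 : z ^ (ω ^ 3) = z ^ 1 := by rw [pow_one, hit z hz]
    rw [pow_eq_pow_iff_modEq, hzo] at h1
    have := (ZMod.natCast_eq_natCast_iff _ _ _).2 h1
    simpa using this
  have hω0 : (ω : ZMod s) ≠ 0 := fun e => by rw [e] at hω3; simp at hω3
  refine ⟨ω ^ s ^ (2 * m), ?_, ?_, Nat.one_le_pow _ _ (Nat.pos_of_ne_zero fun e => hω0 (by simp [e])), ?_⟩
  · have h1 : (s : ℤ) ∣ ((ω : ℤ) ^ 3 - 1) := by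
      rw [← ZMod.intCast_zmod_eq_zero_iff_dvd]
      push_cast
      rw [hω3, sub_self]
    have h2 := dvd_sub_pow_of_dvd_sub h1 (2 * m)
    rw [one_pow, ← pow_mul, mul_comm 3, pow_mul] at h2
    have h3 : ((s : ℤ) ^ m) ∣ ((ω : ℤ) ^ s ^ (2 * m)) ^ 3 - 1 :=
      (pow_dvd_pow (s : ℤ) (by omega)).trans h2
    have h4 : 1 ≤ (ω ^ s ^ (2 * m)) ^ 3 :=
      Nat.one_le_pow _ _ (pow_pos (Nat.pos_of_ne_zero fun e => hω0 (by simp [e])) _)
    have h5 : (((ω ^ s ^ (2 * m)) ^ 3 - 1 : ℕ) : ℤ) = ((ω : ℤ) ^ s ^ (2 * m)) ^ 3 - 1 := by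
      rw [Nat.cast_sub h4]; push_cast; rfl
    exact Int.natCast_dvd_natCast.1 (by rw [h5]; push_cast; exact h3)
  · push_cast
    rw [ZMod.pow_card_pow]
    intro e
    refine h.omega_ne ?_
    rw [pow_succ, e, one_mul] at hω3
    exact hω3
  · intro x hx
    have hmod : s ^ (2 * m) % 3 = 1 := by
      rw [pow_mul, Nat.pow_mod]
      have h3 : ¬ 3 ∣ s := fun e => h.ne_three ((Nat.prime_dvd_prime_iff_eq Nat.prime_three hs).1 e).symm
      have : (s ^ 2) % 3 = 1 := by
        rw [Nat.pow_mod]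
        have : s % 3 = 1 ∨ s % 3 = 2 := by omega
        rcases this with e | e <;> simp [e]
      rw [this]; simp
    have hy : y ^ s ^ (2 * m) = y := by
      rw [← Nat.mod_add_div (s ^ (2 * m)) 3, pow_add, pow_mul y 3, h.y_cube, one_pow, mul_one, hmod, pow_one]
    have hiter : ∀ k : ℕ, y ^ k * x * (y ^ k)⁻¹ = x ^ ω ^ k := fun k => by
      induction k with
      | zero => simp
      | succ k ih =>
        calc y ^ (k + 1) * x * (y ^ (k + 1))⁻¹ = y * (y ^ k * x * (y ^ k)⁻¹) * y⁻¹ := by rw [pow_succ']; group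
          _ = (x ^ ω ^ k) ^ ω := by rw [ih, h.omega _ (P.pow_mem hx _)]
          _ = x ^ ω ^ (k + 1) := by rw [← pow_mul, ← pow_succ]
    have := hiter (s ^ (2 * m))
    rwa [hy] at this

/-- `OnR` for an invariant `s`-subgroup over `⟨f⟩ P`. -/
theorem onR (h : Setting s t f y P ω ρ) {ω' m : ℕ} (hω : s ^ m ∣ ω' ^ 3 - 1) (hroot : (ω' : ZMod s) ^ 2 ≠ 1)
    (hω1 : 1 ≤ ω') (hP : ∀ x ∈ P, y * x * y⁻¹ = x ^ ω') {R : Subgroup G} (hR : IsPGroup s R)
    (hbase : zpowers f ⊔ P ≤ R) (ht : t ∈ normalizer (R : Set G)) (hy : y ∈ normalizer (R : Set G))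
    (hm : Nat.card R ∣ s ^ m) : OnR s ω' t y f R := by
  have hfR : f ∈ R := hbase (mem_sup_left (mem_zpowers f))
  have hcube : ∀ x : R, x ^ (ω' ^ 3) = x := fun x => by
    have h1 : orderOf x ∣ ω' ^ 3 - 1 := ((orderOf_dvd_natCard x).trans hm).trans hω
    rw [← Nat.sub_add_cancel (Nat.one_le_pow 3 ω' hω1), pow_succ, orderOf_dvd_iff_pow_eq_one.1 h1, one_mul]
  have hD : Eigen.Data s ω' R (conjOn R ht) (conjOn R hy) ⟨f, hfR⟩ := {
    pgroup := hR
    ne_two := h.ne_two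
    ne_three := h.ne_three
    sq := fun x => Subtype.ext (by
      simp only [conjOn_apply]
      rw [show t * (t * x * t⁻¹) * t⁻¹ = t * t * x * (t * t)⁻¹ by group, h.sq]; group)
    cube := fun x => Subtype.ext (by
      simp only [conjOn_apply]
      rw [show y * (y * (y * x * y⁻¹) * y⁻¹) * y⁻¹ = y ^ 3 * x * (y ^ 3)⁻¹ by
        rw [pow_succ, pow_two]; group, h.y_cube]; group)
    comm := fun x => Subtype.ext (by
      simp only [conjOn_apply]
      rw [show y * (t * x * t⁻¹) * y⁻¹ = y * t * x * (y * t)⁻¹ by group,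
        show t * (y * x * y⁻¹) * t⁻¹ = t * y * x * (t * y)⁻¹ by group, h.y_cent.eq])
    fixf := Subtype.ext (show t * f * t⁻¹ = f by rw [← h.f_cent.eq, mul_inv_cancel_right])
    etaf := Subtype.ext (show y * f * y⁻¹ = f by rw [h.y_f.eq, mul_inv_cancel_right])
    fixed := fun x hx => by
      have h1 : t * (x : G) * t⁻¹ = x := congrArg Subtype.val hx
      obtain ⟨k, hk⟩ := mem_zpowers_iff.1 (h.fixed hR hfR x.2 (mul_inv_eq_iff_eq_mul.1 h1).symm)
      exact mem_zpowers_iff.2 ⟨k, Subtype.ext (by rw [SubgroupClass.coe_zpow]; exact hk)⟩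
    pow_cube := hcube
    root := hroot
    scalar := fun x hxf hxi => by
      refine Subtype.ext ?_
      rw [SubgroupClass.coe_pow]
      refine hP x (h.mem_P_of_inverted ?_ (congrArg Subtype.val hxi))
      -- `R ⊓ C(f)` is the base
      set X := R ⊓ centralizer ({f} : Set G)
      have hbX : zpowers f ⊔ P ≤ X := le_inf hbase h.P_le_centralizer
      obtain ⟨c, hc, hle⟩ := Transfer.exists_conj_le_of_not_dvd_relIndex h.P_le_centralizer h.isPGroup_base
        h.P_max inf_le_right (hR.to_le (inf_le_left : X ≤ R))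
      have h3 : Nat.card X ≤ Nat.card (zpowers f ⊔ P : Subgroup G) := by
        rw [← card_map_of_injective (K := X) (f := (MulAut.conj c).toMonoidHom) (show Function.Injective (MulAut.conj c).toMonoidHom from (MulAut.conj c).injective)]
        exact card_le_of_le hle
      rw [eq_of_le_of_card_ge hbX h3]
      exact ⟨x.2, mem_centralizer_singleton_iff.2 (congrArg Subtype.val hxf.eq)⟩ }
  exact {
    pgroup := hR
    ne_two := h.ne_two
    ne_three := h.ne_three
    t_norm := ht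
    y_norm := hy
    f_mem := hfR
    fixed := fun x hx hxt => h.fixed hR hfR hx hxt
    pow_cube := fun x hx => by
      have := congrArg Subtype.val (hcube ⟨x, hx⟩)
      rwa [SubgroupClass.coe_pow] at this
    root := hroot
    scalar := fun x hx hinv => by
      have h1 := Eigen.inverted_scalar _ rfl hD ⟨x, hx⟩ (Subtype.ext hinv)
      have := congrArg Subtype.val h1
      rw [SubgroupClass.coe_pow] at this
      exact this }

end Setting

end Cfsg.Agent.AbelianSylow.Scalar
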