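import Cfsg.Agent.Lib.AbelianSylow.Cent.FieldScalarBasic

/-!
# No field automorphism, case (B): the odd-order step of the transfer (owner: helper88)

* `not_mem_commutator` : in a group covered by `C(t)` and a normal subgroup of odd order, with a Sylow `s`-subgroup
  satisfying `OnR`, the element `f` is outside the derived group
-/

set_option autoImplicit false
set_option linter.style.haveILetI false
set_option linter.unusedSectionVars false

namespace Cfsg.Agent.AbelianSylow.Scalar

open Subgroup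
open scoped commutatorElement

universe u v

/-- **The derived group misses `f`.** -/
theorem not_mem_commutator {s ω : ℕ} [Fact s.Prime] : ∀ (n : ℕ) {N : Type u} [Group N] [Finite N] {A : Type v}
    [CommGroup A] {t y f : N} {O R : Subgroup N} (ρ : ↥(centralizer ({t} : Set N)) →* A),
    Nat.card N = n → t * t = 1 → y ^ 3 = 1 → Commute t y → Commute f t → Commute f y → f ≠ 1 → O.Normal →
    Odd (Nat.card O) → (∀ g : N, t * g * t⁻¹ * g⁻¹ ∈ O) → OnR s ω t y f R → ¬ s ∣ R.index →
    (∀ x ∈ zpowers f, ∀ h : x ∈ centralizer ({t} : Set N), ρ ⟨x, h⟩ = 1 → x = 1) →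
    f ∉ commutator N := by
  intro n
  induction n using Nat.strong_induction_on with
  | _ n ih =>
  intro N _ _ A _ t y f O R
  set C := centralizer ({t} : Set N) with hC
  intro ρ hn ht hy3 hty hft hfy hf1 hON hOodd hcov hR hidx hρ hfc
  subst hn
  haveI := hON
  have hmemC : ∀ {g : N}, Commute g t → g ∈ C := fun hg => mem_centralizer_singleton_iff.2 hg.eq
  have hzC : ∀ {x : N}, x ∈ zpowers f → x ∈ C := fun hx => by
    obtain ⟨k, rfl⟩ := mem_zpowers_iff.1 hx
    exact hmemC (hft.zpow_left k)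
  -- an element of `C(t)` normalising a subgroup of `⟨f⟩` centralises it
  have hauto : ∀ {c x : N}, Commute c t → x ∈ zpowers f → c * x * c⁻¹ ∈ zpowers f → Commute c x := by
    intro c x hc hx hcx
    have hdC : c * x * c⁻¹ * x⁻¹ ∈ C :=
      mul_mem (mul_mem (mul_mem (hmemC hc) (hzC hx)) (inv_mem (hmemC hc))) (inv_mem (hzC hx))
    have h1 := hρ _ (mul_mem hcx (inv_mem hx)) hdC (by
      rw [show (⟨c * x * c⁻¹ * x⁻¹, hdC⟩ : C) = ⟨c, hmemC hc⟩ * ⟨x, hzC hx⟩ * ⟨c, hmemC hc⟩⁻¹ * ⟨x, hzC hx⟩⁻¹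
        from rfl, map_mul, map_mul, map_mul, map_inv, map_inv, mul_comm (ρ ⟨c, hmemC hc⟩), mul_inv_cancel_right,
        mul_inv_cancel])
    exact mul_inv_eq_iff_eq_mul.1 (mul_inv_eq_one.1 h1)
  -- passing to a quotient
  have quot : ∀ M : Subgroup N, M.Normal → M ≠ ⊥ → Odd (Nat.card M) → f ∉ M →
      (∀ m ∈ M, ∀ hm : m ∈ C, ∀ x ∈ zpowers f, ∀ hx : x ∈ C, ρ ⟨x, hx⟩ = ρ ⟨m, hm⟩ → x ∈ M) → False := by
    intro M hMn hM1 hModd hfM hM
    haveI := hMn
    set π := QuotientGroup.mk' M
    have hπ1 : ∀ {g : N}, π g = 1 ↔ g ∈ M := fun {g} => QuotientGroup.eq_one_iff g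
    set C' := centralizer ({π t} : Set (N ⧸ M)) with hC'
    let r : C →* C' := (π.comp C.subtype).codRestrict C' fun c =>
      mem_centralizer_singleton_iff.2 (by
        rw [MonoidHom.comp_apply, ← map_mul, ← map_mul]
        exact congrArg π (mem_centralizer_singleton_iff.1 c.2))
    have hr : Function.Surjective r := fun c => by
      obtain ⟨g, hg⟩ := QuotientGroup.mk'_surjective M (c : N ⧸ M)
      have h1 : t * g * t⁻¹ * g⁻¹ ∈ M := hπ1.1 (by
        have h2 : (c : N ⧸ M) * π t = π t * c := mem_centralizer_singleton_iff.1 c.2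
        rw [map_mul, map_mul, map_mul, map_inv, map_inv, show π g = (c : N ⧸ M) from hg, ← h2]
        group)
      obtain ⟨e, he, hec⟩ := exists_fixed_mul hModd ht h1
      refine ⟨⟨e * g, hmemC hec⟩, Subtype.ext ?_⟩
      show π (e * g) = c
      rw [map_mul, hπ1.2 he, one_mul]; exact hg
    set S := (M.subgroupOf C).map ρ with hS
    set qA := QuotientGroup.mk' S
    have hker : r.ker ≤ (qA.comp ρ).ker := fun c hc => by
      have h1 : π (c : N) = 1 := congrArg Subtype.val hc
      rw [MonoidHom.mem_ker, MonoidHom.comp_apply]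
      exact (QuotientGroup.eq_one_iff _).2 ⟨c, mem_subgroupOf.2 (hπ1.1 h1), rfl⟩
    set ρ' : C' →* A ⧸ S := r.liftOfSurjective hr ⟨qA.comp ρ, hker⟩
    have hρ' : ∀ c : C, ρ' (r c) = qA (ρ c) := fun c =>
      MonoidHom.liftOfRightInverse_comp_apply r _ (Function.rightInverse_surjInv hr) ⟨qA.comp ρ, hker⟩ c
    have hlt : Nat.card (N ⧸ M) < Nat.card N := by
      rw [card_eq_card_quotient_mul_card_subgroup M]
      exact lt_mul_of_one_lt_right Nat.card_pos ((one_lt_card_iff_ne_bot M).2 hM1)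
    haveI : (O.map π).Normal := hON.map π (QuotientGroup.mk'_surjective M)
    have hR' : OnR s ω (π t) (π y) (π f) (R.map π) := {
      pgroup := hR.pgroup.map π
      ne_two := hR.ne_two
      ne_three := hR.ne_three
      t_norm := le_normalizer_map π ⟨t, hR.t_norm, rfl⟩
      y_norm := le_normalizer_map π ⟨y, hR.y_norm, rfl⟩
      f_mem := ⟨f, hR.f_mem, rfl⟩
      fixed := by
        rintro _ ⟨x, hx, rfl⟩ hc
        have h1 : t * x * t⁻¹ * x⁻¹ ∈ M ⊓ R := by
          refine ⟨hπ1.1 ?_, R.mul_mem ((mem_normalizer_iff.1 hR.t_norm x).1 hx) (R.inv_mem hx)⟩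
          rw [map_mul, map_mul, map_mul, map_inv, map_inv, ← hc.eq]
          group
        obtain ⟨e, he, hec⟩ := exists_fixed_mul (hModd.of_dvd_nat (card_dvd_of_le inf_le_left)) ht h1
        obtain ⟨k, hk⟩ := mem_zpowers_iff.1 (hR.fixed _ (R.mul_mem he.2 hx) hec)
        refine mem_zpowers_iff.2 ⟨k, ?_⟩
        rw [← map_zpow, hk, map_mul, hπ1.2 he.1, one_mul]
      pow_cube := by rintro _ ⟨x, hx, rfl⟩; rw [← map_pow, hR.pow_cube x hx]
      root := hR.root
      scalar := by
        rintro _ ⟨x, hx, rfl⟩ hinv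
        have h1 : conjOn R hR.t_norm ⟨x, hx⟩ * ⟨x, hx⟩ ∈ M.subgroupOf R := by
          refine mem_subgroupOf.2 (hπ1.1 ?_)
          show π (t * x * t⁻¹ * x) = 1
          rw [map_mul, map_mul, map_mul, map_inv, hinv, inv_mul_cancel]
        obtain ⟨z, hz, hz'⟩ := Eigen.exists_inverted_lift (τ := conjOn R hR.t_norm)
          (fun a => Subtype.ext (by
            simp only [conjOn_apply]
            rw [show t * (t * a * t⁻¹) * t⁻¹ = t * t * a * (t * t)⁻¹ by group, ht]; group))
          (fun m hm => mem_subgroupOf.2 (hMn.conj_mem _ (mem_subgroupOf.1 hm) t))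
          (hModd.of_dvd_nat (by
            rw [← card_map_of_injective (K := M.subgroupOf R) (f := R.subtype) R.subtype_injective]
            exact card_dvd_of_le (fun v hv => by obtain ⟨w, hw, rfl⟩ := hv; exact hw))) h1
        have hxz : π x = π (z : N) := by
          have h2 : (x⁻¹ * z : N) ∈ M := mem_subgroupOf.1 hz
          exact QuotientGroup.eq.2 h2
        rw [hxz, ← map_pow, ← hR.scalar (z : N) z.2 (congrArg Subtype.val hz'), map_mul, map_mul, map_inv] }
    refine ih _ hlt (O := O.map π) (R := R.map π) ρ' rfl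
      (by rw [← map_mul, ht, map_one]) (by rw [← map_pow, hy3, map_one]) (hty.map π) (hft.map π) (hfy.map π)
      (fun e => hfM (hπ1.1 e)) inferInstance (hOodd.of_dvd_nat (card_map_dvd O π)) (fun g => ?_) hR'
      (fun hd => hidx (hd.trans (index_map_dvd (H := R) (f := π) (QuotientGroup.mk'_surjective M)))) ?_ ?_
    · obtain ⟨g, rfl⟩ := QuotientGroup.mk'_surjective M g
      exact ⟨_, hcov g, by simp only [map_mul, map_inv]; rfl⟩
    · intro x hx hxC h1
      obtain ⟨k, rfl⟩ := mem_zpowers_iff.1 hx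
      have hfk : f ^ k ∈ C := hzC (zpow_mem (mem_zpowers f) k)
      have e : (⟨π f ^ k, hxC⟩ : C') = r ⟨f ^ k, hfk⟩ := Subtype.ext (map_zpow π f k).symm
      rw [e, hρ'] at h1
      obtain ⟨m, hm, hmk⟩ := (QuotientGroup.eq_one_iff _).1 h1
      rw [← map_zpow]
      exact hπ1.2 (hM m (mem_subgroupOf.1 hm) m.2 _ (zpow_mem (mem_zpowers f) k) hfk hmk.symm)
    · have h2 : (commutator N).map π ≤ commutator (N ⧸ M) := by
        rw [_root_.commutator_def, _root_.commutator_def, map_commutator]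
        exact commutator_mono le_top le_top
      exact h2 ⟨f, hfc, rfl⟩
  -- the case of a trivial core
  by_cases hO : O = ⊥
  · have hall : ∀ g : N, g ∈ C := fun g => hmemC (by
      have h1 := hcov g
      rw [hO, mem_bot, mul_inv_eq_one] at h1
      exact (mul_inv_eq_iff_eq_mul.1 h1).symm)
    set ψ : N →* A := ρ.comp ((MonoidHom.id N).codRestrict C hall)
    have h1 : f ∈ ψ.ker := Abelianization.commutator_subset_ker ψ hfc
    exact hf1 (hρ f (mem_zpowers f) (hall f) (show ρ ⟨f, hall f⟩ = 1 from h1))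
  obtain ⟨M, hMn, hM1, hMO, hMmin⟩ := Solvable.exists_minimal_normal (N := O) hO
  haveI := hMn
  have hModd : Odd (Nat.card M) := hOodd.of_dvd_nat (card_dvd_of_le hMO)
  haveI : Group.IsSolvable M := OddOrderTheorem.solvable hModd
  obtain ⟨hMc, q, hq, hMq, hMexp⟩ := Solvable.elementaryAbelian_of_minimal_normal M hM1 hMmin
  haveI := Fact.mk hq
  obtain ⟨i, hfi⟩ : ∃ i, orderOf f = s ^ i := by
    obtain ⟨i, hi⟩ := hR.pgroup.exists_orderOf_eq_pow ⟨f, hR.f_mem⟩
    exact ⟨i, by rw [← hi, ← orderOf_coe]⟩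
  by_cases hqs : q = s
  swap
  · -- an `s'`-group
    have hcop : ∀ x ∈ zpowers f, ∀ m ∈ M, x ^ orderOf m = 1 → x = 1 := by
      intro x hx m hm h1
      obtain ⟨j, hj⟩ := hMq.exists_orderOf_eq_pow ⟨m, hm⟩
      rw [← orderOf_coe] at hj
      obtain ⟨k, rfl⟩ := mem_zpowers_iff.1 hx
      refine orderOf_eq_one_iff.1 (Nat.eq_one_of_dvd_coprimes (a := q ^ j) (b := s ^ i)
        (((Nat.coprime_primes hq (Fact.out : s.Prime)).2 hqs).pow _ _) ?_ ?_)
      · exact hj ▸ orderOf_dvd_of_pow_eq_one h1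
      · exact hfi ▸ orderOf_dvd_of_mem_zpowers (zpow_mem (mem_zpowers f) k)
    refine quot M hMn hM1 hModd (fun hfM => hf1 (hcop f (mem_zpowers f) f hfM (pow_orderOf_eq_one f))) ?_
    intro m hm hmC x hx hxC he
    have h1 : x ^ orderOf m = 1 := hρ _ (pow_mem hx _) (pow_mem hxC _) (by
      rw [show (⟨x ^ orderOf m, pow_mem hxC _⟩ : C) = ⟨x, hxC⟩ ^ orderOf m from rfl, map_pow, he, ← map_pow,
        show (⟨m, hmC⟩ : C) ^ orderOf m = 1 from Subtype.ext (pow_orderOf_eq_one m), map_one])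
    rw [hcop x hx m hm h1]; exact M.one_mem
  subst hqs
  -- `M` lies in `R`
  have hMR : M ≤ R := by
    obtain ⟨g, -, hg⟩ := Transfer.exists_conj_le_of_not_dvd_relIndex (H := ⊤) le_top hR.pgroup
      (by rw [relIndex_top_right]; exact hidx) (le_top : M ≤ ⊤) hMq
    intro x hx
    have := hg ⟨_, hMn.conj_mem x hx g⁻¹, rfl⟩
    simpa [mul_assoc] using this
  -- the fixed line
  haveI : IsCyclic ↥(M ⊓ zpowers f : Subgroup N) :=
    isCyclic_of_injective (Subgroup.inclusion (inf_le_right : M ⊓ zpowers f ≤ zpowers f))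
      (Subgroup.inclusion_injective _)
  obtain ⟨⟨f0, hf0M, hf0z⟩, hgen⟩ := IsCyclic.exists_generator (α := ↥(M ⊓ zpowers f : Subgroup N))
  have hfix : ∀ w ∈ M, Commute w t → w ∈ zpowers f0 := fun w hw hwt => by
    obtain ⟨k, hk⟩ := mem_zpowers_iff.1 (hgen ⟨w, hw, hR.fixed w (hMR hw) hwt⟩)
    exact mem_zpowers_iff.2 ⟨k, congrArg Subtype.val hk⟩
  have hf0t : Commute f0 t := mem_centralizer_singleton_iff.1 (hzC hf0z)
  have hf0y : Commute f0 y := by
    obtain ⟨k, rfl⟩ := mem_zpowers_iff.1 hf0z; exact hfy.zpow_left k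
  have hcent : ∀ k : N, Commute k t → Commute k f0 := fun k hk => by
    refine hauto hk hf0z (hR.fixed _ (hMR (hMn.conj_mem f0 hf0M k)) ?_)
    exact (hk.mul_left hf0t).mul_left hk.inv_left
  have hOs : ∀ L : Subgroup N, L.Normal → L ≤ O → (∀ x ∈ L, ∃ j, x ^ q ^ j ∈ centralizer (M : Set N)) →
      L ≤ centralizer (M : Set N) := by
    intro L hLn _ hLs
    set φ : N →* MulAut M := MulAut.conjNormal
    set Lb := L.map φ
    have hLp : IsPGroup q Lb := by
      rintro ⟨_, x, hx, rfl⟩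
      obtain ⟨j, hj⟩ := hLs x hx
      refine ⟨j, Subtype.ext ?_⟩
      show φ x ^ q ^ j = 1
      rw [← map_pow]
      refine MulEquiv.ext fun w => Subtype.ext ?_
      rw [MulAut.conjNormal_apply, MulAut.one_apply]
      exact mul_inv_eq_iff_eq_mul.2 (mem_centralizer_iff.1 hj w w.2).symm
    let : MulAction Lb M := MulAction.compHom M Lb.subtype
    have hdvd : q ∣ Nat.card M := by
      obtain ⟨j, hj⟩ := IsPGroup.iff_card.1 hMq
      rcases j with _ | j
      · exact absurd (eq_bot_of_card_eq M (by simpa using hj)) hM1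
      · exact hj ▸ dvd_pow_self q j.succ_ne_zero
    obtain ⟨b, hb, hb1⟩ := hLp.exists_fixed_point_of_prime_dvd_card_of_fixed_point M hdvd
      (a := (1 : M)) (fun g => map_one (g : MulAut M))
    let Fx : Subgroup N := M ⊓ centralizer (L : Set N)
    haveI : (centralizer (L : Set N)).Normal := by
      haveI := hLn; infer_instance
    have hFx : Fx = M := by
      refine (hMmin Fx inferInstance inf_le_left).resolve_left fun e => hb1 ?_
      have hbF : (b : N) ∈ Fx := ⟨b.2, mem_centralizer_iff.2 fun l hl => by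
        have := congrArg Subtype.val (hb ⟨φ l, l, hl, rfl⟩)
        change ((φ l) b : N) = b at this
        rw [MulAut.conjNormal_apply] at this
        exact mul_inv_eq_iff_eq_mul.1 this⟩
      rw [e, mem_bot] at hbF
      exact (Subtype.ext hbF).symm
    intro l hl
    refine mem_centralizer_iff.2 fun m hm => ?_
    exact (mem_centralizer_iff.1 ((hFx.ge hm).2 : m ∈ centralizer (L : Set N)) l hl).symm
  have hrot := mem_cent_of_comm hR.ne_two (K := O) (W := M) hOodd hMexp
    (fun a ha b hb => congrArg Subtype.val (hMc.1.1 ⟨a, ha⟩ ⟨b, hb⟩)) ht hy3 hty hf0M hf0t hf0y hfix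
    (fun w hw hwi hwy => hR.eq_one_of_commute (hMR hw) hwi hwy) (fun k _ hk => hcent k hk) hOs
  have hocent : ∀ o ∈ O, Commute o f0 := fun o ho => by
    obtain ⟨e, he, hec⟩ := exists_fixed_mul (E := O ⊓ centralizer (M : Set N))
      (hOodd.of_dvd_nat (card_dvd_of_le inf_le_left)) ht
      ⟨O.mul_mem (hON.conj_mem o ho t) (O.inv_mem ho), hrot o ho⟩
    have h1 : Commute e f0 := (mem_centralizer_iff.1 he.2 f0 hf0M).symm
    have := h1.inv_left.mul_left (hcent _ hec)
    rwa [inv_mul_cancel_left] at this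
  have hcentral : ∀ g : N, Commute g f0 := fun g => by
    obtain ⟨e, he, hec⟩ := exists_fixed_mul hOodd ht (hcov g)
    have := (hocent e he).inv_left.mul_left (hcent _ hec)
    rwa [inv_mul_cancel_left] at this
  by_cases hfM : f ∈ M
  swap
  · exact quot M hMn hM1 hModd hfM fun m hm hmC x hx hxC he => by
      have hmz : m ∈ zpowers f := hR.fixed m (hMR hm) (mem_centralizer_singleton_iff.1 hmC)
      have h1 := hρ _ (mul_mem hx (inv_mem hmz)) (mul_mem hxC (inv_mem hmC)) (by
        rw [show (⟨x * m⁻¹, mul_mem hxC (inv_mem hmC)⟩ : C) = ⟨x, hxC⟩ * ⟨m, hmC⟩⁻¹ from rfl, map_mul, map_inv,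
          he, mul_inv_cancel])
      rw [mul_inv_eq_one.1 h1]; exact hm
  -- `f` is central and `R` abelian
  have hfcen : ∀ g : N, Commute g f := fun g => by
    obtain ⟨k, hk⟩ := mem_zpowers_iff.1 (hfix f hfM hft)
    rw [← hk]; exact (hcentral g).zpow_right k
  have hD := hR.toData ht hy3 hty hft hfy
  letI : CommGroup R := { (inferInstance : Group R) with
    mul_comm := fun a b => by
      have hf : ∀ g : R, Commute g ⟨f, hR.f_mem⟩ := fun g => Subtype.ext (hfcen g)
      have hdec : ∀ g : R, ∃ (k : ℤ) (w : R),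
          conjOn R hR.t_norm w = w⁻¹ ∧ g = (⟨f, hR.f_mem⟩ : R) ^ k * w := fun g => by
        obtain ⟨w, -, hwf, hw⟩ := hD.exists_fixed_mul g
        obtain ⟨k, hk⟩ := mem_zpowers_iff.1 (hD.fixed _ hwf)
        exact ⟨k, w⁻¹, by rw [map_inv, hw], by rw [hk]; group⟩
      obtain ⟨k, u', hu', rfl⟩ := hdec a
      obtain ⟨l, v', hv', rfl⟩ := hdec b
      exact (((hf _).symm.zpow_left k).mul_left
        ((((hf u').zpow_right l).mul_right (hD.commute_inverted (hf u') (hf v') hu' hv')))).eq }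
  have hkey : ∀ (k : ℕ) (g0 : N), g0⁻¹ * f ^ k * g0 ∈ R → g0⁻¹ * f ^ k * g0 = f ^ k := fun k g0 _ => by
    rw [mul_assoc, ← ((hfcen g0).pow_right k).eq, inv_mul_cancel_left]
  have h1 := MonoidHom.transfer_eq_pow (H := R) (MonoidHom.id R) f hkey
  rw [MonoidHom.id_apply, show MonoidHom.transfer (MonoidHom.id R) f = 1 from
    MonoidHom.mem_ker.1 (Abelianization.commutator_subset_ker _ hfc)] at h1
  have h2 : f ^ R.index = 1 := (congrArg Subtype.val h1).symm
  have hdi := orderOf_dvd_of_pow_eq_one h2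
  rcases i with _ | i
  · exact hf1 (orderOf_eq_one_iff.1 (by simpa using hfi))
  · exact hidx ((dvd_pow_self q i.succ_ne_zero).trans (hfi ▸ hdi))

end Cfsg.Agent.AbelianSylow.Scalar
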