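import Cfsg.Agent.Lib.AbelianSylow.Cent.FieldNine
import Cfsg.Agent.Lib.AbelianSylow.Cent.FieldReduce
import Cfsg.Agent.Lib.AbelianSylow.Cent.FieldSmall
import Cfsg.Agent.Lib.AbelianSylow.Local.Torus
import Cfsg.Agent.Lib.PSL2.KleinCentre

/-!
# No field automorphism, case `s = 3`, `q = 27`: the centraliser of `f` (owner: helper4)

* `four_normal`       : the four-group of `L₂(3)` is normal
* `nine_quotient`     : `Nine` holds for `C(f) / ⟨f⟩`
* `small_cent_of_le`  : the hypotheses `hcyc`, `hmove` of `noInvertedMod_of_small`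
-/

set_option autoImplicit false
set_option linter.unusedSectionVars false
set_option linter.style.haveILetI false

namespace Cfsg.Agent.AbelianSylow.Field

open Subgroup

universe u

/-- The four-group of `L₂(3)` is normal and its own centraliser. -/
theorem four_normal {M : Type u} [Group M] [Finite M] {F₀ : Type} [Field F₀] [Fintype F₀]
    (hF₀ : Fintype.card F₀ = 3) (e : M ≃* PSL2.PSL2 F₀) {W : Subgroup M} (hW : IsKleinFour W) :
    Nat.card M = 12 ∧ (∀ x : M, ∀ v ∈ W, x * v * x⁻¹ ∈ W) ∧ ∀ x : M, (∀ v ∈ W, Commute x v) → x ∈ W := by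
  classical
  have hodd : Odd (Fintype.card F₀) := by rw [hF₀]; decide
  have hcard : Nat.card M = 12 := by
    have h := card_psl_odd hodd
    rw [hF₀] at h
    rw [Nat.card_congr e.toEquiv]
    omega
  haveI : Fact (Nat.Prime 2) := ⟨Nat.prime_two⟩
  haveI := hW
  have hW4 : Nat.card W = 4 := IsKleinFour.card_four
  have hcent : ∀ v : M, orderOf v = 2 → Nat.card (centralizer ({v} : Set M)) = 4 := fun v hv => by
    rw [show (4 : ℕ) = 4 * 1 from rfl, ← Local.card_cent_psl (F := F₀) (a := 1) (Or.inl ⟨by rw [hF₀], by rw [hF₀]⟩)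
      (x := e v) (by rw [MulEquiv.orderOf_eq, hv])]
    refine Nat.card_congr (e.toEquiv.subtypeEquiv fun x => ?_)
    rw [mem_centralizer_singleton_iff, mem_centralizer_singleton_iff]
    show _ ↔ e x * e v = e v * e x
    rw [← map_mul, ← map_mul, e.injective.eq_iff]
  have hsq : ∀ v ∈ W, v * v = 1 := fun v hv =>
    congrArg Subtype.val (IsKleinFour.mul_self (⟨v, hv⟩ : W))
  have hWc : ∀ a ∈ W, ∀ b ∈ W, a * b = b * a := fun a ha b hb =>
    congrArg Subtype.val ((mul_comm_of_exponent_two IsKleinFour.exponent_two) (⟨a, ha⟩ : W) ⟨b, hb⟩)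
  have hord : ∀ v ∈ W, v ≠ 1 → orderOf v = 2 := fun v hv h1 =>
    orderOf_eq_prime (by rw [pow_two]; exact hsq v hv) h1
  have hC : ∀ v ∈ W, v ≠ 1 → centralizer ({v} : Set M) = W := fun v hv h1 =>
    (eq_of_le_of_card_ge (fun w hw => mem_centralizer_singleton_iff.2 (hWc w hw v hv))
      (by rw [hW4, hcent v (hord v hv h1)])).symm
  obtain ⟨⟨v₁, hv₁⟩, hne⟩ : ∃ v : W, v ≠ 1 := by
    haveI : Nontrivial W := Finite.one_lt_card_iff_nontrivial.1 (by omega)
    exact exists_ne 1
  have hv₁1 : v₁ ≠ 1 := fun h => hne (Subtype.ext h)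
  refine ⟨hcard, fun x v hv => ?_, fun x hx => ?_⟩
  · by_cases hv1 : v = 1
    · subst hv1; simpa using W.one_mem
    -- the class of `v` has three elements and contains those of `W`
    letI := Fintype.ofFinite M
    have hcls : Nat.card {g : M // IsConj v g} = 3 := by
      have h := ClassCount.card_class_mul_card_centralizer v
      rw [hcent v (hord v hv hv1), hcard] at h
      omega
    obtain ⟨hconj⟩ : Nonempty (PSL2.FourData (PSL2.PSL2 F₀)) := ⟨PSL2.fourData (by rw [Nat.card_eq_fintype_card]; exact hodd)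
      fun P => by
        haveI := Fact.mk Nat.prime_two
        refine IsPGroup.isMulCommutative_of_card_eq_prime_sq (p := 2) ?_
        obtain ⟨k, hk⟩ := IsPGroup.iff_card.1 P.2
        have h12 : Nat.card (PSL2.PSL2 F₀) = 12 := by rw [← Nat.card_congr e.toEquiv, hcard]
        have h1 : 2 ^ 2 ∣ Nat.card (P : Subgroup (PSL2.PSL2 F₀)) :=
          P.pow_dvd_card_of_pow_dvd_card (by rw [h12]; norm_num)
        have h2 : 2 ^ k ∣ 12 := by
          have := Subgroup.card_subgroup_dvd_card (P : Subgroup (PSL2.PSL2 F₀))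
          rwa [hk, h12] at this
        rw [hk] at h1 ⊢
        have h3 : 2 ≤ k := (Nat.pow_dvd_pow_iff_le_right (by norm_num)).1 h1
        have h4 : k ≤ 3 := by
          by_contra h5
          have := Nat.le_of_dvd (by norm_num) ((pow_dvd_pow 2 (show 4 ≤ k by omega)).trans h2)
          omega
        interval_cases k
        · rfl
        · norm_num at h2⟩
    let ι : {w : W // w ≠ 1} → {g : M // IsConj v g} := fun w => ⟨(w.1 : M), by
      obtain ⟨c, hc⟩ := _root_.isConj_iff.1 (hconj.conj (e v) (e w.1) (by rw [MulEquiv.orderOf_eq, hord v hv hv1])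
        (by rw [MulEquiv.orderOf_eq, hord _ w.1.2 fun h => w.2 (Subtype.ext h)]))
      obtain ⟨c, rfl⟩ := e.surjective c
      rw [← map_inv, ← map_mul, ← map_mul] at hc
      exact _root_.isConj_iff.2 ⟨c, e.injective hc⟩⟩
    have hι : Function.Injective ι := fun a b h => Subtype.ext (Subtype.ext (congrArg Subtype.val h :))
    have h3 : Nat.card {w : W // w ≠ 1} = 3 := by
      letI := Fintype.ofFinite W
      rw [Nat.card_eq_fintype_card, Fintype.card_subtype_compl, Fintype.card_subtype_eq, ← Nat.card_eq_fintype_card,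
        hW4]
    obtain ⟨w, hw⟩ := ((Nat.bijective_iff_injective_and_card ι).2 ⟨hι, by rw [h3, hcls]⟩).2
      ⟨x * v * x⁻¹, _root_.isConj_iff.2 ⟨x, rfl⟩⟩
    rw [show x * v * x⁻¹ = (w.1 : M) from (congrArg Subtype.val hw).symm]
    exact w.1.2
  · rw [← hC v₁ hv₁ hv₁1]
    exact mem_centralizer_singleton_iff.2 (hx v₁ hv₁).eq

variable {G : Type u} [Group G] [Finite G] {t : G} {F : Type} [Field F] [Fintype F] {E L : Subgroup G}
  {A : Sylow 2 G} {V D : Subgroup G}

/-- `⟨f⟩` inside `C(f)`. -/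
abbrev fix0 (f : G) : Subgroup ↥(centralizer ({f} : Set G)) :=
  (zpowers f).subgroupOf (centralizer ({f} : Set G))

theorem fix0_normal (f : G) : (fix0 f).Normal :=
  ⟨fun x hx g => by
    rw [mem_subgroupOf] at hx ⊢
    obtain ⟨i, hi⟩ := mem_zpowers_iff.1 hx
    rw [coe_mul, coe_mul, coe_inv, ← hi, ((show Commute (g : G) f from
      mem_centralizer_singleton_iff.1 g.2).zpow_right i).eq, mul_inv_cancel_right]
    exact zpow_mem (mem_zpowers f) i⟩

/-- An involution times a power of `f` is an involution only trivially. -/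
theorem zpow_f_eq_one {f a : G} {i : ℤ} (ho : orderOf f = 3) (ha : a * a = 1) (hc : Commute a f)
    (h : a * f ^ i * (a * f ^ i) = 1) : f ^ i = 1 := by
  rw [(hc.zpow_right i).symm.mul_mul_mul_comm, ha, one_mul] at h
  have h2 : f ^ (2 * i) = 1 := by rw [two_mul, zpow_add, h]
  rw [← orderOf_dvd_iff_zpow_eq_one, ho] at h2 ⊢
  omega

variable {f : G}

/-- **`C(f) / ⟨f⟩`.** -/
theorem nine_quotient (fr : FieldFrame G t F E L A V D) (hf : f ∈ D) (ho : orderOf f = 3)
    (hF : Fintype.card F = 27) (hord : Nat.card (centralizer ({f} : Set G)) ≤ 4536)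
    (ht : t ∈ centralizer ({f} : Set G)) :
    haveI := fix0_normal f
    Nine (QuotientGroup.mk' (fix0 f) ⟨t, ht⟩)
      (((A : Subgroup G).subgroupOf (centralizer ({f} : Set G))).map (QuotientGroup.mk' (fix0 f))) := by
  classical
  haveI := fix0_normal f
  haveI : Fact (Nat.Prime 3) := ⟨Nat.prime_three⟩
  haveI : Fact (Nat.Prime 2) := ⟨Nat.prime_two⟩
  set X := centralizer ({f} : Set G)
  set π := QuotientGroup.mk' (fix0 f)
  obtain ⟨F₀, _, _, hF₀, ⟨e₀⟩⟩ := fr.exists_field hf
  rw [ho, hF] at hF₀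
  have hq0 : Fintype.card F₀ = 3 := Nat.pow_left_injective (n := 3) (by norm_num) (by simpa using hF₀)
  set M := L ⊓ X
  have hVM : V ≤ M := fr.V_le_fixed hf
  haveI hk4 : IsKleinFour (V.subgroupOf M) :=
    haveI := fr.frame.four
    let eV := (subgroupOfEquivOfLe (fun v hv => fr.frame.memE₀ hv : V ≤ L)).trans (subgroupOfEquivOfLe hVM).symm
    ⟨by rw [← Nat.card_congr eV.toEquiv]; exact IsKleinFour.card_four,
      (Monoid.exponent_eq_of_mulEquiv eV).symm.trans IsKleinFour.exponent_two⟩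
  obtain ⟨hM12, hnormV, hcentV⟩ := four_normal hq0 e₀ hk4
  have hDz : ∀ d ∈ D, d ∈ zpowers f := (fr.small_zpowers hf e₀ hq0).le
  have hAX : (A : Subgroup G) ≤ X := fun a ha =>
    mem_centralizer_singleton_iff.2 (mem_centralizer_iff.1 (fr.cent_A hf) a ha)
  have hAf : ∀ a ∈ (A : Subgroup G), Commute a f := fun a ha => mem_centralizer_singleton_iff.1 (hAX ha)
  have hsq : ∀ a ∈ (A : Subgroup G), a * a = 1 := fun a ha => fr.shape.elem.sq A ha
  have hNX : normalizer ((A : Subgroup G) : Set G) ≤ X := fun n hn => fr.mem_X hf hn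
  have hlift : ∀ x : X, π x ∈ (((A : Subgroup G).subgroupOf X).map π) →
      ∃ a ∈ (A : Subgroup G), ∃ i : ℤ, (x : G) = a * f ^ i := by
    rintro x ⟨a, ha, hax⟩
    obtain ⟨i, hi⟩ := mem_zpowers_iff.1 ((mem_subgroupOf.1 (QuotientGroup.eq.1 hax)))
    exact ⟨a, ha, i, by rw [hi]; simp⟩
  have hexact : ∀ (x a : X), (a : G) ∈ (A : Subgroup G) → π x * π a * (π x)⁻¹ ∈ ((A : Subgroup G).subgroupOf X).map π →
      (x : G) * a * (x : G)⁻¹ ∈ (A : Subgroup G) := by
    intro x a ha h
    rw [← map_inv, ← map_mul, ← map_mul] at h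
    obtain ⟨b, hb, i, hi⟩ := hlift _ h
    have hi' : (x : G) * a * (x : G)⁻¹ = b * f ^ i := hi
    rw [hi', zpow_f_eq_one ho (hsq b hb) (hAf b hb) (i := i)
      (by rw [← hi', conj_mul, hsq _ ha, mul_one, mul_inv_cancel]), mul_one]
    exact hb
  have hnorm : ∀ x : X, π x ∈ normalizer ((((A : Subgroup G).subgroupOf X).map π : Subgroup (X ⧸ fix0 f)) : Set (X ⧸ fix0 f)) ↔
      (x : G) ∈ normalizer ((A : Subgroup G) : Set G) := by
    intro x
    constructor
    · intro h
      refine Coprime.mem_normalizer_of_forall fun a ha => hexact x ⟨a, hAX ha⟩ ha ?_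
      exact (mem_normalizer_iff.1 h _).1 ⟨⟨a, hAX ha⟩, ha, rfl⟩
    · intro h
      refine Coprime.mem_normalizer_of_forall fun z hz => ?_
      obtain ⟨a, ha, rfl⟩ := hz
      exact ⟨x * a * x⁻¹, (mem_normalizer_iff.1 h (a : G)).1 ha, by simp⟩
  -- `C(t) ∩ C(f)` normalises `A`
  have hVn : ∀ w ∈ M, ∀ v ∈ V, w * v * w⁻¹ ∈ V := fun w hw v hv =>
    hnormV ⟨w, hw⟩ ⟨v, hVM hv⟩ hv
  have hH : ∀ x : G, Commute x t → Commute x f → x ∈ normalizer ((A : Subgroup G) : Set G) := by
    intro x hxt hxf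
    obtain ⟨w, hw, d, hd, hcase⟩ := fr.decomp hxt
    have hdN : d ∈ normalizer ((A : Subgroup G) : Set G) := Coprime.mem_normalizer_of_forall fun a ha => by
      rw [show d * a = a * d from (mem_centralizer_iff.1 (fr.cent_A hd) a ha).symm, mul_inv_cancel_right]
      exact ha
    have hdf : Commute d f := fr.comm_D hd hf
    have htf : Commute t f := hAf t fr.frame.htA
    have htN : t ∈ normalizer ((A : Subgroup G) : Set G) := le_normalizer fr.frame.htA
    have key : Commute w f → w * d ∈ normalizer ((A : Subgroup G) : Set G) := fun hwf => by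
      refine mul_mem (Coprime.mem_normalizer_of_forall fun a ha => ?_) hdN
      have hwM : w ∈ M := mem_inf.2 ⟨hw, mem_centralizer_singleton_iff.2 hwf.eq⟩
      rcases (fr.frame.mem a ha).2 with hv | ⟨v, hv, rfl⟩
      · exact fr.frame.memA (hVn w hwM a hv)
      · rw [show w * (t * v) * w⁻¹ = (w * t * w⁻¹) * (w * v * w⁻¹) by group,
          (fr.frame.commute_of_mem hw).eq, mul_inv_cancel_right]
        exact mul_mem fr.frame.htA (fr.frame.memA (hVn w hwM v hv))
    rcases hcase with rfl | rfl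
    · exact key (by simpa using hxf.mul_left hdf.inv_left)
    · exact mul_mem htN (key (by simpa using (htf.inv_left.mul_left hxf).mul_left hdf.inv_left))
  -- at most nine conjugates
  have hidx : ((normalizer ((A : Subgroup G) : Set G)).subgroupOf X).index ≤ 9 := by
    set N := (normalizer ((A : Subgroup G) : Set G)).subgroupOf X
    set H := centralizer ({t} : Set G) ⊓ X
    have hH72 : Nat.card H = 72 := by
      rw [fr.card_cent_inf hf, hM12]
      have h3 : Nat.card D = 3 := by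
        have h : D = zpowers f := le_antisymm (fun d hd => hDz d hd) (zpowers_le.2 hf)
        rw [h, Nat.card_zpowers, ho]
      rw [h3]
    have hA8 := (fr.shape.elem.sylow A).2
    choose n hn hnt using fun a : {a : (A : Subgroup G) // a ≠ 1} =>
      fr.shape.elem.normalizer_transitive A fr.frame.htA (Involution.ne_one fr.frame.ht) a.1.2
        (fun h => a.2 (Subtype.ext h))
    let φ : {a : (A : Subgroup G) // a ≠ 1} × H → N := fun p =>
      ⟨⟨n p.1 * p.2, mul_mem (hNX (hn p.1)) p.2.2.2⟩, mem_subgroupOf.2 (mul_mem (hn p.1)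
        (hH _ (mem_centralizer_singleton_iff.1 p.2.2.1) (mem_centralizer_singleton_iff.1 p.2.2.2)))⟩
    have hφ : Function.Injective φ := by
      rintro ⟨a, x⟩ ⟨b, z⟩ he
      have he' : n a * (x : G) = n b * (z : G) := congrArg (fun w : N => ((w : X) : G)) he
      have key : ∀ (c : {a : (A : Subgroup G) // a ≠ 1}) (w : H), n c * (w : G) * t * (n c * (w : G))⁻¹ = c.1 :=
        fun c w => by
          calc n c * (w : G) * t * (n c * (w : G))⁻¹ = n c * ((w : G) * t * (w : G)⁻¹) * (n c)⁻¹ := by group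
            _ = c.1 := by
              rw [show (w : G) * t = t * w from mem_centralizer_singleton_iff.1 w.2.1, mul_inv_cancel_right, hnt c]
      have hab : a = b := Subtype.ext (Subtype.ext (by rw [← key a x, he', key b z]))
      subst hab
      rw [Subtype.ext (mul_left_cancel he') (a1 := x) (a2 := z)]
    have h504 : 504 ≤ Nat.card N := by
      have h := Nat.card_le_card_of_injective φ hφ
      rw [Nat.card_prod, hH72] at h
      have h7 : Nat.card {a : (A : Subgroup G) // a ≠ 1} = 7 := by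
        letI := Fintype.ofFinite (A : Subgroup G)
        rw [Nat.card_eq_fintype_card, Fintype.card_subtype_compl, Fintype.card_subtype_eq,
          ← Nat.card_eq_fintype_card, hA8]
      rw [h7] at h
      exact h
    have h := N.card_mul_index
    by_contra hgt
    have : 504 * 10 ≤ Nat.card N * N.index := Nat.mul_le_mul h504 (by omega)
    omega
  refine
    { t_mem := ⟨⟨t, ht⟩, fr.frame.htA, rfl⟩
      t_ne := fun h => ?_
      sq := ?_
      ti := ?_
      invol_mem := ?_
      index_le := ?_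
      fixed := ?_
      third := ?_ }
  · obtain ⟨i, hi⟩ := mem_zpowers_iff.1 (mem_subgroupOf.1 ((QuotientGroup.eq_one_iff _).1 h))
    have h1 := zpow_f_eq_one (i := i) ho (one_mul (1 : G)) (Commute.one_left f) (by
      rw [one_mul, show f ^ i = t from hi]; exact fr.frame.mul_self_t)
    rw [show f ^ i = t from hi] at h1
    exact Involution.ne_one fr.frame.ht h1
  · rintro _ ⟨a, ha, rfl⟩
    rw [← map_mul, show a * a = 1 from Subtype.ext (hsq _ ha), map_one]
  · rintro z _ ⟨a, ha, rfl⟩ ha1 hz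
    obtain ⟨x, rfl⟩ := QuotientGroup.mk'_surjective (fix0 f) z
    refine (hnorm x).2 ?_
    have ha1' : (a : G) ≠ 1 := fun h => ha1 (by rw [show a = 1 from Subtype.ext h, map_one])
    have hb := hexact x a ha hz
    have hb1 : (x : G) * a * (x : G)⁻¹ ≠ 1 := fun h => ha1' (conj_eq_one_iff.1 h)
    have ht1 := Involution.ne_one fr.frame.ht
    obtain ⟨m, hm, hmt⟩ := fr.shape.elem.normalizer_transitive A fr.frame.htA ht1 ha ha1'
    obtain ⟨k, hk, hkt⟩ := fr.shape.elem.normalizer_transitive A fr.frame.htA ht1 hb hb1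
    have hyt : Commute (k⁻¹ * x * m) t := mul_inv_eq_iff_eq_mul.1 (by
      calc k⁻¹ * x * m * t * (k⁻¹ * x * m)⁻¹ = k⁻¹ * (x * (m * t * m⁻¹) * (x : G)⁻¹) * k := by group
        _ = t := by rw [hmt]; show k⁻¹ * ((x : G) * (a : G) * (x : G)⁻¹) * k = t; rw [← hkt]; group)
    have hy := hH _ hyt (mem_centralizer_singleton_iff.1 (mul_mem (mul_mem (inv_mem (hNX hk)) x.2) (hNX hm)))
    rw [show (x : G) = k * (k⁻¹ * x * m) * m⁻¹ by group]
    exact mul_mem (mul_mem hk hy) (inv_mem hm)
  · intro n hn h2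
    obtain ⟨x, rfl⟩ := QuotientGroup.mk'_surjective (fix0 f) n
    have hxN := (hnorm x).1 hn
    rw [← map_mul] at h2
    have h2' : (x : G) * x ∈ zpowers f := mem_subgroupOf.1 ((QuotientGroup.eq_one_iff _).1 h2)
    have h6 : ((x : G) ^ 3) ^ 2 = 1 := by
      rw [← pow_mul, mul_comm, pow_mul, pow_two, ← orderOf_dvd_iff_pow_eq_one]
      exact ho ▸ orderOf_dvd_of_mem_zpowers h2'
    have hyA : (x : G) ^ 3 ∈ (A : Subgroup G) := by
      have hp : IsPGroup 2 ↥(zpowers ((x : G) ^ 3) ⊔ (A : Subgroup G)) := by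
        refine IsPGroup.to_sup_of_normal_right' ?_ A.2 (zpowers_le.2 (pow_mem hxN 3))
        obtain ⟨j, -, hj⟩ := (Nat.dvd_prime_pow Nat.prime_two).1
          (orderOf_dvd_of_pow_eq_one h6 : orderOf ((x : G) ^ 3) ∣ 2 ^ 1)
        exact IsPGroup.of_card (n := j) (by rw [Nat.card_zpowers, hj])
      rw [← A.is_maximal' hp le_sup_right]
      exact mem_sup_left (mem_zpowers _)
    refine ⟨x ^ 3, hyA, ?_⟩
    rw [pow_succ, pow_two, map_mul, h2, one_mul]
  · have e : (normalizer ((((A : Subgroup G).subgroupOf X).map π : Subgroup (X ⧸ fix0 f)) :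
        Set (X ⧸ fix0 f))).comap π = (normalizer ((A : Subgroup G) : Set G)).subgroupOf X := by
      ext x; rw [mem_comap, hnorm x, mem_subgroupOf]
    rw [← index_comap_of_surjective _ (QuotientGroup.mk'_surjective (fix0 f)), e]
    exact hidx
  · intro z hzt hz3 hz1
    obtain ⟨x, rfl⟩ := QuotientGroup.mk'_surjective (fix0 f) z
    have hxt : Commute (x : G) t := by
      obtain ⟨i, hi⟩ := mem_zpowers_iff.1 (mem_subgroupOf.1 (QuotientGroup.eq.1
        (show π x = π (⟨t, ht⟩ * x * ⟨t, ht⟩⁻¹) by rw [map_mul, map_mul, map_inv, ← hzt.eq, mul_inv_cancel_right])))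
      have hi' : f ^ i = (x : G)⁻¹ * (t * x * t⁻¹) := hi
      have htf : Commute t f := hAf t fr.frame.htA
      have hfi : f ^ (2 * i) = 1 := by
        have e1 : t * x * t⁻¹ = x * f ^ i := by rw [hi']; group
        have e2 : (x : G) = x * f ^ i * f ^ i := by
          calc (x : G) = t * (t * x * t⁻¹) * t⁻¹ := by
                rw [show t * (t * (x : G) * t⁻¹) * t⁻¹ = (t * t) * x * (t * t)⁻¹ by group, fr.frame.mul_self_t,
                  one_mul, inv_one, mul_one]
            _ = (t * x * t⁻¹) * f ^ i := by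
                rw [e1]
                calc t * ((x : G) * f ^ i) * t⁻¹ = (t * x * t⁻¹) * (t * f ^ i * t⁻¹) := by group
                  _ = _ := by rw [e1, (htf.zpow_right i).eq, mul_inv_cancel_right]
            _ = _ := by rw [e1]
        rw [mul_assoc, ← zpow_add, ← two_mul, left_eq_mul] at e2
        exact e2
      have hfi' : f ^ i = 1 := by
        rw [← orderOf_dvd_iff_zpow_eq_one, ho] at hfi ⊢
        omega
      rw [hfi'] at hi'
      exact (mul_inv_eq_iff_eq_mul.1 (inv_mul_eq_one.1 hi'.symm).symm).symm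
    have hxf : Commute (x : G) f := mem_centralizer_singleton_iff.1 x.2
    refine ⟨(hnorm x).2 (hH _ hxt hxf), ?_⟩
    by_contra hall
    apply hz1
    obtain ⟨k, hk⟩ := hz3
    rw [← map_pow] at hk
    have hk' : (x : G) ^ 3 ^ k ∈ zpowers f := mem_subgroupOf.1 ((QuotientGroup.eq_one_iff _).1 hk)
    have hxord : orderOf (x : G) ∣ 3 ^ (k + 1) := orderOf_dvd_of_pow_eq_one (by
      rw [pow_succ, pow_mul, ← orderOf_dvd_iff_pow_eq_one]
      exact (orderOf_dvd_of_mem_zpowers hk').trans (dvd_of_eq ho))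
    have h3odd : Odd (3 ^ (k + 1)) := (Nat.odd_iff.2 (by norm_num : 3 % 2 = 1)).pow
    obtain ⟨w, hw, d, hd, hxwd⟩ := fr.split _ (fr.frame.toCtx.mem_of_odd hxt (h3odd.of_dvd_nat hxord))
    have hdf := fr.comm_D hd hf
    have hwf : Commute w f := by
      rw [hxwd] at hxf
      simpa using hxf.mul_left hdf.inv_left
    have hwM : w ∈ M := mem_inf.2 ⟨hw, mem_centralizer_singleton_iff.2 hwf.eq⟩
    have hwV : (⟨w, hwM⟩ : M) ∈ V.subgroupOf M := by
      refine hcentV _ fun v hv => Subtype.ext (show w * (v : G) = v * w from ?_)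
      have hvA : (v : G) ∈ (A : Subgroup G) := fr.frame.memA hv
      set vX : X := ⟨v, hAX hvA⟩
      have h1 : π x * π vX * (π x)⁻¹ = π vX := not_not.1 fun h => hall ⟨_, ⟨vX, hvA, rfl⟩, h⟩
      rw [← map_inv, ← map_mul, ← map_mul] at h1
      obtain ⟨i, hi⟩ := mem_zpowers_iff.1 (mem_subgroupOf.1 (QuotientGroup.eq.1 h1.symm))
      have hi' : f ^ i = (v : G)⁻¹ * (x * v * (x : G)⁻¹) := hi
      have e1 : (x : G) * v * (x : G)⁻¹ = v * f ^ i := by rw [hi']; group
      have hfi := zpow_f_eq_one ho (hsq _ hvA) (hAf _ hvA) (i := i)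
        (by rw [← e1, conj_mul, hsq _ hvA, mul_one, mul_inv_cancel])
      rw [hfi, mul_one, hxwd] at e1
      have hdv : d * (v : G) = v * d := (mem_centralizer_iff.1 (fr.cent_A hd) _ hvA).symm
      refine mul_inv_eq_iff_eq_mul.1 ?_
      calc w * (v : G) * w⁻¹ = w * (v * d) * (w * d)⁻¹ := by group
        _ = v := by rw [← hdv]; rw [← mul_assoc]; exact e1
    obtain ⟨j, hj⟩ := mem_zpowers_iff.1 (hDz d hd)
    have hw1 : w = 1 := by
      refine orderOf_eq_one_iff.1 (Nat.eq_one_of_dvd_coprimes (Nat.coprime_two_left.2 h3odd)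
        (orderOf_dvd_of_pow_eq_one (by rw [pow_two]; exact hsq _ (fr.frame.memA hwV))) ?_)
      refine orderOf_dvd_of_pow_eq_one ?_
      have hd3 : d ^ 3 ^ (k + 1) = 1 := by
        rw [← orderOf_dvd_iff_pow_eq_one]
        exact ((orderOf_dvd_of_mem_zpowers (hDz d hd)).trans (dvd_of_eq ho)).trans (dvd_pow_self 3 k.succ_ne_zero)
      have hwd : Commute w d := by
        have h := ((hwf.zpow_right j))
        rwa [hj] at h
      have hx1 := orderOf_dvd_iff_pow_eq_one.1 hxord
      rwa [hxwd, hwd.mul_pow, hd3, mul_one] at hx1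
    refine (QuotientGroup.eq_one_iff _).2 (mem_subgroupOf.2 ?_)
    rw [hxwd, hw1, one_mul]
    exact hDz d hd
  · obtain ⟨⟨v, hv⟩, hv1⟩ : ∃ v : V.subgroupOf M, v ≠ 1 := by
      haveI : Nontrivial (V.subgroupOf M) := Finite.one_lt_card_iff_nontrivial.1 (by
        rw [IsKleinFour.card_four]; norm_num)
      exact exists_ne 1
    have hvV : (v : G) ∈ V := hv
    have hvA := fr.frame.memA hvV
    refine ⟨π ⟨v, hAX hvA⟩, ⟨_, hvA, rfl⟩, fun h => ?_, fun h => ?_⟩
    · obtain ⟨i, hi⟩ := mem_zpowers_iff.1 (mem_subgroupOf.1 ((QuotientGroup.eq_one_iff _).1 h))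
      have hi' : f ^ i = (v : G) := hi
      have h1 := zpow_f_eq_one (i := i) ho (one_mul (1 : G)) (Commute.one_left f) (by
        rw [one_mul, hi']; exact hsq _ hvA)
      exact hv1 (Subtype.ext (Subtype.ext (hi'.symm.trans h1)))
    · obtain ⟨i, hi⟩ := mem_zpowers_iff.1 (mem_subgroupOf.1 (QuotientGroup.eq.1 h.symm))
      have hi' : f ^ i = t⁻¹ * (v : G) := hi
      have e1 : (v : G) = t * f ^ i := by rw [hi']; group
      have hfi := zpow_f_eq_one (i := i) ho fr.frame.mul_self_t (hAf t fr.frame.htA)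
        (by rw [← e1]; exact hsq _ hvA)
      rw [hfi, mul_one] at e1
      exact fr.frame.t_not_mem (e1 ▸ hvV)

/-- **The two hypotheses of `noInvertedMod_of_small`.** -/
theorem small_cent_of_le (fr : FieldFrame G t F E L A V D) (hf : f ∈ D) (ho : orderOf f = 3)
    (hF : Fintype.card F = 27) (hord : Nat.card (centralizer ({f} : Set G)) ≤ 4536) :
    (∀ P : Subgroup G, IsPGroup 3 P → P ≤ centralizer ({f} : Set G) → t ∈ normalizer (P : Set G) →
      ∃ a : G, a ^ 9 = 1 ∧ ∀ x ∈ P, t * x * t⁻¹ = x⁻¹ → x ∈ zpowers a) ∧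
    (∀ d ∈ centralizer ({f} : Set G), orderOf d = 9 → t * d * t⁻¹ = d⁻¹ →
      ∀ u ∈ L, orderOf u = 3 → Commute u f → ¬ Commute d u) := by
  classical
  have htf : Commute t f := (fr.frame.comm f (fr.D_le hf)).symm
  have ht : t ∈ centralizer ({f} : Set G) := mem_centralizer_singleton_iff.2 htf.eq
  have NN := nine_quotient fr hf ho hF hord ht
  haveI := fix0_normal f
  set X := centralizer ({f} : Set G)
  set π := QuotientGroup.mk' (fix0 f)
  set tX : X := ⟨t, ht⟩
  -- inverted and in the kernel: trivial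
  have hkill : ∀ z : G, z ∈ zpowers f → t * z * t⁻¹ = z⁻¹ → z = 1 := fun z hz hzi => by
    obtain ⟨i, rfl⟩ := mem_zpowers_iff.1 hz
    rw [(htf.zpow_right i).eq, mul_inv_cancel_right] at hzi
    exact zpow_f_eq_one ho (one_mul (1 : G)) (Commute.one_left f) (i := i)
      (by rw [one_mul]; nth_rewrite 2 [hzi]; exact mul_inv_cancel _)
  refine ⟨fun P hP hPX htP => ?_, fun d hd hd9 hdi u hu hu3 huf hdu => ?_⟩
  · set Q := (P.subgroupOf X).map π
    have hQ : IsPGroup 3 Q := (hP.of_equiv (subgroupOfEquivOfLe hPX).symm).map _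
    have htQ : π tX ∈ normalizer (Q : Set (X ⧸ fix0 f)) := Coprime.mem_normalizer_of_forall fun z hz => by
      obtain ⟨x, hx, rfl⟩ := hz
      exact ⟨tX * x * tX⁻¹, (mem_normalizer_iff.1 htP (x : G)).1 hx, by simp⟩
    obtain ⟨ab, hab9, habi, hcov⟩ := NN.exists_cyclic hQ htQ
    obtain ⟨a₀, rfl⟩ := QuotientGroup.mk'_surjective (fix0 f) ab
    obtain ⟨i, hi⟩ := mem_zpowers_iff.1 (mem_subgroupOf.1 (QuotientGroup.eq.1
      (show π a₀⁻¹ = π (tX * a₀ * tX⁻¹) by rw [map_mul, map_mul, map_inv, map_inv, habi])))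
    have hi' : f ^ i = (a₀ : G) * (t * (a₀ : G) * t⁻¹) := by rw [hi]; simp [tX]
    have ha0f : ∀ j : ℤ, Commute (a₀ : G) (f ^ j) := fun j =>
      (show Commute (a₀ : G) f from mem_centralizer_singleton_iff.1 a₀.2).zpow_right j
    set a := (a₀ : G) * f ^ i with ha
    have haX : a ∈ X := mul_mem a₀.2 (zpow_mem (mem_centralizer_singleton_iff.2 rfl) i)
    have hai : t * a * t⁻¹ = a⁻¹ := by
      have h1 : t * (a₀ : G) * t⁻¹ = (a₀ : G)⁻¹ * f ^ i := by rw [hi']; group
      have h3 : f ^ i * f ^ i = (f ^ i)⁻¹ := eq_inv_of_mul_eq_one_left (by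
        rw [← zpow_add, ← zpow_add, show i + i + i = (3 : ℤ) * i by ring, zpow_mul]
        norm_cast
        rw [← ho, pow_orderOf_eq_one, one_zpow])
      calc t * a * t⁻¹ = (t * a₀ * t⁻¹) * (t * f ^ i * t⁻¹) := by rw [ha]; group
        _ = (a₀ : G)⁻¹ * f ^ i * f ^ i := by rw [h1, (htf.zpow_right i).eq, mul_inv_cancel_right]
        _ = a⁻¹ := by rw [mul_assoc, h3, ha, ← mul_inv_rev, (ha0f i).eq]
    have hπa : π ⟨a, haX⟩ = π a₀ := by
      refine (QuotientGroup.eq.2 (mem_subgroupOf.2 ?_)).symm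
      show (a₀ : G)⁻¹ * a ∈ zpowers f
      rw [ha, inv_mul_cancel_left]
      exact zpow_mem (mem_zpowers f) i
    refine ⟨a, ?_, fun x hx hxi => ?_⟩
    · refine hkill _ (mem_subgroupOf.1 ((QuotientGroup.eq_one_iff (⟨a, haX⟩ ^ 9 : X)).1 ?_))
        (by rw [← conj_pow, hai, inv_pow])
      show π (⟨a, haX⟩ ^ 9) = 1
      rw [map_pow, hπa, hab9]
    · set xX : X := ⟨x, hPX hx⟩
      have hxI : π xX ∈ Nine.inverted (π tX) Q := ⟨⟨xX, hx, rfl⟩, by
        rw [← map_inv, ← map_mul, ← map_mul, ← map_inv]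
        exact congrArg π (Subtype.ext hxi)⟩
      obtain ⟨k, hk⟩ := mem_zpowers_iff.1 (hcov _ hxI)
      rw [← hπa, ← map_zpow] at hk
      have hmem : (a ^ k)⁻¹ * x ∈ zpowers f := mem_subgroupOf.1 (QuotientGroup.eq.1 hk)
      obtain ⟨j, hj⟩ := mem_zpowers_iff.1 hmem
      have hxe : x = a ^ k * f ^ j := by rw [hj]; group
      have haf : Commute (a ^ k) (f ^ j) :=
        ((show Commute a f from mem_centralizer_singleton_iff.1 haX).zpow_zpow k j)
      have h1 : f ^ j = 1 := hkill _ (zpow_mem (mem_zpowers f) j) (by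
        have h2 : (a ^ k)⁻¹ * (t * f ^ j * t⁻¹) = (a ^ k)⁻¹ * (f ^ j)⁻¹ := by
          calc (a ^ k)⁻¹ * (t * f ^ j * t⁻¹) = (t * a ^ k * t⁻¹) * (t * f ^ j * t⁻¹) := by
                rw [← conj_zpow (b := a), hai, inv_zpow]
            _ = t * x * t⁻¹ := by rw [hxe]; group
            _ = (a ^ k)⁻¹ * (f ^ j)⁻¹ := by rw [hxi, hxe, ← mul_inv_rev, haf.eq]
        exact mul_left_cancel h2)
      rw [hxe, h1, mul_one]
      exact zpow_mem (mem_zpowers a) k
  · set dX : X := ⟨d, hd⟩
    set uX : X := ⟨u, mem_centralizer_singleton_iff.2 huf.eq⟩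
    have hu1 : π uX ≠ 1 := fun h => by
      have h1 : u ∈ zpowers f := mem_subgroupOf.1 ((QuotientGroup.eq_one_iff uX).1 h)
      have h2 : u ∈ D ⊓ L := ⟨zpowers_le.2 hf h1, hu⟩
      rw [fr.D_inf, mem_bot] at h2
      rw [h2, orderOf_one] at hu3
      omega
    have hdo : orderOf (π dX) = 9 := by
      haveI : Fact (Nat.Prime 3) := ⟨Nat.prime_three⟩
      refine orderOf_eq_prime_pow (p := 3) (n := 1) (fun h => ?_) ?_
      · rw [pow_one, ← map_pow] at h
        have h1 : d ^ 3 = 1 := hkill _ (mem_subgroupOf.1 ((QuotientGroup.eq_one_iff (dX ^ 3)).1 h))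
          (by rw [← conj_pow, hdi, inv_pow])
        have := orderOf_dvd_of_pow_eq_one h1
        rw [hd9] at this
        norm_num at this
      · rw [← map_pow, show dX ^ 3 ^ (1 + 1) = 1 from Subtype.ext (by
          show d ^ 3 ^ (1 + 1) = 1
          rw [show 3 ^ (1 + 1) = 9 from rfl, ← hd9, pow_orderOf_eq_one]), map_one]
    refine NN.not_commute hdo ?_ ?_ ⟨1, ?_⟩ hu1 ((show Commute dX uX from Subtype.ext hdu.eq).map π)
    · rw [← map_inv, ← map_mul, ← map_mul, ← map_inv]
      exact congrArg π (Subtype.ext hdi)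
    · exact (show Commute uX tX from Subtype.ext (fr.frame.commute_of_mem hu).eq).map π
    · rw [← map_pow, show uX ^ 3 ^ 1 = 1 from Subtype.ext (by
        show u ^ 3 ^ 1 = 1
        rw [pow_one, ← hu3, pow_orderOf_eq_one]), map_one]

/-- **`C(f)` for `q = 27`.** -/
theorem small_cent (fr : FieldFrame G t F E L A V D) (hf : f ∈ D) (ho : orderOf f = 3)
    (hF : Fintype.card F = 27) :
    (∀ P : Subgroup G, IsPGroup 3 P → P ≤ centralizer ({f} : Set G) → t ∈ normalizer (P : Set G) →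
      ∃ a : G, a ^ 9 = 1 ∧ ∀ x ∈ P, t * x * t⁻¹ = x⁻¹ → x ∈ zpowers a) ∧
    (∀ d ∈ centralizer ({f} : Set G), orderOf d = 9 → t * d * t⁻¹ = d⁻¹ →
      ∀ u ∈ L, orderOf u = 3 → Commute u f → ¬ Commute d u) := by
  obtain ⟨F₀, _, _, hF₀, ⟨e₀⟩⟩ := fr.exists_field hf
  rw [ho, hF] at hF₀
  have hq0 : Fintype.card F₀ = 3 := Nat.pow_left_injective (n := 3) (by norm_num) (by simpa using hF₀)
  refine small_cent_of_le fr hf ho hF ?_
  rcases fr.small_order hf e₀ hq0 with e | e <;> rw [e, ho]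
  norm_num

end Cfsg.Agent.AbelianSylow.Field
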