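import Cfsg.Agent.EqLemmas
import Cfsg.Agent.Lib.AbelianSylow.Cent.FieldGamma

/-!
# No field automorphism, `q₀ = 3`: the quotient of order `1512` (owner: helper87)

* `Small1512 τ B`            : what `C(f) / ⟨f⟩` satisfies
* `Small1512.card_normalizer` : the normaliser of a Sylow 7-subgroup has order `42`
* `Small1512.exists_rot`     : an inverted subgroup of order 7 with a rotation of order 3 fixed by `τ`
-/

set_option autoImplicit false
set_option linter.style.haveILetI false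

namespace Cfsg.Agent.AbelianSylow.Field

open Subgroup

universe u

/-- The hypotheses on the quotient. -/
structure Small1512 {Y : Type u} [Group Y] (τ : Y) (B : Subgroup Y) : Prop where
  card : Nat.card Y = 1512
  invol : orderOf τ = 2
  one_class : ∀ a : Y, orderOf a = 2 → ∃ g, g * τ * g⁻¹ = a
  card_cent : Nat.card (centralizer ({τ} : Set Y)) = 24
  mem : τ ∈ B
  card_B : Nat.card B = 8
  sq : ∀ a ∈ B, a * a = 1
  self_cent : ∀ c : Y, (∀ a ∈ B, Commute c a) → c ∈ B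
  transitive : ∀ a ∈ B, a ≠ 1 → ∃ n ∈ normalizer (B : Set Y), n * τ * n⁻¹ = a
  mover : ∃ n ∈ normalizer (B : Set Y), Commute n τ ∧ n ∉ B

namespace Small1512

variable {Y : Type u} [Group Y] [Finite Y] {τ : Y} {B : Subgroup Y}

theorem commute_B (h : Small1512 τ B) {a b : Y} (ha : a ∈ B) (hb : b ∈ B) : Commute a b := by
  have hab := h.sq _ (mul_mem ha hb)
  show a * b = b * a
  calc a * b = a * ((a * b) * (a * b)) * b := by rw [hab, mul_one]
    _ = (a * a) * (b * a) * (b * b) := by group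
    _ = b * a := by rw [h.sq a ha, h.sq b hb, one_mul, mul_one]

theorem orderOf_mem (h : Small1512 τ B) {a : Y} (ha : a ∈ B) (ha1 : a ≠ 1) : orderOf a = 2 :=
  Involution.orderOf_of_sq (h.sq a ha) ha1

theorem card_cent_eq (h : Small1512 τ B) {a : Y} (ha : orderOf a = 2) :
    Nat.card (centralizer ({a} : Set Y)) = 24 := by
  obtain ⟨g, rfl⟩ := h.one_class a ha
  rw [← h.card_cent]
  have hm : (centralizer ({τ} : Set Y)).map (MulAut.conj g).toMonoidHom =
      centralizer ({g * τ * g⁻¹} : Set Y) := by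
    ext y
    constructor
    · rintro ⟨z, hz, rfl⟩
      refine mem_centralizer_singleton_iff.2 ?_
      show g * z * g⁻¹ * (g * τ * g⁻¹) = g * τ * g⁻¹ * (g * z * g⁻¹)
      calc g * z * g⁻¹ * (g * τ * g⁻¹) = g * (z * τ) * g⁻¹ := by group
        _ = g * (τ * z) * g⁻¹ := by rw [mem_centralizer_singleton_iff.1 hz]
        _ = _ := by group
    · intro hy
      refine ⟨g⁻¹ * y * g, mem_centralizer_singleton_iff.2 ?_, by simp [mul_assoc]⟩
      calc g⁻¹ * y * g * τ = g⁻¹ * (y * (g * τ * g⁻¹)) * g := by group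
        _ = g⁻¹ * (g * τ * g⁻¹ * y) * g := by rw [mem_centralizer_singleton_iff.1 hy]
        _ = _ := by group
  rw [← hm, card_map_of_injective (MulAut.conj g).injective]

/-- An involution fixes no element of order 7. -/
theorem not_commute (h : Small1512 τ B) {a z : Y} (ha : orderOf a = 2) (hz : orderOf z = 7) :
    ¬ Commute z a := fun hc => by
  have h1 := Subgroup.orderOf_dvd_natCard (centralizer ({a} : Set Y)) (x := z)
    (mem_centralizer_singleton_iff.2 hc.eq)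
  rw [hz, h.card_cent_eq ha] at h1
  omega

theorem inverts (h : Small1512 τ B) {a z : Y} (ha : orderOf a = 2) (hz : orderOf z = 7)
    (hn : a ∈ normalizer (zpowers z : Set Y)) : a * z * a⁻¹ = z⁻¹ := by
  obtain ⟨i, hi⟩ := Submonoid.mem_powers_iff _ _ |>.1
    (mem_powers_iff_mem_zpowers.2 ((mem_normalizer_iff.1 hn z).1 (mem_zpowers z)))
  have haa : a * a = 1 := Involution.mul_self ha
  have h2 : z ^ (i * i) = z ^ 1 := by
    rw [pow_one, pow_mul]
    calc (z ^ i) ^ i = (a * z * a⁻¹) ^ i := by rw [hi]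
      _ = a * z ^ i * a⁻¹ := conj_pow
      _ = (a * a) * z * (a * a)⁻¹ := by rw [hi]; group
      _ = z := by rw [haa]; group
  rw [pow_eq_pow_iff_modEq, hz, Nat.ModEq, Nat.mul_mod] at h2
  have hlt : i % 7 < 7 := Nat.mod_lt _ (by norm_num)
  have h7 : i % 7 = 1 ∨ i % 7 = 6 := by
    interval_cases hr : i % 7 <;> simp_all
  rw [← hi, ← pow_mod_orderOf, hz]
  rcases h7 with e | e <;> rw [e]
  · exfalso
    refine h.not_commute ha hz (mul_inv_eq_iff_eq_mul.1 ?_).symm
    rw [← hi, ← pow_mod_orderOf, hz, e, pow_one]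
  · refine eq_inv_of_mul_eq_one_left ?_
    rw [← pow_succ, show 6 + 1 = orderOf z by rw [hz]]
    exact pow_orderOf_eq_one z

/-- Two commuting involutions do not normalise a subgroup of order 7. -/
theorem not_four (h : Small1512 τ B) {a b z : Y} (ha : orderOf a = 2) (hb : orderOf b = 2) (hne : a ≠ b)
    (hab : Commute a b) (hz : orderOf z = 7) (hna : a ∈ normalizer (zpowers z : Set Y))
    (hnb : b ∈ normalizer (zpowers z : Set Y)) : False := by
  have haa : a * a = 1 := Involution.mul_self ha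
  have hbb : b * b = 1 := Involution.mul_self hb
  have hab2 : orderOf (a * b) = 2 := by
    refine Involution.orderOf_of_sq ?_ fun e => hne ?_
    · calc a * b * (a * b) = a * (b * a) * b := by group
        _ = (a * a) * (b * b) := by rw [← hab.eq]; group
        _ = 1 := by rw [haa, hbb, one_mul]
    · rw [mul_eq_one_iff_eq_inv, inv_eq_of_mul_eq_one_right hbb] at e
      exact e
  refine h.not_commute hab2 hz (mul_inv_eq_iff_eq_mul.1 ?_).symm
  calc a * b * z * (a * b)⁻¹ = a * (b * z * b⁻¹) * a⁻¹ := by group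
    _ = (a * z * a⁻¹)⁻¹ := by rw [h.inverts hb hz hnb]; group
    _ = z := by rw [h.inverts ha hz hna, inv_inv]

theorem exists_other (h : Small1512 τ B) : ∃ b ∈ B, b ≠ 1 ∧ b ≠ τ := by
  by_contra hc
  push Not at hc
  have h1 := Nat.card_mono (Set.toFinite ({1, τ} : Set Y)) (fun b (hb : b ∈ B) => by
    by_cases hb1 : b = 1
    · exact Or.inl hb1
    · exact Or.inr (hc b hb hb1))
  rw [SetLike.coe_sort_coe, h.card_B, Nat.card_coe_set_eq,
    Set.ncard_pair (Involution.ne_one h.invol).symm] at h1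
  omega

theorem B_not_le (h : Small1512 τ B) {z : Y} (hz : orderOf z = 7) : ¬ B ≤ normalizer (zpowers z : Set Y) := by
  intro hle
  obtain ⟨b, hb, hb1, hbt⟩ := h.exists_other
  exact h.not_four (h.orderOf_mem hb hb1) h.invol hbt (h.commute_B hb h.mem) hz (hle hb) (hle h.mem)

theorem card_sylow (h : Small1512 τ B) (Q : Sylow 7 Y) : Nat.card (Q : Subgroup Y) = 7 := by
  haveI : Fact (Nat.Prime 7) := ⟨by norm_num⟩
  simpa using SmallOrders.card_sylow_subgroup (e := 1) (p := 7) (m := 216) (by rw [h.card]; norm_num) (by norm_num) Q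

theorem exists_generator_sylow (h : Small1512 τ B) (Q : Sylow 7 Y) :
    ∃ z : Y, orderOf z = 7 ∧ (Q : Subgroup Y) = zpowers z := by
  haveI : Fact (Nat.Prime 7) := ⟨by norm_num⟩
  obtain ⟨⟨z, hzQ⟩, hz⟩ := exists_prime_orderOf_dvd_card' (G := (Q : Subgroup Y)) 7 (by rw [h.card_sylow])
  rw [Subgroup.orderOf_mk] at hz
  exact ⟨z, hz, (eq_of_le_of_card_ge (zpowers_le.2 hzQ) (by rw [Nat.card_zpowers, hz, h.card_sylow])).symm⟩

/-- There are 36 Sylow 7-subgroups. -/
theorem card_sylows (h : Small1512 τ B) : Nat.card (Sylow 7 Y) = 36 := by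
  classical
  haveI : Fact (Nat.Prime 7) := ⟨by norm_num⟩
  haveI : Fact (Nat.Prime 3) := ⟨Nat.prime_three⟩
  obtain ⟨P⟩ : Nonempty (Sylow 7 Y) := inferInstance
  obtain ⟨z, hz, hPz⟩ := h.exists_generator_sylow P
  have hidx : (P : Subgroup Y).index = 216 := by
    have := (P : Subgroup Y).card_mul_index
    rw [h.card_sylow, h.card] at this
    omega
  have hd : Nat.card (Sylow 7 Y) ∈ Nat.divisors 216 :=
    Nat.mem_divisors.2 ⟨hidx ▸ P.card_dvd_index, by norm_num⟩
  have hm : Nat.card (Sylow 7 Y) % 7 = 1 := card_sylow_modEq_one 7 Y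
  have hnP : Nat.card (Sylow 7 Y) = (normalizer ((P : Subgroup Y) : Set Y)).index := P.card_eq_index_normalizer
  have hall : ∀ k ∈ Nat.divisors 216, k % 7 = 1 → k = 1 ∨ k = 8 ∨ k = 36 := by decide +kernel
  have hne1 : Nat.card (Sylow 7 Y) ≠ 1 := by
    intro e
    rw [hnP, index_eq_one, hPz] at e
    exact h.B_not_le hz (e ▸ le_top)
  rcases hall _ hd hm with e | e | e
  · exact absurd e hne1
  swap
  · exact e
  exfalso
  set K := (MulAction.toPermHom Y (Sylow 7 Y)).ker with hK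
  have hKn : K.Normal := MonoidHom.normal_ker _
  have hKfix : ∀ k ∈ K, ∀ Q : Sylow 7 Y, k ∈ normalizer ((Q : Subgroup Y) : Set Y) := fun k hk Q =>
    Sylow.smul_eq_iff_mem_normalizer.1 (by
      have := DFunLike.congr_fun (MonoidHom.mem_ker.1 hk) Q
      simpa using this)
  -- no involution
  have hK2 : ∀ a ∈ K, orderOf a ≠ 2 := by
    intro a ha ha2
    obtain ⟨g, hg⟩ := h.one_class a ha2
    have hτK : τ ∈ K := by
      have := hKn.conj_mem a ha g⁻¹
      rwa [← hg, show g⁻¹ * (g * τ * g⁻¹) * g⁻¹⁻¹ = τ by group] at this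
    refine h.B_not_le hz fun b hb => hPz ▸ ?_
    by_cases hb1 : b = 1
    · rw [hb1]; exact one_mem _
    obtain ⟨g', hg'⟩ := h.one_class b (h.orderOf_mem hb hb1)
    exact hKfix b (hg' ▸ hKn.conj_mem τ hτK g') P
  -- no element of order 7
  have hK7 : ∀ x ∈ K, orderOf x ≠ 7 := by
    intro x hx hx7
    have hsub : ∀ Q : Sylow 7 Y, (Q : Subgroup Y) = zpowers x := fun Q => by
      have hp : IsPGroup 7 (zpowers x) := IsPGroup.of_card (n := 1) (by rw [Nat.card_zpowers, hx7, pow_one])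
      have hmem : x ∈ zpowers x ⊓ (Q : Subgroup Y) := by
        rw [← hp.inf_normalizer_sylow Q]
        exact mem_inf.2 ⟨mem_zpowers x, hKfix x hx Q⟩
      exact (eq_of_le_of_card_ge (zpowers_le.2 hmem.2) (by rw [Nat.card_zpowers, hx7, h.card_sylow])).symm
    refine hne1 (Nat.card_eq_one_iff_unique.2 ⟨⟨fun Q R => Sylow.ext ((hsub Q).trans (hsub R).symm)⟩, inferInstance⟩)
  -- an element of order 3
  have h3 : 3 ∣ Nat.card K := by
    have h1 : Nat.card Y = Nat.card (MulAction.toPermHom Y (Sylow 7 Y)).range * Nat.card K := by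
      rw [K.card_eq_card_quotient_mul_card_subgroup,
        Nat.card_congr (QuotientGroup.quotientKerEquivRange _).toEquiv]
    have h2 : Nat.card (MulAction.toPermHom Y (Sylow 7 Y)).range ∣ 40320 := by
      refine (card_subgroup_dvd_card _).trans ?_
      rw [Nat.card_perm, e]
      decide
    by_contra h3
    have hcop : Nat.Coprime 27 (Nat.card K) := by
      rw [show 27 = 3 ^ 3 by norm_num]
      exact Nat.Coprime.pow_left 3 (Nat.prime_three.coprime_iff_not_dvd.2 h3)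
    have h27 : 27 ∣ Nat.card (MulAction.toPermHom Y (Sylow 7 Y)).range :=
      hcop.dvd_of_dvd_mul_right (h1 ▸ h.card ▸ (by norm_num))
    exact absurd (h27.trans h2) (by norm_num)
  obtain ⟨⟨u, huK⟩, hu⟩ := exists_prime_orderOf_dvd_card' (G := K) 3 h3
  rw [Subgroup.orderOf_mk] at hu
  -- every Sylow 7-subgroup centralises `K`
  set W := centralizer (K : Set Y) with hW
  haveI hWn : W.Normal := by rw [hW]; exact Subgroup.normal_centralizer
  have hQW : ∀ Q : Sylow 7 Y, (Q : Subgroup Y) ≤ W := by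
    intro Q y hy
    refine mem_centralizer_iff.2 fun k hk => ?_
    have hcK : k * y * k⁻¹ * y⁻¹ ∈ K := by
      have := mul_mem hk (hKn.conj_mem _ (inv_mem hk) y)
      rwa [show k * (y * k⁻¹ * y⁻¹) = k * y * k⁻¹ * y⁻¹ by group] at this
    have hcQ : k * y * k⁻¹ * y⁻¹ ∈ (Q : Subgroup Y) :=
      mul_mem ((mem_normalizer_iff.1 (hKfix k hk Q) y).1 hy) (inv_mem hy)
    have h1 : k * y * k⁻¹ * y⁻¹ = 1 := by
      by_contra hne
      refine hK7 _ hcK ?_
      have := Subgroup.orderOf_dvd_natCard _ hcQ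
      rw [h.card_sylow] at this
      exact ((Nat.dvd_prime (by norm_num)).1 this).resolve_left fun e => hne (orderOf_eq_one_iff.1 e)
    exact mul_inv_eq_iff_eq_mul.1 (mul_inv_eq_one.1 h1)
  by_cases h2W : 2 ∣ Nat.card W
  · haveI : Fact (Nat.Prime 2) := ⟨Nat.prime_two⟩
    obtain ⟨⟨a, haW⟩, ha⟩ := exists_prime_orderOf_dvd_card' (G := W) 2 h2W
    rw [Subgroup.orderOf_mk] at ha
    obtain ⟨g, hg⟩ := h.one_class a ha
    have hτW : τ ∈ W := by
      have := hWn.conj_mem a haW g⁻¹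
      rwa [← hg, show g⁻¹ * (g * τ * g⁻¹) * g⁻¹⁻¹ = τ by group] at this
    have huB : u ∈ B := h.self_cent u fun b hb => by
      by_cases hb1 : b = 1
      · rw [hb1]; exact Commute.one_right u
      obtain ⟨g', hg'⟩ := h.one_class b (h.orderOf_mem hb hb1)
      exact mem_centralizer_iff.1 (hg' ▸ hWn.conj_mem τ hτW g' : b ∈ W) u huK
    have h1 := orderOf_dvd_of_pow_eq_one (n := 2) (show u ^ 2 = 1 by rw [pow_two]; exact h.sq u huB)
    rw [hu] at h1
    omega
  · let PW : Sylow 7 W := P.subtype (hQW P)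
    have hWdvd : Nat.card W ∣ 189 := by
      have hc8 : Nat.Coprime (Nat.card W) 8 := by
        rw [show 8 = 2 ^ 3 by norm_num]
        exact Nat.Coprime.pow_right 3 ((Nat.prime_two.coprime_iff_not_dvd.2 h2W).symm)
      exact hc8.dvd_of_dvd_mul_left (dvd_trans (card_subgroup_dvd_card W) (by rw [h.card]))
    have hPW : Nat.card (PW : Subgroup W) = 7 := by
      rw [Sylow.coe_subtype, Nat.card_congr (subgroupOfEquivOfLe (hQW P)).toEquiv, h.card_sylow]
    have hidxW : (PW : Subgroup W).index ∣ 27 := by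
      have := (PW : Subgroup W).card_mul_index
      rw [hPW] at this
      rw [← this] at hWdvd
      exact (Nat.mul_dvd_mul_iff_left (by norm_num : 0 < 7)).1 (show 7 * _ ∣ 7 * 27 from hWdvd)
    have hone : Nat.card (Sylow 7 W) = 1 := by
      have hd' : Nat.card (Sylow 7 W) ∈ Nat.divisors 27 :=
        Nat.mem_divisors.2 ⟨PW.card_dvd_index.trans hidxW, by norm_num⟩
      have hall' : ∀ k ∈ Nat.divisors 27, k % 7 = 1 → k = 1 := by decide +kernel
      exact hall' _ hd' (card_sylow_modEq_one 7 W)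
    refine hne1 (Nat.card_eq_one_iff_unique.2 ⟨⟨fun Q R => Sylow.subtype_injective (hP := hQW Q) (hQ := hQW R) ?_⟩,
      inferInstance⟩)
    exact (Nat.card_eq_one_iff_unique.1 hone).1.allEq _ _

theorem card_normalizer (h : Small1512 τ B) {z : Y} (hz : orderOf z = 7) :
    Nat.card (normalizer (zpowers z : Set Y)) = 42 := by
  haveI : Fact (Nat.Prime 7) := ⟨by norm_num⟩
  obtain ⟨P, hP⟩ := (IsPGroup.of_card (G := zpowers z) (p := 7) (n := 1)
    (by rw [Nat.card_zpowers, hz, pow_one])).exists_le_sylow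
  have hPz : (P : Subgroup Y) = zpowers z :=
    (eq_of_le_of_card_ge hP (by rw [h.card_sylow, Nat.card_zpowers, hz])).symm
  have hnP : Nat.card (Sylow 7 Y) = (normalizer ((P : Subgroup Y) : Set Y)).index := P.card_eq_index_normalizer
  have h1 := (normalizer ((P : Subgroup Y) : Set Y)).card_mul_index
  rw [← hnP, h.card_sylows, h.card, hPz] at h1
  omega

/-- `N(B)` contains `C(τ)` and has order 168. -/
theorem card_norm_B (h : Small1512 τ B) : Nat.card (normalizer (B : Set Y)) = 168 := by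
  classical
  set M := normalizer (B : Set Y) with hM
  set H := M ⊓ centralizer ({τ} : Set Y) with hH
  have hBH : B ≤ H := fun b hb =>
    mem_inf.2 ⟨le_normalizer hb, mem_centralizer_singleton_iff.2 (h.commute_B hb h.mem).eq⟩
  have hH24 : Nat.card H = 24 := by
    have h1 : Nat.card H ∣ 24 := h.card_cent ▸ card_dvd_of_le inf_le_right
    have h2 : 8 ∣ Nat.card H := h.card_B ▸ card_dvd_of_le hBH
    have h3 : Nat.card H ≠ 8 := fun e => by
      obtain ⟨n, hn, hnt, hnB⟩ := h.mover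
      exact hnB ((eq_of_le_of_card_ge hBH (by rw [e, h.card_B])).ge
        (mem_inf.2 ⟨hn, mem_centralizer_singleton_iff.2 hnt.eq⟩))
    have h4 := Nat.le_of_dvd (by norm_num) h1
    obtain ⟨c, hc⟩ := h2
    rcases (show c = 0 ∨ c = 1 ∨ c = 2 ∨ c = 3 by omega) with rfl | rfl | rfl | rfl
    · exact absurd hc (Nat.card_pos).ne'
    · omega
    · rw [hc] at h1; omega
    · omega
  letI : MulAction M Y := MulAction.compHom Y (ConjAct.toConjAct.toMonoidHom.comp M.subtype)
  have hsmul : ∀ (n : M) (x : Y), n • x = (n : Y) * x * (n : Y)⁻¹ := fun n x => by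
    show ConjAct.toConjAct (n : Y) • x = _
    rw [ConjAct.toConjAct_smul]
  have horb : MulAction.orbit M τ = (B : Set Y) \ {1} := by
    ext x
    constructor
    · rintro ⟨n, rfl⟩
      simp only [hsmul]
      exact ⟨(mem_normalizer_iff.1 n.2 τ).1 h.mem, fun e => Involution.ne_one h.invol (conj_eq_one_iff.1 e)⟩
    · rintro ⟨hx, hx1⟩
      obtain ⟨n, hn, he⟩ := h.transitive x hx hx1
      exact ⟨⟨n, hn⟩, (hsmul _ _).trans he⟩
  have hstab : MulAction.stabilizer M τ = H.subgroupOf M := by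
    ext n
    rw [MulAction.mem_stabilizer_iff, hsmul, mem_subgroupOf, hH, mem_inf, mem_centralizer_singleton_iff,
      mul_inv_eq_iff_eq_mul]
    exact ⟨fun e => ⟨n.2, e⟩, fun e => e.2⟩
  have h7 : (MulAction.stabilizer M τ).index = 7 := by
    rw [MulAction.index_stabilizer, horb, Set.ncard_diff_singleton_of_mem (one_mem B), ← Nat.card_coe_set_eq,
      SetLike.coe_sort_coe, h.card_B]
  rw [← (MulAction.stabilizer M τ).card_mul_index, h7, hstab,
    Nat.card_congr (subgroupOfEquivOfLe inf_le_left).toEquiv, hH24]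

/-- Some element of order 3 rotates a subgroup of order 7. -/
theorem exists_moving (h : Small1512 τ B) :
    ∃ z c : Y, orderOf z = 7 ∧ orderOf c = 3 ∧ c * z * c⁻¹ ∈ zpowers z ∧ ¬ Commute c z := by
  classical
  haveI : Fact (Nat.Prime 7) := ⟨by norm_num⟩
  haveI : Fact (Nat.Prime 3) := ⟨Nat.prime_three⟩
  set M := normalizer (B : Set Y) with hM
  have hM168 := h.card_norm_B
  obtain ⟨Q⟩ : Nonempty (Sylow 7 M) := inferInstance
  have hQ : Nat.card (Q : Subgroup M) = 7 := by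
    simpa using SmallOrders.card_sylow_subgroup (e := 1) (p := 7) (m := 24) (by rw [hM168]; norm_num) (by norm_num) Q
  obtain ⟨⟨zM, hzQ⟩, hz⟩ := exists_prime_orderOf_dvd_card' (G := (Q : Subgroup M)) 7 (by rw [hQ])
  rw [Subgroup.orderOf_mk] at hz
  have hQz : (Q : Subgroup M) = zpowers zM :=
    (eq_of_le_of_card_ge (zpowers_le.2 hzQ) (by rw [Nat.card_zpowers, hz, hQ])).symm
  have hz' : orderOf (zM : Y) = 7 := by rw [orderOf_coe]; exact hz
  have hconj : ∀ n : M, n ∈ normalizer ((Q : Subgroup M) : Set M) → (n : Y) * zM * (n : Y)⁻¹ ∈ zpowers (zM : Y) := by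
    intro n hn
    have h1 := (mem_normalizer_iff.1 hn zM).1 hzQ
    rw [hQz] at h1
    obtain ⟨i, hi⟩ := mem_zpowers_iff.1 h1
    exact mem_zpowers_iff.2 ⟨i, by simpa using congrArg Subtype.val hi⟩
  have hnQ : Nat.card (Sylow 7 M) = (normalizer ((Q : Subgroup M) : Set M)).index := Q.card_eq_index_normalizer
  -- eight Sylow subgroups
  have hidx : (normalizer ((Q : Subgroup M) : Set M)).index = 8 := by
    have hd : (normalizer ((Q : Subgroup M) : Set M)).index ∈ Nat.divisors 24 := by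
      refine Nat.mem_divisors.2 ⟨?_, by norm_num⟩
      rw [← hnQ]
      refine Q.card_dvd_index.trans ?_
      have := (Q : Subgroup M).card_mul_index
      rw [hQ, hM168] at this
      exact ⟨1, by omega⟩
    have hm : (normalizer ((Q : Subgroup M) : Set M)).index % 7 = 1 := by
      rw [← hnQ]; exact card_sylow_modEq_one 7 M
    have hall : ∀ k ∈ Nat.divisors 24, k % 7 = 1 → k = 1 ∨ k = 8 := by decide +kernel
    refine (hall _ hd hm).resolve_left fun e => h.B_not_le hz' fun b hb => ?_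
    have htop := index_eq_one.1 e
    refine Coprime.mem_normalizer_of_forall fun x hx => ?_
    obtain ⟨i, rfl⟩ := mem_zpowers_iff.1 hx
    rw [← conj_zpow]
    exact zpow_mem (hconj ⟨b, le_normalizer hb⟩ (htop ▸ mem_top _)) i
  have h21 : Nat.card (normalizer ((Q : Subgroup M) : Set M)) = 21 := by
    have := (normalizer ((Q : Subgroup M) : Set M)).card_mul_index
    rw [hidx, hM168] at this
    omega
  obtain ⟨⟨cM, hcN⟩, hc⟩ := exists_prime_orderOf_dvd_card' (G := normalizer ((Q : Subgroup M) : Set M)) 3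
    (by rw [h21]; norm_num)
  rw [Subgroup.orderOf_mk, ← orderOf_coe] at hc
  refine ⟨zM, cM, hz', hc, hconj cM hcN, fun hcz => ?_⟩
  -- it would centralise `B`
  set z := (zM : Y) with hzdef
  set c := (cM : Y) with hcdef
  have hinj : Function.Injective fun j : Fin 7 => z ^ (j : ℕ) * τ * (z ^ (j : ℕ))⁻¹ := by
    intro i j e
    by_contra hne
    wlog hlt : (i : ℕ) < j generalizing i j
    · exact this e.symm (Ne.symm hne) (lt_of_le_of_ne (not_lt.1 hlt) fun e' => hne (Fin.ext e'.symm))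
    have e1 : z ^ (j : ℕ) = z ^ (i : ℕ) * z ^ ((j : ℕ) - i) := by rw [← pow_add]; congr 1; omega
    have hcomm : Commute (z ^ ((j : ℕ) - i)) τ := by
      refine mul_inv_eq_iff_eq_mul.1 (mul_left_cancel (a := z ^ (i : ℕ)) (mul_right_cancel
        (b := (z ^ (i : ℕ))⁻¹) ?_))
      replace e : z ^ (i : ℕ) * τ * (z ^ (i : ℕ))⁻¹ = z ^ (j : ℕ) * τ * (z ^ (j : ℕ))⁻¹ := e
      rw [e, e1]; group
    refine h.not_commute h.invol ?_ hcomm
    have hj := j.isLt
    rw [orderOf_pow' _ (by omega : (j : ℕ) - i ≠ 0), hz', Nat.Coprime.gcd_eq_one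
      ((Nat.Prime.coprime_iff_not_dvd (by norm_num)).2 fun hd => by
        have := Nat.le_of_dvd (by omega) hd; omega), Nat.div_one]
  have hzM : z ∈ M := zM.2
  have hrange : Set.range (fun j : Fin 7 => z ^ (j : ℕ) * τ * (z ^ (j : ℕ))⁻¹) = (B : Set Y) \ {1} := by
    refine Set.eq_of_subset_of_ncard_le ?_ ?_ (Set.toFinite _)
    · rintro _ ⟨j, rfl⟩
      exact ⟨(mem_normalizer_iff.1 (pow_mem hzM _) τ).1 h.mem,
        fun e => Involution.ne_one h.invol (conj_eq_one_iff.1 e)⟩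
    · rw [Set.ncard_range_of_injective hinj, Set.ncard_diff_singleton_of_mem (one_mem B), ← Nat.card_coe_set_eq,
        SetLike.coe_sort_coe, h.card_B, Nat.card_fin]
  obtain ⟨i, hi⟩ : c * τ * c⁻¹ ∈ Set.range (fun j : Fin 7 => z ^ (j : ℕ) * τ * (z ^ (j : ℕ))⁻¹) := by
    rw [hrange]
    exact ⟨(mem_normalizer_iff.1 cM.2 τ).1 h.mem, fun e => Involution.ne_one h.invol (conj_eq_one_iff.1 e)⟩
  replace hi : z ^ (i : ℕ) * τ * (z ^ (i : ℕ))⁻¹ = c * τ * c⁻¹ := hi
  have hzi : Commute c (z ^ (i : ℕ)) := hcz.pow_right _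
  have hstep : ∀ m : ℕ, c ^ m * τ * (c ^ m)⁻¹ = z ^ (m * i) * τ * (z ^ (m * i))⁻¹ := by
    intro m
    induction m with
    | zero => simp
    | succ m ih =>
      have hzm : Commute c (z ^ (m * i)) := hcz.pow_right _
      calc c ^ (m + 1) * τ * (c ^ (m + 1))⁻¹ = c * (c ^ m * τ * (c ^ m)⁻¹) * c⁻¹ := by rw [pow_succ']; group
        _ = (c * z ^ (m * i)) * τ * (c * z ^ (m * i))⁻¹ := by rw [ih]; group
        _ = z ^ (m * i) * (c * τ * c⁻¹) * (z ^ (m * i))⁻¹ := by rw [hzm.eq]; group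
        _ = z ^ ((m + 1) * i) * τ * (z ^ ((m + 1) * i))⁻¹ := by rw [← hi, Nat.succ_mul, pow_add]; group
  have h3 := hstep 3
  rw [show c ^ 3 = 1 from hc ▸ pow_orderOf_eq_one c, one_mul, inv_one, mul_one] at h3
  have hi0 : (i : ℕ) = 0 := by
    by_contra hne
    refine h.not_commute h.invol (z := z ^ (3 * (i : ℕ))) ?_ (mul_inv_eq_iff_eq_mul.1 h3.symm)
    have := i.isLt
    rw [orderOf_pow' _ (by omega : 3 * (i : ℕ) ≠ 0), hz', Nat.Coprime.gcd_eq_one
      ((Nat.Prime.coprime_iff_not_dvd (by norm_num)).2 fun hd => by omega), Nat.div_one]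
  rw [hi0, pow_zero, one_mul, inv_one, mul_one] at hi
  have hcB : c ∈ B := h.self_cent c fun b hb => by
    by_cases hb1 : b = 1
    · rw [hb1]; exact Commute.one_right c
    obtain ⟨j, rfl⟩ := hrange.ge ⟨hb, hb1⟩
    have hzj : Commute c (z ^ (j : ℕ)) := hcz.pow_right _
    exact (hzj.mul_right (mul_inv_eq_iff_eq_mul.1 hi.symm)).mul_right hzj.inv_right
  have h2 := orderOf_dvd_of_pow_eq_one (n := 2) (show c ^ 2 = 1 by rw [pow_two]; exact h.sq c hcB)
  rw [hc] at h2
  omega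

/-- **The rotation.** -/
theorem exists_rot (h : Small1512 τ B) :
    ∃ (z c : Y) (ω : ℕ), orderOf z = 7 ∧ τ * z * τ⁻¹ = z⁻¹ ∧ Commute c τ ∧ c ^ 3 = 1 ∧
      c * z * c⁻¹ = z ^ ω ∧ ω % 7 ≠ 1 ∧
      ∀ d : Y, Commute d τ → d ^ 3 = 1 → d * z * d⁻¹ ∈ zpowers z → d ∈ zpowers c := by
  classical
  haveI : Fact (Nat.Prime 7) := ⟨by norm_num⟩
  haveI : Fact (Nat.Prime 2) := ⟨Nat.prime_two⟩
  obtain ⟨z₁, c₁, hz₁, hc₁, hcn₁, hcm₁⟩ := h.exists_moving
  -- an involution inverting `z₁`, moved to `τ`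
  obtain ⟨⟨a, haN⟩, ha⟩ := exists_prime_orderOf_dvd_card' (G := normalizer (zpowers z₁ : Set Y)) 2
    (by rw [h.card_normalizer hz₁]; norm_num)
  rw [Subgroup.orderOf_mk] at ha
  obtain ⟨g, hg⟩ := h.one_class a ha
  have hai := h.inverts ha hz₁ haN
  set z := g⁻¹ * z₁ * g with hzdef
  set c₀ := g⁻¹ * c₁ * g with hc₀def
  have hz : orderOf z = 7 := by
    rw [hzdef, show g⁻¹ * z₁ * g = MulAut.conj g⁻¹ z₁ by simp, MulEquiv.orderOf_eq, hz₁]
  have hτz : τ * z * τ⁻¹ = z⁻¹ := by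
    rw [hzdef, show τ = g⁻¹ * a * g by rw [← hg]; group]
    calc g⁻¹ * a * g * (g⁻¹ * z₁ * g) * (g⁻¹ * a * g)⁻¹ = g⁻¹ * (a * z₁ * a⁻¹) * g := by group
      _ = _ := by rw [hai]; group
  have hc₀3 : c₀ ^ 3 = 1 := by
    rw [hc₀def, show g⁻¹ * c₁ * g = g⁻¹ * c₁ * g⁻¹⁻¹ by rw [inv_inv], conj_pow,
      show c₁ ^ 3 = 1 from hc₁ ▸ pow_orderOf_eq_one c₁]
    group
  have hc₀n : c₀ * z * c₀⁻¹ ∈ zpowers z := by
    obtain ⟨i, hi⟩ := mem_zpowers_iff.1 hcn₁
    refine mem_zpowers_iff.2 ⟨i, ?_⟩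
    rw [hzdef, hc₀def, show g⁻¹ * z₁ * g = g⁻¹ * z₁ * g⁻¹⁻¹ by rw [inv_inv], conj_zpow, hi]
    group
  have hc₀m : ¬ Commute c₀ z := fun hc => hcm₁ (by
    have h1 := hc.map (MulAut.conj g).toMonoidHom
    simpa [hc₀def, hzdef, mul_assoc] using h1)
  set N := normalizer (zpowers z : Set Y) with hNdef
  have hN : Nat.card N = 42 := h.card_normalizer hz
  have hnorm : ∀ d : Y, d * z * d⁻¹ ∈ zpowers z → d ∈ N := fun d hd =>
    Coprime.mem_normalizer_of_forall fun x hx => by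
      obtain ⟨i, rfl⟩ := mem_zpowers_iff.1 hx
      rw [← conj_zpow]; exact zpow_mem hd i
  have hc₀N : c₀ ∈ N := hnorm _ hc₀n
  -- self-centralising
  set C := centralizer ({z} : Set Y) with hCdef
  have hCN : C ≤ N := fun x hx => hnorm x (by
    rw [mem_centralizer_singleton_iff.1 hx, mul_inv_cancel_right]; exact mem_zpowers z)
  have hzC : zpowers z ≤ C := zpowers_le.2 (mem_centralizer_singleton_iff.2 rfl)
  have hodd : ∀ x ∈ C, orderOf x ≠ 2 := fun x hx h2 => h.not_commute h2 hz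
    (mem_centralizer_singleton_iff.1 hx).symm
  have hC : C = zpowers z := by
    refine (eq_of_le_of_card_ge hzC ?_).symm
    rw [Nat.card_zpowers, hz]
    have h1 : Nat.card C ∣ 42 := hN ▸ card_dvd_of_le hCN
    have h7 : 7 ∣ Nat.card C := by
      have := card_dvd_of_le hzC
      rwa [Nat.card_zpowers, hz] at this
    have hn2 : ¬ 2 ∣ Nat.card C := fun h2 => by
      obtain ⟨⟨x, hx⟩, hxo⟩ := exists_prime_orderOf_dvd_card' (G := C) 2 h2
      rw [Subgroup.orderOf_mk] at hxo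
      exact hodd x hx hxo
    have hn21 : Nat.card C ≠ 21 := fun e => hc₀m (by
      have hi : (C.subgroupOf N).index = 2 := by
        have := (C.subgroupOf N).card_mul_index
        rw [Nat.card_congr (subgroupOfEquivOfLe hCN).toEquiv, e, hN] at this
        omega
      have h2 := sq_mem_of_index_two hi (⟨c₀, hc₀N⟩ * ⟨c₀, hc₀N⟩ : N)
      rw [mem_subgroupOf] at h2
      have : c₀ ∈ C := by
        have e4 : ((((⟨c₀, hc₀N⟩ * ⟨c₀, hc₀N⟩ : N)) ^ 2 : N) : Y) = c₀ := by
          show (c₀ * c₀) ^ 2 = c₀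
          rw [← pow_two, ← pow_mul, show 2 * 2 = 3 + 1 from rfl, pow_succ, hc₀3, one_mul]
        rwa [e4] at h2
      exact mem_centralizer_singleton_iff.1 this)
    obtain ⟨m, hm⟩ := h7
    have hle := Nat.le_of_dvd (by norm_num) h1
    have : m ≤ 6 := by omega
    interval_cases m <;> simp_all
  -- the commutator with `τ`
  have hinvP : ∀ x ∈ zpowers z, τ * x * τ⁻¹ = x⁻¹ := fun x hx => by
    obtain ⟨i, rfl⟩ := mem_zpowers_iff.1 hx
    rw [← conj_zpow, hτz, inv_zpow]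
  have hw : τ * c₀ * τ⁻¹ * c₀⁻¹ ∈ zpowers z := by
    rw [← hC]
    refine mem_centralizer_singleton_iff.2 (mul_inv_eq_iff_eq_mul.1 ?_)
    have h1 : c₀⁻¹ * z * c₀ ∈ zpowers z := by
      have := (mem_normalizer_iff.1 (inv_mem hc₀N) z).1 (mem_zpowers z)
      rwa [inv_inv] at this
    calc τ * c₀ * τ⁻¹ * c₀⁻¹ * z * (τ * c₀ * τ⁻¹ * c₀⁻¹)⁻¹
        = τ * c₀ * (τ⁻¹ * (c₀⁻¹ * z * c₀) * τ) * c₀⁻¹ * τ⁻¹ := by group
      _ = τ * c₀ * (τ * (c₀⁻¹ * z * c₀) * τ⁻¹) * c₀⁻¹ * τ⁻¹ := by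
        rw [inv_eq_of_mul_eq_one_right (Involution.mul_self h.invol)]
      _ = τ * z⁻¹ * τ⁻¹ := by rw [hinvP _ h1]; group
      _ = (τ * z * τ⁻¹)⁻¹ := by group
      _ = z := by rw [hτz, inv_inv]
  obtain ⟨e, he, hect⟩ := exists_fixed_mul (E := zpowers z) (by rw [Nat.card_zpowers, hz]; decide)
    (Involution.mul_self h.invol) (hnorm τ (by rw [hτz]; exact inv_mem (mem_zpowers z))) hw
  set c := e * c₀ with hcdef
  have hez : Commute e z := by
    obtain ⟨i, rfl⟩ := mem_zpowers_iff.1 he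
    exact (Commute.refl z).zpow_left i
  have hconj : c * z * c⁻¹ = c₀ * z * c₀⁻¹ := by
    obtain ⟨i, hi⟩ := mem_zpowers_iff.1 hc₀n
    calc c * z * c⁻¹ = e * (c₀ * z * c₀⁻¹) * e⁻¹ := by rw [hcdef]; group
      _ = c₀ * z * c₀⁻¹ := by rw [← hi, (hez.zpow_right i).eq, mul_inv_cancel_right]
  obtain ⟨ω, hω⟩ := Submonoid.mem_powers_iff _ _ |>.1 (mem_powers_iff_mem_zpowers.2 (hconj ▸ hc₀n))
  have hω1 : ω % 7 ≠ 1 := fun e1 => hc₀m (mul_inv_eq_iff_eq_mul.1 (by
    rw [← hconj, ← hω, ← pow_mod_orderOf, hz, e1, pow_one]))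
  -- fixed points of `τ` on `⟨z⟩`
  have hfix : ∀ x ∈ zpowers z, Commute x τ → x = 1 := fun x hx hxt => by
    by_contra hne
    refine h.not_commute h.invol ?_ hxt
    have := Subgroup.orderOf_dvd_natCard _ hx
    rw [Nat.card_zpowers, hz] at this
    exact ((Nat.dvd_prime (by norm_num)).1 this).resolve_left fun e1 => hne (orderOf_eq_one_iff.1 e1)
  have hc3 : c ^ 3 = 1 := by
    refine hfix _ ?_ (hect.pow_left 3)
    have h1 : c₀ * e * c₀⁻¹ ∈ zpowers z := (mem_normalizer_iff.1 hc₀N e).1 he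
    have h2 : c₀ * c₀ * e * (c₀ * c₀)⁻¹ ∈ zpowers z := (mem_normalizer_iff.1 (mul_mem hc₀N hc₀N) e).1 he
    have e3 : c ^ 3 = e * (c₀ * e * c₀⁻¹) * (c₀ * c₀ * e * (c₀ * c₀)⁻¹) * c₀ ^ 3 := by
      rw [hcdef]; simp only [pow_succ, pow_zero, one_mul]; group
    rw [e3, hc₀3, mul_one]
    exact mul_mem (mul_mem he h1) h2
  have hcN : c ∈ N := hnorm c (by rw [← hω]; exact pow_mem (mem_zpowers z) ω)
  refine ⟨z, c, ω, hz, hτz, hect, hc3, hω.symm, hω1, fun d hdt hd3 hdz => ?_⟩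
  obtain ⟨r, hr⟩ := Submonoid.mem_powers_iff _ _ |>.1 (mem_powers_iff_mem_zpowers.2 hdz)
  have hcube : ∀ (x : Y) (r : ℕ), x ^ 3 = 1 → x * z * x⁻¹ = z ^ r →
      r % 7 = 1 ∨ r % 7 = 2 ∨ r % 7 = 4 := by
    intro x r hx hxr
    have h1 : z ^ (r * r * r) = z ^ 1 := by
      rw [pow_one, pow_mul, pow_mul, ← hxr, conj_pow, ← hxr]
      rw [conj_pow, conj_pow, ← hxr]
      calc x * (x * (x * z * x⁻¹) * x⁻¹) * x⁻¹ = x ^ 3 * z * (x ^ 3)⁻¹ := by
            simp only [pow_succ, pow_zero, one_mul]; group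
        _ = z := by rw [hx]; group
    rw [pow_eq_pow_iff_modEq, hz, Nat.ModEq, Nat.mul_mod, Nat.mul_mod r r] at h1
    have hlt : r % 7 < 7 := Nat.mod_lt _ (by norm_num)
    interval_cases hv : r % 7 <;> simp_all
  have hwv := hcube c ω hc3 hω.symm
  have hrv := hcube d r hd3 hr.symm
  obtain ⟨j, hj⟩ : ∃ j : ℕ, ω ^ j % 7 = r % 7 := by
    rcases hwv with w | w | w
    · exact absurd w hω1
    all_goals
      rcases hrv with v | v | v
    · exact ⟨0, by rw [v]; rfl⟩
    · exact ⟨1, by rw [v, pow_one, w]⟩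
    · exact ⟨2, by rw [v, Nat.pow_mod, w]⟩
    · exact ⟨0, by rw [v]; rfl⟩
    · exact ⟨2, by rw [v, Nat.pow_mod, w]⟩
    · exact ⟨1, by rw [v, pow_one, w]⟩
  have hcj : ∀ j : ℕ, c ^ j * z * (c ^ j)⁻¹ = z ^ (ω ^ j) := by
    intro j
    induction j with
    | zero => simp
    | succ j ih =>
      calc c ^ (j + 1) * z * (c ^ (j + 1))⁻¹ = c * (c ^ j * z * (c ^ j)⁻¹) * c⁻¹ := by rw [pow_succ']; group
        _ = (c * z * c⁻¹) ^ (ω ^ j) := by rw [ih, conj_pow]
        _ = z ^ (ω ^ (j + 1)) := by rw [← hω, ← pow_mul, pow_succ']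
  have he1 : (c ^ j)⁻¹ * d ∈ zpowers z := by
    rw [← hC]
    refine mem_centralizer_singleton_iff.2 (mul_inv_eq_iff_eq_mul.1 ?_)
    have h2 : d * z * d⁻¹ = c ^ j * z * (c ^ j)⁻¹ := by
      rw [hcj, ← hr, ← pow_mod_orderOf z r, ← pow_mod_orderOf z (ω ^ j), hz, hj]
    calc (c ^ j)⁻¹ * d * z * ((c ^ j)⁻¹ * d)⁻¹ = (c ^ j)⁻¹ * (d * z * d⁻¹) * c ^ j := by group
      _ = z := by rw [h2]; group
  have h4 := hfix _ he1 ((hect.pow_left j).inv_left.mul_left hdt)
  rw [inv_mul_eq_one] at h4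
  exact h4 ▸ pow_mem (mem_zpowers c) j

end Small1512

end Cfsg.Agent.AbelianSylow.Field
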