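import Cfsg.Agent.Lib.AbelianSylow.Cent.FieldScalar
import Cfsg.Agent.Lib.AbelianSylow.Cent.FieldReduce
import Cfsg.Agent.Lib.AbelianSylow.Cent.FieldSmallQuot

/-!
# No field automorphism, `q₀ = 3`, `|C(f)| = 1512 |f|` (owner: helper87)

* `FieldFrame.small1512`        : `C(f) / ⟨f⟩` is a `Small1512` group
* `FieldFrame.small_seven_false` : impossible for `f` of 7-power order, by the transfer argument
-/

set_option autoImplicit false
set_option linter.style.haveILetI false
set_option linter.unusedSectionVars false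

namespace Cfsg.Agent.AbelianSylow.Field

open Subgroup

universe u

variable {G : Type u} [Group G] [Finite G] {t : G} {F : Type} [Field F] [Fintype F] {E L : Subgroup G}
  {A : Sylow 2 G} {V D : Subgroup G} {f : G}

theorem FieldFrame.cyclic_central (fr : FieldFrame G t F E L A V D) (hf : f ∈ D) :
    f ∈ centralizer ({f} : Set G) ∧ Odd (orderOf f) ∧
      ∀ o ∈ (zpowers f).subgroupOf (centralizer ({f} : Set G)), o ∈ center ↥(centralizer ({f} : Set G)) := by
  refine ⟨mem_centralizer_singleton_iff.2 rfl, fr.D_odd.of_dvd_nat (Subgroup.orderOf_dvd_natCard D hf),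
    fun o ho => mem_center_iff.2 fun g => Subtype.ext ?_⟩
  obtain ⟨i, hi⟩ := mem_zpowers_iff.1 (mem_subgroupOf.1 ho)
  show (g : G) * o = o * g
  rw [← hi]
  exact ((show Commute (g : G) f from mem_centralizer_singleton_iff.1 g.2).zpow_right i).eq

/-- The quotient of `C(f)` by `⟨f⟩`. -/
theorem FieldFrame.small1512 (fr : FieldFrame G t F E L A V D) (hf : f ∈ D) (hD : D = zpowers f)
    (hX : Nat.card (centralizer ({f} : Set G)) = 1512 * orderOf f)
    (hL : Nat.card ↥(L ⊓ centralizer ({f} : Set G)) = 12)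
    {Y : Type u} [Group Y] [Finite Y] (π : ↥(centralizer ({f} : Set G)) →* Y) (hπ : Function.Surjective π)
    (hker : π.ker = (zpowers f).subgroupOf (centralizer ({f} : Set G)))
    (ht : t ∈ centralizer ({f} : Set G)) :
    Small1512 (π ⟨t, ht⟩) (((A : Subgroup G).subgroupOf (centralizer ({f} : Set G))).map π) := by
  classical
  obtain ⟨hfX, hfodd, hNc⟩ := fr.cyclic_central hf
  set N := (zpowers f).subgroupOf (centralizer ({f} : Set G)) with hN
  have hNcard : Nat.card N = orderOf f := by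
    rw [hN, Nat.card_congr (subgroupOfEquivOfLe (zpowers_le.2 hfX)).toEquiv, Nat.card_zpowers]
  have hmod : ∀ {a b : (centralizer ({f} : Set G))}, a * a = 1 → b * b = 1 → π a = π b → a = b := fun {a b} ha hb e =>
    eq_of_mod hNc (by rw [hNcard]; exact hfodd) ha hb (by
      rw [← hker, MonoidHom.mem_ker, map_mul, map_inv, e, inv_mul_cancel])
  set t' : (centralizer ({f} : Set G)) := ⟨t, ht⟩ with ht'
  have ht'2 : t' * t' = 1 := Subtype.ext fr.frame.mul_self_t
  have hcentral : ∀ o : (centralizer ({f} : Set G)), π o = 1 → ∀ x : (centralizer ({f} : Set G)), Commute x o := fun o ho x =>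
    mem_center_iff.1 (hNc o (by rw [← hker]; exact ho)) x
  have hcommlift : ∀ {x a : (centralizer ({f} : Set G))}, a * a = 1 → Commute (π x) (π a) → Commute x a := fun {x a} ha hc => by
    refine mul_inv_eq_iff_eq_mul.1 (hmod ?_ ha (by rw [map_mul, map_mul, map_inv, hc.eq, mul_inv_cancel_right]))
    rw [show x * a * x⁻¹ * (x * a * x⁻¹) = x * (a * a) * x⁻¹ by group, ha]; group
  have hAX : (A : Subgroup G) ≤ (centralizer ({f} : Set G)) := fun a ha =>
    mem_centralizer_singleton_iff.2 (mem_centralizer_iff.1 (fr.cent_A hf) a ha)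
  have hA2 : ∀ a : (centralizer ({f} : Set G)), (a : G) ∈ (A : Subgroup G) → a * a = 1 := fun a ha =>
    Subtype.ext (fr.shape.elem.sq A ha)
  have hAinj : Function.Injective (π.comp ((A : Subgroup G).subgroupOf (centralizer ({f} : Set G))).subtype) := fun a b e =>
    Subtype.ext (hmod (hA2 _ a.2) (hA2 _ b.2) e)
  have hτ : orderOf (π t') = 2 := by
    refine Involution.orderOf_of_sq (by rw [← map_mul, ht'2, map_one]) fun e => ?_
    have := hmod ht'2 (one_mul 1) (by rw [e, map_one])
    exact Involution.ne_one fr.frame.ht (congrArg Subtype.val this)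
  have hcardY : Nat.card Y = 1512 := by
    have h := π.ker.card_eq_card_quotient_mul_card_subgroup
    rw [Nat.card_congr (QuotientGroup.quotientKerEquivOfSurjective π hπ).toEquiv, hker, hNcard, hX] at h
    exact (Nat.eq_of_mul_eq_mul_right (orderOf_pos f) h).symm
  refine ⟨hcardY, hτ, ?_, ?_, mem_map_of_mem π (mem_subgroupOf.2 fr.frame.htA), ?_, ?_, ?_, ?_, ?_⟩
  · -- one class
    intro y hy
    obtain ⟨x₀, rfl⟩ := hπ y
    set a : (centralizer ({f} : Set G)) := x₀ ^ Nat.card N with ha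
    have hy2 : π x₀ ^ 2 = 1 := hy ▸ pow_orderOf_eq_one (π x₀)
    have hx2 : x₀ ^ 2 ∈ N := by rw [← hker, MonoidHom.mem_ker, map_pow, hy2]
    have ha2 : a * a = 1 := by
      rw [ha, ← pow_two, ← pow_mul, mul_comm, pow_mul]
      exact congrArg Subtype.val (pow_card_eq_one' (x := (⟨x₀ ^ 2, hx2⟩ : N)))
    have hπa : π a = π x₀ := by
      obtain ⟨m, hm⟩ : Odd (Nat.card N) := hNcard ▸ hfodd
      rw [ha, map_pow, hm, pow_succ, pow_mul, hy2, one_pow, one_mul]
    have ha1 : (a : G) ≠ 1 := fun e => Involution.ne_one hy (by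
      rw [← hπa, show a = 1 from Subtype.ext e, map_one])
    obtain ⟨g, hgf, hg⟩ := fr.one_class hf (Involution.orderOf_of_sq (congrArg Subtype.val ha2) ha1)
      (mem_centralizer_singleton_iff.1 a.2)
    refine ⟨π ⟨g, mem_centralizer_singleton_iff.2 hgf.eq⟩, ?_⟩
    rw [← hπa, ← map_inv, ← map_mul, ← map_mul]
    exact congrArg π (Subtype.ext hg)
  · -- the centraliser of `τ`
    have hC : (centralizer ({π t'} : Set Y)).comap π = (centralizer ({t} : Set G)).subgroupOf (centralizer ({f} : Set G)) := by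
      ext x
      rw [mem_comap, mem_subgroupOf, mem_centralizer_singleton_iff, mem_centralizer_singleton_iff]
      exact ⟨fun e => congrArg Subtype.val (hcommlift ht'2 e).eq,
        fun e => ((show Commute x t' from Subtype.ext e).map π).eq⟩
    have h1 := ((centralizer ({t} : Set G)).subgroupOf (centralizer ({f} : Set G))).card_mul_index
    rw [← hC, index_comap_of_surjective _ hπ, hC, hX] at h1
    have hH : Nat.card ((centralizer ({t} : Set G)).subgroupOf (centralizer ({f} : Set G))) = 24 * orderOf f := by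
      rw [← inf_subgroupOf_right, Nat.card_congr (subgroupOfEquivOfLe inf_le_right).toEquiv,
        fr.card_cent_inf hf, hL, hD, Nat.card_zpowers]
    rw [hH] at h1
    have h2 := (centralizer ({π t'} : Set Y)).card_mul_index
    rw [hcardY] at h2
    rw [← h2] at h1
    have h3 : (centralizer ({π t'} : Set Y)).index * (24 * orderOf f) =
        (centralizer ({π t'} : Set Y)).index * (Nat.card (centralizer ({π t'} : Set Y)) * orderOf f) := by
      rw [mul_comm _ (24 * orderOf f), h1]; ring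
    exact (Nat.eq_of_mul_eq_mul_right (orderOf_pos f)
      (Nat.eq_of_mul_eq_mul_left (Nat.pos_of_ne_zero index_ne_zero_of_finite) h3)).symm
  · rw [← (fr.shape.elem.sylow A).2, ← Nat.card_congr (subgroupOfEquivOfLe hAX).toEquiv,
      Nat.card_congr (MonoidHom.ofInjective hAinj).toEquiv, MonoidHom.range_comp, range_subtype]
  · rintro _ ⟨a, ha, rfl⟩
    rw [← map_mul, hA2 a (mem_subgroupOf.1 ha), map_one]
  · intro c hc
    obtain ⟨x, rfl⟩ := hπ c
    have hxA : ∀ a ∈ (A : Subgroup G), Commute (x : G) a := fun a ha =>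
      congrArg Subtype.val (hcommlift (hA2 ⟨a, hAX ha⟩ ha)
        (hc _ (mem_map_of_mem π (mem_subgroupOf.2 (show ((⟨a, hAX ha⟩ : (centralizer ({f} : Set G))) : G) ∈ (A : Subgroup G) from ha))))).eq
    obtain ⟨y, hy, d, hd, hxy⟩ := fr.decomp (hxA t fr.frame.htA)
    have hyV : y ∈ V := fr.frame.data.cent _ fr.frame.four ⟨y, hy⟩ fun v hv => Subtype.ext (by
      have h1 := hxA _ (fr.frame.memA hv)
      have h2 : Commute (v : G) d := mem_centralizer_iff.1 (fr.cent_A hd) _ (fr.frame.memA hv)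
      have h3 : Commute t (v : G) := (fr.frame.commute_V hv).symm
      show y * (v : G) = v * y
      have h4 : Commute (y * d) (v : G) := by
        rcases hxy with e | e <;> rw [e] at h1
        · exact h1
        · simpa using h3.inv_left.mul_left h1
      simpa using (h4.mul_left h2.symm.inv_left).eq)
    have hyX : y ∈ (centralizer ({f} : Set G)) := hAX (fr.frame.memA hyV)
    have hdX : d ∈ (centralizer ({f} : Set G)) := mem_centralizer_singleton_iff.2 (fr.comm_D hd hf).eq
    have hπd : π ⟨d, hdX⟩ = 1 := by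
      rw [← MonoidHom.mem_ker, hker]; exact mem_subgroupOf.2 (hD ▸ hd)
    rcases hxy with e | e
    · refine ⟨⟨y, hyX⟩, mem_subgroupOf.2 (fr.frame.memA hyV), ?_⟩
      rw [show x = (⟨y, hyX⟩ : (centralizer ({f} : Set G))) * ⟨d, hdX⟩ from Subtype.ext e, map_mul, hπd, mul_one]
    · refine ⟨t' * ⟨y, hyX⟩, mem_subgroupOf.2 (mul_mem fr.frame.htA (fr.frame.memA hyV)), ?_⟩
      rw [show x = t' * ((⟨y, hyX⟩ : (centralizer ({f} : Set G))) * ⟨d, hdX⟩) from Subtype.ext e, map_mul, map_mul, map_mul, hπd, mul_one]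
  · rintro _ ⟨a, ha, rfl⟩ ha1
    obtain ⟨n, hn, hna⟩ := fr.shape.elem.normalizer_transitive A fr.frame.htA (Involution.ne_one fr.frame.ht)
      (mem_subgroupOf.1 ha) (fun e => ha1 (by rw [show a = 1 from Subtype.ext e, map_one]))
    refine ⟨π ⟨n, fr.mem_X hf hn⟩, Coprime.mem_normalizer_of_forall ?_, ?_⟩
    · rintro _ ⟨b, hb, rfl⟩
      refine ⟨⟨n, fr.mem_X hf hn⟩ * b * ⟨n, fr.mem_X hf hn⟩⁻¹,
        mem_subgroupOf.2 ((mem_normalizer_iff.1 hn b).1 hb), by simp⟩
    · rw [← map_inv, ← map_mul, ← map_mul]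
      exact congrArg π (Subtype.ext hna)
  · obtain ⟨u, ⟨hu, hu1⟩, w, ⟨hw, hw1⟩, huw⟩ := (Set.one_lt_ncard_iff (Set.toFinite _)).1
      (show 1 < ((V : Set G) \ {1}).ncard by rw [fr.frame.ncard_sdiff]; norm_num) |>
      fun ⟨a, b, ha, hb, hne⟩ => (⟨a, ha, b, hb, hne⟩ : ∃ u, u ∈ (V : Set G) \ {1} ∧ ∃ w, w ∈ (V : Set G) \ {1} ∧ u ≠ w)
    obtain ⟨n, hnL, hn, hnu⟩ := fr.frame.exists_normalizer hu hu1 hw hw1
    refine ⟨π ⟨n, fr.mem_X hf hn⟩, Coprime.mem_normalizer_of_forall ?_, ?_, ?_⟩
    · rintro _ ⟨b, hb, rfl⟩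
      refine ⟨⟨n, fr.mem_X hf hn⟩ * b * ⟨n, fr.mem_X hf hn⟩⁻¹,
        mem_subgroupOf.2 ((mem_normalizer_iff.1 hn b).1 hb), by simp⟩
    · exact (show Commute (⟨n, fr.mem_X hf hn⟩ : (centralizer ({f} : Set G))) t' from
        Subtype.ext (fr.frame.commute_of_mem hnL).eq).map π
    · rintro ⟨a, ha, hae⟩
      have huX := hAX (fr.frame.memA hu)
      have hcu : Commute (π a) (π ⟨u, huX⟩) := (show Commute a ⟨u, huX⟩ from Subtype.ext
        (fr.shape.elem.commute_mem A (mem_subgroupOf.1 ha) (fr.frame.memA hu)).eq).map π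
      rw [hae] at hcu
      have := congrArg Subtype.val (hcommlift (hA2 ⟨u, huX⟩ (fr.frame.memA hu)) hcu).eq
      exact huw (by rw [← hnu]; exact (mul_inv_eq_iff_eq_mul.2 this).symm)

/-- **The case is impossible.** -/
theorem FieldFrame.small_seven_false (fr : FieldFrame G t F E L A V D) (hf : f ∈ D) {k : ℕ}
    (ho : orderOf f = 7 ^ (k + 1)) {F₀ : Type} [Field F₀] [Fintype F₀]
    (e₀ : ↥(L ⊓ centralizer ({f} : Set G)) ≃* PSL2.PSL2 F₀) (h3 : Fintype.card F₀ = 3)
    (hcard : Fintype.card F = 3 ^ orderOf f) (hD : D = zpowers f)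
    (hX : Nat.card (centralizer ({f} : Set G)) = 1512 * orderOf f) : False := by
  classical
  haveI : Fact (Nat.Prime 7) := ⟨by norm_num⟩
  haveI := fr.shape.elem.simple
  haveI := fr.D_cyclic
  letI : CommGroup D := IsCyclic.commGroup
  obtain ⟨ρ, hρ⟩ := fr.exists_rho
  have hL : Nat.card ↥(L ⊓ centralizer ({f} : Set G)) = 12 := by
    have h := card_psl_odd (F := F₀) (by rw [h3]; decide)
    rw [h3] at h
    rw [Nat.card_congr e₀.toEquiv]
    omega
  obtain ⟨hfX, hfodd, hNc⟩ := fr.cyclic_central hf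
  set X := centralizer ({f} : Set G) with hXdef
  set N := (zpowers f).subgroupOf X with hN
  haveI hNn : N.Normal := ⟨fun o ho g => by
    rw [mem_center_iff.1 (hNc o ho) g, mul_inv_cancel_right]; exact ho⟩
  have hfp : IsPGroup 7 (zpowers f) := IsPGroup.of_card (n := k + 1) (by rw [Nat.card_zpowers, ho])
  have htf : Commute t f := (fr.frame.comm f (fr.D_le hf)).symm
  have htX : t ∈ X := mem_centralizer_singleton_iff.2 htf.eq
  set π := QuotientGroup.mk' N with hπdef
  have hπ : Function.Surjective π := QuotientGroup.mk'_surjective N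
  have hk1 : ∀ x : X, π x = 1 ↔ (x : G) ∈ zpowers f := fun x => QuotientGroup.eq_one_iff x
  have hS := fr.small1512 hf hD hX hL π hπ (QuotientGroup.ker_mk' N) htX
  set t' : X := ⟨t, htX⟩
  obtain ⟨zb, cb, ω, hzb, hzbi, hcbt, hcb3, hcbz, hω, hthree⟩ := hS.exists_rot
  have htt : t * t = 1 := fr.frame.mul_self_t
  have hti : t⁻¹ = t := inv_eq_of_mul_eq_one_right htt
  -- elements of `⟨f⟩`
  have hflip : ∀ u ∈ zpowers f, t * u * t⁻¹ = u⁻¹ → u = 1 := fun u hu e => by
    obtain ⟨i, rfl⟩ := mem_zpowers_iff.1 hu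
    rw [(htf.zpow_right i).eq, mul_inv_cancel_right] at e
    have h2 : (f ^ i) ^ 2 = 1 := by rw [pow_two]; exact mul_eq_one_iff_eq_inv.2 e
    exact orderOf_eq_one_iff.1 (Nat.eq_one_of_dvd_coprimes (Nat.coprime_two_left.2 hfodd)
      (orderOf_dvd_of_pow_eq_one h2) (orderOf_dvd_of_mem_zpowers hu))
  -- the inverted element
  obtain ⟨w, hw⟩ := hπ zb
  set z : G := t * w * t⁻¹ * (w : G)⁻¹ with hzdef
  have hzX : z ∈ X := mul_mem (mul_mem (mul_mem htX w.2) (inv_mem htX)) (inv_mem w.2)
  set z' : X := ⟨z, hzX⟩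
  have hπz : π z' = zb⁻¹ * zb⁻¹ := by
    rw [show z' = t' * w * t'⁻¹ * w⁻¹ from Subtype.ext rfl, map_mul, map_mul, map_mul, map_inv, map_inv, hw,
      hzbi]
  have hzinv : t * z * t⁻¹ = z⁻¹ := by
    calc t * z * t⁻¹ = (t * t) * w * t⁻¹ * (w : G)⁻¹ * t⁻¹ := by rw [hzdef]; group
      _ = (w : G) * t * (w : G)⁻¹ * t⁻¹ := by rw [htt, one_mul, hti]
      _ = z⁻¹ := by rw [hzdef]; group
  have hzb7 : zb ^ 7 = 1 := hzb ▸ pow_orderOf_eq_one zb
  have hzne : π z' ≠ 1 := fun e => by
    rw [hπz, ← mul_inv_rev, inv_eq_one, ← pow_two] at e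
    have := orderOf_dvd_of_pow_eq_one e
    rw [hzb] at this
    omega
  have hz7 : z ^ 7 = 1 := hflip _
    ((hk1 (z' ^ 7)).1 (by rw [map_pow, hπz, (Commute.refl zb⁻¹).mul_pow, inv_pow, hzb7, inv_one, one_mul]))
    (by rw [← conj_pow, hzinv, inv_pow])
  have hzo : orderOf z = 7 := orderOf_eq_prime hz7 fun e => hzne (by rw [show z' = 1 from Subtype.ext e, map_one])
  have hπzo : orderOf (π z') = 7 := orderOf_eq_prime
    (by rw [← map_pow, show z' ^ 7 = 1 from Subtype.ext hz7, map_one]) hzne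
  have hzspan : zb ∈ zpowers (π z') := by
    refine (eq_of_le_of_card_ge (zpowers_le.2 ?_) (by rw [Nat.card_zpowers, Nat.card_zpowers, hzb, hπzo])).ge
      (mem_zpowers zb)
    rw [hπz]
    exact mul_mem (inv_mem (mem_zpowers zb)) (inv_mem (mem_zpowers zb))
  -- the rotation
  obtain ⟨c₀, hc₀⟩ := hπ cb
  set y' : X := c₀ ^ orderOf f with hy'
  have hπy : π y' = cb := by
    rw [hy', map_pow, hc₀, pow_eq_pow_mod _ hcb3, ho, Nat.pow_mod]
    norm_num
  have hy3 : (y' : G) ^ 3 = 1 := by
    have h1 : ((c₀ ^ 3 : X) : G) ∈ zpowers f := (hk1 _).1 (by rw [map_pow, hc₀, hcb3])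
    have h2 : ((c₀ ^ 3 : X) : G) ^ orderOf f = 1 := orderOf_dvd_iff_pow_eq_one.1 (orderOf_dvd_of_mem_zpowers h1)
    rw [hy', SubmonoidClass.coe_pow, ← pow_mul, mul_comm, pow_mul]
    rwa [SubmonoidClass.coe_pow] at h2
  have ht'2 : t' * t' = 1 := Subtype.ext htt
  have hy_t : Commute (y' : G) t := by
    have h1 : y' * t' * y'⁻¹ = t' := eq_of_mod hNc (by
        rw [hN, Nat.card_congr (subgroupOfEquivOfLe (zpowers_le.2 hfX)).toEquiv, Nat.card_zpowers]
        exact hfodd)
      (by rw [show y' * t' * y'⁻¹ * (y' * t' * y'⁻¹) = y' * (t' * t') * y'⁻¹ by group, ht'2]; group) ht'2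
      (QuotientGroup.eq.1 (show π (y' * t' * y'⁻¹) = π t' by
        rw [map_mul, map_mul, map_inv, hπy, hcbt.eq, mul_inv_cancel_right]))
    exact congrArg Subtype.val (mul_inv_eq_iff_eq_mul.1 h1)
  have hy_f : Commute (y' : G) f := mem_centralizer_singleton_iff.1 y'.2
  have hzf : Commute z f := mem_centralizer_singleton_iff.1 hzX
  have hyz : (y' : G) * z * (y' : G)⁻¹ = z ^ ω := by
    have hmem : ((z' ^ ω)⁻¹ * (y' * z' * y'⁻¹) : X) ∈ N := by
      refine mem_subgroupOf.2 ((hk1 _).1 ?_)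
      rw [map_mul, map_inv, map_pow, map_mul, map_mul, map_inv, hπy, hπz]
      rw [show cb * (zb⁻¹ * zb⁻¹) * cb⁻¹ = (cb * zb * cb⁻¹)⁻¹ * (cb * zb * cb⁻¹)⁻¹ by group, hcbz,
        (Commute.refl zb⁻¹).mul_pow, inv_pow, inv_mul_cancel]
    set u : G := (z ^ ω)⁻¹ * ((y' : G) * z * (y' : G)⁻¹) with hu
    have huf : u ∈ zpowers f := by
      have := mem_subgroupOf.1 hmem
      simpa [hu] using this
    have hu1 : u = 1 := by
      refine hflip u huf ?_
      have e1 : t * (z ^ ω)⁻¹ * t⁻¹ = z ^ ω := by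
        rw [show t * (z ^ ω)⁻¹ * t⁻¹ = (t * z ^ ω * t⁻¹)⁻¹ by group, ← conj_pow, hzinv, inv_pow, inv_inv]
      have e2 : t * ((y' : G) * z * (y' : G)⁻¹) * t⁻¹ = ((y' : G) * z * (y' : G)⁻¹)⁻¹ := by
        calc t * ((y' : G) * z * (y' : G)⁻¹) * t⁻¹ = (t * y') * z * (t * y')⁻¹ := by group
          _ = (y' : G) * (t * z * t⁻¹) * (y' : G)⁻¹ := by rw [← hy_t.eq]; group
          _ = _ := by rw [hzinv]; group
      obtain ⟨i, hi⟩ := mem_zpowers_iff.1 huf
      have hcz : Commute (z ^ ω) u := by rw [← hi]; exact (hzf.pow_left ω).zpow_right i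
      calc t * u * t⁻¹ = (t * (z ^ ω)⁻¹ * t⁻¹) * (t * ((y' : G) * z * (y' : G)⁻¹) * t⁻¹) := by rw [hu]; group
        _ = z ^ ω * ((y' : G) * z * (y' : G)⁻¹)⁻¹ := by rw [e1, e2]
        _ = z ^ ω * (z ^ ω * u)⁻¹ := by rw [hu]; group
        _ = u⁻¹ := by rw [hcz.eq]; group
    rw [hu, inv_mul_eq_one] at hu1
    exact hu1.symm
  -- the setting
  have hP : ∀ x ∈ zpowers z, ∃ i : ℤ, z ^ i = x := fun x hx => mem_zpowers_iff.1 hx
  refine (show Scalar.Setting 7 t f (y' : G) (zpowers z) ω ρ from ?_).false_of_simple fr.shape.elem.nonab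
  exact
    { five := by norm_num
      sylow_two := fr.shape.elem.abelian
      one_class := fun i hi => _root_.isConj_iff.2 (fr.shape.elem.one_class fr.frame.ht hi)
      invol := fr.frame.ht
      f_cent := htf.symm
      f_ne := fun e => by
        rw [e, orderOf_one] at ho
        exact (Nat.one_lt_pow (by omega) (by norm_num : 1 < 7)).ne ho
      f_pgroup := hfp
      f_max := fun hd => by
        have hle : zpowers f ≤ centralizer ({t} : Set G) :=
          zpowers_le.2 (mem_centralizer_singleton_iff.2 htf.symm.eq)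
        have h0 := ((zpowers f).subgroupOf (centralizer ({t} : Set G))).card_mul_index
        rw [Nat.card_congr (subgroupOfEquivOfLe hle).toEquiv, fr.card_cent, hD, Nat.card_zpowers,
          mul_comm (2 * Nat.card L)] at h0
        rw [relIndex, Nat.eq_of_mul_eq_mul_left (orderOf_pos f) h0] at hd
        obtain ⟨e⟩ := fr.shape.iso
        rw [Nat.card_congr e.toEquiv, card_psl_odd (by rw [Nat.odd_iff]; have := fr.shape.mod8; omega),
          hcard, ho] at hd
        have hq : (3 : ℕ) ^ 7 ^ (k + 1) % 7 = 3 := by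
          have h6 : 7 ^ (k + 1) % 6 = 1 := by simp [Nat.pow_mod]
          rw [← Nat.div_add_mod (7 ^ (k + 1)) 6, h6, pow_succ, pow_mul, Nat.mul_mod, Nat.pow_mod]
          norm_num
        have h1 : 1 ≤ 3 ^ 7 ^ (k + 1) := Nat.one_le_pow _ _ three_pos
        have h2 : (3 ^ 7 ^ (k + 1) - 1) % 7 = 2 := by omega
        have h3' : (3 ^ 7 ^ (k + 1) + 1) % 7 = 4 := by omega
        have h4 := Nat.mod_eq_zero_of_dvd hd
        rw [Nat.mul_mod, Nat.mul_mod (3 ^ 7 ^ (k + 1) + 1), hq, h2, h3'] at h4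
        norm_num at h4
      rho_inj := fun x hx h he => by
        have hxD : x ∈ D := zpowers_le.2 hf hx
        rw [hρ ⟨x, h⟩ 1 x (one_mem L) hxD (Or.inl (one_mul _).symm)] at he
        exact congrArg Subtype.val he
      y_cent := hy_t
      y_f := hy_f
      y_cube := hy3
      P_pgroup := IsPGroup.of_card (n := 1) (by rw [Nat.card_zpowers, hzo, pow_one])
      P_ne := fun e => by
        rw [zpowers_eq_bot] at e
        rw [e, orderOf_one] at hzo
        omega
      P_inv := fun x hx => by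
        obtain ⟨i, rfl⟩ := hP x hx
        rw [← conj_zpow, hzinv, inv_zpow]
      P_f := fun x hx => by
        obtain ⟨i, rfl⟩ := hP x hx
        exact hzf.zpow_left i
      P_max := fun hd => by
        have hsub : (zpowers (π z')).comap π ≤ (zpowers f ⊔ zpowers z).subgroupOf X := by
          intro x hx
          obtain ⟨i, hi⟩ := mem_zpowers_iff.1 (mem_comap.1 hx)
          have h1 : ((x * (z' ^ i)⁻¹ : X) : G) ∈ zpowers f :=
            (hk1 _).1 (by rw [map_mul, map_inv, map_zpow, hi, mul_inv_cancel])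
          rw [mem_subgroupOf, show (x : G) = ((x * (z' ^ i)⁻¹ : X) : G) * z ^ i by simp [z']]
          exact mul_mem_sup h1 (zpow_mem (mem_zpowers z) i)
        have h1 : (zpowers f ⊔ zpowers z).relIndex X ∣ (zpowers (π z')).index := by
          rw [← index_comap_of_surjective _ hπ]
          exact index_dvd_of_le hsub
        have h2 := (zpowers (π z')).card_mul_index
        rw [Nat.card_zpowers, hπzo, hS.card] at h2
        have h216 : (zpowers (π z')).index = 216 := by omega
        have := hd.trans h1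
        rw [h216] at this
        norm_num at this
      omega := fun x hx => by
        obtain ⟨i, rfl⟩ := hP x hx
        rw [← conj_zpow, hyz, ← zpow_natCast, ← zpow_mul, mul_comm, zpow_mul, zpow_natCast]
      omega_ne := fun e => hω (by
        have := (ZMod.natCast_eq_natCast_iff' ω 1 7).1 (by rw [e, Nat.cast_one])
        simpa using this)
      three := fun c hct hcf hc3 x hx hx1 hcx => by
        have hcX : c ∈ X := mem_centralizer_singleton_iff.2 hcf.eq
        set c' : X := ⟨c, hcX⟩ with hc'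
        have hzx : z ∈ zpowers x := by
          refine (eq_of_le_of_card_ge (zpowers_le.2 hx) ?_).ge (mem_zpowers z)
          rw [Nat.card_zpowers, Nat.card_zpowers, hzo]
          have := orderOf_dvd_of_mem_zpowers hx
          rw [hzo] at this
          exact ((Nat.dvd_prime (by norm_num)).1 this).elim
            (fun e => absurd (orderOf_eq_one_iff.1 e) hx1) ge_of_eq
        have hcz : c * z * c⁻¹ ∈ zpowers z := by
          obtain ⟨i, hi⟩ := mem_zpowers_iff.1 hzx
          rw [← hi, ← conj_zpow]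
          exact (hi ▸ zpow_mem hcx i)
        obtain ⟨r, hr⟩ := mem_zpowers_iff.1 hcz
        have hcp : π c' * zb * (π c')⁻¹ ∈ zpowers zb := by
          obtain ⟨i, hi⟩ := mem_zpowers_iff.1 hzspan
          have h1 : π c' * π z' * (π c')⁻¹ = π z' ^ r := by
            rw [← map_inv, ← map_mul, ← map_mul, ← map_zpow]
            exact congrArg π (Subtype.ext (by simp [c', z', hr]))
          have h2 : π c' * zb * (π c')⁻¹ = (π z' ^ r) ^ i := by rw [← hi, ← conj_zpow, h1]
          rw [h2]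
          refine zpow_mem (zpow_mem ?_ r) i
          rw [hπz]
          exact mul_mem (inv_mem (mem_zpowers zb)) (inv_mem (mem_zpowers zb))
        have hct' : Commute (π c') (π t') := (show Commute c' t' from Subtype.ext hct.eq).map π
        have hcb : π c' ∈ zpowers cb :=
          hthree _ hct' (by rw [← map_pow, show c' ^ 3 = 1 from Subtype.ext hc3, map_one]) hcp
        obtain ⟨j, hj⟩ := mem_zpowers_iff.1 hcb
        set u : G := (((y' ^ j)⁻¹ * c' : X) : G) with hudef
        have hu : u ∈ zpowers f := (hk1 _).1 (by rw [map_mul, map_inv, map_zpow, hπy, hj, inv_mul_cancel])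
        have hcu : c = (y' : G) ^ j * u := by simp [hudef, c']
        obtain ⟨i, hi⟩ := mem_zpowers_iff.1 hu
        have hyu : Commute ((y' : G) ^ j) u := by rw [← hi]; exact (hy_f.zpow_left j).zpow_right i
        have hu3 : u ^ 3 = 1 := by
          have h1 := hc3
          rw [hcu, hyu.mul_pow, ← zpow_natCast, ← zpow_mul, mul_comm, zpow_mul, zpow_natCast, hy3, one_zpow,
            one_mul] at h1
          exact h1
        have hu1 : u = 1 := orderOf_eq_one_iff.1 (Nat.eq_one_of_dvd_coprimes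
          (((Nat.coprime_primes Nat.prime_three (by norm_num : Nat.Prime 7)).2 (by norm_num)).pow_right (k + 1))
          (orderOf_dvd_of_pow_eq_one hu3) (ho ▸ orderOf_dvd_of_mem_zpowers hu))
        rw [hcu, hu1, mul_one]
        exact zpow_mem (mem_zpowers _) j }

end Cfsg.Agent.AbelianSylow.Field
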