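import Cfsg.Agent.Lib.AbelianSylow.Cent.FieldReduce
import Cfsg.Agent.Lib.AbelianSylow.Chars.Main
import Cfsg.Agent.Lib.AbelianSylow.TwoTrans.Ree

/-!
# No field automorphism, `q₀ = 3`: the 3-part of `C(f)` (owner: helper87)

* `sylow_unique_of_ti`   : Sylow 3-subgroups of the component meet trivially
* `three_pow_dvd_small`  : for `f` of order `7^(k+1)`, `k ≥ 1`, `27` divides `|C(f)|`
-/

set_option autoImplicit false
set_option linter.style.haveILetI false

namespace Cfsg.Agent.AbelianSylow.Field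

open Subgroup
open scoped Pointwise

universe u

/-- Two Sylow 3-subgroups with a common non-trivial element are equal. -/
theorem sylow_unique_of_ti {Q : Type u} [Group Q] [Finite Q] {t : Q} {H R D : Subgroup Q} {w : Q} {q : ℕ}
    (X : TwoTrans.Point t H R D w q) {n : ℕ} (hq : q = 3 ^ n)
    (hQ : Nat.card Q = q ^ 3 * (q ^ 3 + 1) * (q - 1)) (hn : 1 ≤ n)
    (S1 S2 : Sylow 3 Q) {x : Q} (hx1 : x ≠ 1) (h1 : x ∈ (S1 : Subgroup Q)) (h2 : x ∈ (S2 : Subgroup Q)) :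
    S1 = S2 ∧ Nat.card (S1 : Subgroup Q) = q ^ 3 := by
  haveI : Fact (Nat.Prime 3) := ⟨Nat.prime_three⟩
  have hR : IsPGroup 3 R := IsPGroup.of_card (n := n * 3) (by rw [X.card_P, hq, pow_mul])
  have h3 : 3 ∣ q := hq ▸ dvd_pow_self 3 (by omega)
  have h1q : 1 ≤ q := by have := X.q8; omega
  have hidx : ¬ 3 ∣ R.index := fun h => by
    have hc := R.card_mul_index
    rw [X.card_P, hQ, mul_assoc] at hc
    rw [Nat.eq_of_mul_eq_mul_left (pow_pos h1q 3) hc] at h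
    obtain ⟨c, hc⟩ : 3 ∣ q ^ 3 := dvd_pow h3 (by norm_num)
    obtain ⟨c', hc'⟩ := h3
    rcases Nat.prime_three.dvd_mul.1 h with h' | h' <;> omega
  let RS : Sylow 3 Q := IsPGroup.toSylow hR hidx
  have hRS : (RS : Subgroup Q) = R := IsPGroup.toSylow_coe hR hidx
  obtain ⟨g1, hg1⟩ := MulAction.exists_smul_eq Q RS S1
  obtain ⟨g2, hg2⟩ := MulAction.exists_smul_eq Q RS S2
  have hm : ∀ g : Q, ∀ y, y ∈ ((g • RS : Sylow 3 Q) : Subgroup Q) ↔ g⁻¹ * y * g ∈ R := fun g y => by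
    rw [Sylow.coe_subgroup_smul, hRS, Subgroup.mem_pointwise_smul_iff_inv_smul_mem, MulAut.smul_def,
      MulAut.conj_inv_apply]
  refine ⟨?_, by rw [← hg1, Sylow.coe_subgroup_smul, hRS, ← Nat.card_congr (Subgroup.equivSMul _ R).toEquiv,
    X.card_P]⟩
  rw [← hg1] at h1 ⊢
  rw [← hg2] at h2 ⊢
  have hgH : g2⁻¹ * g1 ∈ H := by
    by_contra hg
    have h := X.ti _ hg (g1⁻¹ * x * g1) ((hm g1 x).1 h1) (by
      rw [show g2⁻¹ * g1 * (g1⁻¹ * x * g1) * (g2⁻¹ * g1)⁻¹ = g2⁻¹ * x * g2 by group]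
      exact (hm g2 x).1 h2)
    refine hx1 ?_
    have := congrArg (fun z => g1 * z * g1⁻¹) h
    simpa [mul_assoc] using this
  have hfix : (g2⁻¹ * g1) • RS = RS := Sylow.smul_eq_iff_mem_normalizer.2 (by
    show g2⁻¹ * g1 ∈ normalizer ((RS : Subgroup Q) : Set Q)
    rw [hRS]; exact X.normal hgH)
  rw [mul_smul, inv_smul_eq_iff] at hfix
  exact hfix

variable {G : Type u} [Group G] [Finite G] {t : G} {F : Type} [Field F] [Fintype F] {E L : Subgroup G}
  {A : Sylow 2 G} {V D : Subgroup G}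

/-- **The 3-part of `C(f)`.** -/
theorem three_pow_dvd_small (fr : FieldFrame G t F E L A V D)
    (IH : ∀ (K : Type u) [Group K] [Finite K], Elem8 K → Nat.card K < Nat.card G →
      ∃ (s : K) (F₁ : Type) (_ : Field F₁) (_ : Fintype F₁), JTData K s F₁)
    {f : G} (hf : f ∈ D) {k : ℕ} (hk : 1 ≤ k) (ho : orderOf f = 7 ^ (k + 1))
    {F₀ : Type} [Field F₀] [Fintype F₀] (e₀ : ↥(L ⊓ centralizer ({f} : Set G)) ≃* PSL2.PSL2 F₀)
    (hF₀ : Fintype.card F₀ = 3) (hcard : Fintype.card F₀ ^ orderOf f = Fintype.card F) :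
    27 ∣ Nat.card (centralizer ({f} : Set G)) := by
  classical
  haveI : Fact (Nat.Prime 7) := ⟨by norm_num⟩
  haveI : Fact (Nat.Prime 3) := ⟨Nat.prime_three⟩
  set d := f ^ 7 with hd
  have hdD : d ∈ D := pow_mem hf 7
  have hdo : orderOf d = 7 ^ k := by
    rw [hd, orderOf_pow_of_dvd (by norm_num) (ho ▸ dvd_pow_self 7 k.succ_ne_zero), ho, pow_succ,
      Nat.mul_div_cancel _ (by norm_num)]
  have hd1 : d ≠ 1 := fun e => by
    rw [e, orderOf_one] at hdo
    exact (Nat.one_lt_pow (by omega) (show 1 < 7 by norm_num)).ne hdo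
  obtain ⟨F₁, _, _, hF₁, ⟨e₁⟩⟩ := fr.exists_field hdD
  have hF17 : Fintype.card F₁ = 3 ^ (2 * 3 + 1) := by
    apply Nat.pow_left_injective (n := 7 ^ k) (by positivity)
    simp only
    rw [← hdo, hF₁, ← hcard, hF₀, hdo, ho, ← pow_mul]
    ring_nf
  obtain ⟨Kc, C⟩ := fr.exists_comp IH hdD hd1 (hdo.symm ▸ (by rw [← hdo]; exact hF₁)) e₁ (by rw [hF17]; norm_num)
  obtain ⟨Q, _, _, π, hπ, hker, hJ⟩ := C.quot
  have hQ := Chars.orderTarget Q _ F₁ hJ 3 (by norm_num) hF17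
  obtain ⟨H, R, D', w, X⟩ := TwoTrans.exists_point_of_order hJ hF17 hQ
  -- an element of order three of `C_L(f)`
  obtain ⟨u, hu⟩ := exists_prime_orderOf_dvd_card' (G := ↥(L ⊓ centralizer ({f} : Set G))) 3 (by
    have h12 := card_psl_odd (F := F₀) (by rw [hF₀]; decide)
    rw [hF₀] at h12
    rw [Nat.card_congr e₀.toEquiv]
    omega)
  rw [← orderOf_coe] at hu
  have huf : Commute (u : G) f := mem_centralizer_singleton_iff.1 u.2.2
  have hud : Commute (u : G) d := huf.pow_right 7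
  have huK : (u : G) ∈ Kc := by
    have h1 : (u : G) ∈ Kc ⊓ centralizer ({t} : Set G) := by
      rw [C.cent]
      exact mem_sup_left (mem_sup_right ⟨u.2.1, mem_centralizer_singleton_iff.2 hud.eq⟩)
    exact h1.1
  -- its Sylow subgroup
  have hu3 : IsPGroup 3 (zpowers (⟨u, huK⟩ : Kc)) :=
    IsPGroup.of_card (n := 1) (by rw [Nat.card_zpowers, Subgroup.orderOf_mk, hu, pow_one])
  obtain ⟨P₀, hP₀⟩ := hu3.exists_le_sylow
  have hkerp : ∀ x : Kc, π x = 1 → (∃ j : ℕ, x ^ 3 ^ j = 1) → x = 1 := by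
    intro x hx ⟨j, hj⟩
    have hxd : (x : G) ∈ zpowers d := by
      have h1 : x ∈ π.ker := hx
      rw [hker] at h1
      exact h1
    refine orderOf_eq_one_iff.1 (Nat.eq_one_of_dvd_coprimes (((Nat.coprime_primes Nat.prime_three
      (by norm_num : Nat.Prime 7)).2 (by norm_num)).pow j k) (orderOf_dvd_of_pow_eq_one hj) ?_)
    rw [← hdo, ← orderOf_coe x, ← Nat.card_zpowers d]
    exact Subgroup.orderOf_dvd_natCard _ hxd
  have hπu : π ⟨u, huK⟩ ≠ 1 := fun e => by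
    have h1 := congrArg Subtype.val (hkerp _ e ⟨1, Subtype.ext (by
      rw [SubmonoidClass.coe_pow, pow_one]
      exact hu ▸ pow_orderOf_eq_one (u : G))⟩)
    rw [show (u : G) = 1 from h1, orderOf_one] at hu
    omega
  have hinj : ∀ P : Sylow 3 Kc, ∀ x ∈ (P : Subgroup Kc), π x = 1 → x = 1 := fun P x hx e => by
    obtain ⟨j, hj⟩ := P.2 ⟨x, hx⟩
    exact hkerp x e ⟨j, congrArg Subtype.val hj⟩
  have hunique : ∀ P : Sylow 3 Kc, (⟨u, huK⟩ : Kc) ∈ (P : Subgroup Kc) →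
      (P.mapSurjective hπ) = (P₀.mapSurjective hπ) ∧
        Nat.card (P : Subgroup Kc) = (3 ^ (2 * 3 + 1)) ^ 3 := by
    intro P hP
    have h1 : π ⟨u, huK⟩ ∈ ((P.mapSurjective hπ : Sylow 3 Q) : Subgroup Q) := by
      rw [Sylow.coe_mapSurjective]; exact mem_map_of_mem _ hP
    have h2 : π ⟨u, huK⟩ ∈ ((P₀.mapSurjective hπ : Sylow 3 Q) : Subgroup Q) := by
      rw [Sylow.coe_mapSurjective]; exact mem_map_of_mem _ (hP₀ (mem_zpowers _))
    obtain ⟨he, hc⟩ := sylow_unique_of_ti X rfl hQ (by norm_num) _ _ hπu h1 h2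
    refine ⟨he, ?_⟩
    rw [Sylow.coe_mapSurjective] at hc
    rw [← hc]
    refine Nat.card_congr (Equiv.ofBijective (fun x => (⟨π x, mem_map_of_mem _ x.2⟩ :
      ((P : Subgroup Kc).map π))) ⟨fun a b e => ?_, ?_⟩)
    · refine Subtype.ext (inv_mul_eq_one.1 (hinj P _ (mul_mem (inv_mem b.2) a.2) ?_)).symm
      rw [map_mul, map_inv, show π a = π b from congrArg Subtype.val e, inv_mul_cancel]
    · rintro ⟨_, x, hx, rfl⟩
      exact ⟨⟨x, hx⟩, rfl⟩
  -- `f` normalises it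
  have hfK : f ∈ normalizer (Kc : Set G) :=
    C.norm (mem_centralizer_singleton_iff.2 ((Commute.refl f).pow_right 7).eq)
  have hfPeq : ∀ x ∈ (P₀ : Subgroup Kc), ∀ hx' : f * (x : G) * f⁻¹ ∈ Kc,
      (⟨f * (x : G) * f⁻¹, hx'⟩ : Kc) ∈ (P₀ : Subgroup Kc) := by
    let σ : Kc ≃* Kc := normalizerMonoidHom Kc ⟨f, hfK⟩
    let P₁ : Sylow 3 Kc := P₀.comapOfInjective σ.symm.toMonoidHom σ.symm.injective
      (fun y _ => ⟨σ y, σ.symm_apply_apply y⟩)
    have hσu : σ ⟨u, huK⟩ = ⟨u, huK⟩ := Subtype.ext (by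
      show f * (u : G) * f⁻¹ = u
      rw [← huf.eq, mul_inv_cancel_right])
    have huP : (⟨u, huK⟩ : Kc) ∈ (P₁ : Subgroup Kc) := by
      show σ.symm ⟨u, huK⟩ ∈ (P₀ : Subgroup Kc)
      rw [← hσu, σ.symm_apply_apply]
      exact hP₀ (mem_zpowers _)
    have he := (hunique P₁ huP).1
    intro x hx hx'
    set y : Kc := ⟨f * (x : G) * f⁻¹, hx'⟩
    have hyP : y ∈ (P₁ : Subgroup Kc) := by
      show σ.symm y ∈ (P₀ : Subgroup Kc)
      rw [show y = σ x from Subtype.ext rfl, σ.symm_apply_apply]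
      exact hx
    -- both contain it modulo the kernel
    have h1 : π y ∈ ((P₀.mapSurjective hπ : Sylow 3 Q) : Subgroup Q) := by
      rw [← he, Sylow.coe_mapSurjective]; exact mem_map_of_mem _ hyP
    rw [Sylow.coe_mapSurjective] at h1
    obtain ⟨z, hz, hzy⟩ := h1
    have hc : z⁻¹ * y ∈ π.ker := by rw [MonoidHom.mem_ker, map_mul, map_inv, hzy, inv_mul_cancel]
    rw [hker] at hc
    have hcomm : Commute z (z⁻¹ * y) := by
      obtain ⟨i, hi⟩ := mem_zpowers_iff.1 (show ((z⁻¹ * y : Kc) : G) ∈ zpowers d from hc)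
      exact Subtype.ext (by
        show (z : G) * ((z⁻¹ * y : Kc) : G) = ((z⁻¹ * y : Kc) : G) * (z : G)
        rw [← hi]
        exact (show Commute (z : G) d from mem_centralizer_singleton_iff.1 (C.le z.2)).zpow_right i)
    have hzp : ∃ j : ℕ, (z⁻¹ * y) ^ 3 ^ j = 1 := by
      obtain ⟨a, ha⟩ := P₀.2 ⟨z, hz⟩
      obtain ⟨b, hb⟩ := P₁.2 ⟨y, hyP⟩
      have hy : Commute z⁻¹ y := by
        have := ((Commute.refl z).mul_right hcomm).inv_left
        rwa [mul_inv_cancel_left] at this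
      refine ⟨a + b, ?_⟩
      rw [hy.mul_pow, pow_add, inv_pow, pow_mul, show z ^ 3 ^ a = 1 from congrArg Subtype.val ha, one_pow,
        inv_one, one_mul, mul_comm, pow_mul, show y ^ 3 ^ b = 1 from congrArg Subtype.val hb, one_pow]
    have h3 := hkerp _ (show π (z⁻¹ * y) = 1 from by rw [map_mul, map_inv, hzy, inv_mul_cancel]) hzp
    rw [← inv_mul_eq_one.1 h3]
    exact hz
  -- the fixed points
  set P := (P₀ : Subgroup Kc).map Kc.subtype with hP
  have hfP : f ∈ normalizer (P : Set G) := Coprime.mem_normalizer_of_forall fun z hz => by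
    obtain ⟨x, hx, rfl⟩ := hz
    have hx' : f * (x : G) * f⁻¹ ∈ Kc := (mem_normalizer_iff.1 hfK x).1 x.2
    exact ⟨⟨_, hx'⟩, hfPeq x hx hx', rfl⟩
  have hPc : Nat.card P = (3 ^ (2 * 3 + 1)) ^ 3 := by
    rw [hP, card_map_of_injective Kc.subtype_injective, (hunique P₀ (hP₀ (mem_zpowers _))).2]
  let φ : ↥(zpowers f) →* MulAut P := (normalizerMonoidHom P).comp (Subgroup.inclusion (zpowers_le.2 hfP))
  letI : MulAction (zpowers f) P := MulAction.compHom P φ
  have hp7 : IsPGroup 7 (zpowers f) := IsPGroup.of_card (n := k + 1) (by rw [Nat.card_zpowers, ho])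
  have hmod := hp7.card_modEq_card_fixedPoints P
  have hfix : Nat.card (MulAction.fixedPoints (zpowers f) P) =
      Nat.card (P ⊓ centralizer ({f} : Set G) : Subgroup G) := by
    refine Nat.card_congr
      { toFun := fun x => ⟨((x.1 : P) : G), x.1.2, mem_centralizer_singleton_iff.2 ?_⟩
        invFun := fun x => ⟨⟨x, x.2.1⟩, fun g => Subtype.ext ?_⟩
        left_inv := fun x => rfl
        right_inv := fun x => rfl }
    · have h1 : f * ((x.1 : P) : G) * f⁻¹ = (x.1 : P) := congrArg Subtype.val (x.2 ⟨f, mem_zpowers f⟩)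
      exact (mul_inv_eq_iff_eq_mul.1 h1).symm
    · obtain ⟨i, hi⟩ := mem_zpowers_iff.1 g.2
      show (g : G) * (x : G) * (g : G)⁻¹ = (x : G)
      rw [← hi, ← ((show Commute (x : G) f from mem_centralizer_singleton_iff.1 x.2.2).zpow_right i).eq,
        mul_inv_cancel_right]
  rw [hfix, hPc] at hmod
  have hPp : IsPGroup 3 (P ⊓ centralizer ({f} : Set G) : Subgroup G) :=
    (IsPGroup.of_card (n := 21) (by rw [hPc]; norm_num) : IsPGroup 3 P).to_le inf_le_left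
  obtain ⟨i, hi⟩ := IsPGroup.iff_card.1 hPp
  have hi3 : 3 ≤ i := by
    by_contra hlt
    rw [hi] at hmod
    rcases (show i = 0 ∨ i = 1 ∨ i = 2 by omega) with rfl | rfl | rfl <;> simp [Nat.ModEq] at hmod
  exact ((pow_dvd_pow 3 hi3).trans hi.symm.dvd).trans (card_dvd_of_le inf_le_right)

end Cfsg.Agent.AbelianSylow.Field
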