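import Cfsg.Agent.Lib.AbelianSylow.Cent.FieldSmall
import Cfsg.Agent.Lib.AbelianSylow.Cent.FieldSmallThree
import Cfsg.Agent.Lib.AbelianSylow.Cent.FieldSmallSetting
import Cfsg.Agent.Lib.AbelianSylow.Cent.MainReduce

/-!
# No field automorphism, `q₀ = 3` (owner: helper87)

* `FieldFrame.small_seven_pow_false` : `f` of order `7^(k+1)`, `k ≥ 1`, is impossible
* `caseQThree`                       : the case `q₀ = 3` of part (a)
-/

set_option autoImplicit false

namespace Cfsg.Agent.AbelianSylow.Field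

open Subgroup

universe u

variable {G : Type u} [Group G] [Finite G] {t : G} {F : Type} [Field F] [Fintype F] {E L : Subgroup G}
  {A : Sylow 2 G} {V D : Subgroup G} {f : G}

/-- `f` of order `7^(k+1)`, `k ≥ 1`. -/
theorem FieldFrame.small_seven_pow_false (fr : FieldFrame G t F E L A V D)
    (IH : ∀ (K : Type u) [Group K] [Finite K], Elem8 K → Nat.card K < Nat.card G →
      ∃ (s : K) (F₁ : Type) (_ : Field F₁) (_ : Fintype F₁), JTData K s F₁)
    (hf : f ∈ D) {k : ℕ} (hk : 1 ≤ k) (ho : orderOf f = 7 ^ (k + 1))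
    {F₀ : Type} [Field F₀] [Fintype F₀] (e₀ : ↥(L ⊓ centralizer ({f} : Set G)) ≃* PSL2.PSL2 F₀)
    (h3 : Fintype.card F₀ = 3) : False := by
  have hcard := fr.small_card hf e₀ h3
  rcases fr.small_order hf e₀ h3 with h | h
  · have h27 := three_pow_dvd_small fr IH hf hk ho e₀ h3 (by rw [h3, hcard])
    rw [h, ho] at h27
    have hcop : Nat.Coprime 27 (7 ^ (k + 1)) := (show Nat.Coprime 27 7 by norm_num).pow_right _
    exact absurd (hcop.dvd_of_dvd_mul_right h27) (by norm_num)
  · exact fr.small_seven_false hf ho e₀ h3 hcard (fr.small_zpowers hf e₀ h3) h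

/-- **The case `q₀ = 3`.** -/
theorem caseQThree : CaseQThree.{u} := by
  intro G _ _ t F _ _ E L A V D f F₀ _ _ l k IH fr hf ⟨e₀⟩ h3 hl hl3 ho _ _ _
  haveI := Fact.mk hl
  by_cases h : l = 7 ∧ 1 ≤ k
  · obtain ⟨rfl, hk⟩ := h
    exact fr.small_seven_pow_false IH hf hk ho e₀ h3
  · exact fr.small_false hf e₀ h3 hl3 ho fun h7 => by
      by_contra hk
      exact h ⟨h7, Nat.one_le_iff_ne_zero.2 hk⟩

end Cfsg.Agent.AbelianSylow.Field
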