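import Cfsg.Agent.Lib.AbelianSylow.Cent.FieldLocal
import Cfsg.Agent.Lib.PairsCyclic.Basic
import Cfsg.Agent.Lib.NilGroup.Basic

/-!
# No field automorphism, case `s = 3`: assembly (owner: helper82; `FIELD.md` steps 5, 6)

* `ThreeHom`            : the quotient of the 3-local by `W`
* `trivial_of_normalized` : an inverted 3-subgroup of the quotient normalised by a torus element is trivial
* `three_false`         : if modulo `W` no inverted 3-element centralises `f`, the situation is impossible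
-/

set_option autoImplicit false
set_option linter.style.haveILetI false

namespace Cfsg.Agent.AbelianSylow.Field

open Subgroup
open scoped Pointwise commutatorElement

universe u

variable {G : Type u} [Group G] [Finite G] {t f y : G} {U F₃ B H N K W : Subgroup G} {l m : ℕ}

/-- The conclusion used of the component of `C(f)`: modulo `W` no inverted `3`-element commutes with `f`. -/
def NoInvertedMod (t f : G) (U B : Subgroup G) : Prop :=
  ∀ N K W : Subgroup G, LocalData t U B N K W → ∀ d ∈ K, (∃ k : ℕ, d ^ (3 ^ k) ∈ W) →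
    t * d * t⁻¹ * d ∈ W → Commute d f → d ∈ W

/-- The image of `X` in `N ⧸ W`. -/
abbrev imgMod (N W X : Subgroup G) [(W.subgroupOf N).Normal] : Subgroup (N ⧸ W.subgroupOf N) :=
  (X.subgroupOf N).map (QuotientGroup.mk' (W.subgroupOf N))

variable [(W.subgroupOf N).Normal]

theorem mk_eq_one_iff (a : N) : QuotientGroup.mk' (W.subgroupOf N) a = 1 ↔ (a : G) ∈ W :=
  QuotientGroup.eq_one_iff a

theorem LocalData.imgK_normal (D : LocalData t U B N K W) : (imgMod N W K).Normal :=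
  haveI := Cores.subgroupOf_normal_of_le_normalizer (H := K) D.K_normal
  Normal.map inferInstance _ (QuotientGroup.mk'_surjective _)

theorem LocalData.imgK_odd (D : LocalData t U B N K W) : Odd (Nat.card (imgMod N W K)) :=
  D.K_odd.of_dvd_nat (((K.subgroupOf N).card_map_dvd _).trans (Cores.card_subgroupOf D.K_le).dvd)

theorem LocalData.imgK_fixed (D : LocalData t U B N K W) (c : ThreeCtx t f y U F₃ B H l m)
    {z : N ⧸ W.subgroupOf N} (hz : z ∈ imgMod N W K)
    (hc : Commute z (QuotientGroup.mk' (W.subgroupOf N) ⟨t, D.t_mem⟩)) : z ∈ imgMod N W B := by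
  obtain ⟨x, hx, rfl⟩ := hz
  have hxW : t * x * t⁻¹ * (x : G)⁻¹ ∈ W := by
    refine (mk_eq_one_iff (W := W) (⟨t, D.t_mem⟩ * x * ⟨t, D.t_mem⟩⁻¹ * x⁻¹ : N)).1 ?_
    rw [map_mul, map_mul, map_mul, map_inv, map_inv, ← hc.eq, mul_inv_cancel_right, mul_inv_cancel]
  obtain ⟨w, hw, hwB⟩ := D.exists_fixed c (mem_subgroupOf.1 hx) hxW
  refine ⟨⟨w * x, D.K_le (D.B_le hwB)⟩, mem_subgroupOf.2 hwB, ?_⟩
  rw [show (⟨w * x, D.K_le (D.B_le hwB)⟩ : N) = ⟨w, D.K_le (D.W_le hw)⟩ * x from rfl, map_mul,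
    (mk_eq_one_iff (W := W) _).2 hw, one_mul]

/-- No nontrivial normal `3`-subgroup in the quotient. -/
theorem LocalData.three_free (D : LocalData t U B N K W) {X : Subgroup (N ⧸ W.subgroupOf N)}
    (hX : X ≤ imgMod N W K) (hn : imgMod N W K ≤ normalizer (X : Set (N ⧸ W.subgroupOf N))) (h3 : IsPGroup 3 X) :
    X = ⊥ := by
  haveI : Fact (Nat.Prime 3) := ⟨Nat.prime_three⟩
  set π := QuotientGroup.mk' (W.subgroupOf N)
  set X' := (X.comap π).map N.subtype with hX'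
  have hWX : W ≤ X' := fun w hw => ⟨⟨w, D.K_le (D.W_le hw)⟩, by
    show π _ ∈ X
    rw [(mk_eq_one_iff (W := W) _).2 hw]; exact one_mem _, rfl⟩
  have hXK : X' ≤ K := by
    rintro _ ⟨z, hz, rfl⟩
    obtain ⟨k, hk, hke⟩ := hX hz
    have h1 : (k : G)⁻¹ * z ∈ W := (mk_eq_one_iff (W := W) (k⁻¹ * z)).1 (by rw [map_mul, map_inv, hke]; exact inv_mul_cancel _)
    have h2 := K.mul_mem (mem_subgroupOf.1 hk) (D.W_le h1)
    rwa [mul_inv_cancel_left] at h2
  have heq : X' = W := by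
    refine D.top X' hWX hXK (fun k hk => Coprime.mem_normalizer_of_forall ?_) ?_
    · rintro _ ⟨z, hz, rfl⟩
      refine ⟨⟨k, D.K_le hk⟩ * z * ⟨k, D.K_le hk⟩⁻¹, ?_, rfl⟩
      show π _ ∈ X
      rw [map_mul, map_mul, map_inv]
      exact (mem_normalizer_iff.1 (hn ⟨⟨k, D.K_le hk⟩, mem_subgroupOf.2 hk, rfl⟩) _).1 hz
    · obtain ⟨n, hn'⟩ := IsPGroup.iff_card.1 h3
      refine ⟨n, ?_⟩
      rw [← hn', hX']
      have h1 := relIndex_map_map_of_injective (W.subgroupOf N) (X.comap π) N.subtype_injective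
      rw [subgroupOf_map_subtype, inf_eq_left.2 (D.W_le.trans D.K_le)] at h1
      have h2 := Subgroup.relIndex_ker (X.comap π) π
      rw [QuotientGroup.ker_mk', map_comap_eq_self_of_surjective (QuotientGroup.mk'_surjective _)] at h2
      rw [h1, h2]
  refine eq_bot_iff.2 fun z hz => ?_
  obtain ⟨x, rfl⟩ := QuotientGroup.mk'_surjective _ z
  exact mem_bot.2 ((mk_eq_one_iff (W := W) x).2 (heq ▸ ⟨x, hz, rfl⟩))

/-- The Fitting subgroup of the quotient has no element of order `3`. -/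
theorem LocalData.fit_three (D : LocalData t U B N K W) :
    ∀ z ∈ fitOf (imgMod N W K), ∀ k : ℕ, z ^ (3 ^ k) = 1 → z = 1 := by
  haveI : Fact (Nat.Prime 3) := ⟨Nat.prime_three⟩
  haveI := D.imgK_normal
  set Kb := imgMod N W K
  intro z hz k hk
  obtain ⟨z', hz', rfl⟩ := hz
  have h1 : z' ∈ Cfsg.pCore 3 Kb := RankTwo.mem_pCore_of_mem_fitting 3 hz' (n := k) (Subtype.ext hk)
  have h2 : (Cfsg.pCore 3 Kb).map Kb.subtype = ⊥ := by
    haveI : (Cfsg.pCore 3 Kb).Normal := Cores.pCore_normal 3 _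
    refine D.three_free (map_subtype_le _) ?_ ((Cores.isPGroup_pCore 3 Kb).map _)
    refine le_trans ?_ (le_normalizer_map Kb.subtype)
    rw [normalizer_eq_top, ← MonoidHom.range_eq_map, range_subtype]
  exact (Subgroup.map_eq_bot_iff_of_injective _ Kb.subtype_injective).1 h2 |> fun h3 =>
    congrArg Subtype.val (mem_bot.1 (h3 ▸ h1))

/-- If `τ` has no fixed point on the Fitting subgroup then it inverts no `3`-element. -/
theorem LocalData.eq_one_of_fit_free (D : LocalData t U B N K W) (c : ThreeCtx t f y U F₃ B H l m)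
    (hfix : fitOf (imgMod N W K) ⊓
      centralizer ({QuotientGroup.mk' (W.subgroupOf N) ⟨t, D.t_mem⟩} : Set (N ⧸ W.subgroupOf N)) = ⊥)
    {d : N ⧸ W.subgroupOf N} (hdK : d ∈ imgMod N W K) {k : ℕ} (hk' : d ^ (3 ^ k) = 1)
    (hinv : QuotientGroup.mk' (W.subgroupOf N) ⟨t, D.t_mem⟩ * d *
      (QuotientGroup.mk' (W.subgroupOf N) ⟨t, D.t_mem⟩)⁻¹ = d⁻¹) : d = 1 := by
  haveI := D.imgK_normal
  set Kb := imgMod N W K
  haveI : Group.IsSolvable Kb := OddOrderTheorem.solvable D.imgK_odd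
  set τ := QuotientGroup.mk' (W.subgroupOf N) ⟨t, D.t_mem⟩ with hτ
  have hτ2 : τ * τ = 1 := by
    rw [hτ, ← map_mul, ← map_one (QuotientGroup.mk' (W.subgroupOf N))]; congr 1
    exact Subtype.ext (Involution.mul_self c.invol)
  set F := fitOf Kb
  haveI hFn : F.Normal := normalizer_eq_top_iff.1 (top_le_iff.1
    ((normalizer_eq_top Kb).ge.trans (normalizer_le_fitOf Kb)))
  have hFK : F ≤ Kb := map_subtype_le _
  have hFo : Odd (Nat.card F) := D.imgK_odd.of_dvd_nat (card_dvd_of_le hFK)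
  have hinvF := inverted_of_fixed_trivial hFo hτ2 (normalizer_eq_top F ▸ mem_top τ) fun w hw hc => by
    have : w ∈ F ⊓ centralizer ({τ} : Set (N ⧸ W.subgroupOf N)) := mem_fixed_iff.2 ⟨hw, hc⟩
    rwa [hfix, mem_bot] at this
  have hdc : ∀ x ∈ F, Commute (d * d) x := by
    intro x hx
    have h2 := hinvF _ (hFn.conj_mem x hx d)
    have e : τ * (d * x * d⁻¹) * τ⁻¹ = (τ * d * τ⁻¹) * (τ * x * τ⁻¹) * (τ * d * τ⁻¹)⁻¹ := by group
    rw [e, hinv, hinvF x hx, inv_inv] at h2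
    have h3 : d * d * x⁻¹ * (d * d)⁻¹ = x⁻¹ := by
      calc d * d * x⁻¹ * (d * d)⁻¹ = d * (d * x⁻¹ * d⁻¹) * d⁻¹ := by group
        _ = d * (d * x * d⁻¹)⁻¹ * d⁻¹ := by group
        _ = d * (d⁻¹ * x⁻¹ * d) * d⁻¹ := by rw [h2]
        _ = x⁻¹ := by group
    have h4 : Commute (d * d) x⁻¹ := mul_inv_eq_iff_eq_mul.1 h3
    simpa using h4.inv_right
  have hdd : d * d ∈ F := by
    refine ⟨⟨d * d, Kb.mul_mem hdK hdK⟩, Solvable.centralizer_fitting_le Kb
      (mem_centralizer_iff.2 fun v hv => Subtype.ext ?_), rfl⟩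
    exact (hdc v ⟨v, hv, rfl⟩).symm.eq
  have h5 : d * d = 1 := D.fit_three _ hdd k (by rw [← pow_two, ← pow_mul, mul_comm, pow_mul, hk', one_pow])
  exact orderOf_eq_one_iff.1 (Nat.eq_one_of_dvd_coprimes
    (((Nat.coprime_primes Nat.prime_two Nat.prime_three).2 (by decide)).pow_right k)
    (orderOf_dvd_of_pow_eq_one (by rw [pow_two]; exact h5)) (orderOf_dvd_of_pow_eq_one hk'))

/-- The fixed points of `τ` on the Fitting subgroup lie in the image of `H`. -/
theorem LocalData.fixed_fit_le (D : LocalData t U B N K W) (c : ThreeCtx t f y U F₃ B H l m) :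
    fitOf (imgMod N W K) ⊓
      centralizer ({QuotientGroup.mk' (W.subgroupOf N) ⟨t, D.t_mem⟩} : Set (N ⧸ W.subgroupOf N)) ≤ imgMod N W H := by
  haveI : Fact (Nat.Prime 3) := ⟨Nat.prime_three⟩
  haveI := D.imgK_normal
  set π := QuotientGroup.mk' (W.subgroupOf N) with hπ
  set Kb := imgMod N W K
  set τ := π ⟨t, D.t_mem⟩ with hτ
  set F := fitOf Kb
  haveI hFn : F.Normal := normalizer_eq_top_iff.1 (top_le_iff.1
    ((normalizer_eq_top Kb).ge.trans (normalizer_le_fitOf Kb)))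
  have hFK : F ≤ Kb := map_subtype_le _
  have hF3 := D.fit_three
  set X := F ⊓ centralizer ({τ} : Set (N ⧸ W.subgroupOf N)) with hXdef
  set X' := B ⊓ (X.comap π).map N.subtype with hX'
  have hXB : X ≤ imgMod N W B := fun z hz =>
    D.imgK_fixed c (hFK hz.1) (mem_fixed_iff.1 hz).2
  have hBN : B ≤ N := D.B_le.trans D.K_le
  have hBX : B ≤ normalizer (X' : Set G) := fun b hb => Coprime.mem_normalizer_of_forall fun z hz => by
    obtain ⟨hzB, z', hz', rfl⟩ := hz
    refine ⟨B.mul_mem (B.mul_mem hb hzB) (B.inv_mem hb), ⟨⟨b, hBN hb⟩ * z' * ⟨b, hBN hb⟩⁻¹, ?_, rfl⟩⟩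
    show π _ ∈ X
    have hbt : Commute (π ⟨b, hBN hb⟩) τ := Commute.map (Subtype.ext (c.commute_t hb).eq) π
    rw [map_mul, map_mul, map_inv]
    exact mem_fixed_iff.2 ⟨hFn.conj_mem _ hz'.1 _,
      (hbt.mul_left (mem_fixed_iff.1 hz').2).mul_left hbt.inv_left⟩
  have hUW : U ≤ W := D.inter ▸ inf_le_left
  have hUX : U ≤ X' := fun u hu => ⟨c.U_le hu, ⟨u, hBN (c.U_le hu)⟩, by
    show π _ ∈ X
    rw [(mk_eq_one_iff (W := W) _).2 (hUW hu)]; exact one_mem _, rfl⟩
  have hrel : U.relIndex X' = Nat.card ((X'.subgroupOf N).map π) := by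
    rw [← Subgroup.relIndex_ker (X'.subgroupOf N) π, QuotientGroup.ker_mk', relIndex_subgroupOf (inf_le_left.trans hBN),
      ← inf_relIndex_right W X']
    congr 1
    exact le_antisymm (le_inf hUW hUX) fun z hz => D.inter ▸ ⟨hz.1, hz.2.1⟩
  have hmapX : (X'.subgroupOf N).map π ≤ X := by
    rintro _ ⟨z, hz, rfl⟩
    obtain ⟨-, z', hz', hze⟩ := mem_subgroupOf.1 hz
    exact (Subtype.ext hze : z' = z) ▸ hz'
  have h3 : ¬ 3 ∣ U.relIndex X' := by
    rw [hrel]
    intro hd3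
    obtain ⟨z, hz⟩ := exists_prime_orderOf_dvd_card' 3 hd3
    have h1 : (z : N ⧸ W.subgroupOf N) = 1 := hF3 _ (hmapX z.2).1 1 (by
      rw [pow_one, ← hz, ← SubmonoidClass.coe_pow, pow_orderOf_eq_one]; rfl)
    rw [show z = 1 from Subtype.ext h1, orderOf_one] at hz
    omega
  have hnil : ∀ a ∈ X', ∀ b ∈ X', (orderOf a).Coprime (orderOf b) → a * b * a⁻¹ * b⁻¹ ∈ U := by
    intro a ha b hb hab
    haveI : Group.IsSolvable Kb := OddOrderTheorem.solvable D.imgK_odd
    have haN : a ∈ N := hBN ha.1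
    have hbN : b ∈ N := hBN hb.1
    have hmem : ∀ z (hz : z ∈ N), z ∈ X' → π ⟨z, hz⟩ ∈ F := fun z hz h =>
      (hmapX ⟨⟨z, hz⟩, mem_subgroupOf.2 h, rfl⟩).1
    obtain ⟨a', ha', hae⟩ := hmem a haN ha
    obtain ⟨b', hb', hbe⟩ := hmem b hbN hb
    have hord : (orderOf (⟨a', ha'⟩ : Cfsg.fittingSubgroup Kb)).Coprime (orderOf (⟨b', hb'⟩ : Cfsg.fittingSubgroup Kb)) := by
      rw [Subgroup.orderOf_mk a' ha', Subgroup.orderOf_mk b' hb', ← orderOf_injective Kb.subtype Kb.subtype_injective a',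
        ← orderOf_injective Kb.subtype Kb.subtype_injective b', hae, hbe]
      exact (hab.coprime_dvd_left (by rw [← Subgroup.orderOf_mk a haN]; exact orderOf_map_dvd π _)).coprime_dvd_right
        (by rw [← Subgroup.orderOf_mk b hbN]; exact orderOf_map_dvd π _)
    have hc := congrArg (fun z : Cfsg.fittingSubgroup Kb => ((z : Kb) : N ⧸ W.subgroupOf N))
      (NilGroup.commute_of_coprime Cores.fittingSubgroup_isNilpotent hord).eq
    refine D.inter ▸ ⟨(mk_eq_one_iff (W := W) (⟨a, haN⟩ * ⟨b, hbN⟩ * ⟨a, haN⟩⁻¹ * ⟨b, hbN⟩⁻¹ : N)).1 ?_,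
      B.mul_mem (B.mul_mem (B.mul_mem ha.1 hb.1) (B.inv_mem ha.1)) (B.inv_mem hb.1)⟩
    have hc' : π ⟨a, haN⟩ * π ⟨b, hbN⟩ = π ⟨b, hbN⟩ * π ⟨a, haN⟩ := by rw [← hae, ← hbe]; exact hc
    rw [map_mul, map_mul, map_mul, map_inv, map_inv, hc', mul_inv_cancel_right, mul_inv_cancel]
  have hle := c.normal_fit X' inf_le_left hBX hUX h3 hnil
  have hXH : X ≤ imgMod N W H := by
    intro z hz
    obtain ⟨b, hb, rfl⟩ := hXB hz
    obtain ⟨u, hu, h₁, hh₁, hbe⟩ := (Coprime.mem_sup_iff (c.H_le.trans c.U_normal)).1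
      (hle ⟨mem_subgroupOf.1 hb, b, hz, rfl⟩)
    refine ⟨⟨h₁, hBN (c.H_le hh₁)⟩, mem_subgroupOf.2 hh₁, ?_⟩
    rw [show b = ⟨u, hBN (c.U_le hu)⟩ * ⟨h₁, hBN (c.H_le hh₁)⟩ from Subtype.ext hbe.symm, map_mul,
      (mk_eq_one_iff (W := W) (⟨u, hBN (c.U_le hu)⟩ : N)).2 (hUW hu), one_mul]
  exact hXH

/-- An inverted `3`-subgroup of the quotient normalised by an element of prime order of `H` is trivial. -/
theorem trivial_of_normalized (D : LocalData t U B N K W) (c : ThreeCtx t f y U F₃ B H l m) {h : G} (hh : h ∈ H)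
    (hhp : (orderOf h).Prime) {E : Subgroup (N ⧸ W.subgroupOf N)} (hEK : E ≤ imgMod N W K) (hE : IsPGroup 3 E)
    (hinv : ∀ d ∈ E, QuotientGroup.mk' (W.subgroupOf N) ⟨t, D.t_mem⟩ * d *
      (QuotientGroup.mk' (W.subgroupOf N) ⟨t, D.t_mem⟩)⁻¹ = d⁻¹)
    (hnorm : ∀ d ∈ E, QuotientGroup.mk' (W.subgroupOf N) ⟨h, D.K_le (D.B_le (c.H_le hh))⟩ * d *
      (QuotientGroup.mk' (W.subgroupOf N) ⟨h, D.K_le (D.B_le (c.H_le hh))⟩)⁻¹ ∈ E) :
    E = ⊥ := by
  haveI : Fact (Nat.Prime 2) := ⟨Nat.prime_two⟩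
  haveI : Fact (Nat.Prime 3) := ⟨Nat.prime_three⟩
  set π := QuotientGroup.mk' (W.subgroupOf N) with hπ
  set τ := π ⟨t, D.t_mem⟩ with hτ
  set h' := π ⟨h, D.K_le (D.B_le (c.H_le hh))⟩
  set Kb := imgMod N W K
  haveI := D.imgK_normal
  have hτ2 : τ * τ = 1 := by
    rw [hτ, ← map_mul, ← map_one π]; congr 1; exact Subtype.ext (Involution.mul_self c.invol)
  have hKo : Odd (Nat.card Kb) := D.imgK_odd
  -- good elements centralise nothing in `E`
  have hgood : ∀ x (hx : x ∈ H), (orderOf x).Prime → ∀ d ∈ E,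
      Commute d (π ⟨x, D.K_le (D.B_le (c.H_le hx))⟩) → d = 1 := by
    intro x hx hxp d hd hc
    obtain ⟨d', hd', rfl⟩ := hEK hd
    obtain ⟨k, hk⟩ := hE ⟨π d', hd⟩
    have h1 : (d' : G) ^ (3 ^ k) ∈ W := (mk_eq_one_iff (W := W) (d' ^ (3 ^ k))).1 (by
      rw [map_pow]; exact congrArg Subtype.val hk)
    have h2 : t * (d' : G) * t⁻¹ * d' ∈ W := (mk_eq_one_iff (W := W) (⟨t, D.t_mem⟩ * d' * ⟨t, D.t_mem⟩⁻¹ * d' : N)).1 (by
      rw [map_mul, map_mul, map_mul, map_inv, hinv _ hd, inv_mul_cancel])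
    have h3 : x * (d' : G) * x⁻¹ * (d' : G)⁻¹ ∈ W :=
      (mk_eq_one_iff (W := W) (⟨x, D.K_le (D.B_le (c.H_le hx))⟩ * d' * ⟨x, D.K_le (D.B_le (c.H_le hx))⟩⁻¹ * d'⁻¹ : N)).1 (by
        rw [map_mul, map_mul, map_mul, map_inv, map_inv, ← hc.eq, mul_inv_cancel_right, mul_inv_cancel])
    exact (mk_eq_one_iff (W := W) d').2 (D.no_inverted c hx hxp (mem_subgroupOf.1 hd') h1 h2 h3)
  haveI : Group.IsSolvable Kb := OddOrderTheorem.solvable hKo
  set F := fitOf Kb
  haveI hFn : F.Normal := normalizer_eq_top_iff.1 (top_le_iff.1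
    ((normalizer_eq_top Kb).ge.trans (normalizer_le_fitOf Kb)))
  have hFK : F ≤ Kb := map_subtype_le _
  -- `F` has order prime to three
  have hF3 : ∀ z ∈ F, ∀ k : ℕ, z ^ (3 ^ k) = 1 → z = 1 := D.fit_three
  rw [eq_bot_iff]
  intro d hd
  rw [mem_bot]
  by_cases hfix : F ⊓ centralizer ({τ} : Set (N ⧸ W.subgroupOf N)) = ⊥
  · -- `τ` inverts `F`, so `d` lies in `F`
    obtain ⟨k, hk⟩ := hE ⟨d, hd⟩
    exact D.eq_one_of_fit_free c hfix (hEK hd) (congrArg Subtype.val hk) (hinv d hd)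
  · -- a fixed point of the Fitting subgroup lies in the image of `H`
    set X := F ⊓ centralizer ({τ} : Set (N ⧸ W.subgroupOf N)) with hXdef
    have hBN : B ≤ N := D.B_le.trans D.K_le
    have hUW : U ≤ W := D.inter ▸ inf_le_left
    have hXH : X ≤ imgMod N W H := D.fixed_fit_le c
    -- a good element of prime order
    obtain ⟨⟨z, hz⟩, hz1⟩ := (Subgroup.ne_bot_iff_exists_ne_one).1 hfix
    obtain ⟨lp, hlp, hlpd⟩ := Nat.exists_prime_and_dvd (n := orderOf z) (fun e => hz1 (Subtype.ext (orderOf_eq_one_iff.1 e)))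
    haveI := Fact.mk hlp
    set xb := z ^ (orderOf z / lp) with hxb
    have hxo : orderOf xb = lp := orderOf_pow_orderOf_div (orderOf_pos z).ne' hlpd
    have hxX : xb ∈ X := X.pow_mem hz _
    obtain ⟨⟨x, hxN⟩, hx, hxe⟩ := hXH hxX
    replace hx : x ∈ H := mem_subgroupOf.1 hx
    have hinjH : ∀ a ∈ H, a ∈ W → a = 1 := by
      intro a ha haW
      have haU : a ∈ U := D.inter ▸ ⟨haW, c.H_le ha⟩
      refine orderOf_eq_one_iff.1 (Nat.eq_one_of_dvd_coprimes ?_ (Subgroup.orderOf_dvd_natCard U haU)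
        (Subgroup.orderOf_dvd_natCard H ha))
      obtain ⟨j, hj⟩ := IsPGroup.iff_card.1 c.U_three
      rw [hj]; exact (Nat.prime_three.coprime_iff_not_dvd.2 c.H_three).pow_left j
    have hxord : orderOf x = lp := by
      refine orderOf_eq_prime ?_ fun e => ?_
      · refine hinjH _ (H.pow_mem hx _) ((mk_eq_one_iff (W := W) (⟨x, hxN⟩ ^ lp)).1 ?_)
        rw [map_pow, hxe, ← hxo, pow_orderOf_eq_one]
      · subst e
        rw [show π ⟨1, hxN⟩ = 1 from map_one π] at hxe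
        rw [← hxe, orderOf_one] at hxo
        exact hlp.one_lt.ne hxo
    have hlp3 : lp ≠ 3 := fun e => c.H_three (e ▸ hxord ▸ Subgroup.orderOf_dvd_natCard H hx)
    have hlp2 : lp ≠ 2 := fun e => by
      have h1 := Subgroup.orderOf_dvd_natCard B (c.H_le hx)
      rw [hxord, e] at h1
      exact Nat.not_even_iff_odd.2 c.B_odd (even_iff_two_dvd.2 h1)
    set O := (Cfsg.pCore lp Kb).map Kb.subtype
    haveI : (Cfsg.pCore lp Kb).Characteristic := Cores.pCore_characteristic lp _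
    haveI hOn : O.Normal := normalizer_eq_top_iff.1 (top_le_iff.1
      ((normalizer_eq_top Kb).ge.trans (Cores.normalizer_le_normalizer_map _)))
    have hxO : xb ∈ O := by
      obtain ⟨z', hz', hze⟩ := (show xb ∈ F from hxX.1)
      exact ⟨z', RankTwo.mem_pCore_of_mem_fitting lp hz' (n := 1) (Subtype.ext (by
        rw [pow_one]; show (z' : N ⧸ W.subgroupOf N) ^ lp = 1
        rw [show (z' : N ⧸ W.subgroupOf N) = xb from hze, ← hxo]; exact pow_orderOf_eq_one _)), hze⟩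
    have hOF : O ≤ F := map_mono (le_sSup ⟨Cores.pCore_normal lp _, (Cores.isPGroup_pCore lp Kb).isNilpotent⟩)
    have hHimg : IsCyclic (imgMod N W H) := by
      haveI := c.H_cyclic
      haveI : IsCyclic (H.subgroupOf N) :=
        isCyclic_of_surjective (subgroupOfEquivOfLe (c.H_le.trans hBN)).symm
          (subgroupOfEquivOfLe (c.H_le.trans hBN)).symm.surjective
      exact isCyclic_of_surjective (π.subgroupMap (H.subgroupOf N)) (MonoidHom.subgroupMap_surjective _ _)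
    have hline : ∀ w ∈ O, Commute w τ → w ^ lp = 1 → w ∈ zpowers xb := by
      intro w hw hwc hwp
      haveI := hHimg
      rcases (Nat.dvd_prime hlp).1 (orderOf_dvd_of_pow_eq_one hwp) with h1 | h1
      · rw [orderOf_eq_one_iff.1 h1]; exact one_mem _
      · have hwI : w ∈ imgMod N W H := hXH (mem_fixed_iff.2 ⟨hOF hw, hwc⟩)
        have hxI : xb ∈ imgMod N W H := hXH hxX
        exact PairsCyclic.mem_zpowers_of_cyclic hHimg (hXH hxX) hwI (by rw [hxo]; exact hwp)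
    have hhτ : Commute h' τ := Commute.map (Subtype.ext (c.commute_t (c.H_le hh)).eq) π
    have hhx : Commute h' xb := by
      rw [← hxe]
      refine Commute.map (Subtype.ext ?_) π
      haveI := c.H_cyclic
      exact congrArg (Subtype.val : H → G) ((IsCyclic.commGroup (α := H)).mul_comm ⟨h, hh⟩ ⟨x, hx⟩)
    have hhodd : Odd (orderOf h') := hKo.of_dvd_nat (Subgroup.orderOf_dvd_natCard Kb
      (show h' ∈ Kb from ⟨_, mem_subgroupOf.2 (D.B_le (c.H_le hh)), rfl⟩))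
    have hcm : h' * d * h'⁻¹ * d⁻¹ = 1 := by
      have hc := centralizes_fixed_line hlp2 hlp3 hτ2 hhodd hhτ hhx (mem_fixed_iff.1 hxX).2 hxo O
        ((Cores.isPGroup_pCore lp Kb).map _) hxO hline hE hinv hnorm d hd
      rw [← hxe] at hc
      exact hgood x hx (hxord ▸ hlp) _ (E.mul_mem (hnorm d hd) (E.inv_mem hd)) hc
    exact hgood h hh hhp d hd (mul_inv_eq_iff_eq_mul.1 (mul_inv_eq_one.1 hcm)).symm

/-- **Case `s = 3`.** -/
theorem three_false (c : ThreeCtx t f y U F₃ B H l m) (hcomp : NoInvertedMod t f U B) : False := by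
  haveI : Fact (Nat.Prime 2) := ⟨Nat.prime_two⟩
  haveI : Fact (Nat.Prime 3) := ⟨Nat.prime_three⟩
  obtain ⟨N, K, W, D, hfN⟩ := exists_local c
  haveI : (W.subgroupOf N).Normal := Cores.subgroupOf_normal_of_le_normalizer D.W_normal
  set π := QuotientGroup.mk' (W.subgroupOf N) with hπ
  set Kb := imgMod N W K
  haveI := D.imgK_normal
  have hKo : Odd (Nat.card Kb) := D.imgK_odd
  haveI : Group.IsSolvable Kb := OddOrderTheorem.solvable hKo
  set τ := π ⟨t, D.t_mem⟩ with hτ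
  have hτ2 : τ * τ = 1 := by
    rw [hτ, ← map_mul, ← map_one π]; congr 1; exact Subtype.ext (Involution.mul_self c.invol)
  have hBN : B ≤ N := D.B_le.trans D.K_le
  have hfB : f ∈ B := c.F_le c.f_mem
  set fb := π ⟨f, hBN hfB⟩ with hfb
  have hfb1 : fb ≠ 1 := fun e => D.f_not_mem c ((mk_eq_one_iff (W := W) _).1 e)
  have hfb3 : orderOf fb = 3 := orderOf_eq_prime (by
    rw [hfb, ← map_pow, ← map_one π]; congr 1; exact Subtype.ext c.f_cube) hfb1
  set M := Kb ⊓ centralizer ({fb} : Set (N ⧸ W.subgroupOf N)) with hM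
  set F3b := imgMod N W F₃
  have hF3Kb : F3b ≤ Kb := map_mono fun z hz => mem_subgroupOf.2 (D.B_le (c.F_le (mem_subgroupOf.1 hz)))
  have hF3p : IsPGroup 3 F3b := (c.F_three.comap_subtype (K := N)).map π
  haveI hF3c : IsCyclic F3b := by
    haveI := c.F_cyclic
    haveI : IsCyclic (F₃.subgroupOf N) :=
      isCyclic_of_surjective (subgroupOfEquivOfLe (c.F_le.trans hBN)).symm
        (subgroupOfEquivOfLe (c.F_le.trans hBN)).symm.surjective
    exact isCyclic_of_surjective (π.subgroupMap (F₃.subgroupOf N)) (MonoidHom.subgroupMap_surjective _ _)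
  have hfF : fb ∈ F3b := ⟨_, mem_subgroupOf.2 c.f_mem, rfl⟩
  have hF3M : F3b ≤ M := fun z hz => mem_inf.2 ⟨hF3Kb hz, mem_centralizer_singleton_iff.2
    (congrArg (Subtype.val : F3b → _) ((IsCyclic.commGroup (α := F3b)).mul_comm ⟨z, hz⟩ ⟨fb, hfF⟩))⟩
  have hfτ : Commute fb τ := Commute.map (Subtype.ext (c.commute_t hfB).eq) π
  have hτM : τ ∈ normalizer (M : Set (N ⧸ W.subgroupOf N)) := Coprime.mem_normalizer_of_forall fun z hz =>
    ⟨(inferInstance : Kb.Normal).conj_mem z hz.1 τ, mem_centralizer_singleton_iff.2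
      (((hfτ.symm.mul_left (mem_centralizer_singleton_iff.1 hz.2 : Commute z fb)).mul_left hfτ.symm.inv_left).eq)⟩
  have hMo : Odd (Nat.card M) := hKo.of_dvd_nat (card_dvd_of_le inf_le_left)
  have hτord : orderOf τ = 2 := orderOf_eq_prime (by rw [pow_two, hτ2]) fun e => by
    have h1 : t ∈ W := (mk_eq_one_iff (W := W) _).1 e
    have h2 := Subgroup.orderOf_dvd_natCard K (D.W_le h1)
    rw [c.invol] at h2
    exact Nat.not_even_iff_odd.2 D.K_odd (even_iff_two_dvd.2 h2)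
  have hF3τ : zpowers τ ≤ normalizer (F3b : Set (N ⧸ W.subgroupOf N)) := zpowers_le.2
    (centralizer_le_normalizer _ (mem_centralizer_iff.2 fun z hz => by
      obtain ⟨z', hz', rfl⟩ := hz
      exact (Commute.map (Subtype.ext (c.commute_t (c.F_le (mem_subgroupOf.1 hz'))).eq : Commute z' ⟨t, D.t_mem⟩) π).eq))
  obtain ⟨S, hFS, hSM, hSτ, hSc⟩ := Coprime.exists_invariant_card (zpowers_le.2 hτM)
    (by rw [Nat.card_zpowers, hτord]; exact Nat.coprime_two_left.2 hMo)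
    (Or.inr (OddOrderTheorem.solvable hMo)) 3 hF3M hF3p hF3τ
  have hS3 : IsPGroup 3 S := Coprime.isPGroup_of_card hSc
  -- `τ` centralises `S`
  have hSfix : ∀ d ∈ S, Commute d τ := by
    intro d hd
    set z := τ * d * τ⁻¹ * d⁻¹ with hz
    have hzS : z ∈ S := S.mul_mem ((mem_normalizer_iff.1 (hSτ (mem_zpowers τ)) d).1 hd) (S.inv_mem hd)
    obtain ⟨z', hz', hze⟩ := (hSM hzS).1
    have hzf : (z' : G) * f * (z' : G)⁻¹ * f⁻¹ ∈ W :=
      (mk_eq_one_iff (W := W) (z' * ⟨f, hBN hfB⟩ * z'⁻¹ * ⟨f, hBN hfB⟩⁻¹)).1 (by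
        rw [map_mul, map_mul, map_mul, map_inv, map_inv, hze, ← hfb,
          (mem_centralizer_singleton_iff.1 (hSM hzS).2 : z * fb = fb * z), mul_inv_cancel_right, mul_inv_cancel])
    obtain ⟨w, hw, hc⟩ := D.lift_cent c (mem_subgroupOf.1 hz') hzf
    have hwz : π ⟨w * z', N.mul_mem (D.K_le (D.W_le hw)) z'.2⟩ = z := by
      rw [show (⟨w * z', N.mul_mem (D.K_le (D.W_le hw)) z'.2⟩ : N) = ⟨w, D.K_le (D.W_le hw)⟩ * z' from rfl,
        map_mul, (mk_eq_one_iff (W := W) _).2 hw, one_mul, hze]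
    obtain ⟨k, hk⟩ := hS3 ⟨z, hzS⟩
    have hzi : τ * z * τ⁻¹ = z⁻¹ := by
      have hτi : τ⁻¹ = τ := inv_eq_of_mul_eq_one_right hτ2
      calc τ * z * τ⁻¹ = τ * τ * d * τ⁻¹ * τ⁻¹ * (τ * d⁻¹ * τ⁻¹) := by rw [hz]; group
        _ = d * (τ * d⁻¹ * τ⁻¹) := by rw [hτ2, one_mul, hτi, mul_assoc d τ τ, hτ2, mul_one]
        _ = z⁻¹ := by rw [hz]; group
    have hwW := hcomp N K W D (w * z') (K.mul_mem (D.W_le hw) (mem_subgroupOf.1 hz'))
      ⟨k, (mk_eq_one_iff (W := W) (⟨w * z', N.mul_mem (D.K_le (D.W_le hw)) z'.2⟩ ^ (3 ^ k) : N)).1 (by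
        rw [map_pow, hwz]; exact congrArg Subtype.val hk)⟩
      ((mk_eq_one_iff (W := W) (⟨t, D.t_mem⟩ * ⟨w * z', N.mul_mem (D.K_le (D.W_le hw)) z'.2⟩ * ⟨t, D.t_mem⟩⁻¹ *
        ⟨w * z', N.mul_mem (D.K_le (D.W_le hw)) z'.2⟩ : N)).1 (by
        rw [map_mul, map_mul, map_mul, map_inv, hwz, hzi, inv_mul_cancel])) hc
    have hz1 : z = 1 := by rw [← hwz]; exact (mk_eq_one_iff (W := W) _).2 hwW
    exact (mul_inv_eq_iff_eq_mul.1 (mul_inv_eq_one.1 hz1)).symm
  -- so `S = F₃` image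
  have hSB : S ≤ imgMod N W B := fun d hd => D.imgK_fixed c (hSM hd).1 (hSfix d hd)
  have hUW : U ≤ W := D.inter ▸ inf_le_left
  have hmapUF : ((U ⊔ F₃).subgroupOf N).map π = F3b := by
    rw [subgroupOf_sup (c.U_le.trans hBN) (c.F_le.trans hBN), Subgroup.map_sup]
    refine sup_eq_right.2 (le_trans (le_of_eq ((Subgroup.map_eq_bot_iff _).2 fun z hz => ?_)) bot_le)
    rw [QuotientGroup.ker_mk', mem_subgroupOf]; exact hUW (mem_subgroupOf.1 hz)
  have hcardimg : ∀ Y : Subgroup G, U ≤ Y → Y ≤ B →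
      Nat.card ((Y.subgroupOf N).map π) = U.relIndex Y := by
    intro Y hUY hYB
    rw [← Subgroup.relIndex_ker (Y.subgroupOf N) π, QuotientGroup.ker_mk',
      relIndex_subgroupOf (hYB.trans hBN), ← inf_relIndex_right W Y]
    congr 1
    exact le_antisymm (fun z hz => D.inter ▸ ⟨hz.1, hYB hz.2⟩) (le_inf hUW hUY)
  have hF3B : F3b ≤ imgMod N W B := map_mono fun z hz => mem_subgroupOf.2 (c.F_le (mem_subgroupOf.1 hz))
  have hUFB : U ⊔ F₃ ≤ B := sup_le c.U_le c.F_le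
  have hnd : ¬ 3 ∣ F3b.relIndex (imgMod N W B) := by
    have h1 := relIndex_mul_relIndex (⊥ : Subgroup (N ⧸ W.subgroupOf N)) F3b (imgMod N W B) bot_le hF3B
    rw [relIndex_bot_left, relIndex_bot_left] at h1
    have h2 := hcardimg _ le_sup_left hUFB
    rw [hmapUF] at h2
    rw [h2, show imgMod N W B = (B.subgroupOf N).map π from rfl, hcardimg B c.U_le le_rfl,
      ← relIndex_mul_relIndex U (U ⊔ F₃) B le_sup_left hUFB] at h1
    have h3 := Nat.eq_of_mul_eq_mul_left (h2 ▸ Nat.card_pos) h1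
    intro h4
    exact c.F_sylow (h3 ▸ h4)
  have hSF : S = F3b := by
    refine le_antisymm (relIndex_eq_one.1 ?_) hFS
    obtain ⟨j, hj⟩ := IsPGroup.iff_card.1 hS3
    have h1 : F3b.relIndex S ∣ 3 ^ j := hj ▸ relIndex_dvd_card F3b S
    have h2 : ¬ 3 ∣ F3b.relIndex S := fun h =>
      hnd (h.trans (Dvd.intro _ (relIndex_mul_relIndex F3b S (imgMod N W B) hFS hSB)))
    exact Nat.Coprime.eq_one_of_dvd ((Nat.prime_three.coprime_iff_not_dvd.2 h2).symm.pow_right j) h1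
  have hScyc : IsCyclic S := hSF ▸ hF3c
  have hfS : fb ∈ S := hFS hfF
  -- whatever normalises `S` in `Kb` centralises `fb`
  have hnc : ∀ z ∈ Kb, z ∈ normalizer (S : Set (N ⧸ W.subgroupOf N)) → Commute z fb := by
    intro z hz hzn
    obtain ⟨i, hi⟩ := Nat.odd_iff.2 (Nat.odd_iff.1 (hKo.of_dvd_nat (Subgroup.orderOf_dvd_natCard Kb hz)))
    have hmem : z * fb * z⁻¹ ∈ zpowers fb := PairsCyclic.mem_zpowers_of_cyclic hScyc hfS
      ((mem_normalizer_iff.1 hzn fb).1 hfS) (by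
        rw [conj_pow, pow_orderOf_eq_one, mul_one, mul_inv_cancel])
    obtain ⟨j, hj⟩ := mem_zpowers_iff.1 hmem
    have hj' : z * fb * z⁻¹ = fb ^ (j % 3) := by rw [← hj, ← zpow_mod_orderOf, hfb3]; rfl
    rcases (by omega : j % 3 = 0 ∨ j % 3 = 1 ∨ j % 3 = 2) with e | e | e <;> rw [e] at hj'
    · rw [zpow_zero, mul_inv_eq_one, mul_eq_left] at hj'
      exact absurd hj' hfb1
    · rw [zpow_one] at hj'
      exact mul_inv_eq_iff_eq_mul.1 hj'
    · exfalso
      have hinv : z * fb * z⁻¹ = fb⁻¹ := by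
        rw [hj']
        refine eq_inv_of_mul_eq_one_left ?_
        rw [show (2 : ℤ) = ((2 : ℕ) : ℤ) from rfl, zpow_natCast, ← pow_succ, show 2 + 1 = orderOf fb from hfb3.symm, pow_orderOf_eq_one]
      have h2 : ∀ k : ℕ, z ^ (2 * k) * fb * (z ^ (2 * k))⁻¹ = fb := by
        intro k
        induction k with
        | zero => simp
        | succ k ih =>
          calc z ^ (2 * (k + 1)) * fb * (z ^ (2 * (k + 1)))⁻¹
              = z * (z * (z ^ (2 * k) * fb * (z ^ (2 * k))⁻¹) * z⁻¹) * z⁻¹ := by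
                rw [mul_add, mul_one, pow_succ', pow_succ']; group
            _ = z * fb⁻¹ * z⁻¹ := by rw [ih, hinv]
            _ = (z * fb * z⁻¹)⁻¹ := by group
            _ = fb := by rw [hinv, inv_inv]
      have h3 : fb = fb⁻¹ := by
        calc fb = z ^ (2 * i + 1) * fb * (z ^ (2 * i + 1))⁻¹ := by
              rw [← hi, pow_orderOf_eq_one]; simp
          _ = z * (z ^ (2 * i) * fb * (z ^ (2 * i))⁻¹) * z⁻¹ := by rw [pow_succ']; group
          _ = fb⁻¹ := by rw [h2, hinv]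
      exact hfb1 (eq_one_of_inv_eq hKo (hF3Kb hfF) h3)
  -- `S` is a Sylow subgroup of `Kb`
  haveI : Fintype (N ⧸ W.subgroupOf N) := Fintype.ofFinite _
  obtain ⟨P, hP⟩ := (hS3.comap_subtype (K := Kb)).exists_le_sylow
  set P' := (P : Subgroup Kb).map Kb.subtype with hP'
  have hSP : S ≤ P' := fun z hz => ⟨⟨z, (hSM hz).1⟩, hP hz, rfl⟩
  have hPS : P' = S := by
    refine le_antisymm ?_ hSP
    have hbig : normalizer (S : Set (N ⧸ W.subgroupOf N)) ⊓ P' ≤ S := by
      intro z hz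
      set X := normalizer (S : Set (N ⧸ W.subgroupOf N)) ⊓ P'
      have hXM : X ≤ M := fun w hw => mem_inf.2 ⟨map_subtype_le _ hw.2,
        mem_centralizer_singleton_iff.2 (hnc w (map_subtype_le _ hw.2) hw.1).eq⟩
      have hSX : S ≤ X := le_inf le_normalizer hSP
      obtain ⟨j, hj⟩ := IsPGroup.iff_card.1 ((P.2.map Kb.subtype).to_le (inf_le_right : X ≤ P'))
      have h1 : 3 ^ j ∣ Nat.card M := hj ▸ card_dvd_of_le hXM
      have h2 : j ≤ (Nat.card M).factorization 3 :=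
        (Nat.prime_three.pow_dvd_iff_le_factorization Nat.card_pos.ne').1 h1
      have h3 : S = X := eq_of_le_of_card_ge hSX (by
        rw [hj, hSc]; exact Nat.pow_le_pow_right (by norm_num) h2)
      exact h3 ▸ hz
    by_contra hne
    haveI : Group.IsNilpotent P' := ((P.2.map Kb.subtype)).isNilpotent
    have hlt : S.subgroupOf P' < ⊤ := lt_top_iff_ne_top.2 fun e => hne (subgroupOf_eq_top.1 e)
    refine (Group.normalizerCondition_of_isNilpotent (G := P') _ hlt).not_ge fun z hz => ?_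
    refine mem_subgroupOf.2 (hbig ⟨?_, z.2⟩)
    have h4 : S = (S.subgroupOf P').map P'.subtype := (map_subgroupOf_eq_of_le hSP).symm
    rw [h4]
    exact le_normalizer_map P'.subtype ⟨z, hz, rfl⟩
  have hPc : IsCyclic (P : Subgroup Kb) := by
    haveI := hScyc
    exact (((P : Subgroup Kb).equivMapOfInjective Kb.subtype Kb.subtype_injective).trans
      (MulEquiv.subgroupCongr hPS)).symm.isCyclic.1 hScyc
  have hfP : (⟨fb, hF3Kb hfF⟩ : Kb) ∈ (P : Subgroup Kb) := hP hfS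
  obtain ⟨Q, V, hVn, hVc⟩ := PairsCyclic.hasNormalPComplement_of_fix P hPc hfP
    (fun e => hfb1 (congrArg Subtype.val e)) fun g hg => Subtype.ext (by
      have hgS : (g : N ⧸ W.subgroupOf N) ∈ normalizer (S : Set (N ⧸ W.subgroupOf N)) :=
        hPS ▸ le_normalizer_map Kb.subtype ⟨g, hg, rfl⟩
      exact mul_inv_eq_iff_eq_mul.2 (hnc g g.2 hgS))
  -- the complement is normal in the quotient
  have hV3 : ¬ 3 ∣ Nat.card V := by
    rw [← hVc.index_eq_card]; exact Q.not_dvd_index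
  have hVmem : ∀ z : Kb, ¬ 3 ∣ orderOf z → z ∈ V := by
    intro z hz
    haveI := hVn
    rw [← QuotientGroup.eq_one_iff (N := V), ← orderOf_eq_one_iff]
    obtain ⟨j, hj⟩ := IsPGroup.iff_card.1 Q.2
    have h1 : orderOf (z : Kb ⧸ V) ∣ 3 ^ j := hj ▸ hVc.symm.index_eq_card ▸ orderOf_dvd_natCard (z : Kb ⧸ V)
    exact Nat.Coprime.eq_one_of_dvd
      (((Nat.prime_three.coprime_iff_not_dvd.2 fun h => hz (h.trans (orderOf_map_dvd (QuotientGroup.mk' V) z)))).symm.pow_right j) h1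
  set Vb := V.map Kb.subtype
  haveI hVbn : Vb.Normal := ⟨fun z hz g => by
    obtain ⟨v, hv, rfl⟩ := hz
    refine ⟨⟨g * v * g⁻¹, (inferInstance : Kb.Normal).conj_mem _ v.2 g⟩, hVmem _ fun h => hV3 ?_, rfl⟩
    refine h.trans ?_
    rw [← Subgroup.orderOf_coe, show ((⟨g * v * g⁻¹, _⟩ : Kb) : N ⧸ W.subgroupOf N) = MulAut.conj g v from rfl,
      MulEquiv.orderOf_eq, Subgroup.orderOf_coe]
    exact Subgroup.orderOf_dvd_natCard V hv⟩
  have htop : Kb ⊔ zpowers τ = ⊤ := by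
    rw [show Kb = (K.subgroupOf N).map π from rfl, show zpowers τ = ((zpowers t).subgroupOf N).map π by
      rw [hτ, ← MonoidHom.map_zpowers]
      congr 1
      exact map_injective N.subtype_injective (by
        rw [MonoidHom.map_zpowers, map_subgroupOf_eq_of_le (zpowers_le.2 D.t_mem)]; rfl),
      ← Subgroup.map_sup, ← subgroupOf_sup D.K_le (zpowers_le.2 D.t_mem), ← D.gen, subgroupOf_self]
    exact map_top_of_surjective _ (QuotientGroup.mk'_surjective _)
  have hKb : Kb ≤ Vb ⊔ S := by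
    intro z hz
    haveI := hVn
    have hz2 : (⟨z, hz⟩ : Kb) ∈ V ⊔ (P : Subgroup Kb) := by
      obtain ⟨a, ha⟩ := MulAction.exists_smul_eq Kb Q P
      have hidx : V ⊔ (P : Subgroup Kb) = ⊤ := by
        refine eq_top_of_card_eq _ (Nat.dvd_antisymm (card_subgroup_dvd_card _) ?_)
        rw [← hVc.card_mul, show Nat.card (Q : Subgroup Kb) = Nat.card (P : Subgroup Kb) from
          Q.card_eq_multiplicity.trans P.card_eq_multiplicity.symm]
        exact Nat.Coprime.mul_dvd_of_dvd_of_dvd (by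
          obtain ⟨j, hj⟩ := IsPGroup.iff_card.1 P.2
          rw [hj]; exact (Nat.prime_three.coprime_iff_not_dvd.2 hV3).symm.pow_right j)
          (card_dvd_of_le le_sup_left) (card_dvd_of_le le_sup_right)
      rw [hidx]; exact mem_top _
    have := mem_map_of_mem Kb.subtype hz2
    rwa [Subgroup.map_sup, ← hP', hPS] at this
  set A := S ⊔ zpowers τ
  have hA : A ≤ centralizer (A : Set (N ⧸ W.subgroupOf N)) := by
    have hSS : S ≤ centralizer (S : Set (N ⧸ W.subgroupOf N)) := fun z hz => mem_centralizer_iff.2 fun w hw => by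
      haveI := hScyc
      exact congrArg (Subtype.val : S → _) ((IsCyclic.commGroup (α := S)).mul_comm ⟨w, hw⟩ ⟨z, hz⟩)
    have hτS : zpowers τ ≤ centralizer (S : Set (N ⧸ W.subgroupOf N)) :=
      zpowers_le.2 (mem_centralizer_iff.2 fun w hw => (hSfix w hw).eq)
    have hAS : A ≤ centralizer (S : Set (N ⧸ W.subgroupOf N)) := sup_le hSS hτS
    refine sup_le (le_centralizer_iff.1 hAS) (le_centralizer_iff.1 (sup_le (le_centralizer_iff.1 hτS) ?_))
    exact zpowers_le.2 (mem_centralizer_iff.2 fun w hw => by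
      obtain ⟨k, rfl⟩ := mem_zpowers_iff.1 hw; exact (Commute.self_zpow τ k).symm.eq)
  have htop' : Vb ⊔ A = ⊤ := top_le_iff.1 (htop ▸ sup_le
    (hKb.trans (sup_le le_sup_left (le_sup_left.trans le_sup_right)))
    ((le_sup_right : zpowers τ ≤ A).trans le_sup_right))
  set q := QuotientGroup.mk' Vb
  have hcomm : commutator (N ⧸ W.subgroupOf N) ≤ Vb := by
    rw [← QuotientGroup.ker_mk' Vb, ← Subgroup.map_eq_bot_iff, _root_.commutator_def, map_commutator, ← htop',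
      Subgroup.map_sup, (Subgroup.map_eq_bot_iff Vb).2 (QuotientGroup.ker_mk' Vb).ge, bot_sup_eq,
      ← map_commutator, commutator_eq_bot_iff_le_centralizer.2 hA, Subgroup.map_bot]
  have hfc : fb ∈ commutator (N ⧸ W.subgroupOf N) := by
    have h1 : (⟨f, hBN hfB⟩ : N) ∈ commutator N := by
      have h2 : (commutator N).map N.subtype = ⁅N, N⁆ := by
        rw [_root_.commutator_def, map_commutator, ← MonoidHom.range_eq_map, range_subtype]
      obtain ⟨z, hz, hze⟩ := (h2 ▸ hfN : f ∈ (commutator N).map N.subtype)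
      exact (Subtype.ext hze : z = ⟨f, hBN hfB⟩) ▸ hz
    rw [_root_.commutator_def, ← map_top_of_surjective π (QuotientGroup.mk'_surjective _), ← map_commutator]
    exact ⟨_, h1, rfl⟩
  obtain ⟨v, hv, hve⟩ := hcomm hfc
  refine hV3 ?_
  have h1 := Subgroup.orderOf_dvd_natCard V hv
  rwa [← Subgroup.orderOf_coe, show ((v : Kb) : N ⧸ W.subgroupOf N) = fb from hve, hfb3] at h1

end Cfsg.Agent.AbelianSylow.Field
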