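import Cfsg.Agent.EqLemmas
import Mathlib

/-!
# No field automorphism, case (B): no invariant alternating form (`FIELD_TWOGRAPH.md`)

* `exists_equivariant` : an equivariant map to the group on the free orbits
* `TwoGraph.phi_*`     : the coboundary of a form
* `trace_idem`         : the trace of an idempotent matrix
* `twoGraph_arith`     : the arithmetic of the two eigenvalues
* `twoGraph_eq_zero`   : the form vanishes
-/

set_option autoImplicit false
set_option linter.unusedSectionVars false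
set_option linter.style.haveILetI false

namespace Cfsg.Agent.AbelianSylow.Field

open Subgroup
open scoped ComplexConjugate

universe u v

/-- An equivariant map to `P` on the free orbits. -/
theorem exists_equivariant {P : Type u} [Group P] {X : Type v} [MulAction P X] :
    ∃ π : X → P, ∀ (p : P) (x : X),
      (∀ r : P, ∀ y ∈ MulAction.orbit P x, r • y = y → r = 1) → π (p • x) = p * π x := by
  classical
  let rep : X → X := fun x => (Quotient.mk (MulAction.orbitRel P X) x).out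
  have hrep : ∀ x, ∃ p : P, p • rep x = x := fun x => by
    obtain ⟨p, hp⟩ := (MulAction.orbitRel_apply.1
      ((MulAction.orbitRel P X).symm' (Quotient.mk_out (s := MulAction.orbitRel P X) x)))
    exact ⟨p, hp⟩
  choose π hπ using hrep
  refine ⟨π, fun p x hfree => ?_⟩
  have h1 : rep (p • x) = rep x := by
    simp only [rep]
    congr 1
    exact Quotient.sound (MulAction.orbitRel_apply.2 (MulAction.mem_orbit x p))
  have h2 := hπ (p • x)
  rw [h1] at h2
  have hmem : rep x ∈ MulAction.orbit P x :=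
    MulAction.orbitRel_apply.1 (Quotient.mk_out (s := MulAction.orbitRel P X) x)
  have h3 := hfree ((π (p • x))⁻¹ * (p * π x)) _ hmem (by
    rw [mul_smul, mul_smul, hπ x, inv_smul_eq_iff]
    exact h2.symm)
  exact inv_mul_eq_one.1 h3

section phi

variable {P : Type u} [CommGroup P] {s : ℕ}

/-- The coboundary of a form. -/
def phi (β : P → P → ZMod s) (a b c : P) : ZMod s := β a b + β b c + β c a

/-- A biadditive form, zero on the diagonal. -/
structure AltForm (β : P → P → ZMod s) : Prop where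
  left : ∀ a b c, β (a * b) c = β a c + β b c
  right : ∀ a b c, β a (b * c) = β a b + β a c
  diag : ∀ a, β a a = 0

variable {β : P → P → ZMod s} (hβ : AltForm β)
include hβ

theorem AltForm.anti (a b : P) : β b a = -β a b := by
  have h := hβ.diag (a * b)
  rw [hβ.left, hβ.right, hβ.right, hβ.diag, hβ.diag] at h
  linear_combination h

theorem AltForm.shift (p a b : P) : β (p * a) (p * b) = β a b + β p b - β p a := by
  rw [hβ.left, hβ.right, hβ.right, hβ.diag, hβ.anti p a]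
  ring

theorem phi_shift (p a b c : P) : phi β (p * a) (p * b) (p * c) = phi β a b c := by
  simp only [phi, hβ.shift]
  ring

theorem phi_swap₁ (a b c : P) : phi β b a c = -phi β a b c := by
  simp only [phi]
  rw [hβ.anti a b, hβ.anti c a, hβ.anti b c]
  ring

theorem phi_swap₂ (a b c : P) : phi β a c b = -phi β a b c := by
  simp only [phi]
  rw [hβ.anti a b, hβ.anti c a, hβ.anti b c]
  ring

theorem phi_cocycle (w a b c : P) :
    phi β a b c = phi β w b c - phi β w a c + phi β w a b := by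
  simp only [phi]
  linear_combination hβ.anti a c - hβ.anti w b

end phi

/-- The trace of an idempotent matrix is a natural number. -/
theorem trace_idem {X : Type v} [Fintype X] [DecidableEq X] {e : Matrix X X ℂ} (he : e * e = e) :
    ∃ k : ℕ, e.trace = k := by
  have hl : IsIdempotentElem (Matrix.toLin' e) := by
    show Matrix.toLin' e * Matrix.toLin' e = Matrix.toLin' e
    rw [Module.End.mul_eq_comp, ← Matrix.toLin'_mul, he]
  refine ⟨Module.finrank ℂ (LinearMap.range (Matrix.toLin' e)), ?_⟩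
  rw [← Matrix.trace_toLin'_eq]
  exact (LinearMap.IsIdempotentElem.isProj_range _ hl).trace

/-- An integer congruent to a sum of roots of unity. -/
theorem dvd_of_eq_sum_roots {s : ℕ} (hs : s.Prime) {ζ : ℂ} (hζ : IsPrimitiveRoot ζ s) {ι : Type v}
    (S : Finset ι) (k : ι → ℕ) {c : ℤ} (h : (c : ℂ) = ∑ z ∈ S, ζ ^ k z) : (s : ℤ) ∣ c - S.card := by
  haveI := Fact.mk hs
  let p : Polynomial ℤ := Polynomial.C c - ∑ z ∈ S, Polynomial.X ^ k z
  have hp : Polynomial.aeval ζ p = 0 := by simp [p, h]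
  have hd := minpoly.isIntegrallyClosed_dvd (hζ.isIntegral hs.pos) hp
  rw [← Polynomial.cyclotomic_eq_minpoly hζ hs.pos] at hd
  have h1 := Polynomial.eval_dvd (x := (1 : ℤ)) hd
  rw [Polynomial.eval_one_cyclotomic_prime] at h1
  simpa [p, Polynomial.eval_finsetSum] using h1

/-- The arithmetic of the eigenvalues `3 ^ i`, `-3 ^ j`. -/
theorem twoGraph_arith {f i j s : ℕ} (hf : 1 ≤ f) (hs5 : 5 ≤ s)
    (hs : (s : ℤ) ∣ ((3 : ℤ) ^ f) ^ 2 - (3 : ℤ) ^ f + 1) (hij : i + j = 3 * f)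
    (hc : (s : ℤ) ∣ (3 : ℤ) ^ i - (3 : ℤ) ^ j + 2)
    (hne : (3 : ℤ) ^ i - (3 : ℤ) ^ j ≠ ((3 : ℤ) ^ f) ^ 3 - 1)
    (h1 : (3 : ℤ) ^ i + (3 : ℤ) ^ j ∣ (((3 : ℤ) ^ f) ^ 3 + 1) * (3 : ℤ) ^ j)
    (h2 : (3 : ℤ) ^ i + (3 : ℤ) ^ j ∣
      ((3 : ℤ) ^ f) ^ 3 - (3 : ℤ) ^ f + (3 : ℤ) ^ j * ((3 : ℤ) ^ f + 1)) : False := by
  set q : ℤ := (3 : ℤ) ^ f with hq
  have hsm : ∀ z : ℕ, 0 < z → z < s → ¬ (s : ℤ) ∣ (z : ℤ) := fun z hz hzs h =>
    absurd (Nat.le_of_dvd hz (Int.natCast_dvd_natCast.1 h)) (by omega)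
  have hq3 : (s : ℤ) ∣ q ^ 3 + 1 := by
    rw [show q ^ 3 + 1 = (q + 1) * (q ^ 2 - q + 1) by ring]; exact hs.mul_left _
  have hpow : ∀ m : ℕ, m = 3 * f → (3 : ℤ) ^ m = q ^ 3 := fun m hm => by
    rw [hm, hq, ← pow_mul, mul_comm]
  -- the extreme cases
  rcases Nat.eq_zero_or_pos i with hi | hi
  · rw [hi, pow_zero, hpow j (by omega)] at hc
    have : (s : ℤ) ∣ ((4 : ℕ) : ℤ) := by
      have := dvd_add hc hq3
      rwa [show (1 : ℤ) - q ^ 3 + 2 + (q ^ 3 + 1) = ((4 : ℕ) : ℤ) by push_cast; ring] at this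
    exact hsm 4 (by norm_num) (by omega) this
  rcases Nat.eq_zero_or_pos j with hj | hj
  · rw [hj, pow_zero, hpow i (by omega)] at hne
    exact hne rfl
  -- `d = |i - j|`
  set l := min i j with hl
  set d := max i j - l with hd
  have hld : 2 * l + d = 3 * f := by omega
  have hsum : (3 : ℤ) ^ i + (3 : ℤ) ^ j = (3 : ℤ) ^ l * ((3 : ℤ) ^ d + 1) := by
    rcases le_total i j with h | h
    · rw [hd, hl, min_eq_left h, max_eq_right h, mul_add, ← pow_add, Nat.add_sub_cancel' h]; ring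
    · rw [hd, hl, min_eq_right h, max_eq_left h, mul_add, ← pow_add, Nat.add_sub_cancel' h]; ring
  have hp3 : Prime (3 : ℤ) := Int.prime_three
  have hlf : l ≤ f := by
    by_contra hcon
    push Not at hcon
    have h3 : (3 : ℤ) ^ (f + 1) ∣ q ^ 3 - q + 3 ^ j * (q + 1) :=
      (pow_dvd_pow 3 hcon).trans ((dvd_mul_right _ _).trans (hsum ▸ h2))
    have h4 : (3 : ℤ) ^ (f + 1) ∣ 3 ^ j * (q + 1) := (pow_dvd_pow 3 (by omega)).mul_right _
    have h5 := dvd_sub h3 h4
    rw [show q ^ 3 - q + 3 ^ j * (q + 1) - 3 ^ j * (q + 1) = q * (q ^ 2 - 1) by ring, pow_succ, ← hq,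
      mul_dvd_mul_iff_left (pow_ne_zero f (by norm_num : (3 : ℤ) ≠ 0))] at h5
    have h6 : (3 : ℤ) ∣ q ^ 2 := dvd_pow (dvd_pow_self 3 (by omega)) two_ne_zero
    have h7 := dvd_sub h6 h5
    rw [show q ^ 2 - (q ^ 2 - 1) = 1 by ring] at h7
    norm_num at h7
  have hd3 : d < 3 * f := by omega
  have hdf : f ≤ d := by omega
  have hdn : (3 : ℤ) ^ d + 1 ∣ (3 : ℤ) ^ (3 * f) + 1 := by
    have hcop : IsCoprime ((3 : ℤ) ^ d + 1) ((3 : ℤ) ^ j) := by
      refine IsCoprime.pow_right ((hp3.coprime_iff_not_dvd).2 fun h => ?_).symm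
      have h3 := dvd_sub h (dvd_pow_self (3 : ℤ) (show d ≠ 0 by omega))
      rw [show (3 : ℤ) ^ d + 1 - 3 ^ d = 1 by ring] at h3
      norm_num at h3
    refine hcop.dvd_of_dvd_mul_right ((dvd_mul_left _ _).trans (b := (3 : ℤ) ^ l * ((3 : ℤ) ^ d + 1)) ?_)
    rw [hpow _ rfl, ← hsum]; exact h1
  -- `d = f`
  obtain ⟨k, r, hr, hk⟩ : ∃ k r, r < d ∧ 3 * f = d * k + r :=
    ⟨3 * f / d, 3 * f % d, Nat.mod_lt _ (by omega), (Nat.div_add_mod _ _).symm⟩
  have hmod : (3 : ℤ) ^ d + 1 ∣ (-1) ^ k * (3 : ℤ) ^ r + 1 := by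
    have h3 : (3 : ℤ) ^ d + 1 ∣ ((3 : ℤ) ^ d) ^ k - (-1) ^ k := by
      have := sub_dvd_pow_sub_pow ((3 : ℤ) ^ d) (-1) k
      rwa [sub_neg_eq_add] at this
    have h4 := dvd_sub hdn (h3.mul_right ((3 : ℤ) ^ r))
    rwa [hk, pow_add, pow_mul,
      show ((3 : ℤ) ^ d) ^ k * 3 ^ r + 1 - (((3 : ℤ) ^ d) ^ k - (-1) ^ k) * 3 ^ r =
        (-1) ^ k * 3 ^ r + 1 by ring] at h4
  have hr3 : (3 : ℤ) ^ r < 3 ^ d := pow_lt_pow_right₀ (by norm_num) hr
  have hr0 : (0 : ℤ) < 3 ^ r := by positivity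
  rcases Nat.even_or_odd k with hke | hko
  · rw [hke.neg_one_pow, one_mul] at hmod
    have := Int.le_of_dvd (by omega) hmod
    omega
  rw [hko.neg_one_pow] at hmod
  obtain rfl : r = 0 := by
    by_contra hr1
    have h3 : (1 : ℤ) < 3 ^ r := one_lt_pow₀ (by norm_num) hr1
    have h4 : (3 : ℤ) ^ d + 1 ∣ 3 ^ r - 1 := by
      rw [← dvd_neg, show -((3 : ℤ) ^ r - 1) = -1 * 3 ^ r + 1 by ring]; exact hmod
    have := Int.le_of_dvd (by omega) h4
    omega
  obtain ⟨k', rfl⟩ := hko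
  have hk1 : k' = 1 := by
    rcases k' with _ | _ | k''
    · omega
    · rfl
    · have : d * 5 ≤ d * (2 * (k'' + 1 + 1) + 1) := Nat.mul_le_mul_left d (by omega)
      omega
  subst hk1
  have hlf' : l = f := by omega
  have hh : max i j = 2 * f := by omega
  rcases le_total i j with h | h
  · rw [max_eq_right h] at hh
    rw [hl, min_eq_left h] at hlf'
    rw [hlf', hh, mul_comm 2 f, pow_mul, ← hq] at hc
    have h3 := dvd_add hc hs
    rw [show q - q ^ 2 + 2 + (q ^ 2 - q + 1) = ((3 : ℕ) : ℤ) by push_cast; ring] at h3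
    exact hsm 3 (by norm_num) (by omega) h3
  · rw [max_eq_left h] at hh
    rw [hl, min_eq_right h] at hlf'
    rw [hlf', hh, mul_comm 2 f, pow_mul, ← hq] at hc
    have h3 := dvd_sub hc hs
    rw [show q ^ 2 - q + 2 - (q ^ 2 - q + 1) = ((1 : ℕ) : ℤ) by push_cast; ring] at h3
    exact hsm 1 (by norm_num) (by omega) h3

/-- **The two-graph.** An invariant alternating form on the fixed Sylow subgroup vanishes. -/
theorem twoGraph_eq_zero {K : Type u} [Group K] [Finite K] {Ω : Type v} [MulAction K Ω] [Finite Ω]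
    {f s : ℕ} (hf : 1 ≤ f) (h2 : ∀ x y x' y' : Ω, x ≠ y → x' ≠ y' → ∃ g : K, g • x = x' ∧ g • y = y')
    (hcard : Nat.card Ω = (3 ^ f) ^ 3 + 1) {t : K} (ht : t * t = 1)
    (hfix : Nat.card {x : Ω // t • x = x} = 3 ^ f + 1) (hs : s.Prime) (hs5 : 5 ≤ s)
    (hsd : (s : ℤ) ∣ ((3 : ℤ) ^ f) ^ 2 - (3 : ℤ) ^ f + 1) {P : Subgroup K}
    (hcomm : ∀ a ∈ P, ∀ b ∈ P, a * b = b * a) (hfree : ∀ a ∈ P, ∀ x : Ω, a • x = x → a = 1)
    (hTI : ∀ g : K, g ∉ normalizer (P : Set K) → ∀ a ∈ P, g⁻¹ * a * g ∈ P → a = 1)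
    (hidx : ¬ s ∣ (P.subgroupOf (normalizer (P : Set K))).index)
    {β : ↥P → ↥P → ZMod s} (hl : ∀ a b c, β (a * b) c = β a c + β b c)
    (hr : ∀ a b c, β a (b * c) = β a b + β a c) (hd : ∀ a, β a a = 0)
    (hinv : ∀ n ∈ normalizer (P : Set K), ∀ a b a' b' : ↥P, (a' : K) = n * a * n⁻¹ →
      (b' : K) = n * b * n⁻¹ → β a' b' = β a b) :
    ∀ a b, β a b = 0 := by
  classical
  haveI := Fact.mk hs
  have := Fintype.ofFinite Ω
  have := Fintype.ofFinite (K ⧸ P)
  letI : CommGroup ↥P :=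
    { (inferInstance : Group ↥P) with mul_comm := fun a b => Subtype.ext (hcomm a a.2 b b.2) }
  have hβ : AltForm β := ⟨hl, hr, hd⟩
  obtain ⟨π, hπ0⟩ := exists_equivariant (P := ↥P) (X := Ω)
  have hπ : ∀ (a : ↥P) (x : Ω), π ((a : K) • x) = a * π x := fun a x =>
    hπ0 a x fun r y _ hy => Subtype.ext (hfree r r.2 y hy)
  -- the form of a coset
  let F : K ⧸ P → Ω → Ω → Ω → ZMod s := fun γ x y z =>
    phi β (π (γ.out⁻¹ • x)) (π (γ.out⁻¹ • y)) (π (γ.out⁻¹ • z))
  have hout : ∀ (g : K) (γ : K ⧸ P), ∃ a : ↥P, (g • γ).out = g * γ.out * a := fun g γ => by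
    have h : (QuotientGroup.mk (g * γ.out) : K ⧸ P) = g • γ := by
      conv_rhs => rw [← QuotientGroup.out_eq' γ]
      rfl
    obtain ⟨a, ha⟩ := QuotientGroup.mk_out_eq_mul P (g * γ.out)
    exact ⟨a, by rw [← h, ha]⟩
  have hF : ∀ (g : K) (γ : K ⧸ P) (x y z : Ω), F (g • γ) (g • x) (g • y) (g • z) = F γ x y z := by
    intro g γ x y z
    obtain ⟨a, ha⟩ := hout g γ
    have e : ∀ w : Ω, (g • γ).out⁻¹ • g • w = ((a⁻¹ : ↥P) : K) • γ.out⁻¹ • w := fun w => by
      rw [ha, ← mul_smul, ← mul_smul]; congr 1; simp [mul_assoc]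
    simp only [F, e, hπ, phi_shift hβ]
  let Δ : Ω → Ω → Ω → ZMod s := fun x y z => ∑ γ : K ⧸ P, F γ x y z
  have hΔ : ∀ (g : K) (x y z : Ω), Δ (g • x) (g • y) (g • z) = Δ x y z := fun g x y z => by
    refine (Fintype.sum_equiv (MulAction.toPerm g) _ _ fun γ => ?_).symm
    exact (hF g γ x y z).symm
  have hΔ1 : ∀ x y z, Δ y x z = -Δ x y z := fun x y z => by
    simp only [Δ, ← Finset.sum_neg_distrib]
    exact Finset.sum_congr rfl fun γ _ => phi_swap₁ hβ _ _ _
  have hΔ2 : ∀ x y z, Δ x z y = -Δ x y z := fun x y z => by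
    simp only [Δ, ← Finset.sum_neg_distrib]
    exact Finset.sum_congr rfl fun γ _ => phi_swap₂ hβ _ _ _
  have hΔc : ∀ w x y z, Δ x y z = Δ w y z - Δ w x z + Δ w x y := fun w x y z => by
    simp only [Δ, ← Finset.sum_sub_distrib, ← Finset.sum_add_distrib]
    exact Finset.sum_congr rfl fun γ _ => phi_cocycle hβ _ _ _ _
  have hs2 : (2 : ZMod s) ≠ 0 := by
    intro h
    have h' : ((2 : ℕ) : ZMod s) = 0 := by exact_mod_cast h
    rw [ZMod.natCast_eq_zero_iff] at h'
    have := Nat.le_of_dvd two_pos h'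
    omega
  have hdiag : ∀ z : ZMod s, z = -z → z = 0 := fun z h => by
    have : (2 : ZMod s) * z = 0 := by linear_combination h
    exact (mul_eq_zero.1 this).resolve_left hs2
  -- a fixed point
  obtain ⟨⟨x0, hx0⟩⟩ : Nonempty {x : Ω // t • x = x} :=
    (Nat.card_pos_iff.1 (by rw [hfix]; exact Nat.succ_pos _)).1
  -- it suffices that `Δ` vanishes
  suffices hzero : ∀ x y z, Δ x y z = 0 by
    intro b c
    let o : ↥P → Ω := fun a => (a : K) • x0
    let S : Finset (K ⧸ P) := Finset.univ.filter fun γ => γ.out ∉ normalizer (P : Set K)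
    let T : Finset (K ⧸ P) := Finset.univ.filter fun γ => γ.out ∈ normalizer (P : Set K)
    let D : K ⧸ P → ZMod s := fun γ =>
      F γ (o 1) (o b) (o (b * c)) - F γ (o 1) (o c) (o (b * c))
    have hsum : ∑ γ ∈ T, D γ + ∑ γ ∈ S, D γ = 0 := by
      rw [Finset.sum_filter_add_sum_filter_not]
      simp only [D, Finset.sum_sub_distrib]
      show Δ _ _ _ - Δ _ _ _ = 0
      rw [hzero, hzero, sub_zero]
    have hT : ∀ γ ∈ T, D γ = 2 * β b c := by
      intro γ hγ
      have hn : γ.out⁻¹ ∈ normalizer (P : Set K) := inv_mem (Finset.mem_filter.1 hγ).2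
      have hcj : ∀ a : ↥P, γ.out⁻¹ * (a : K) * γ.out⁻¹⁻¹ ∈ P := fun a =>
        (mem_normalizer_iff.1 hn _).1 a.2
      let cj : ↥P → ↥P := fun a => ⟨_, hcj a⟩
      have hπa : ∀ a : ↥P, π (γ.out⁻¹ • o a) = cj a * π (γ.out⁻¹ • x0) := fun a => by
        rw [← hπ]; congr 1
        simp only [o, cj, ← mul_smul]
        congr 1; group
      set k := π (γ.out⁻¹ • x0)
      have hB : ∀ a a' : ↥P, β (cj a * k) (cj a' * k) = β a a' + β k (cj a') - β k (cj a) := fun a a' => by
        rw [mul_comm (cj a), mul_comm (cj a'), hβ.shift,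
          hinv _ hn a a' (cj a) (cj a') rfl rfl]
      have h1 : cj 1 = 1 := Subtype.ext (by simp [cj])
      simp only [D, F, hπa, phi, hB]
      rw [hβ.right b b c, hβ.right c b c, hβ.left b c 1, hβ.diag, hβ.diag, hβ.anti b c]
      have e1 : ∀ a : ↥P, β 1 a = 0 := fun a => by
        have := hβ.left 1 1 a; rw [one_mul] at this; linear_combination -this
      rw [e1, e1]
      ring
    have hS : ∑ γ ∈ S, D γ = 0 := by
      obtain ⟨ρ, hρ0⟩ := exists_equivariant (P := ↥P) (X := K ⧸ P)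
      have hSinv : ∀ (a : ↥P) (γ : K ⧸ P), γ.out ∉ normalizer (P : Set K) →
          ((a : K) • γ).out ∉ normalizer (P : Set K) := by
        intro a γ h hc
        obtain ⟨a', ha'⟩ := hout (a : K) γ
        rw [ha'] at hc
        exact h (((mul_mem_cancel_left (le_normalizer a.2)).1
          ((mul_mem_cancel_right (le_normalizer a'.2)).1 hc)))
      have hρ : ∀ (a : ↥P) (γ : K ⧸ P), γ.out ∉ normalizer (P : Set K) → ρ ((a : K) • γ) = a * ρ γ := by
        intro a γ hγ
        refine hρ0 a γ fun r y hy hry => ?_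
        obtain ⟨b', rfl⟩ := hy
        have hy' : ((b' : K) • γ).out ∉ normalizer (P : Set K) := hSinv b' γ hγ
        obtain ⟨a', ha'⟩ := hout (r : K) ((b' : K) • γ)
        rw [show (r : K) • (b' : K) • γ = (b' : K) • γ from hry] at ha'
        refine Subtype.ext (hTI _ hy' r r.2 ?_)
        have e : ((b' : K) • γ).out⁻¹ * (r : K) * ((b' : K) • γ).out = (a' : K)⁻¹ := by
          rw [mul_assoc, inv_mul_eq_iff_eq_mul, eq_mul_inv_iff_mul_eq]
          exact ha'.symm
        rw [e]; exact inv_mem a'.2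
      let E : ↥P → ↥P → ZMod s := fun u v => ∑ γ ∈ S, F γ (o (ρ γ)) (o u) (o v)
      have hE : ∀ a u v, E (a * u) (a * v) = E u v := by
        intro a u v
        refine (Finset.sum_equiv (MulAction.toPerm (a : K)) (fun γ => ?_) fun γ hγ => ?_).symm
        · simp only [S, Finset.mem_filter, Finset.mem_univ, true_and, MulAction.toPerm_apply]
          refine ⟨hSinv a γ, fun h hc => ?_⟩
          obtain ⟨a', ha'⟩ := hout (a : K) γ
          exact h (by rw [ha']; exact mul_mem (mul_mem (le_normalizer a.2) hc) (le_normalizer a'.2))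
        · rw [MulAction.toPerm_apply, hρ a γ (Finset.mem_filter.1 hγ).2]
          have eo : ∀ v : ↥P, o (a * v) = (a : K) • o v := fun v => by simp [o, mul_smul]
          rw [eo, eo, eo, hF]
      have hcc : ∀ x y : ↥P, ∑ γ ∈ S, F γ (o 1) (o x) (o (x * y)) = E 1 y - E 1 (x * y) + E 1 x := by
        intro x y
        have := hE x 1 y
        rw [mul_one] at this
        rw [← this]
        simp only [E, ← Finset.sum_sub_distrib, ← Finset.sum_add_distrib]
        exact Finset.sum_congr rfl fun γ _ => phi_cocycle hβ _ _ _ _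
      simp only [D, Finset.sum_sub_distrib]
      rw [hcc, mul_comm b c, hcc]
      ring
    have hTc : T.card = (P.subgroupOf (normalizer (P : Set K))).index := by
      set N := normalizer (P : Set K)
      rw [Subgroup.index_eq_card, ← Nat.card_eq_finsetCard]
      refine Nat.card_congr (Equiv.ofBijective
        (fun γ => QuotientGroup.mk (⟨(γ : K ⧸ P).out, (Finset.mem_filter.1 γ.2).2⟩ : N)) ⟨?_, ?_⟩)
      · intro γ γ' e
        refine Subtype.ext ?_
        rw [← QuotientGroup.out_eq' (γ : K ⧸ P), ← QuotientGroup.out_eq' (γ' : K ⧸ P)]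
        exact QuotientGroup.eq.2 (QuotientGroup.eq.1 e :)
      · intro q'
        induction q' using QuotientGroup.induction_on with
        | _ n =>
          obtain ⟨a, ha⟩ := QuotientGroup.mk_out_eq_mul P (n : K)
          refine ⟨⟨QuotientGroup.mk (n : K), Finset.mem_filter.2 ⟨Finset.mem_univ _, ?_⟩⟩, ?_⟩
          · rw [ha]; exact mul_mem n.2 (le_normalizer a.2)
          · refine QuotientGroup.eq.2 ?_
            show (QuotientGroup.mk (n : K) : K ⧸ P).out⁻¹ * (n : K) ∈ P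
            rw [ha, mul_inv_rev, inv_mul_cancel_right]
            exact inv_mem a.2
    rw [hS, add_zero, Finset.sum_congr rfl hT, Finset.sum_const, nsmul_eq_mul, mul_eq_zero,
      mul_eq_zero] at hsum
    rcases hsum with h | h | h
    · rw [ZMod.natCast_eq_zero_iff, hTc] at h
      exact absurd h hidx
    · exact absurd h hs2
    · exact h
  -- the roots of unity
  set q : ℕ := 3 ^ f with hq
  have hq3 : 3 ≤ q := Nat.le_self_pow (by omega) 3
  let χ : AddChar (ZMod s) ℂ := ZMod.stdAddChar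
  have hχconj : ∀ a, conj (χ a) = χ (-a) := fun a => (AddChar.map_neg_eq_conj χ a).symm
  let ζ : ℂ := χ 1
  have hζ : IsPrimitiveRoot ζ s := by
    have h : χ ((1 : ℤ) : ZMod s) = Complex.exp (2 * Real.pi * Complex.I * (1 : ℤ) / s) :=
      ZMod.stdAddChar_coe 1
    rw [Int.cast_one, Int.cast_one, mul_one] at h
    show IsPrimitiveRoot (χ 1) s
    rw [h]
    exact Complex.isPrimitiveRoot_exp s hs.ne_zero
  have hχval : ∀ a : ZMod s, χ a = ζ ^ a.val := fun a => by
    rw [← AddChar.map_nsmul_eq_pow, nsmul_one, ZMod.natCast_zmod_val]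
  -- the sum over the third point
  let S2 : Ω → Ω → Finset Ω := fun x y => Finset.univ.filter fun z => z ≠ x ∧ z ≠ y
  let cc : Ω → Ω → ℂ := fun x y => ∑ z ∈ S2 x y, χ (-Δ x y z)
  have hcard' : Fintype.card Ω = q ^ 3 + 1 := by rw [← Nat.card_eq_fintype_card, hcard]
  have hScard : ∀ x y : Ω, x ≠ y → (S2 x y).card = q ^ 3 - 1 := by
    intro x y hxy
    have : S2 x y = ({x, y} : Finset Ω)ᶜ := by ext z; simp [S2]
    rw [this, Finset.card_compl, Finset.card_pair hxy, hcard']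
    omega
  have hccinv : ∀ (g : K) x y, cc (g • x) (g • y) = cc x y := by
    intro g x y
    refine (Finset.sum_equiv (MulAction.toPerm g) (fun z => ?_) fun z _ => ?_).symm
    · simp [S2, smul_left_cancel_iff]
    · rw [MulAction.toPerm_apply, hΔ]
  obtain ⟨y0, hy0⟩ : ∃ y0 : Ω, y0 ≠ x0 := by
    have : 1 < Fintype.card Ω := by rw [hcard']; have : 0 < q ^ 3 := pow_pos (by omega) 3; omega
    exact Fintype.exists_ne_of_one_lt_card this x0
  set c : ℂ := cc x0 y0 with hc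
  have hconst : ∀ x y, x ≠ y → cc x y = c := fun x y hxy => by
    obtain ⟨g, rfl, rfl⟩ := h2 x0 y0 x y hy0.symm hxy
    exact hccinv g _ _
  have hcr : conj c = c := by
    conv_rhs => rw [← hconst y0 x0 hy0]
    simp only [hc, cc, map_sum, hχconj, neg_neg]
    rw [show S2 y0 x0 = S2 x0 y0 by ext z; simp [S2, and_comm]]
    exact Finset.sum_congr rfl fun z _ => by rw [hΔ1 x0 y0, neg_neg]
  -- the matrix
  let M : Matrix Ω Ω ℂ := fun x y => if x = y then 0 else χ (Δ x0 x y)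
  have hMM : M * M = ((q ^ 3 : ℕ) : ℂ) • (1 : Matrix Ω Ω ℂ) + c • M := by
    ext x y
    rw [Matrix.mul_apply, Matrix.add_apply, Matrix.smul_apply, Matrix.smul_apply, smul_eq_mul, smul_eq_mul,
      Matrix.one_apply]
    by_cases hxy : x = y
    · subst hxy
      rw [if_pos rfl, mul_one, show M x x = 0 from if_pos rfl, mul_zero, add_zero,
        ← Finset.sum_erase_add _ _ (Finset.mem_univ x), show M x x = 0 from if_pos rfl, mul_zero, add_zero,
        Finset.sum_congr rfl (g := fun _ => (1 : ℂ)) fun z hz => ?_, Finset.sum_const, nsmul_one,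
        Finset.card_erase_of_mem (Finset.mem_univ x), Finset.card_univ, hcard', Nat.add_sub_cancel]
      have hzx := Finset.ne_of_mem_erase hz
      rw [show M x z = χ (Δ x0 x z) from if_neg hzx.symm, show M z x = χ (Δ x0 z x) from if_neg hzx,
        ← AddChar.map_add_eq_mul, hΔ2 x0 x z, add_neg_cancel, AddChar.map_zero_eq_one]
    · rw [if_neg hxy, mul_zero, zero_add, show M x y = χ (Δ x0 x y) from if_neg hxy,
        ← hconst x y hxy, Finset.sum_mul]
      rw [← Finset.sum_subset (Finset.subset_univ (S2 x y)) fun z _ hz => ?_]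
      · refine Finset.sum_congr rfl fun z hz => ?_
        obtain ⟨hzx, hzy⟩ := (Finset.mem_filter.1 hz).2
        rw [show M x z = χ (Δ x0 x z) from if_neg (Ne.symm hzx), show M z y = χ (Δ x0 z y) from if_neg hzy,
          ← AddChar.map_add_eq_mul, ← AddChar.map_add_eq_mul]
        congr 1
        rw [hΔc x0 x y z, hΔ2 x0 y z]
        ring
      · simp only [S2, Finset.mem_filter, Finset.mem_univ, true_and, not_and_or, not_not] at hz
        rcases hz with rfl | rfl
        · simp [M]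
        · simp [M]
  -- the eigenvalues
  obtain ⟨cR, hcR⟩ : ∃ r : ℝ, (r : ℂ) = c := ⟨c.re, (Complex.conj_eq_iff_re.1 hcr)⟩
  obtain ⟨Dr, hDr0, hDr⟩ : ∃ D : ℝ, 0 < D ∧ D * D = cR ^ 2 + 4 * ((q : ℝ) ^ 3) := by
    have hpos : 0 < cR ^ 2 + 4 * ((q : ℝ) ^ 3) := by
      have : (0 : ℝ) < q := by exact_mod_cast (show 0 < q by omega)
      positivity
    exact ⟨_, Real.sqrt_pos.2 hpos, Real.mul_self_sqrt hpos.le⟩
  set D : ℂ := (Dr : ℂ) with hD
  have hD0 : D ≠ 0 := Complex.ofReal_ne_zero.2 hDr0.ne'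
  have hDD : D * D = c ^ 2 + 4 * ((q : ℂ) ^ 3) := by
    rw [hD, ← hcR, ← Complex.ofReal_mul, hDr]; push_cast; ring
  set μ : ℂ := (c - D) / 2 with hμ
  let e : Matrix Ω Ω ℂ := D⁻¹ • (M - μ • 1)
  have hee : e * e = e := by
    simp only [e, Matrix.smul_mul, Matrix.mul_smul, sub_mul, mul_sub, one_mul, mul_one, hMM, smul_sub,
      smul_add, smul_smul]
    match_scalars <;> field_simp <;> simp only [hμ] <;> push_cast <;> first
      | ring1
      | linear_combination (1 : ℂ) / 4 * hDD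
      | linear_combination (-1 : ℂ) / 4 * hDD
  let U : Matrix Ω Ω ℂ := fun x y => if t • x = y then 1 else 0
  have htt : ∀ x : Ω, t • t • x = x := fun x => by rw [← mul_smul, ht, one_smul]
  have hUA : ∀ (A : Matrix Ω Ω ℂ) x y, (U * A) x y = A (t • x) y := fun A x y => by
    rw [Matrix.mul_apply, Finset.sum_eq_single (t • x)]
    · simp [U]
    · intro z _ hz
      simp [U, Ne.symm hz]
    · simp
  have hAU : ∀ (A : Matrix Ω Ω ℂ) x y, (A * U) x y = A x (t • y) := fun A x y => by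
    rw [Matrix.mul_apply, Finset.sum_eq_single (t • y)]
    · simp [U, htt]
    · intro z _ hz
      have : ¬ t • z = y := fun h => hz (by rw [← h, htt])
      simp [U, this]
    · simp
  have hU2 : U * U = 1 := by
    ext x y; rw [hUA]; simp [U, htt, Matrix.one_apply]
  have hUM : U * M = M * U := by
    ext x y
    rw [hUA, hAU]
    have hiff : t • x = y ↔ x = t • y := ⟨fun h => by rw [← h, htt], fun h => by rw [h, htt]⟩
    show (if t • x = y then (0 : ℂ) else χ (Δ x0 (t • x) y)) = if x = t • y then 0 else χ (Δ x0 x (t • y))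
    refine if_congr hiff rfl ?_
    have := hΔ t x0 x (t • y)
    rw [hx0, htt] at this
    rw [this]
  have hUe : U * e = e * U := by
    simp only [e, Matrix.mul_smul, Matrix.smul_mul, mul_sub, sub_mul, Matrix.mul_one, Matrix.one_mul, hUM]
  have hee2 : ((2 : ℂ)⁻¹ • (e + U * e)) * ((2 : ℂ)⁻¹ • (e + U * e)) = (2 : ℂ)⁻¹ • (e + U * e) := by
    have h1 : e * (U * e) = U * e := by rw [← mul_assoc, ← hUe, mul_assoc, hee]
    have h2 : U * e * (U * e) = e := by
      rw [mul_assoc, h1, ← mul_assoc, hU2, one_mul]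
    have h3 : U * e * e = U * e := by rw [mul_assoc, hee]
    rw [Matrix.smul_mul, Matrix.mul_smul, add_mul, mul_add, mul_add, hee, h1, h2, h3]
    match_scalars <;> ring
  obtain ⟨a, ha⟩ := trace_idem hee
  obtain ⟨k, hk⟩ := trace_idem hee2
  have htrM : M.trace = 0 := Finset.sum_eq_zero fun x _ => if_pos rfl
  have htrU : U.trace = ((q : ℂ) + 1) := by
    have h := Fintype.card_subtype fun x : Ω => t • x = x
    rw [← Nat.card_eq_fintype_card, hfix] at h
    simp only [Matrix.trace, Matrix.diag, U]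
    rw [Finset.sum_boole, ← h]
    push_cast; rfl
  have htrUM : (U * M).trace = ((q : ℂ) ^ 3 - q) := by
    have h : ∀ x, (U * M) x x = if t • x = x then 0 else 1 := by
      intro x
      rw [hUA]
      show (if t • x = x then (0 : ℂ) else χ (Δ x0 (t • x) x)) = _
      by_cases hx : t • x = x
      · rw [if_pos hx, if_pos hx]
      rw [if_neg hx, if_neg hx, hdiag (Δ x0 (t • x) x) ?_, AddChar.map_zero_eq_one]
      have h := hΔ t x0 (t • x) x
      rw [hx0, htt] at h
      rw [← hΔ2, h]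
    simp only [Matrix.trace, Matrix.diag, h]
    rw [Finset.sum_ite, Finset.sum_const_zero, zero_add, Finset.sum_const, nsmul_one,
      Finset.filter_not, Finset.card_sdiff_of_subset (Finset.filter_subset _ _), Finset.card_univ, hcard',
      ← Fintype.card_subtype, ← Nat.card_eq_fintype_card, hfix, Nat.cast_sub (by
        have : q ≤ q ^ 3 := Nat.le_self_pow (by norm_num) q; omega)]
    push_cast; ring
  have hA : (a : ℂ) * D = -μ * ((q : ℂ) ^ 3 + 1) := by
    rw [← ha, Matrix.trace_smul, Matrix.trace_sub, Matrix.trace_smul, Matrix.trace_one, htrM, hcard']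
    simp only [smul_eq_mul]
    push_cast
    field_simp
    ring
  have hB : ((2 * k : ℕ) - (a : ℂ)) * D = (q : ℂ) ^ 3 - q - μ * ((q : ℂ) + 1) := by
    have h1 : (U * e).trace = D⁻¹ * ((q : ℂ) ^ 3 - q - μ * ((q : ℂ) + 1)) := by
      simp only [e, Matrix.mul_smul, mul_sub, Matrix.mul_one, Matrix.trace_smul, Matrix.trace_sub, htrUM,
        htrU, smul_eq_mul]
    rw [Matrix.trace_smul, Matrix.trace_add, ha, h1, smul_eq_mul] at hk
    push_cast
    rw [← hk]
    field_simp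
    ring
  -- rationality
  have hsum : c = ∑ z ∈ S2 x0 y0, ζ ^ (-Δ x0 y0 z).val := Finset.sum_congr rfl fun z _ => hχval _
  obtain ⟨rD, hrD⟩ : ∃ r : ℚ, D = (r : ℂ) := by
    refine ⟨((q : ℚ) ^ 3 + 1) * ((q : ℚ) ^ 3 - q) /
      (((q : ℚ) ^ 3 + 1) * ((2 * k : ℕ) - (a : ℚ)) - (a : ℚ) * ((q : ℚ) + 1)), ?_⟩
    push_cast
    have h : D * (((q : ℂ) ^ 3 + 1) * ((2 * k : ℕ) - (a : ℂ)) - (a : ℂ) * ((q : ℂ) + 1)) =
        ((q : ℂ) ^ 3 + 1) * ((q : ℂ) ^ 3 - q) := by
      linear_combination ((q : ℂ) ^ 3 + 1) * hB - ((q : ℂ) + 1) * hA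
    push_cast at h
    rw [← h, mul_div_assoc, div_self, mul_one]
    intro h0
    rw [h0, mul_zero] at h
    have h' : ((((q ^ 3 + 1) * (q ^ 3 - q) : ℕ)) : ℂ) = 0 := by
      push_cast [show q ≤ q ^ 3 from Nat.le_self_pow (by norm_num) q]
      exact h.symm
    have hlt : q < q ^ 3 := lt_self_pow₀ (by omega) (by norm_num)
    rw [Nat.cast_eq_zero, mul_eq_zero] at h'
    omega
  obtain ⟨rc, hrc⟩ : ∃ r : ℚ, c = (r : ℂ) := by
    refine ⟨rD - 2 * ((a : ℚ) * rD) / ((q : ℚ) ^ 3 + 1), ?_⟩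
    have hn0 : ((q : ℂ) ^ 3 + 1) ≠ 0 := by
      exact_mod_cast (show q ^ 3 + 1 ≠ 0 by omega)
    push_cast
    rw [← hrD, hA]
    field_simp
    rw [hμ]; ring
  obtain ⟨cz, hcz⟩ : ∃ z : ℤ, c = (z : ℂ) := by
    have hi : IsIntegral ℤ c := by
      rw [hsum]; exact IsIntegral.sum _ fun z _ => (hζ.isIntegral hs.pos).pow _
    rw [hrc, show (rc : ℂ) = algebraMap ℚ ℂ rc from (eq_ratCast _ _).symm,
      isIntegral_algebraMap_iff (algebraMap ℚ ℂ).injective] at hi
    obtain ⟨z, hz⟩ := IsIntegrallyClosed.isIntegral_iff.1 hi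
    exact ⟨z, by rw [hrc, ← hz]; simp⟩
  obtain ⟨Dz, hDz⟩ : ∃ z : ℤ, D = (z : ℂ) := by
    have hi : IsIntegral ℤ rD := by
      refine IsIntegral.of_pow (n := 2) two_pos ?_
      have h : rD ^ 2 = ((cz ^ 2 + 4 * (q : ℤ) ^ 3 : ℤ) : ℚ) := by
        apply Rat.cast_injective (α := ℂ)
        push_cast
        rw [← hrD, pow_two, hDD, hcz]
      rw [h]
      exact isIntegral_algebraMap
    obtain ⟨z, hz⟩ := IsIntegrallyClosed.isIntegral_iff.1 hi
    exact ⟨z, by rw [hrD, ← hz]; simp⟩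
  have hDzpos : 0 < Dz := by
    have : (Dr : ℂ) = ((Dz : ℝ) : ℂ) := by rw [← hD, hDz]; simp
    rw [Complex.ofReal_inj] at this
    rw [this] at hDr0
    exact_mod_cast hDr0
  have hDDz : Dz * Dz = cz ^ 2 + 4 * (q : ℤ) ^ 3 := by
    rw [hDz, hcz] at hDD; exact_mod_cast hDD
  obtain ⟨w, hw⟩ : (2 : ℤ) ∣ Dz + cz := by
    have h4 : (2 : ℤ) ∣ (Dz + cz) * (Dz + cz) :=
      ⟨cz ^ 2 + 2 * (q : ℤ) ^ 3 + Dz * cz, by linear_combination hDDz⟩
    exact (Int.prime_two.dvd_or_dvd h4).elim id id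
  have hww : w * (Dz - w) = (q : ℤ) ^ 3 := by
    have h4 : 4 * (w * (Dz - w)) = 4 * (q : ℤ) ^ 3 := by
      linear_combination hDDz + (cz - Dz + 2 * w) * hw
    linarith
  have hq0 : (0 : ℤ) < (q : ℤ) ^ 3 := pow_pos (by exact_mod_cast (show 0 < q by omega)) 3
  have hw0 : 0 < w := by
    by_contra hcon
    push Not at hcon
    nlinarith
  have hDw : 0 < Dz - w := by
    rcases pos_and_pos_or_neg_and_neg_of_mul_pos (hww ▸ hq0) with h | h
    · exact h.2
    · omega
  obtain ⟨wn, rfl⟩ : ∃ n : ℕ, w = n := ⟨w.toNat, (Int.toNat_of_nonneg hw0.le).symm⟩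
  obtain ⟨vn, hvn⟩ : ∃ n : ℕ, Dz - wn = n := ⟨(Dz - wn).toNat, (Int.toNat_of_nonneg hDw.le).symm⟩
  rw [hvn] at hww
  have hnat : wn * vn = 3 ^ (3 * f) := by
    rw [mul_comm 3 f, pow_mul]; exact_mod_cast hww
  obtain ⟨i, -, hi⟩ := (Nat.dvd_prime_pow Nat.prime_three).1 (hnat ▸ dvd_mul_right wn vn)
  obtain ⟨j, -, hj⟩ := (Nat.dvd_prime_pow Nat.prime_three).1 (hnat ▸ dvd_mul_left vn wn)
  have hij : i + j = 3 * f := by
    rw [hi, hj, ← pow_add] at hnat
    exact Nat.pow_right_injective (show 2 ≤ 3 by norm_num) hnat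
  have hqz : (q : ℤ) = (3 : ℤ) ^ f := by rw [hq]; push_cast; rfl
  have hwz : ((wn : ℕ) : ℤ) = (3 : ℤ) ^ i := by rw [hi]; push_cast; rfl
  have hvz : Dz - wn = (3 : ℤ) ^ j := by rw [hvn, hj]; push_cast; rfl
  have hczij : cz = (3 : ℤ) ^ i - (3 : ℤ) ^ j := by linear_combination hw + hwz + -1 * hvz
  have hμz : μ = -((3 : ℂ) ^ j) := by
    have h1 : ((cz : ℂ) - (Dz : ℂ)) = -2 * (3 : ℂ) ^ j := by
      have : cz - Dz = -2 * (3 : ℤ) ^ j := by linear_combination hw - 2 * hvz
      exact_mod_cast this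
    rw [hμ, hcz, hDz, h1]; ring
  have hDsum : Dz = (3 : ℤ) ^ i + (3 : ℤ) ^ j := by linear_combination hwz + hvz
  intro x y z
  by_contra hne
  have hxy : x ≠ y := fun h => hne (hdiag _ (by subst h; exact hΔ1 x x z))
  have hyz : z ≠ y := fun h => hne (hdiag _ (by subst h; exact hΔ2 x z z))
  have hxz : z ≠ x := fun h => hne (by
    subst h
    have h1 := hΔ2 z y z
    have h3 : Δ z z y = 0 := hdiag _ (hΔ1 z z y)
    rw [h3] at h1
    linear_combination h1)
  refine twoGraph_arith hf hs5 hsd hij ?_ ?_ ?_ ?_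
  · -- congruence
    have h := dvd_of_eq_sum_roots hs hζ (S2 x0 y0) (fun z => (-Δ x0 y0 z).val) (c := cz) (hcz ▸ hsum)
    rw [hScard x0 y0 hy0.symm, hczij] at h
    have hq31 : (s : ℤ) ∣ (q : ℤ) ^ 3 + 1 := by
      rw [show (q : ℤ) ^ 3 + 1 = ((q : ℤ) + 1) * ((q : ℤ) ^ 2 - q + 1) by ring, hqz]
      exact hsd.mul_left _
    have h1 : ((q ^ 3 - 1 : ℕ) : ℤ) = (q : ℤ) ^ 3 - 1 := by
      push_cast [show 1 ≤ q ^ 3 from Nat.one_le_pow _ _ (by omega)]; rfl
    rw [h1] at h
    have := dvd_add h hq31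
    rwa [show (3 : ℤ) ^ i - 3 ^ j - ((q : ℤ) ^ 3 - 1) + ((q : ℤ) ^ 3 + 1) = 3 ^ i - 3 ^ j + 2 by ring]
      at this
  · -- some summand is not one
    intro heq
    rw [← hczij] at heq
    have hre : c.re = ((S2 x y).card : ℝ) := by
      rw [hcz, heq, Complex.intCast_re, hScard x y hxy, ← hqz]
      push_cast [show 1 ≤ q ^ 3 from Nat.one_le_pow _ _ (by omega)]; rfl
    rw [← hconst x y hxy, Complex.re_sum] at hre
    have hle : ∀ z' ∈ S2 x y, (χ (-Δ x y z')).re ≤ 1 := fun z' _ => by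
      refine (Complex.re_le_norm _).trans ?_
      rw [ZMod.stdAddChar_apply, Circle.norm_coe]
    have hall : ∀ z' ∈ S2 x y, (χ (-Δ x y z')).re = 1 :=
      (Finset.sum_eq_sum_iff_of_le hle).1 (by rw [hre, Finset.sum_const, nsmul_one])
    have hz1 := hall z (Finset.mem_filter.2 ⟨Finset.mem_univ _, hxz, hyz⟩)
    have hn1 : ‖χ (-Δ x y z)‖ = 1 := by rw [ZMod.stdAddChar_apply, Circle.norm_coe]
    have heq1 : χ (-Δ x y z) = 1 := by
      have him : (χ (-Δ x y z)).im = 0 := by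
        have h := Complex.sq_norm (χ (-Δ x y z))
        rw [hn1, Complex.normSq_apply, hz1] at h
        nlinarith
      exact Complex.ext (by simpa using hz1) (by simpa using him)
    have h0 : -Δ x y z = 0 := ZMod.injective_stdAddChar (heq1.trans (AddChar.map_zero_eq_one χ).symm)
    exact hne (neg_eq_zero.1 h0)
  · refine ⟨(a : ℤ), ?_⟩
    have h := hA
    rw [hDz, hDsum, hμz] at h
    have hqc : (q : ℂ) = (3 : ℂ) ^ f := by rw [hq]; push_cast; rfl
    rw [hqc] at h
    have h' : (a : ℤ) * ((3 : ℤ) ^ i + 3 ^ j) = (3 : ℤ) ^ j * (((3 : ℤ) ^ f) ^ 3 + 1) := by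
      rw [neg_neg] at h
      exact_mod_cast h
    linarith
  · refine ⟨((2 * k : ℕ) : ℤ) - a, ?_⟩
    have h := hB
    rw [hDz, hDsum, hμz] at h
    have hqc : (q : ℂ) = (3 : ℂ) ^ f := by rw [hq]; push_cast; rfl
    rw [hqc] at h
    have h' : (((2 * k : ℕ) : ℤ) - a) * ((3 : ℤ) ^ i + 3 ^ j) =
        ((3 : ℤ) ^ f) ^ 3 - 3 ^ f + (3 : ℤ) ^ j * ((3 : ℤ) ^ f + 1) := by
      rw [neg_mul, sub_neg_eq_add] at h
      exact_mod_cast h
    linarith

end Cfsg.Agent.AbelianSylow.Field
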