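import Cfsg.Agent.EqLemmas
import Cfsg.Agent.Lib.AbelianSylow.Cent.MainReduce
import Cfsg.Agent.Lib.AbelianSylow.Cent.FieldCaseA
import Cfsg.Agent.Lib.AbelianSylow.Cent.FieldFive
import Cfsg.Agent.Lib.AbelianSylow.Cent.FieldSmallSeven

/-!
# Part (a): the centraliser of an involution (owner: helper29; glued by helper63)

* `caseFive`   : the case `q₀ = 5`
* `centTarget` : `CentTarget`
-/

set_option autoImplicit false

namespace Cfsg.Agent.AbelianSylow

universe u

namespace Field

/-- The case `q₀ = 5`. -/
theorem caseFive : CaseFive.{u} := by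
  intro G _ _ t F _ _ E L A V D f F₀ _ _ Kc s fr hf cd h5 hs hs5 ho _
  haveI := Fact.mk hs
  exact fr.five_false hf cd h5 hs5 ho

end Field

/-- **Part (a)**: the centraliser of an involution is `Z₂ × L₂(q)`. -/
theorem centTarget : CentTarget.{u} :=
  Field.centTarget_of Field.caseSmall27 Field.caseThree Field.caseFive Field.caseQThree

end Cfsg.Agent.AbelianSylow
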